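import Groth.Agent.Lib.Helper29.FreeIso

/-!
# Bases of sections over an open and freeness of restrictions

* `IsBasisOn F U τ`: the sections `τ j ∈ Γ(F, U)` are independent over every open `T ≤ U` and generate `F` locally
  on `U`.
* `IsBasisOn.isIso_ψ`, `IsBasisOn.nonempty_iso`: then `F|_U ≅ O_U^r` (explicitly through `ψ`).
* `exists_isBasisOn_of_iso`: conversely an isomorphism `F|_U ≅ O_U^n` gives such sections.
* `hom_ext_unit`: morphisms out of the structure sheaf are determined by the image of `1`.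
-/

set_option autoImplicit false
universe u
open CategoryTheory CategoryTheory.Limits AlgebraicGeometry TopologicalSpace Opposite

namespace Groth.Agent.Lib.Helper29.FreeIso

open Groth.Agent.Lib.Helper28.QCohLoc Groth.Agent.Lib.Helper28.TwistGen

variable {X : Scheme.{u}}

theorem restrict_smul_eq (M : X.Modules) (U : X.Opens) (W : U.toScheme.Opens) (c : Γ(↑U, W))
    (t : Γ(M.restrict U.ι, W)) :
    c • t = ((show Γ(X, U.ι ''ᵁ W) from c) • (show Γ(M, U.ι ''ᵁ W) from t) : Γ(M, U.ι ''ᵁ W)) := by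
  have h : c • t = (((U.ι.appIso W).inv c) • (show Γ(M, U.ι ''ᵁ W) from t) : Γ(M, U.ι ''ᵁ W)) := rfl
  rw [h]
  congr 1
  rw [Scheme.Opens.ι_appIso]
  rfl

theorem res_restrict_eq (M : X.Modules) (U : X.Opens) {W W' : (U : Scheme.{u}).Opens} (h : W ≤ W')
    (t : Γ(M.restrict U.ι, W')) :
    res (M.restrict U.ι) h t = res M (show U.ι ''ᵁ W ≤ U.ι ''ᵁ W' from (U.ι.image_le_image_iff _ _).2 h)
      (show Γ(M, U.ι ''ᵁ W') from t) := rfl

theorem ι_image_le (U : X.Opens) (W : (U : Scheme.{u}).Opens) : U.ι ''ᵁ W ≤ U := by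
  rintro _ ⟨z, -, rfl⟩
  exact z.2

theorem image_preimage_le (U : X.Opens) (T : X.Opens) : U.ι ''ᵁ (U.ι ⁻¹ᵁ T) ≤ T := by
  rintro _ ⟨z, hz, rfl⟩
  exact hz

theorem le_image_preimage (U : X.Opens) (T : X.Opens) (hT : T ≤ U) : T ≤ U.ι ''ᵁ (U.ι ⁻¹ᵁ T) := by
  intro y hy
  exact ⟨⟨y, hT hy⟩, hy, rfl⟩

/-- morphisms out of the structure sheaf are determined by the image of `1` -/
theorem hom_ext_unit {Y : Scheme.{u}} {M : Y.Modules} (φ₁ φ₂ : Coh.structureModule Y ⟶ M)
    (h : φ₁.app ⊤ (1 : Γ(Y, ⊤)) = φ₂.app ⊤ (1 : Γ(Y, ⊤))) : φ₁ = φ₂ := by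
  apply (SheafOfModules.unitHomEquiv M).injective
  apply PresheafOfModules.sections_ext
  intro V
  rw [SheafOfModules.unitHomEquiv_apply_coe, SheafOfModules.unitHomEquiv_apply_coe]
  have h1 : ∀ φ : Coh.structureModule Y ⟶ M, φ.val.app V (1 : Y.ringCatSheaf.obj.obj V) =
      res M (le_top : V.unop ≤ ⊤) (φ.app ⊤ (1 : Γ(Y, ⊤))) := by
    intro φ
    rw [← app_res φ (le_top : V.unop ≤ ⊤)]
    have : res (Coh.structureModule Y) (le_top : V.unop ≤ ⊤) (1 : Γ(Y, ⊤)) = (1 : Γ(Y, V.unop)) :=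
      map_one (Y.presheaf.map (homOfLE (le_top : V.unop ≤ ⊤)).op).hom
    rw [this]
    rfl
  rw [h1 φ₁, h1 φ₂, h]

/-- the sections `τ j` form a basis of `F` over (every open of) `U` -/
def IsBasisOn (F : X.Modules) (U : X.Opens) {r : ℕ} (τ : Fin r → Γ(F, U)) : Prop :=
  (∀ (T : X.Opens) (hT : T ≤ U) (c : Fin r → Γ(X, T)),
    (∑ j, c j • res F hT (τ j) : Γ(F, T)) = 0 → ∀ j, c j = 0) ∧
  (∀ (T : X.Opens) (hT : T ≤ U) (t : Γ(F, T)) (pt : X), pt ∈ T → ∃ (T₁ : X.Opens) (h1 : T₁ ≤ T), pt ∈ T₁ ∧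
    ∃ c : Fin r → Γ(X, T₁), res F h1 t = ∑ j, c j • res F (h1.trans hT) (τ j))

theorem IsBasisOn.mono {F : X.Modules} {U V : X.Opens} {r : ℕ} {τ : Fin r → Γ(F, U)} (h : IsBasisOn F U τ)
    (hVU : V ≤ U) : IsBasisOn F V (fun j => res F hVU (τ j)) := by
  refine ⟨fun T hT c hc => h.1 T (hT.trans hVU) c ?_, fun T hT t pt hpt => ?_⟩
  · refine Eq.trans (Finset.sum_congr rfl fun j _ => ?_) hc
    rw [res_res]
  · obtain ⟨T₁, h1, hpt₁, c, hc⟩ := h.2 T (hT.trans hVU) t pt hpt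
    refine ⟨T₁, h1, hpt₁, c, hc.trans (Finset.sum_congr rfl fun j _ => ?_)⟩
    rw [res_res]

/-- the global sections of `F|_U` defined by sections over `U` -/
noncomputable def restrictSections (F : X.Modules) (U : X.Opens) {r : ℕ} (τ : Fin r → Γ(F, U)) :
    Fin r → Γ(F.restrict U.ι, ⊤) :=
  fun j => (show Γ(F, U.ι ''ᵁ ⊤) from res F (ι_image_le U ⊤) (τ j))

theorem res_restrictSections (F : X.Modules) (U : X.Opens) {r : ℕ} (τ : Fin r → Γ(F, U))
    (W : (U : Scheme.{u}).Opens) (j : Fin r) :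
    res (F.restrict U.ι) (le_top : W ≤ ⊤) (restrictSections F U τ j) = res F (ι_image_le U W) (τ j) := by
  rw [res_restrict_eq]
  exact res_res F _ _ (τ j)

/-- **Lemma F**: a basis of sections over `U` trivialises `F|_U`. -/
theorem IsBasisOn.isIso_ψ {F : X.Modules} {U : X.Opens} {r : ℕ} {τ : Fin r → Γ(F, U)} (h : IsBasisOn F U τ) :
    IsIso (ψ (F.restrict U.ι) (restrictSections F U τ)) := by
  refine FreeIso.isIso_ψ (F.restrict U.ι) (restrictSections F U τ) ?_ ?_
  · intro W c hc j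
    have hc' : (∑ j : Fin r, ((show Γ(X, U.ι ''ᵁ W) from c j) • res F (ι_image_le U W) (τ j) :
        Γ(F, U.ι ''ᵁ W))) = 0 := by
      refine Eq.trans (Finset.sum_congr rfl fun j _ => ?_) hc
      have e1 := restrict_smul_eq F U W (c j)
        (res (F.restrict U.ι) (le_top : W ≤ ⊤) (restrictSections F U τ j))
      refine Eq.trans ?_ e1.symm
      congr 1
      exact (res_restrictSections F U τ W j).symm
    exact h.1 _ (ι_image_le U W) (fun j => (show Γ(X, U.ι ''ᵁ W) from c j)) hc' j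
  · intro W t' pt hpt
    have hpt' : U.ι pt ∈ U.ι ''ᵁ W := ⟨pt, hpt, rfl⟩
    obtain ⟨T₁, h1, hpt₁, c, hc⟩ := h.2 _ (ι_image_le U W) (show Γ(F, U.ι ''ᵁ W) from t') _ hpt'
    let W₁ : (U : Scheme.{u}).Opens := U.ι ⁻¹ᵁ T₁
    have hV_le : U.ι ''ᵁ W₁ ≤ T₁ := image_preimage_le U T₁
    have hW₁ : W₁ ≤ W := by
      intro z hz
      have : U.ι z ∈ U.ι ''ᵁ W := h1 hz
      obtain ⟨z', hz', hzz⟩ := this
      have : z' = z := U.ι.isOpenEmbedding.injective hzz
      rw [← this]; exact hz'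
    refine ⟨W₁, hW₁, hpt₁, fun j => (show Γ(X, U.ι ''ᵁ W₁) from resO hV_le (c j)), ?_⟩
    rw [res_restrict_eq]
    have hc' := congrArg (res F hV_le) hc
    rw [res_res] at hc'
    refine hc'.trans ?_
    have hsum : res F hV_le (∑ j, c j • res F (h1.trans (ι_image_le U W)) (τ j)) =
        ∑ j, resO hV_le (c j) • res F (ι_image_le U W₁) (τ j) := by
      have := map_sum (ConcreteCategory.hom (F.presheaf.map (homOfLE hV_le).op))
        (fun j => c j • res F (h1.trans (ι_image_le U W)) (τ j)) Finset.univ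
      refine this.trans ?_
      refine Finset.sum_congr rfl fun j _ => ?_
      have h2 := res_smul F hV_le (c j) (res F (h1.trans (ι_image_le U W)) (τ j))
      rw [res_res] at h2
      exact h2
    rw [hsum]
    refine Finset.sum_congr rfl fun j _ => ?_
    have e1 := restrict_smul_eq F U W₁ (show Γ(X, U.ι ''ᵁ W₁) from resO hV_le (c j))
      (res (F.restrict U.ι) (le_top : W₁ ≤ ⊤) (restrictSections F U τ j))
    refine Eq.trans ?_ e1.symm
    congr 1
    exact (res_restrictSections F U τ W₁ j).symm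

/-- the trivialisation defined by a basis of sections -/
noncomputable def IsBasisOn.iso {F : X.Modules} {U : X.Opens} {r : ℕ} {τ : Fin r → Γ(F, U)}
    (h : IsBasisOn F U τ) : B (↑U) r ≅ F.restrict U.ι :=
  haveI := h.isIso_ψ
  asIso (ψ (F.restrict U.ι) (restrictSections F U τ))

theorem IsBasisOn.iso_hom {F : X.Modules} {U : X.Opens} {r : ℕ} {τ : Fin r → Γ(F, U)}
    (h : IsBasisOn F U τ) : h.iso.hom = ψ (F.restrict U.ι) (restrictSections F U τ) := rfl

theorem IsBasisOn.nonempty_iso {F : X.Modules} {U : X.Opens} {r : ℕ} {τ : Fin r → Γ(F, U)}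
    (h : IsBasisOn F U τ) : Nonempty (F.restrict U.ι ≅ FlatMod.freeMod (↑U) r) :=
  ⟨h.iso.symm ≪≫ biproduct.isoCoproduct _⟩

theorem le_ι_image_top (U : X.Opens) : U ≤ U.ι ''ᵁ ⊤ := by
  intro y hy
  exact ⟨⟨y, hy⟩, trivial, rfl⟩

theorem resO_self' {U : X.Opens} (c : Γ(X, U)) : resO (le_refl U) c = c := by
  unfold resO
  have : (homOfLE (le_refl U)).op = 𝟙 (op U) := rfl
  rw [this, X.presheaf.map_id]
  rfl

theorem res_sum_smul (F : X.Modules) {T T' : X.Opens} (h : T' ≤ T) {r : ℕ} (c : Fin r → Γ(X, T))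
    (σ : Fin r → Γ(F, T)) :
    res F h (∑ j, c j • σ j) = ∑ j, resO h (c j) • res F h (σ j) := by
  have := map_sum (ConcreteCategory.hom (F.presheaf.map (homOfLE h).op)) (fun j => c j • σ j) Finset.univ
  refine this.trans ?_
  refine Finset.sum_congr rfl fun j _ => ?_
  exact res_smul F h (c j) (σ j)

section ofIso

variable {Y : Scheme.{u}} {r : ℕ} (G : Y.Modules) (e : B Y r ≅ G)

/-- the images of the standard basis under a trivialisation -/
noncomputable def stdSections : Fin r → Γ(G, ⊤) :=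
  fun j => e.hom.app ⊤ ((biproduct.ι (fun _ : Fin r => Coh.structureModule Y) j).app ⊤
    (show Γ(Coh.structureModule Y, ⊤) from (1 : Γ(Y, ⊤))))

theorem hom_eq_ψ : e.hom = ψ G (stdSections G e) := by
  apply biproduct.hom_ext'
  intro j
  unfold ψ
  rw [biproduct.ι_desc]
  apply hom_ext_unit
  rw [ofSection_app_one, res_self]
  rfl

theorem ψ_stdSections_injective (W : Y.Opens) : Function.Injective ((ψ G (stdSections G e)).app W) := by
  rw [← hom_eq_ψ]
  intro a b hab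
  have h1 := congrArg (e.inv.app W) hab
  have h2 : ∀ z, e.inv.app W (e.hom.app W z) = (e.hom ≫ e.inv).app W z := fun z => rfl
  rw [h2, h2, Iso.hom_inv_id] at h1
  exact h1

theorem π_ι_app (W : Y.Opens) (i j : Fin r) (c : Γ(Y, W)) :
    (biproduct.π (fun _ : Fin r => Coh.structureModule Y) i).app W
      ((biproduct.ι (fun _ : Fin r => Coh.structureModule Y) j).app W
        (show Γ(Coh.structureModule Y, W) from c)) = if j = i then c else 0 := by
  have h1 : (biproduct.π (fun _ : Fin r => Coh.structureModule Y) i).app W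
      ((biproduct.ι (fun _ : Fin r => Coh.structureModule Y) j).app W
        (show Γ(Coh.structureModule Y, W) from c)) =
      (biproduct.ι (fun _ : Fin r => Coh.structureModule Y) j ≫
        biproduct.π (fun _ : Fin r => Coh.structureModule Y) i).app W
        (show Γ(Coh.structureModule Y, W) from c) := rfl
  rw [h1, biproduct.ι_π]
  split_ifs with h
  · subst h
    rfl
  · rfl

theorem stdSections_ind (W : Y.Opens) (c : Fin r → Γ(Y, W))
    (hc : (∑ j : Fin r, c j • res G (le_top : W ≤ ⊤) (stdSections G e j) : Γ(G, W)) = 0) (i : Fin r) :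
    c i = 0 := by
  have h1 : (ψ G (stdSections G e)).app W
      (∑ j : Fin r, (biproduct.ι (fun _ : Fin r => Coh.structureModule Y) j).app W
        (show Γ(Coh.structureModule Y, W) from c j)) = 0 := by
    rw [app_sum, ← hc]
    refine Finset.sum_congr rfl fun j _ => ?_
    exact ψ_app_ι G _ W j (c j)
  have h2 := ψ_stdSections_injective G e W (h1.trans (map_zero _).symm)
  have h3 := congrArg ((biproduct.π (fun _ : Fin r => Coh.structureModule Y) i).app W) h2
  rw [app_sum, map_zero] at h3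
  simp only [π_ι_app] at h3
  have h4 : (∑ x : Fin r, if x = i then c x else (0 : Γ(Y, W))) = 0 := h3
  rw [Finset.sum_ite_eq' Finset.univ i c] at h4
  simpa using h4

theorem stdSections_gen (W : Y.Opens) (t : Γ(G, W)) :
    ∃ c : Fin r → Γ(Y, W), t = ∑ j : Fin r, c j • res G (le_top : W ≤ ⊤) (stdSections G e j) := by
  refine ⟨fun j => (show Γ(Y, W) from
    (biproduct.π (fun _ : Fin r => Coh.structureModule Y) j).app W (e.inv.app W t)), ?_⟩
  rw [← ψ_app, ← hom_eq_ψ]
  have h2 : e.hom.app W (e.inv.app W t) = (e.inv ≫ e.hom).app W t := rfl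
  rw [h2, Iso.inv_hom_id]
  rfl

end ofIso

/-- **Lemma C** (strong form): a trivialisation of `F|_U` gives a basis of sections over `U`, which moreover generates
the sections over every open `T ≤ U` globally. -/
theorem exists_isBasisOn_of_iso' (F : X.Modules) (U : X.Opens) (n : ℕ)
    (e : F.restrict U.ι ≅ FlatMod.freeMod (↑U) n) :
    ∃ τ : Fin n → Γ(F, U), IsBasisOn F U τ ∧
      ∀ (T : X.Opens) (hT : T ≤ U) (t : Γ(F, T)), ∃ c : Fin n → Γ(X, T), t = ∑ j, c j • res F hT (τ j) := by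
  let e' : B (↑U) n ≅ F.restrict U.ι := biproduct.isoCoproduct _ ≪≫ e.symm
  let ε : Fin n → Γ(F, U.ι ''ᵁ ⊤) := stdSections (F.restrict U.ι) e'
  have hε : ∀ (W : (U : Scheme.{u}).Opens) (j : Fin n),
      res (F.restrict U.ι) (le_top : W ≤ ⊤) (stdSections (F.restrict U.ι) e' j) =
        res F (ι_image_le U W) (res F (le_ι_image_top U) (ε j)) := by
    intro W j
    rw [res_restrict_eq, res_res]
  have hgen : ∀ (T : X.Opens) (hT : T ≤ U) (t : Γ(F, T)),
      ∃ c : Fin n → Γ(X, U.ι ''ᵁ (U.ι ⁻¹ᵁ T)), res F (image_preimage_le U T) t =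
        ∑ j, c j • res F (ι_image_le U (U.ι ⁻¹ᵁ T)) (res F (le_ι_image_top U) (ε j)) := by
    intro T hT t
    obtain ⟨c, hc⟩ := stdSections_gen (F.restrict U.ι) e' (U.ι ⁻¹ᵁ T)
      (show Γ(F, U.ι ''ᵁ (U.ι ⁻¹ᵁ T)) from res F (image_preimage_le U T) t)
    refine ⟨fun j => (show Γ(X, U.ι ''ᵁ (U.ι ⁻¹ᵁ T)) from c j), ?_⟩
    refine hc.trans (Finset.sum_congr rfl fun j _ => ?_)
    rw [restrict_smul_eq]
    congr 1
    rw [hε]
  refine ⟨fun j => res F (le_ι_image_top U) (ε j), ⟨?_, ?_⟩, ?_⟩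
  · intro T hT c hc j
    have hT' : U.ι ''ᵁ (U.ι ⁻¹ᵁ T) ≤ T := image_preimage_le U T
    have hTT' : T ≤ U.ι ''ᵁ (U.ι ⁻¹ᵁ T) := le_image_preimage U T hT
    have h1 := congrArg (res F hT') hc
    rw [res_sum_smul, res_zero] at h1
    let c' : Fin n → Γ(X, U.ι ''ᵁ (U.ι ⁻¹ᵁ T)) := fun j => resO hT' (c j)
    have h2 : (∑ j : Fin n, (show Γ(↑U, U.ι ⁻¹ᵁ T) from c' j) •
        res (F.restrict U.ι) (le_top : U.ι ⁻¹ᵁ T ≤ ⊤) (stdSections (F.restrict U.ι) e' j) :
        Γ(F.restrict U.ι, U.ι ⁻¹ᵁ T)) = 0 := by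
      refine Eq.trans (Finset.sum_congr rfl fun j _ => ?_) h1
      rw [restrict_smul_eq]
      congr 1
      rw [hε]
      simp only [res_res]
    have h3 := stdSections_ind (F.restrict U.ι) e' (U.ι ⁻¹ᵁ T) _ h2 j
    have h4 : resO hTT' (resO hT' (c j)) = c j := by
      rw [resO_resO]
      exact resO_self' (c j)
    rw [← h4]
    have h5 : resO hT' (c j) = 0 := h3
    rw [h5]
    exact map_zero _
  · intro T hT t pt hpt
    obtain ⟨c, hc⟩ := hgen T hT t
    exact ⟨U.ι ''ᵁ (U.ι ⁻¹ᵁ T), image_preimage_le U T, le_image_preimage U T hT hpt, c, hc⟩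
  · intro T hT t
    have hT' : U.ι ''ᵁ (U.ι ⁻¹ᵁ T) ≤ T := image_preimage_le U T
    have hTT' : T ≤ U.ι ''ᵁ (U.ι ⁻¹ᵁ T) := le_image_preimage U T hT
    obtain ⟨c, hc⟩ := hgen T hT t
    refine ⟨fun j => resO hTT' (c j), ?_⟩
    have h1 : t = res F hTT' (res F hT' t) := by
      rw [res_res]
      exact (res_self F t).symm
    rw [h1, hc, res_sum_smul]
    refine Finset.sum_congr rfl fun j _ => ?_
    rw [res_res]

/-- **Lemma C**: a trivialisation of `F|_U` gives a basis of sections over `U`. -/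
theorem exists_isBasisOn_of_iso (F : X.Modules) (U : X.Opens) (n : ℕ)
    (e : F.restrict U.ι ≅ FlatMod.freeMod (↑U) n) :
    ∃ τ : Fin n → Γ(F, U), IsBasisOn F U τ := by
  obtain ⟨τ, hτ, -⟩ := exists_isBasisOn_of_iso' F U n e
  exact ⟨τ, hτ⟩

/-- **Lemma R**: the restriction of a free module to a smaller open is free. -/
theorem nonempty_iso_freeMod_of_le (F : X.Modules) {U V : X.Opens} (hVU : V ≤ U) (n : ℕ)
    (e : F.restrict U.ι ≅ FlatMod.freeMod (↑U) n) : Nonempty (F.restrict V.ι ≅ FlatMod.freeMod (↑V) n) := by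
  obtain ⟨τ, hτ⟩ := exists_isBasisOn_of_iso F U n e
  exact (hτ.mono hVU).nonempty_iso

end Groth.Agent.Lib.Helper29.FreeIso
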