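import Groth.Agent.Lib.Helper29.FreeIso2

/-!
# Stalks of a module with a basis of sections

* `exists_common_rep`: finitely many germs of functions are germs of sections over a common open.
* `IsBasisOn.stalkBasis`: a basis of sections over `U` gives a basis of the stalk at every point of `U`.
* `IsBasisOn.finrank_fibre`: the fibre rank is the number of basis sections.
-/

set_option autoImplicit false
universe u
open CategoryTheory CategoryTheory.Limits AlgebraicGeometry TopologicalSpace Opposite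

namespace Groth.Agent.Lib.Helper29.FreeIso

open Groth.Agent.Lib.Helper28.QCohLoc Groth.Agent.Lib.Helper29.QCohStalk

variable {X : Scheme.{u}}

theorem gm_sum_smul (F : X.Modules) (U : X.Opens) (x : X) (hx : x ∈ U) {r : ℕ}
    (c : Fin r → Γ(X, U)) (σ : Fin r → Γ(F, U)) :
    gm F U x hx (∑ j, c j • σ j) = ∑ j, X.presheaf.germ U x hx (c j) • gm F U x hx (σ j) := by
  have := map_sum (ConcreteCategory.hom (F.presheaf.germ U x hx)) (fun j : Fin r => c j • σ j) Finset.univ
  refine this.trans ?_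
  refine Finset.sum_congr rfl fun j _ => ?_
  exact gm_smul F U x hx (c j) (σ j)

/-- finitely many germs of functions are germs of sections over a common open neighbourhood -/
theorem exists_common_rep {U : X.Opens} (y : X) (hy : y ∈ U) {r : ℕ} (a : Fin r → X.presheaf.stalk y) :
    ∃ (T : X.Opens) (_ : T ≤ U) (hyT : y ∈ T) (c : Fin r → Γ(X, T)), ∀ j, X.presheaf.germ T y hyT (c j) = a j := by
  have h := fun j => TopCat.Presheaf.exists_germ_eq X.presheaf (a j)
  choose V hyV c hc using h
  have hW : ∀ j, U ⊓ ⨅ j, V j ≤ V j := fun j => inf_le_right.trans (iInf_le V j)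
  have hyW : y ∈ U ⊓ ⨅ j, V j := by
    refine ⟨hy, ?_⟩
    rw [SetLike.mem_coe, ← SetLike.mem_coe, Opens.coe_iInf]
    exact Set.mem_iInter.2 hyV
  refine ⟨U ⊓ ⨅ j, V j, inf_le_left, hyW, fun j => resO (hW j) (c j), fun j => ?_⟩
  rw [germ_resO]
  exact hc j

variable {F : X.Modules} {U : X.Opens} {r : ℕ} {τ : Fin r → Γ(F, U)}

theorem IsBasisOn.linearIndependent_germ (h : IsBasisOn F U τ) (y : X) (hy : y ∈ U) :
    LinearIndependent (X.presheaf.stalk y) (fun j => gm F U y hy (τ j)) := by
  rw [Fintype.linearIndependent_iff]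
  intro a ha j
  obtain ⟨T, hT, hyT, c, hc⟩ := exists_common_rep y hy a
  have h0 : gm F T y hyT (∑ j, c j • res F hT (τ j)) = gm F T y hyT 0 := by
    rw [gm_sum_smul, gm_zero, ← ha]
    refine Finset.sum_congr rfl fun j _ => ?_
    rw [hc j, gm_res]
  obtain ⟨W, hyW, iU, iV, hres⟩ := TopCat.Presheaf.germ_eq F.presheaf y hyT hyT _ _ h0
  have h3 : F.presheaf.map iV.op (0 : Γ(F, T)) = 0 := map_zero _
  rw [h3] at hres
  have h4 : res F iU.le (∑ j, c j • res F hT (τ j)) = 0 := hres
  rw [res_sum_smul] at h4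
  have h5 : (∑ j, resO iU.le (c j) • res F (iU.le.trans hT) (τ j) : Γ(F, W)) = 0 := by
    refine Eq.trans (Finset.sum_congr rfl fun j _ => ?_) h4
    rw [res_res]
  have h6 := h.1 W (iU.le.trans hT) _ h5 j
  rw [← hc j, ← germ_resO iU.le y hyW (c j), h6, map_zero]

/-- locally generating sections generate the stalks -/
theorem span_germ_of_gen
    (hgen : ∀ (T : X.Opens) (hT : T ≤ U) (t : Γ(F, T)) (pt : X), pt ∈ T → ∃ (T₁ : X.Opens) (h1 : T₁ ≤ T), pt ∈ T₁ ∧
      ∃ c : Fin r → Γ(X, T₁), res F h1 t = ∑ j, c j • res F (h1.trans hT) (τ j)) (y : X) (hy : y ∈ U) :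
    Submodule.span (X.presheaf.stalk y) (Set.range fun j => gm F U y hy (τ j)) = ⊤ := by
  rw [eq_top_iff]
  intro μ _
  obtain ⟨V, hyV, t, rfl⟩ := TopCat.Presheaf.exists_germ_eq F.presheaf μ
  have hyVU : y ∈ V ⊓ U := ⟨hyV, hy⟩
  obtain ⟨T₁, h1, hy₁, c, hc⟩ := hgen (V ⊓ U) inf_le_right (res F inf_le_left t) y hyVU
  have h2 : F.presheaf.germ V y hyV t = gm F T₁ y hy₁ (res F h1 (res F inf_le_left t)) := by
    rw [gm_res, gm_res]
  rw [h2, hc, gm_sum_smul]
  refine Submodule.sum_mem _ fun j _ => Submodule.smul_mem _ _ ?_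
  rw [gm_res]
  exact Submodule.subset_span ⟨j, rfl⟩

theorem IsBasisOn.span_germ (h : IsBasisOn F U τ) (y : X) (hy : y ∈ U) :
    Submodule.span (X.presheaf.stalk y) (Set.range fun j => gm F U y hy (τ j)) = ⊤ :=
  span_germ_of_gen h.2 y hy

/-- the basis of the stalk given by a basis of sections -/
noncomputable def IsBasisOn.stalkBasis (h : IsBasisOn F U τ) (y : X) (hy : y ∈ U) :
    Module.Basis (Fin r) (X.presheaf.stalk y) (F.presheaf.stalk y) :=
  Module.Basis.mk (h.linearIndependent_germ y hy) (le_of_eq (h.span_germ y hy).symm)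

theorem IsBasisOn.stalkBasis_apply (h : IsBasisOn F U τ) (y : X) (hy : y ∈ U) (j : Fin r) :
    h.stalkBasis y hy j = gm F U y hy (τ j) := by
  unfold IsBasisOn.stalkBasis
  rw [Module.Basis.mk_apply]

theorem IsBasisOn.free_stalk (h : IsBasisOn F U τ) (y : X) (hy : y ∈ U) :
    Module.Free (X.presheaf.stalk y) (F.presheaf.stalk y) :=
  Module.Free.of_basis (h.stalkBasis y hy)

theorem IsBasisOn.finite_stalk (h : IsBasisOn F U τ) (y : X) (hy : y ∈ U) :
    Module.Finite (X.presheaf.stalk y) (F.presheaf.stalk y) :=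
  Module.Finite.of_basis (h.stalkBasis y hy)

/-- the fibre rank of a module with a basis of `r` sections is `r` -/
theorem IsBasisOn.finrank_fibre (h : IsBasisOn F U τ) (y : X) (hy : y ∈ U) :
    Module.finrank (IsLocalRing.ResidueField (X.presheaf.stalk y))
      (TensorProduct (X.presheaf.stalk y) (IsLocalRing.ResidueField (X.presheaf.stalk y))
        (F.presheaf.stalk y)) = r := by
  have hb := (h.stalkBasis y hy).baseChange (IsLocalRing.ResidueField (X.presheaf.stalk y))
  rw [Module.finrank_eq_card_basis hb, Fintype.card_fin]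

end Groth.Agent.Lib.Helper29.FreeIso
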