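import Groth.Agent.Lib.Helper29.QCohStalk2
import Mathlib.Algebra.Homology.ShortComplex.ExactFunctor
import Mathlib.Algebra.Homology.ShortComplex.Abelian

set_option autoImplicit false
universe u
open CategoryTheory CategoryTheory.Limits AlgebraicGeometry Opposite TopologicalSpace

namespace Groth.Agent.Lib.Helper29.QCohStalk

open Groth.Agent.Lib.Helper28.QCohLoc

variable {X : Scheme.{u}}

theorem exists_eq_of_shortExact_aux (S : ShortComplex (SheafOfModules.{u} X.ringCatSheaf))
    (hS : S.ShortExact) (U : X.Opens)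
    (m : (S.X₂.val.obj (op U))) (hm : (S.g.val.app (op U)).hom m = 0) :
    ∃ m₁ : (S.X₁.val.obj (op U)), (S.f.val.app (op U)).hom m₁ = m := by
  haveI : (SheafOfModules.evaluation.{u} X.ringCatSheaf (op U)).PreservesZeroMorphisms :=
    ⟨fun _ _ => rfl⟩
  have hex := hS.exact.map_of_mono_of_preservesKernel
    (SheafOfModules.evaluation.{u} X.ringCatSheaf (op U)) hS.mono_f inferInstance
  rw [ShortComplex.moduleCat_exact_iff] at hex
  exact hex m hm

/-- a monomorphism of modules is injective on sections -/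
theorem injective_app_of_mono {F G : X.Modules} (φ : F ⟶ G) (hφ : Mono φ) (U : X.Opens) :
    Function.Injective (φ.app U) := by
  have : (SheafOfModules.evaluation.{u} X.ringCatSheaf (op U)).PreservesMonomorphisms :=
    preservesMonomorphisms_of_preservesLimitsOfShape _
  have h1 : Mono ((SheafOfModules.evaluation.{u} X.ringCatSheaf (op U)).map φ) :=
    @Functor.map_mono _ _ _ _ (SheafOfModules.evaluation.{u} X.ringCatSheaf (op U)) _ _ _ φ hφ
  have h2 := (ModuleCat.mono_iff_injective _).1 h1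
  exact h2

/-- left exactness of sections -/
theorem exists_app_eq_of_shortExact (S : ShortComplex X.Modules) (hS : S.ShortExact) (U : X.Opens)
    (m : Γ(S.X₂, U)) (hm : S.g.app U m = 0) : ∃ m₁ : Γ(S.X₁, U), S.f.app U m₁ = m :=
  exists_eq_of_shortExact_aux S hS U m hm


theorem mem_minimalPrimes_of_le_of_le {R : Type*} [CommRing R] {I J p : Ideal R} (hp : p ∈ I.minimalPrimes)
    (hIJ : I ≤ J) (hJp : J ≤ p) : p ∈ J.minimalPrimes :=
  ⟨⟨hp.1.1, hJp⟩, fun _ hq hqp => hp.2 ⟨hq.1, hIJ.trans hq.2⟩ hqp⟩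

theorem ann_app_of_injective {F G : X.Modules} (φ : F ⟶ G) (U : X.Opens) (hinj : Function.Injective (φ.app U))
    (m : Γ(F, U)) : ann (R := Γ(X, U)) (φ.app U m) = ann (R := Γ(X, U)) m := by
  ext a
  rw [mem_ann, mem_ann, ← Scheme.Modules.Hom.app_smul]
  constructor
  · intro h
    apply hinj
    rw [h]
    exact (map_zero _).symm
  · intro h
    rw [h]
    exact map_zero _

theorem ann_le_ann_app {F G : X.Modules} (φ : F ⟶ G) (U : X.Opens)
    (m : Γ(F, U)) : ann (R := Γ(X, U)) m ≤ ann (R := Γ(X, U)) (φ.app U m) := by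
  intro a
  rw [mem_ann, mem_ann, ← Scheme.Modules.Hom.app_smul]
  intro h
  rw [h]
  exact map_zero _

/-- weakly associated points of a sub-module are weakly associated points of the module -/
theorem isWeakAssPoint_of_mono {F G : X.Modules} (φ : F ⟶ G) (hφ : Mono φ) [F.IsQuasicoherent]
    [G.IsQuasicoherent] (x : X) (hx : Curv2.IsWeakAssPoint F x) : Curv2.IsWeakAssPoint G x := by
  obtain ⟨_, ⟨U, (hU : IsAffineOpen U), rfl⟩, hxU, -⟩ := X.isBasis_affineOpens.exists_subset_of_mem_open
    (show x ∈ (⊤ : X.Opens) from trivial) (⊤ : X.Opens).2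
  obtain ⟨m, hm⟩ := exists_mem_minimalPrimes_of_isWeakAssPoint hU (isLocOn_of_isQuasicoherent F hU) x hxU hx
  refine isWeakAssPoint_of_mem_minimalPrimes hU (isLocOn_of_isQuasicoherent G hU) x hxU (φ.app U m) ?_
  rw [ann_app_of_injective φ U (injective_app_of_mono φ hφ U)]
  exact hm

/-- weakly associated points of the middle term of a short exact sequence -/
theorem isWeakAssPoint_of_shortExact (S : ShortComplex X.Modules) (hS : S.ShortExact)
    [S.X₁.IsQuasicoherent] [S.X₂.IsQuasicoherent] [S.X₃.IsQuasicoherent] (x : X)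
    (hx : Curv2.IsWeakAssPoint S.X₂ x) : Curv2.IsWeakAssPoint S.X₁ x ∨ Curv2.IsWeakAssPoint S.X₃ x := by
  obtain ⟨_, ⟨U, (hU : IsAffineOpen U), rfl⟩, hxU, -⟩ := X.isBasis_affineOpens.exists_subset_of_mem_open
    (show x ∈ (⊤ : X.Opens) from trivial) (⊤ : X.Opens).2
  obtain ⟨m, hm⟩ := exists_mem_minimalPrimes_of_isWeakAssPoint hU (isLocOn_of_isQuasicoherent S.X₂ hU) x hxU hx
  by_cases hcase : ann (R := Γ(X, U)) (S.g.app U m) ≤ germPrime U x hxU
  · right
    refine isWeakAssPoint_of_mem_minimalPrimes hU (isLocOn_of_isQuasicoherent S.X₃ hU) x hxU (S.g.app U m) ?_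
    exact mem_minimalPrimes_of_le_of_le hm (ann_le_ann_app S.g U m) hcase
  · left
    obtain ⟨a, ha, hap⟩ := Set.not_subset.1 hcase
    have hg : S.g.app U (a • m) = 0 := by
      rw [Scheme.Modules.Hom.app_smul]
      exact (mem_ann _ _).1 ha
    obtain ⟨m₁, hm₁⟩ := exists_app_eq_of_shortExact S hS U (a • m) hg
    refine isWeakAssPoint_of_mem_minimalPrimes hU (isLocOn_of_isQuasicoherent S.X₁ hU) x hxU m₁ ?_
    rw [← ann_app_of_injective S.f U (injective_app_of_mono S.f hS.mono_f U), hm₁]
    refine mem_minimalPrimes_of_le_of_le hm ?_ ?_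
    · intro b hb
      rw [mem_ann] at hb ⊢
      rw [smul_comm, hb, smul_zero]
    · intro b hb
      rw [mem_ann, ← mul_smul] at hb
      have h1 : b * a ∈ germPrime U x hxU := hm.1.2 ((mem_ann _ _).2 hb)
      rcases (inferInstance : (germPrime U x hxU).IsPrime).mem_or_mem h1 with h2 | h2
      · exact h2
      · exact absurd h2 hap

end Groth.Agent.Lib.Helper29.QCohStalk
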