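import Groth.Prelude.Def_CurvBase
import Groth.Prelude.Def_CohB1
import Groth.Agent.Lib.Helper28.QCohConv

set_option autoImplicit false
universe u
open CategoryTheory CategoryTheory.Limits AlgebraicGeometry Opposite TopologicalSpace

namespace Groth.Agent.Lib.Helper29.QCohStalk

open Groth.Agent.Lib.Helper28.QCohLoc

/-- Pure algebra: if `p` is minimal over `I` and `a ∈ p` then `s * a ^ n ∈ I` for some `s ∉ p`. -/
theorem exists_mul_pow_mem_of_mem_minimalPrimes {R : Type*} [CommRing R] {I p : Ideal R}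
    (hp : p ∈ I.minimalPrimes) {a : R} (ha : a ∈ p) : ∃ s ∉ p, ∃ n : ℕ, s * a ^ n ∈ I := by
  haveI := hp.1.1
  have hrad := IsLocalization.AtPrime.radical_map_of_mem_minimalPrimes
    (A := Localization.AtPrime p) p I hp
  have h1 : algebraMap R (Localization.AtPrime p) a ∈
      (I.map (algebraMap R (Localization.AtPrime p))).radical := by
    rw [hrad]
    exact Ideal.mem_map_of_mem _ ha
  obtain ⟨n, hn⟩ := h1
  rw [← map_pow, IsLocalization.mem_map_algebraMap_iff p.primeCompl] at hn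
  obtain ⟨⟨j, s⟩, hjs⟩ := hn
  rw [← map_mul, IsLocalization.eq_iff_exists p.primeCompl] at hjs
  obtain ⟨t, ht⟩ := hjs
  refine ⟨t.1 * s.1, fun h => ?_, n, ?_⟩
  · rcases (hp.1.1).mem_or_mem h with h | h
    · exact t.2 h
    · exact s.2 h
  · have : t.1 * s.1 * a ^ n = t.1 * j.1 := by
      rw [← ht]; ring
    rw [this]
    exact I.mul_mem_left _ j.2

theorem eq_zero_of_isUnit_smul {R M : Type*} [CommRing R] [AddCommGroup M] [Module R M] {u : R} (hu : IsUnit u)
    {m : M} (h : u • m = 0) : m = 0 := by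
  obtain ⟨v, rfl⟩ := hu
  have := congrArg (fun t => (↑v⁻¹ : R) • t) h
  simpa [smul_smul] using this

variable {X : Scheme.{u}}

theorem stalk_affine_surj {U : X.Opens} (hU : IsAffineOpen U) (x : X) (hx : x ∈ U)
    (b : X.presheaf.stalk x) :
    ∃ s g : Γ(X, U), IsUnit (X.presheaf.germ U x hx g) ∧
      b * X.presheaf.germ U x hx g = X.presheaf.germ U x hx s := by
  letI := X.presheaf.algebra_section_stalk ⟨x, hx⟩
  have := hU.isLocalization_stalk ⟨x, hx⟩
  obtain ⟨⟨s, g⟩, h⟩ := IsLocalization.surj (hU.primeIdealOf ⟨x, hx⟩).asIdeal.primeCompl b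
  exact ⟨s, g.1, IsLocalization.map_units (X.presheaf.stalk x) g, h⟩

theorem stalk_affine_eq_zero {U : X.Opens} (hU : IsAffineOpen U) (x : X) (hx : x ∈ U)
    (a : Γ(X, U)) (h : X.presheaf.germ U x hx a = 0) :
    ∃ g : Γ(X, U), IsUnit (X.presheaf.germ U x hx g) ∧ g * a = 0 := by
  letI := X.presheaf.algebra_section_stalk ⟨x, hx⟩
  have := hU.isLocalization_stalk ⟨x, hx⟩
  obtain ⟨g, hg⟩ := (IsLocalization.map_eq_zero_iff
    (hU.primeIdealOf ⟨x, hx⟩).asIdeal.primeCompl (X.presheaf.stalk x) a).1 h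
  exact ⟨g.1, IsLocalization.map_units (X.presheaf.stalk x) g, hg⟩

variable (F : X.Modules)

/-- germ of a section of a module -/
noncomputable abbrev gm (U : X.Opens) (x : X) (hx : x ∈ U) (m : Γ(F, U)) : F.presheaf.stalk x :=
  F.presheaf.germ U x hx m

theorem gm_smul (U : X.Opens) (x : X) (hx : x ∈ U) (r : Γ(X, U)) (m : Γ(F, U)) :
    gm F U x hx (r • m) = X.presheaf.germ U x hx r • gm F U x hx m :=
  PresheafOfModules.germ_smul (R := X.presheaf) F.val x U hx r m

theorem gm_res {U V : X.Opens} (h : V ≤ U) (x : X) (hx : x ∈ V) (m : Γ(F, U)) :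
    gm F V x hx (res F h m) = gm F U x (h hx) m :=
  TopCat.Presheaf.germ_res_apply F.presheaf (homOfLE h) x hx m

theorem gm_zero (U : X.Opens) (x : X) (hx : x ∈ U) : gm F U x hx 0 = 0 := map_zero _

theorem germ_resO {U V : X.Opens} (h : V ≤ U) (x : X) (hx : x ∈ V) (r : Γ(X, U)) :
    X.presheaf.germ V x hx (resO h r) = X.presheaf.germ U x (h hx) r :=
  TopCat.Presheaf.germ_res_apply X.presheaf (homOfLE h) x hx r

/-- (G1) every germ of `F` at a point of an affine open `U` is a germ of a section over `U` divided by a function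
invertible at the point. -/
theorem exists_germ_smul_eq {U : X.Opens} (hU : IsAffineOpen U) (hloc : IsLocOn F U) (x : X) (hx : x ∈ U)
    (μ : F.presheaf.stalk x) :
    ∃ (s : Γ(X, U)) (m : Γ(F, U)), IsUnit (X.presheaf.germ U x hx s) ∧
      X.presheaf.germ U x hx s • μ = gm F U x hx m := by
  obtain ⟨V, hxV, t, rfl⟩ := TopCat.Presheaf.exists_germ_eq F.presheaf μ
  obtain ⟨r, hrV, hxr⟩ := hU.exists_basicOpen_le (V := V) ⟨x, hxV⟩ hx
  obtain ⟨n, m, hm⟩ := hloc.surj r (res F hrV t)
  refine ⟨r ^ n, m, ?_, ?_⟩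
  · rw [map_pow]
    exact ((Scheme.mem_basicOpen _ _ _ hx).1 hxr).pow n
  · have h1 := congrArg (gm F (X.basicOpen r) x hxr) hm
    rw [gm_smul, gm_res, gm_res, ← map_pow, germ_resO] at h1
    exact h1

/-- (G2) a section over an affine open `U` whose germ at a point vanishes is killed by a function invertible at the
point. -/
theorem exists_smul_eq_zero_of_gm_eq_zero {U : X.Opens} (hU : IsAffineOpen U) (hloc : IsLocOn F U) (x : X)
    (hx : x ∈ U) (m : Γ(F, U)) (h : gm F U x hx m = 0) :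
    ∃ s : Γ(X, U), IsUnit (X.presheaf.germ U x hx s) ∧ s • m = 0 := by
  have h0 : gm F U x hx m = gm F U x hx 0 := by rw [h, gm_zero]
  obtain ⟨W, hxW, iU, iV, hres⟩ := TopCat.Presheaf.germ_eq F.presheaf x hx hx _ _ h0
  have hres' : res F iU.le m = 0 := by
    have : F.presheaf.map iV.op (0 : Γ(F, U)) = 0 := map_zero _
    rw [this] at hres
    exact hres
  obtain ⟨r, hrW, hxr⟩ := hU.exists_basicOpen_le (V := W) ⟨x, hxW⟩ hx
  obtain ⟨n, hn⟩ := hloc.inj r m (by
    have := congrArg (res F hrW) hres'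
    rw [res_res, res_zero] at this
    exact this)
  refine ⟨r ^ n, ?_, hn⟩
  rw [map_pow]
  exact ((Scheme.mem_basicOpen _ _ _ hx).1 hxr).pow n


/-- the prime ideal of `Γ(X, U)` of functions vanishing at `x` -/
noncomputable def germPrime (U : X.Opens) (x : X) (hx : x ∈ U) : Ideal Γ(X, U) :=
  (IsLocalRing.maximalIdeal (X.presheaf.stalk x)).comap (X.presheaf.germ U x hx).hom

instance (U : X.Opens) (x : X) (hx : x ∈ U) : (germPrime U x hx).IsPrime := by
  unfold germPrime; infer_instance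

theorem mem_germPrime_iff (U : X.Opens) (x : X) (hx : x ∈ U) (a : Γ(X, U)) :
    a ∈ germPrime U x hx ↔ ¬ IsUnit (X.presheaf.germ U x hx a) := by
  unfold germPrime
  rw [Ideal.mem_comap, IsLocalRing.mem_maximalIdeal, mem_nonunits_iff]

theorem notMem_germPrime_iff (U : X.Opens) (x : X) (hx : x ∈ U) (a : Γ(X, U)) :
    a ∉ germPrime U x hx ↔ IsUnit (X.presheaf.germ U x hx a) := by
  rw [mem_germPrime_iff, not_not]

theorem mem_germPrime_iff_notMem_basicOpen (U : X.Opens) (x : X) (hx : x ∈ U) (a : Γ(X, U)) :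
    a ∈ germPrime U x hx ↔ x ∉ X.basicOpen a := by
  rw [mem_germPrime_iff, Scheme.mem_basicOpen _ _ _ hx]

/-- annihilator of an element, as the kernel used in the prelude definitions -/
noncomputable abbrev ann {R M : Type*} [CommRing R] [AddCommGroup M] [Module R M] (m : M) : Ideal R :=
  LinearMap.ker (LinearMap.toSpanSingleton R M m)

theorem mem_ann {R M : Type*} [CommRing R] [AddCommGroup M] [Module R M] (m : M) (r : R) :
    r ∈ ann (R := R) m ↔ r • m = 0 := by
  rw [LinearMap.mem_ker, LinearMap.toSpanSingleton_apply]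

theorem ann_ne_top {R M : Type*} [CommRing R] [AddCommGroup M] [Module R M] (m : M) (hm : m ≠ 0) :
    ann (R := R) m ≠ ⊤ := by
  intro h
  have : (1 : R) ∈ ann (R := R) m := h ▸ Submodule.mem_top
  rw [mem_ann, one_smul] at this
  exact hm this

theorem ann_unit_smul {R M : Type*} [CommRing R] [AddCommGroup M] [Module R M] (m : M) (u : R)
    (hu : IsUnit u) : ann (R := R) (u • m) = ann (R := R) m := by
  ext r
  rw [mem_ann, mem_ann, smul_comm]
  constructor
  · intro h
    obtain ⟨v, rfl⟩ := hu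
    have := congrArg (fun t => (↑v⁻¹ : R) • t) h
    simpa [smul_smul] using this
  · intro h; rw [h, smul_zero]

theorem isWeakAssPoint_def (x : X) : Curv2.IsWeakAssPoint F x ↔
    ∃ μ : F.presheaf.stalk x, (ann (R := X.presheaf.stalk x) μ).radical =
      IsLocalRing.maximalIdeal (X.presheaf.stalk x) := Iff.rfl

/-- Associated and weakly associated points coincide for the prelude definitions (Mathlib's associated primes are
defined through the radical of the annihilator). -/
theorem isAssPoint_iff_isWeakAssPoint (x : X) : Curv2.IsAssPoint F x ↔ Curv2.IsWeakAssPoint F x := by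
  unfold Curv2.IsAssPoint Curv2.IsWeakAssPoint IsAssociatedPrime
  rw [Submodule.isAssociatedPrime_def]
  constructor
  · rintro ⟨-, μ, hμ⟩
    refine ⟨μ, ?_⟩
    rw [hμ]
    congr 1
    ext r
    rw [LinearMap.mem_ker, LinearMap.toSpanSingleton_apply, Submodule.mem_colon_singleton, Submodule.mem_bot]
  · rintro ⟨μ, hμ⟩
    refine ⟨inferInstance, μ, ?_⟩
    rw [← hμ]
    congr 1
    ext r
    rw [LinearMap.mem_ker, LinearMap.toSpanSingleton_apply, Submodule.mem_colon_singleton, Submodule.mem_bot]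

variable {F}

/-- germ of a section is zero iff the section is killed by a function outside the prime of the point -/
theorem gm_eq_zero_iff {U : X.Opens} (hU : IsAffineOpen U) (hloc : IsLocOn F U) (x : X) (hx : x ∈ U)
    (m : Γ(F, U)) : gm F U x hx m = 0 ↔ ∃ s : Γ(X, U), s ∉ germPrime U x hx ∧ s • m = 0 := by
  constructor
  · intro h
    obtain ⟨s, hs, hsm⟩ := exists_smul_eq_zero_of_gm_eq_zero F hU hloc x hx m h
    exact ⟨s, (notMem_germPrime_iff U x hx s).2 hs, hsm⟩
  · rintro ⟨s, hs, hsm⟩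
    have h1 := congrArg (gm F U x hx) hsm
    rw [gm_smul, gm_zero] at h1
    have hu := (notMem_germPrime_iff U x hx s).1 hs
    obtain ⟨v, hv⟩ := hu
    have := congrArg (fun t => (↑v⁻¹ : X.presheaf.stalk x) • t) h1
    simpa [← hv, smul_smul] using this

theorem gm_ne_zero_iff {U : X.Opens} (hU : IsAffineOpen U) (hloc : IsLocOn F U) (x : X) (hx : x ∈ U)
    (m : Γ(F, U)) : gm F U x hx m ≠ 0 ↔ ann (R := Γ(X, U)) m ≤ germPrime U x hx := by
  rw [Ne, gm_eq_zero_iff hU hloc]
  constructor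
  · intro h s hs
    by_contra hsp
    exact h ⟨s, hsp, (mem_ann m s).1 hs⟩
  · rintro h ⟨s, hsp, hs⟩
    exact hsp (h ((mem_ann m s).2 hs))

/-- (S) support in terms of an affine chart -/
theorem mem_support_iff {U : X.Opens} (hU : IsAffineOpen U) (hloc : IsLocOn F U) (x : X) (hx : x ∈ U) :
    x ∈ CohB1.support F ↔ ∃ m : Γ(F, U), ann (R := Γ(X, U)) m ≤ germPrime U x hx := by
  unfold CohB1.support
  rw [Set.mem_ofPred_eq, not_subsingleton_iff_nontrivial]
  constructor
  · intro h
    obtain ⟨μ, hμ⟩ := exists_ne (0 : F.presheaf.stalk x)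
    obtain ⟨s, m, hs, hsm⟩ := exists_germ_smul_eq F hU hloc x hx μ
    refine ⟨m, (gm_ne_zero_iff hU hloc x hx m).1 ?_⟩
    rw [← hsm]
    intro h0
    apply hμ
    obtain ⟨v, hv⟩ := hs
    have := congrArg (fun t => (↑v⁻¹ : X.presheaf.stalk x) • t) h0
    simpa [← hv, smul_smul] using this
  · rintro ⟨m, hm⟩
    exact ⟨⟨gm F U x hx m, 0, (gm_ne_zero_iff hU hloc x hx m).2 hm⟩⟩


theorem ann_le_germPrime_of_gm_ne_zero {U : X.Opens} (x : X) (hx : x ∈ U)
    (m : Γ(F, U)) (h : gm F U x hx m ≠ 0) : ann (R := Γ(X, U)) m ≤ germPrime U x hx := by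
  intro a ha
  rw [mem_germPrime_iff]
  intro hu
  apply h
  have h1 := congrArg (gm F U x hx) ((mem_ann m a).1 ha)
  rw [gm_smul, gm_zero] at h1
  obtain ⟨v, hv⟩ := hu
  have := congrArg (fun t => (↑v⁻¹ : X.presheaf.stalk x) • t) h1
  simpa [← hv, smul_smul] using this

/-- (W⇐) a point whose prime is minimal over the annihilator of a section is weakly associated -/
theorem isWeakAssPoint_of_mem_minimalPrimes {U : X.Opens} (hU : IsAffineOpen U) (hloc : IsLocOn F U) (x : X)
    (hx : x ∈ U) (m : Γ(F, U)) (hm : germPrime U x hx ∈ (ann (R := Γ(X, U)) m).minimalPrimes) :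
    Curv2.IsWeakAssPoint F x := by
  rw [isWeakAssPoint_def]
  refine ⟨gm F U x hx m, ?_⟩
  have hne : gm F U x hx m ≠ 0 := (gm_ne_zero_iff hU hloc x hx m).2 hm.1.2
  apply le_antisymm
  · exact ((IsLocalRing.maximalIdeal.isMaximal _).isPrime.radical_le_iff).2
      (IsLocalRing.le_maximalIdeal (ann_ne_top _ hne))
  · intro b hb
    obtain ⟨a, g, hg, hbg⟩ := stalk_affine_surj hU x hx b
    have hap : a ∈ germPrime U x hx := by
      rw [mem_germPrime_iff, ← hbg]
      intro hu
      exact hb (isUnit_of_mul_isUnit_left hu)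
    obtain ⟨s, hs, n, hsn⟩ := exists_mul_pow_mem_of_mem_minimalPrimes hm hap
    refine ⟨n, ?_⟩
    rw [mem_ann]
    have h1 := congrArg (gm F U x hx) ((mem_ann m _).1 hsn)
    rw [gm_smul, gm_zero, map_mul, map_pow, ← hbg, mul_pow, ← mul_assoc, mul_smul] at h1
    have hu : IsUnit (X.presheaf.germ U x hx s * X.presheaf.germ U x hx g ^ n) :=
      ((notMem_germPrime_iff U x hx s).1 hs).mul (hg.pow n)
    apply eq_zero_of_isUnit_smul hu
    rw [← h1, ← mul_smul, ← mul_smul]
    congr 1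
    ring


/-- (W⇒) a weakly associated point in an affine chart has its prime minimal over the annihilator of a section -/
theorem exists_mem_minimalPrimes_of_isWeakAssPoint {U : X.Opens} (hU : IsAffineOpen U) (hloc : IsLocOn F U) (x : X)
    (hx : x ∈ U) (h : Curv2.IsWeakAssPoint F x) :
    ∃ m : Γ(F, U), germPrime U x hx ∈ (ann (R := Γ(X, U)) m).minimalPrimes := by
  rw [isWeakAssPoint_def] at h
  obtain ⟨μ, hμ⟩ := h
  obtain ⟨s, m, hs, hsm⟩ := exists_germ_smul_eq F hU hloc x hx μ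
  have hann : ann (R := X.presheaf.stalk x) (gm F U x hx m) = ann (R := X.presheaf.stalk x) μ := by
    rw [← hsm, ann_unit_smul _ _ hs]
  rw [← hann] at hμ
  have hne : gm F U x hx m ≠ 0 := by
    intro h0
    rw [h0] at hμ
    have : (1 : X.presheaf.stalk x) ∈ (ann (R := X.presheaf.stalk x) (0 : F.presheaf.stalk x)).radical :=
      Ideal.le_radical ((mem_ann _ _).2 (smul_zero _))
    rw [hμ] at this
    exact (IsLocalRing.maximalIdeal.isMaximal _).ne_top ((Ideal.eq_top_iff_one _).2 this)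
  refine ⟨m, ⟨inferInstance, ann_le_germPrime_of_gm_ne_zero x hx m hne⟩, ?_⟩
  rintro q ⟨hq, hIq⟩ hqp a ha
  have h1 : X.presheaf.germ U x hx a ∈ (ann (R := X.presheaf.stalk x) (gm F U x hx m)).radical := by
    rw [hμ]
    exact ha
  obtain ⟨n, hn⟩ := h1
  rw [mem_ann, ← map_pow, ← gm_smul] at hn
  obtain ⟨t, htp, ht⟩ := (gm_eq_zero_iff hU hloc x hx _).1 hn
  have h2 : t * a ^ n ∈ q := hIq ((mem_ann m _).2 (by rw [mul_smul]; exact ht))
  rcases hq.mem_or_mem h2 with h3 | h3
  · exact absurd (hqp h3) htp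
  · exact hq.mem_of_pow_mem n h3

/-- (W) weakly associated points in an affine chart -/
theorem isWeakAssPoint_iff {U : X.Opens} (hU : IsAffineOpen U) (hloc : IsLocOn F U) (x : X) (hx : x ∈ U) :
    Curv2.IsWeakAssPoint F x ↔ ∃ m : Γ(F, U), germPrime U x hx ∈ (ann (R := Γ(X, U)) m).minimalPrimes :=
  ⟨exists_mem_minimalPrimes_of_isWeakAssPoint hU hloc x hx,
    fun ⟨m, hm⟩ => isWeakAssPoint_of_mem_minimalPrimes hU hloc x hx m hm⟩

theorem fromSpec_mem {U : X.Opens} (hU : IsAffineOpen U) (y : PrimeSpectrum Γ(X, U)) :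
    hU.fromSpec y ∈ U := by
  have : hU.fromSpec y ∈ Set.range hU.fromSpec := ⟨y, rfl⟩
  rw [hU.range_fromSpec] at this
  exact this

theorem exists_fromSpec_eq {U : X.Opens} (hU : IsAffineOpen U) {x : X} (hx : x ∈ U) :
    ∃ y : PrimeSpectrum Γ(X, U), hU.fromSpec y = x := by
  have : x ∈ Set.range hU.fromSpec := by rw [hU.range_fromSpec]; exact hx
  exact this

theorem fromSpec_mem_basicOpen_iff {U : X.Opens} (hU : IsAffineOpen U) (p : PrimeSpectrum Γ(X, U))
    (t : Γ(X, U)) : hU.fromSpec p ∈ X.basicOpen t ↔ t ∉ p.asIdeal := by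
  have h := hU.fromSpec_preimage_basicOpen t
  have : hU.fromSpec p ∈ X.basicOpen t ↔ p ∈ hU.fromSpec ⁻¹ᵁ X.basicOpen t := Iff.rfl
  rw [this, h]
  rfl

theorem germPrime_fromSpec {U : X.Opens} (hU : IsAffineOpen U) (p : PrimeSpectrum Γ(X, U)) :
    germPrime U (hU.fromSpec p) (fromSpec_mem hU p) = p.asIdeal := by
  ext a
  rw [mem_germPrime_iff_notMem_basicOpen, fromSpec_mem_basicOpen_iff, not_not]

/-- a prime minimal over the annihilator of a section over an affine chart gives a weakly associated point -/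
theorem isWeakAssPoint_fromSpec {U : X.Opens} (hU : IsAffineOpen U) (hloc : IsLocOn F U)
    (p : PrimeSpectrum Γ(X, U)) (m : Γ(F, U)) (hm : p.asIdeal ∈ (ann (R := Γ(X, U)) m).minimalPrimes) :
    Curv2.IsWeakAssPoint F (hU.fromSpec p) :=
  isWeakAssPoint_of_mem_minimalPrimes hU hloc _ (fromSpec_mem hU p) m (by rw [germPrime_fromSpec]; exact hm)

/-- a nonzero section over an affine chart has a weakly associated point at which its germ is nonzero -/
theorem exists_isWeakAssPoint_of_ne_zero {U : X.Opens} (hU : IsAffineOpen U) (hloc : IsLocOn F U)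
    (m : Γ(F, U)) (hm : m ≠ 0) :
    ∃ (x : X) (hx : x ∈ U), Curv2.IsWeakAssPoint F x ∧ gm F U x hx m ≠ 0 := by
  obtain ⟨⟨p, hp⟩⟩ := Ideal.nonempty_minimalPrimes (ann_ne_top (R := Γ(X, U)) m hm)
  haveI := hp.1.1
  let P : PrimeSpectrum Γ(X, U) := ⟨p, hp.1.1⟩
  refine ⟨hU.fromSpec P, fromSpec_mem hU P, isWeakAssPoint_fromSpec hU hloc P m hp, ?_⟩
  rw [gm_ne_zero_iff hU hloc, germPrime_fromSpec]
  exact hp.1.2

end Groth.Agent.Lib.Helper29.QCohStalk
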