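import Groth.Agent.Lib.Helper29.FreeIso5

set_option autoImplicit false
universe u
open CategoryTheory CategoryTheory.Limits AlgebraicGeometry TopologicalSpace Opposite

namespace Groth.Agent.Lib.Helper29.FreeIso

open Groth.Agent.Lib.Helper28.QCohLoc Groth.Agent.Lib.Helper29.QCohStalk

variable {X : Scheme.{u}}

/-- a basis of the sections of a quasi-coherent module over an affine open is a basis of the module there -/
theorem isBasisOn_of_basis (F : X.Modules) {U : X.Opens} (hU : IsAffineOpen U) (hloc : IsLocOn F U) {r : ℕ}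
    (τ : Fin r → Γ(F, U)) (hli : LinearIndependent Γ(X, U) τ)
    (hspan : Submodule.span Γ(X, U) (Set.range τ) = ⊤) : IsBasisOn F U τ := by
  have hD : ∀ m : Γ(F, U), ∃ c : Fin r → Γ(X, U), (1 : Γ(X, U)) • m = ∑ j, c j • τ j := by
    intro m
    have hm : m ∈ Submodule.span Γ(X, U) (Set.range τ) := by rw [hspan]; trivial
    obtain ⟨c, hc⟩ := (Submodule.mem_span_range_iff_exists_fun _).1 hm
    exact ⟨c, by rw [one_smul, hc]⟩
  have h1U : X.basicOpen (1 : Γ(X, U)) = U := Scheme.basicOpen_of_isUnit _ isUnit_one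
  refine ⟨?_, ?_⟩
  · intro T hT c hc j
    apply Groth.Agent.S9825.eq_zero_of_forall_germ_eq_zero
    intro y hyT
    obtain ⟨g, hgT, hyg⟩ := hU.exists_basicOpen_le (V := T) ⟨y, hyT⟩ (hT hyT)
    haveI := hU.isLocalization_basicOpen g
    obtain ⟨⟨_, n, rfl⟩, hb⟩ := IsLocalization.exist_integer_multiples_of_finite (Submonoid.powers g)
      (fun j => resO hgT (c j))
    choose a ha using hb
    have ha' : ∀ j, resO (X.basicOpen_le g) (a j) = resO (X.basicOpen_le g) g ^ n * resO hgT (c j) := by
      intro j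
      have h1 : algebraMap Γ(X, U) Γ(X, X.basicOpen g) (a j) = resO (X.basicOpen_le g) (a j) := rfl
      have h2 := ha j
      rw [h1] at h2
      rw [h2, Algebra.smul_def, map_pow]
      rfl
    have h3 : res F (X.basicOpen_le g) (∑ j, a j • τ j) = 0 := by
      rw [res_sum_smul]
      have h4 := congrArg (res F hgT) hc
      rw [res_sum_smul, res_zero] at h4
      have h5 : (∑ j, resO (X.basicOpen_le g) (a j) • res F (X.basicOpen_le g) (τ j) : Γ(F, X.basicOpen g)) =
          resO (X.basicOpen_le g) g ^ n • ∑ j, resO hgT (c j) • res F hgT (res F hT (τ j)) := by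
        rw [Finset.smul_sum]
        refine Finset.sum_congr rfl fun j _ => ?_
        rw [ha' j, mul_smul, res_res]
      rw [h5, h4, smul_zero]
    obtain ⟨k, hk⟩ := hloc.inj g _ h3
    rw [Finset.smul_sum] at hk
    have h6 : ∀ j, g ^ k * a j = 0 := by
      intro j
      have h7 : (∑ j, (g ^ k * a j) • τ j : Γ(F, U)) = 0 := by
        refine Eq.trans (Finset.sum_congr rfl fun j _ => ?_) hk
        rw [mul_smul]
      exact Fintype.linearIndependent_iff.1 hli _ h7 j
    have h8 : resO (X.basicOpen_le g) g ^ (k + n) * resO hgT (c j) = 0 := by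
      rw [pow_add, mul_assoc, ← ha' j, ← resO_pow, ← map_mul]
      rw [h6 j]
      exact map_zero _
    have hu : IsUnit (resO (X.basicOpen_le g) g) := X.toRingedSpace.isUnit_res_basicOpen g
    have h9 : resO hgT (c j) = 0 := by
      have := (hu.pow (k + n)).mul_right_eq_zero.1 h8
      exact this
    have h10 : X.presheaf.germ T y hyT (c j) = X.presheaf.germ (X.basicOpen g) y hyg (resO hgT (c j)) :=
      (germ_resO hgT y hyg (c j)).symm
    rw [h10, h9, map_zero]
  · intro T hT t pt hpt
    obtain ⟨g, hptg, hgT, hg⟩ := Groth.Agent.S8887.generated_of_smul F hU hloc τ 1 hD T (by rw [h1U]; exact hT) t pt hpt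
    obtain ⟨c, hc⟩ := hg (X.basicOpen g) le_rfl hgT (hgT.trans hT)
    exact ⟨X.basicOpen g, hgT, hptg, c, hc⟩

end Groth.Agent.Lib.Helper29.FreeIso
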