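import Groth.Agent.Lib.Helper29.FPDict
import Groth.Agent.Lib.Helper29.FreeIso6
import Groth.Agent.Lib.Helper17.ModStalk

/-!
# Finitely presented modules with a free stalk are free near the point
-/

set_option autoImplicit false
universe u
open CategoryTheory CategoryTheory.Limits AlgebraicGeometry Opposite TopologicalSpace

namespace Groth.Agent.Lib.Helper29.FPFree

open Groth.Agent.Lib.Helper28.QCohLoc Groth.Agent.Lib.Helper29.QCohStalk Groth.Agent.Lib.Helper29.FreeIso
open Groth.Agent.Lib.Helper29.FPDict Groth.Agent.Lib.Helper17.ModStalk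

attribute [local instance] RingHomInvPair.of_ringEquiv RingHomInvPair.of_ringEquiv_symm in
/-- transport of freeness between two localizations of the same module -/
theorem free_of_isLocalizedModule_of_free {R : Type*} [CommRing R] (S : Submonoid R) {R₁ R₂ M M₁ M₂ : Type*}
    [CommRing R₁] [CommRing R₂] [Algebra R R₁] [Algebra R R₂] [IsLocalization S R₁] [IsLocalization S R₂]
    [AddCommGroup M] [Module R M] [AddCommGroup M₁] [Module R M₁] [Module R₁ M₁] [IsScalarTower R R₁ M₁]
    [AddCommGroup M₂] [Module R M₂] [Module R₂ M₂] [IsScalarTower R R₂ M₂] (f₁ : M →ₗ[R] M₁) (f₂ : M →ₗ[R] M₂)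
    [IsLocalizedModule S f₁] [IsLocalizedModule S f₂] [Module.Free R₁ M₁] : Module.Free R₂ M₂ := by
  set e := (IsLocalization.algEquiv S R₁ R₂).toRingEquiv
  refine Module.Free.of_equiv (M := M₁) (R := R₁) (σ := (e : R₁ →+* R₂)) (σ' := (e.symm : R₂ →+* R₁))
    { __ := IsLocalizedModule.linearEquiv S f₁ f₂
      map_smul' := ?_ }
  intro r m
  obtain ⟨r, s, rfl⟩ := IsLocalization.exists_mk'_eq S r
  apply ((Module.End.isUnit_iff _).mp (IsLocalizedModule.map_units f₂ s)).1
  dsimp [e]
  simp only [← map_smul, ← smul_assoc, IsLocalization.smul_mk'_self, algebraMap_smul]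
  rw [AlgEquiv.commutes, algebraMap_smul, map_smul]

variable {X : Scheme.{u}}

/-- **A finitely presented module whose stalk at `x` is free has a basis of sections over a basic open
neighbourhood of `x`** (inside any given affine open neighbourhood). -/
theorem exists_isBasisOn_of_free_stalk (M : X.Modules)
    [SheafOfModules.IsFinitePresentation.{u} (R := X.ringCatSheaf) M] {U : X.Opens} (hU : IsAffineOpen U)
    (x : X) (hx : x ∈ U) (hfree : Module.Free (X.presheaf.stalk x) (M.presheaf.stalk x)) :
    ∃ (g : Γ(X, U)) (n : ℕ) (τ : Fin n → Γ(M, X.basicOpen g)), x ∈ X.basicOpen g ∧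
      IsBasisOn M (X.basicOpen g) τ := by
  haveI := isQuasicoherent_of_isFinitePresentation M
  haveI hfp : Module.FinitePresentation Γ(X, U) Γ(M, U) := fp_of_isAffineOpen M hU
  letI := moduleStalkSections M U x hx
  letI := X.presheaf.algebra_section_stalk ⟨x, hx⟩
  haveI := hU.isLocalization_stalk ⟨x, hx⟩
  haveI : IsScalarTower Γ(X, U) (X.presheaf.stalk x) (M.presheaf.stalk x) := IsScalarTower.of_compHom _ _ _
  haveI := isLocalizedModule_germLinear M hU x hx
  obtain ⟨g, hg, hfreeg, -⟩ := Module.FinitePresentation.exists_free_localizedModule_powers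
    (hU.primeIdealOf ⟨x, hx⟩).asIdeal.primeCompl (germLinear M U x hx) (X.presheaf.stalk x)
  have hxg : x ∈ X.basicOpen g := by
    rw [Scheme.mem_basicOpen _ _ _ hx]
    exact (IsLocalization.AtPrime.isUnit_to_map_iff (X.presheaf.stalk x)
      (hU.primeIdealOf ⟨x, hx⟩).asIdeal g).2 hg
  have hloc := isLocOn_of_isQuasicoherent M hU
  letI := modBasicOpen M g
  haveI := isScalarTower_basicOpen M g
  haveI := isLocalizedModule_resLin hloc g
  haveI : IsLocalization (Submonoid.powers g) Γ(X, X.basicOpen g) := hU.isLocalization_basicOpen g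
  haveI : Module.Free Γ(X, X.basicOpen g) Γ(M, X.basicOpen g) :=
    free_of_isLocalizedModule_of_free (Submonoid.powers g) (R₁ := Localization (Submonoid.powers g))
      (LocalizedModule.mkLinearMap (Submonoid.powers g) Γ(M, U)) (resLin M g)
  haveI : Module.Finite Γ(X, X.basicOpen g) Γ(M, X.basicOpen g) :=
    Module.Finite.of_isLocalizedModule (Submonoid.powers g) (Rₚ := Γ(X, X.basicOpen g)) (resLin M g)
  haveI : Nonempty (X.basicOpen g) := ⟨⟨x, hxg⟩⟩
  haveI : Nontrivial Γ(X, X.basicOpen g) := Scheme.component_nontrivial _ _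
  let b := Module.finBasis Γ(X, X.basicOpen g) Γ(M, X.basicOpen g)
  exact ⟨g, _, fun j => b j, hxg, isBasisOn_of_basis M (hU.basicOpen g)
    (isLocOn_of_isQuasicoherent M (hU.basicOpen g)) _ b.linearIndependent b.span_eq⟩


/-- a finitely presented module with free stalks is finite locally free -/
theorem isFinLocFree_of_free_stalks (M : X.Modules)
    [SheafOfModules.IsFinitePresentation.{u} (R := X.ringCatSheaf) M]
    (hfree : ∀ x : X, Module.Free (X.presheaf.stalk x) (M.presheaf.stalk x)) : FlatMod.IsFinLocFree M := by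
  intro x
  obtain ⟨U, hU, hxU, -⟩ := (Opens.isBasis_iff_nbhd.1 X.isBasis_affineOpens) (show x ∈ (⊤ : X.Opens) from trivial)
  obtain ⟨g, n, τ, hxg, hτ⟩ := exists_isBasisOn_of_free_stalk M hU x hxU (hfree x)
  exact ⟨X.basicOpen g, n, hxg, hτ.nonempty_iso⟩

/-- the stalks of a finitely presented module are finitely presented -/
theorem fp_stalk (M : X.Modules) [SheafOfModules.IsFinitePresentation.{u} (R := X.ringCatSheaf) M] (x : X) :
    Module.FinitePresentation (X.presheaf.stalk x) (M.presheaf.stalk x) := by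
  haveI := isQuasicoherent_of_isFinitePresentation M
  obtain ⟨U, hU, hx, -⟩ := (Opens.isBasis_iff_nbhd.1 X.isBasis_affineOpens) (show x ∈ (⊤ : X.Opens) from trivial)
  haveI hfp : Module.FinitePresentation Γ(X, U) Γ(M, U) := fp_of_isAffineOpen M hU
  letI := moduleStalkSections M U x hx
  letI := X.presheaf.algebra_section_stalk ⟨x, hx⟩
  haveI := hU.isLocalization_stalk ⟨x, hx⟩
  haveI : IsScalarTower Γ(X, U) (X.presheaf.stalk x) (M.presheaf.stalk x) := IsScalarTower.of_compHom _ _ _
  haveI := isLocalizedModule_germLinear M hU x hx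
  exact FinitePresentation.of_isBaseChange (germLinear M U x hx)
    (IsLocalizedModule.isBaseChange (hU.primeIdealOf ⟨x, hx⟩).asIdeal.primeCompl (X.presheaf.stalk x)
      (germLinear M U x hx))

/-- a flat stalk of a finitely presented module is free -/
theorem free_stalk_of_isFlatAt (M : X.Modules)
    [SheafOfModules.IsFinitePresentation.{u} (R := X.ringCatSheaf) M] (x : X) (h : FlatMod.IsFlatAt M x) :
    Module.Free (X.presheaf.stalk x) (M.presheaf.stalk x) := by
  haveI := fp_stalk M x
  haveI : Module.Flat (X.presheaf.stalk x) (M.presheaf.stalk x) := h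
  exact Module.free_of_flat_of_isLocalRing

/-- a finite locally free module is of finite presentation -/
theorem isFinitePresentation_of_isFinLocFree (M : X.Modules) (h : FlatMod.IsFinLocFree M) :
    SheafOfModules.IsFinitePresentation.{u} (R := X.ringCatSheaf) M := by
  haveI := isQuasicoherent_of_isFinLocFree M h
  choose U n hxU e using h
  have hV : ∀ x, ∃ V : X.Opens, IsAffineOpen V ∧ x ∈ V ∧ V ≤ U x := by
    intro x
    obtain ⟨V, hV', hxV, hVU⟩ := (Opens.isBasis_iff_nbhd.1 X.isBasis_affineOpens) (hxU x)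
    exact ⟨V, hV', hxV, hVU⟩
  choose V hVaff hxV hVU using hV
  refine isFinitePresentation_of_fp_cover M V ?_ hVaff ?_
  · rw [IsOpenCover, eq_top_iff]
    intro x _
    exact Opens.mem_iSup.2 ⟨x, hxV x⟩
  · intro x
    obtain ⟨τ, hτ, hgen⟩ := exists_isBasisOn_of_iso' M (U x) (n x) (e x).some
    have hli : LinearIndependent Γ(X, V x) (fun j => res M (hVU x) (τ j)) :=
      Fintype.linearIndependent_iff.2 fun c hc => hτ.1 (V x) (hVU x) c hc
    have hspan : Submodule.span Γ(X, V x) (Set.range fun j => res M (hVU x) (τ j)) = ⊤ := by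
      rw [eq_top_iff]
      rintro t -
      obtain ⟨c, hc⟩ := hgen (V x) (hVU x) t
      rw [hc]
      exact Submodule.sum_mem _ fun j _ => Submodule.smul_mem _ _ (Submodule.subset_span ⟨j, rfl⟩)
    haveI : Module.Free Γ(X, V x) Γ(M, V x) := Module.Free.of_basis (Module.Basis.mk hli hspan.ge)
    haveI : Module.Finite Γ(X, V x) Γ(M, V x) := Module.Finite.of_basis (Module.Basis.mk hli hspan.ge)
    exact Module.finitePresentation_of_projective _ _

/-- the stalks of a finite locally free module are free -/
theorem free_stalk_of_isFinLocFree (M : X.Modules) (h : FlatMod.IsFinLocFree M) (x : X) :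
    Module.Free (X.presheaf.stalk x) (M.presheaf.stalk x) := by
  obtain ⟨U, n, hxU, ⟨e⟩⟩ := h x
  obtain ⟨τ, hτ, -⟩ := exists_isBasisOn_of_iso' M U n e
  exact hτ.free_stalk x hxU

end Groth.Agent.Lib.Helper29.FPFree
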