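import Groth.Agent.Lib.Helper29.QCohStalk

set_option autoImplicit false
universe u
open CategoryTheory CategoryTheory.Limits AlgebraicGeometry Opposite TopologicalSpace

namespace Groth.Agent.Lib.Helper29.QCohStalk

open Groth.Agent.Lib.Helper28.QCohLoc

variable {X : Scheme.{u}} {F : X.Modules}

/-- a section all of whose germs vanish is zero -/
theorem eq_zero_of_forall_gm_eq_zero (U : X.Opens) (m : Γ(F, U))
    (h : ∀ (x : X) (hx : x ∈ U), gm F U x hx m = 0) : m = 0 := by
  refine TopCat.Presheaf.section_ext (⟨F.presheaf, F.isSheaf⟩ : TopCat.Sheaf Ab X) U m 0 fun x hx => ?_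
  have h0 : gm F U x hx 0 = 0 := gm_zero F U x hx
  exact (h x hx).trans h0.symm

theorem specializes_of_germPrime_le {U : X.Opens} (hU : IsAffineOpen U) (x y : X) (hx : x ∈ U) (hy : y ∈ U)
    (h : germPrime U x hx ≤ germPrime U y hy) : x ⤳ y := by
  obtain ⟨P, rfl⟩ := exists_fromSpec_eq hU hx
  obtain ⟨Q, rfl⟩ := exists_fromSpec_eq hU hy
  rw [germPrime_fromSpec, germPrime_fromSpec] at h
  exact ((PrimeSpectrum.le_iff_specializes P Q).1 h).map hU.fromSpec.continuous

theorem germPrime_le_of_specializes {U : X.Opens} (x y : X) (hx : x ∈ U) (hy : y ∈ U)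
    (h : x ⤳ y) : germPrime U x hx ≤ germPrime U y hy := by
  intro a ha
  rw [mem_germPrime_iff_notMem_basicOpen] at ha ⊢
  intro hya
  exact ha (h.mem_open (X.basicOpen a).2 hya)

/-- In the Noetherian case the prime of a weakly associated point is the annihilator of a section. -/
theorem exists_ann_eq_germPrime_of_isWeakAssPoint {U : X.Opens} (hU : IsAffineOpen U) (hloc : IsLocOn F U)
    [IsNoetherianRing Γ(X, U)] (x : X) (hx : x ∈ U) (h : Curv2.IsWeakAssPoint F x) :
    ∃ m : Γ(F, U), ann (R := Γ(X, U)) m = germPrime U x hx := by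
  obtain ⟨m, hm⟩ := exists_mem_minimalPrimes_of_isWeakAssPoint hU hloc x hx h
  have hcolon : ∀ m' : Γ(F, U), ann (R := Γ(X, U)) m' = (⊥ : Submodule Γ(X, U) Γ(F, U)).colon {m'} := by
    intro m'
    ext r
    rw [mem_ann, Submodule.mem_colon_singleton, Submodule.mem_bot]
  rw [hcolon] at hm
  obtain ⟨m', hm'⟩ := Submodule.exists_eq_colon_of_mem_minimalPrimes hm
  exact ⟨m', by rw [hcolon, ← hm']⟩

theorem mem_ann_of_isPrime_ne_zero {R M : Type*} [CommRing R] [AddCommGroup M] [Module R M] (m : M)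
    (h : (ann (R := R) m).IsPrime) : m ≠ 0 := by
  rintro rfl
  apply h.ne_top
  rw [Ideal.eq_top_iff_one, mem_ann, smul_zero]

/-- the prime of a point whose ideal is minimal over the annihilator of a section -/
theorem isWeakAssPoint_of_ann_eq_germPrime {U : X.Opens} (hU : IsAffineOpen U) (hloc : IsLocOn F U) (x : X)
    (hx : x ∈ U) (m : Γ(F, U)) (hm : ann (R := Γ(X, U)) m = germPrime U x hx) :
    Curv2.IsWeakAssPoint F x := by
  refine isWeakAssPoint_of_mem_minimalPrimes hU hloc x hx m ?_
  rw [hm, Ideal.minimalPrimes_eq_subsingleton_self]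
  rfl

end Groth.Agent.Lib.Helper29.QCohStalk
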