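import Groth.Agent.Lib.Helper17.CohKer
import Groth.Agent.Lib.Helper17.ModPullback
import Groth.Agent.Lib.Helper17.AffineSurj
import Groth.Agent.Lib.Helper17.StalkExact
import Groth.Agent.Lib.Helper28.FinType
import Groth.Agent.Lib.Helper29.QCohStalk2

/-!
# Morphisms of coherent modules vanishing on all thickenings of a closed subscheme

* `mem_smul_top_of_mem_ker`: (algebra) if `B = A/I`, `π : M → N` is surjective, `M` finite and `B ⊗ M ≅ B ⊗ N`
  abstractly, then `ker π ⊆ I M` (Orzech).
* `app_mem_ker_smul_top`: if the pullback of `v : K ⟶ F` to a closed subscheme `i : Z ⟶ X` vanishes, then over every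
  affine open `W` the image of `v` lies in `ker(Γ(X,W) → Γ(Z,i⁻¹W)) • Γ(F,W)`.
* `exists_nhd_app_eq_zero`: on a locally Noetherian scheme, if the pullback of `v` to all thickenings `V(J^(n+1))`
  vanishes, then `v` vanishes on an open neighbourhood of `V(J)` (Krull's intersection theorem).
-/

set_option autoImplicit false
universe u
open CategoryTheory CategoryTheory.Limits AlgebraicGeometry Opposite TopologicalSpace TensorProduct

namespace Groth.Agent.Lib.Helper29.ThickVanish

open Groth.Agent.Lib.Helper28.QCohLoc Groth.Agent.Lib.Helper29.QCohStalk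

theorem mem_smul_top_of_mem_ker {A B M N : Type*} [CommRing A] [CommRing B] [Algebra A B]
    [AddCommGroup M] [Module A M] [AddCommGroup N] [Module A N] [Module.Finite A M]
    (hsurj : Function.Surjective (algebraMap A B)) (π : M →ₗ[A] N) (hπ : Function.Surjective π)
    (j : (B ⊗[A] M) ≃ₗ[B] (B ⊗[A] N)) (p : M) (hp : π p = 0) :
    p ∈ (RingHom.ker (algebraMap A B)) • (⊤ : Submodule A M) := by
  haveI : Module.Finite B (B ⊗[A] M) := inferInstance
  haveI : Module.Finite B (B ⊗[A] N) := Module.Finite.equiv j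
  have hf : Function.Surjective (LinearMap.baseChange B π) := LinearMap.lTensor_surjective B hπ
  have hinj := OrzechProperty.injective_of_surjective_of_injective j.toLinearMap
    (LinearMap.baseChange B π) j.injective hf
  have h1 : (1 : B) ⊗ₜ[A] p = 0 := by
    apply hinj
    rw [LinearMap.baseChange_tmul, hp, TensorProduct.tmul_zero, map_zero]
  let I := RingHom.ker (algebraMap A B)
  let eB : (A ⧸ I) ≃ₗ[A] B :=
    (Ideal.quotientKerAlgEquivOfSurjective (f := Algebra.ofId A B) hsurj).toLinearEquiv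
  let e1 : ((A ⧸ I) ⊗[A] M) ≃ₗ[A] (B ⊗[A] M) := TensorProduct.congr eB (LinearEquiv.refl A M)
  have h2 : e1 ((Ideal.Quotient.mk I 1) ⊗ₜ[A] p) = 0 := by
    have : e1 ((Ideal.Quotient.mk I 1) ⊗ₜ[A] p) = (eB (Ideal.Quotient.mk I 1)) ⊗ₜ[A] p :=
      TensorProduct.congr_tmul _ _ _ _
    rw [this]
    have h3 : eB (Ideal.Quotient.mk I 1) = 1 := by
      rw [map_one]
      exact map_one (Ideal.quotientKerAlgEquivOfSurjective (f := Algebra.ofId A B) hsurj)
    rw [h3]
    exact h1
  have h3 : ((Ideal.Quotient.mk I 1) ⊗ₜ[A] p : (A ⧸ I) ⊗[A] M) = 0 :=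
    e1.injective (h2.trans (map_zero e1).symm)
  have h4 := congrArg (TensorProduct.quotTensorEquivQuotSMul M I) h3
  rw [TensorProduct.quotTensorEquivQuotSMul_mk_tmul, map_zero, one_smul] at h4
  exact (Submodule.Quotient.mk_eq_zero _).1 h4

variable {X : Scheme.{u}}

/-- sections of a morphism of modules as a linear map -/
noncomputable def appLin {M N : X.Modules} (φ : M ⟶ N) (U : X.Opens) : Γ(M, U) →ₗ[Γ(X, U)] Γ(N, U) where
  toFun := φ.app U
  map_add' := map_add _
  map_smul' := fun r x => Scheme.Modules.Hom.app_smul φ r x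

@[simp] theorem appLin_apply {M N : X.Modules} (φ : M ⟶ N) (U : X.Opens) (x : Γ(M, U)) :
    appLin φ U x = φ.app U x := rfl

/-- sections of an isomorphism of modules as a linear equivalence -/
noncomputable def appLinEquiv {M N : X.Modules} (e : M ≅ N) (U : X.Opens) : Γ(M, U) ≃ₗ[Γ(X, U)] Γ(N, U) :=
  { appLin e.hom U with
    invFun := e.inv.app U
    left_inv := fun x => by
      change (e.hom ≫ e.inv).app U x = x
      rw [e.hom_inv_id]; rfl
    right_inv := fun x => by
      change (e.inv ≫ e.hom).app U x = x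
      rw [e.inv_hom_id]; rfl }

theorem isIso_cokernel_π_of_eq_zero {C : Type*} [Category C] [HasZeroMorphisms C] {A B : C} (g : A ⟶ B)
    [HasCokernel g] (hg : g = 0) : IsIso (cokernel.π g) := by
  subst hg
  infer_instance

/-- if the pullback of `v : K ⟶ F` to a closed subscheme `i : Z ⟶ X` vanishes, then over every affine open `W` the
image of `v` lies in `ker(Γ(X,W) → Γ(Z,i⁻¹W)) • Γ(F,W)` -/
theorem app_mem_ker_smul_top {Z : Scheme.{u}} (i : Z ⟶ X) [IsClosedImmersion i]
    {K F : X.Modules} [K.IsQuasicoherent] [F.IsQuasicoherent]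
    [SheafOfModules.IsFiniteType.{u} (R := X.ringCatSheaf) F]
    (v : K ⟶ F) (hv : (Scheme.Modules.pullback i).map v = 0) {W : X.Opens} (hW : IsAffineOpen W)
    (y : Γ(K, W)) :
    v.app W y ∈ (RingHom.ker (i.app W).hom) • (⊤ : Submodule Γ(X, W) Γ(F, W)) := by
  haveI hqC : (cokernel v).IsQuasicoherent := Groth.Agent.Lib.Helper17.CohKer.isQuasicoherent_cokernel v
  haveI hqI : (kernel (cokernel.π v)).IsQuasicoherent :=
    Groth.Agent.Lib.Helper17.CohKer.isQuasicoherent_kernel (cokernel.π v)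
  -- the pullback of the cokernel projection is an isomorphism
  haveI : (Scheme.Modules.pullback i).IsLeftAdjoint :=
    (Scheme.Modules.pullbackPushforwardAdjunction i).isLeftAdjoint
  have hiso : IsIso ((Scheme.Modules.pullback i).map (cokernel.π v)) := by
    have h1 : cokernel.π ((Scheme.Modules.pullback i).map v) ≫ cokernelComparison v (Scheme.Modules.pullback i) =
        (Scheme.Modules.pullback i).map (cokernel.π v) := π_comp_cokernelComparison _ _
    haveI := isIso_cokernel_π_of_eq_zero _ hv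
    rw [← h1]
    infer_instance
  -- sections over the affine opens
  have hW0 : IsAffineOpen (i ⁻¹ᵁ W) := hW.preimage i
  obtain ⟨eF⟩ := Groth.Agent.Lib.Helper17.ModPullback.nonempty_linearEquiv_pullback_sections i F hW0 hW le_rfl
  obtain ⟨eC⟩ := Groth.Agent.Lib.Helper17.ModPullback.nonempty_linearEquiv_pullback_sections i (cokernel v)
    hW0 hW le_rfl
  letI := (i.appLE W (i ⁻¹ᵁ W) le_rfl).hom.toAlgebra
  let s := appLinEquiv (asIso ((Scheme.Modules.pullback i).map (cokernel.π v))) (i ⁻¹ᵁ W)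
  let j := eF.symm ≪≫ₗ s ≪≫ₗ eC
  have happ : ∀ a : Γ(X, W), algebraMap Γ(X, W) Γ(Z, i ⁻¹ᵁ W) a = i.app W a := by
    intro a
    change i.appLE W (i ⁻¹ᵁ W) le_rfl a = i.app W a
    rw [← Scheme.Hom.app_eq_appLE]
  have hsurj : Function.Surjective (algebraMap Γ(X, W) Γ(Z, i ⁻¹ᵁ W)) := fun b => by
    obtain ⟨a, ha⟩ := Scheme.Hom.app_surjective i W hW b
    exact ⟨a, (happ a).trans ha⟩
  haveI : Module.Finite Γ(X, W) Γ(F, W) := Groth.Agent.Lib.Helper28.FinType.finite_of_isAffineOpen F hW
  -- surjectivity of the cokernel projection over `W`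
  let S : ShortComplex X.Modules := ShortComplex.mk (kernel.ι (cokernel.π v)) (cokernel.π v)
    (kernel.condition (cokernel.π v))
  have hS : S.ShortExact :=
    { exact := ShortComplex.exact_of_f_is_kernel _ (kernelIsKernel (cokernel.π v))
      mono_f := inferInstanceAs (Mono (kernel.ι (cokernel.π v)))
      epi_g := inferInstanceAs (Epi (cokernel.π v)) }
  haveI : S.X₁.IsQuasicoherent := hqI
  have hπ : Function.Surjective (appLin (cokernel.π v) W) :=
    Groth.Agent.Lib.Helper17.AffineSurj.surjective_app_of_shortExact S hS hW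
  have hp : appLin (cokernel.π v) W (v.app W y) = 0 := by
    have := congrArg (fun ψ : (K ⟶ cokernel v) => ψ.app W y) (cokernel.condition v)
    exact this
  have key := mem_smul_top_of_mem_ker hsurj (appLin (cokernel.π v) W) hπ j (v.app W y) hp
  have hker : RingHom.ker (algebraMap Γ(X, W) Γ(Z, i ⁻¹ᵁ W)) = RingHom.ker (i.app W).hom := by
    ext a
    rw [RingHom.mem_ker, RingHom.mem_ker, happ]
  rw [hker] at key
  exact key

/-- Krull: over a Noetherian ring, an element congruent to `1` modulo `I` kills `⋂ Iⁿ M` for a finite module `M` -/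
theorem exists_sub_one_mem_smul_iInf_eq_zero {A M : Type*} [CommRing A] [IsNoetherianRing A]
    [AddCommGroup M] [Module A M] [Module.Finite A M] (I : Ideal A) :
    ∃ r : A, r - 1 ∈ I ∧ ∀ x ∈ (⨅ n : ℕ, I ^ n • ⊤ : Submodule A M), r • x = 0 := by
  have hN : (⨅ n : ℕ, I ^ n • ⊤ : Submodule A M) ≤ I • (⨅ n : ℕ, I ^ n • ⊤ : Submodule A M) := by
    intro x hx
    obtain ⟨r, hr⟩ := (I.mem_iInf_smul_pow_eq_bot_iff x).1 hx
    rw [← hr]
    exact Submodule.smul_mem_smul r.2 hx
  exact Submodule.exists_sub_one_mem_and_smul_eq_zero_of_fg_of_le_smul I _ (IsNoetherian.noetherian _) hN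

/-- on a locally Noetherian scheme, a morphism `v : K ⟶ F` to a coherent module whose pullbacks to all thickenings
`V(J^(n+1))` vanish is zero on an open neighbourhood of `V(J)` -/
theorem exists_nhd_app_eq_zero [IsLocallyNoetherian X] {K F : X.Modules} [K.IsQuasicoherent] [F.IsQuasicoherent]
    [SheafOfModules.IsFiniteType.{u} (R := X.ringCatSheaf) F]
    (v : K ⟶ F) (J : X.IdealSheafData)
    (h : ∀ n : ℕ, (Scheme.Modules.pullback (J ^ (n + 1)).subschemeι).map v = 0) :
    ∃ U : X.Opens, (J.support : Set X) ⊆ U ∧ ∀ (V : X.Opens) (y : Γ(K, V)), V ≤ U → v.app V y = 0 := by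
  have key : ∀ W : X.affineOpens, ∃ r : Γ(X, W.1), (J ^ (0 + 1)).subschemeι.app W.1 r = 1 ∧
      ∀ y : Γ(K, W.1), r • v.app W.1 y = 0 := by
    intro W
    have hW : IsAffineOpen W.1 := W.2
    haveI : IsNoetherianRing Γ(X, W.1) := IsLocallyNoetherian.component_noetherian W
    haveI : Module.Finite Γ(X, W.1) Γ(F, W.1) := Groth.Agent.Lib.Helper28.FinType.finite_of_isAffineOpen F hW
    obtain ⟨r, hr1, hr2⟩ := exists_sub_one_mem_smul_iInf_eq_zero (A := Γ(X, W.1)) (M := Γ(F, W.1)) (J.ideal W)
    refine ⟨r, ?_, fun y => hr2 _ ?_⟩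
    · have h1 : r - 1 ∈ RingHom.ker ((J ^ (0 + 1)).subschemeι.app W.1).hom := by
        rw [Scheme.IdealSheafData.ker_subschemeι_app]
        change r - 1 ∈ (J.ideal W) ^ (0 + 1)
        rw [zero_add, pow_one]
        exact hr1
      rw [RingHom.mem_ker, map_sub, map_one, sub_eq_zero] at h1
      exact h1
    · rw [Submodule.mem_iInf]
      intro n
      cases n with
      | zero =>
        rw [pow_zero, Ideal.one_eq_top, Submodule.top_smul]
        trivial
      | succ k =>
        have h2 := app_mem_ker_smul_top (J ^ (k + 1)).subschemeι v (h k) hW y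
        rw [Scheme.IdealSheafData.ker_subschemeι_app] at h2
        exact h2
  choose r hr1 hr2 using key
  refine ⟨⨆ W : X.affineOpens, X.basicOpen (r W), ?_, ?_⟩
  · intro x hx
    have hx' : x ∈ Set.range (J ^ (0 + 1)).subschemeι := by
      rw [Scheme.IdealSheafData.range_subschemeι]
      exact hx
    obtain ⟨z, rfl⟩ := hx'
    obtain ⟨W, hW, hzW, -⟩ := (TopologicalSpace.Opens.isBasis_iff_nbhd.1 X.isBasis_affineOpens)
      (show (J ^ (0 + 1)).subschemeι z ∈ (⊤ : X.Opens) from trivial)
    refine TopologicalSpace.Opens.mem_iSup.2 ⟨⟨W, hW⟩, ?_⟩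
    have h1 : z ∈ (J ^ (0 + 1)).subschemeι ⁻¹ᵁ (X.basicOpen (r ⟨W, hW⟩)) := by
      rw [Scheme.preimage_basicOpen, hr1 ⟨W, hW⟩]
      rw [Scheme.basicOpen_of_isUnit _ isUnit_one]
      exact hzW
    exact h1
  · intro V y hV
    refine eq_zero_of_forall_gm_eq_zero (F := F) V _ fun x hx => ?_
    obtain ⟨W, hxW⟩ := TopologicalSpace.Opens.mem_iSup.1 (hV hx)
    have hW : IsAffineOpen W.1 := W.2
    have hxW' : x ∈ W.1 := X.basicOpen_le _ hxW
    obtain ⟨s, m, hs, hsm⟩ := exists_germ_smul_eq K hW (isLocOn_of_isQuasicoherent K hW) x hxW' (gm K V x hx y)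
    have hru : IsUnit (X.presheaf.germ W.1 x hxW' (r W)) := (Scheme.mem_basicOpen _ _ _ hxW').1 hxW
    have h1 : gm F W.1 x hxW' (v.app W.1 m) = 0 := by
      have h2 : gm F W.1 x hxW' (r W • v.app W.1 m) = 0 := by rw [hr2 W m]; exact gm_zero F W.1 x hxW'
      rw [gm_smul] at h2
      exact eq_zero_of_isUnit_smul hru h2
    have h3 := congrArg (Groth.Agent.Lib.Helper17.StalkExact.stalkHom v x) hsm
    rw [Groth.Agent.Lib.Helper17.StalkExact.stalkHom_smul] at h3
    have h4 : Groth.Agent.Lib.Helper17.StalkExact.stalkHom v x (gm K W.1 x hxW' m) =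
        gm F W.1 x hxW' (v.app W.1 m) := Groth.Agent.Lib.Helper17.StalkExact.stalkHom_germ v x W.1 hxW' m
    have h5 : Groth.Agent.Lib.Helper17.StalkExact.stalkHom v x (gm K V x hx y) =
        gm F V x hx (v.app V y) := Groth.Agent.Lib.Helper17.StalkExact.stalkHom_germ v x V hx y
    rw [h4, h1, h5] at h3
    exact eq_zero_of_isUnit_smul hs h3

end Groth.Agent.Lib.Helper29.ThickVanish
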