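import Groth.Agent.Lib.Helper29.ZeroDiv
import Groth.Agent.Lib.Helper28.InvTensor
import Groth.Agent.Lib.Helper28.TensorPowGen

set_option autoImplicit false
set_option linter.unusedVariables false
set_option linter.style.haveILetI false
universe u

namespace Groth.Agent.Lib.Helper29.ZeroSch

open AlgebraicGeometry TopologicalSpace CategoryTheory Opposite Mero
open Groth.Agent.Lib.Helper28.QCohLoc Groth.Agent.Lib.Helper29.FreeIso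
  Groth.Agent.Lib.Helper29.QCohStalk Groth.Agent.Lib.Helper29.MeroDiv
  Groth.Agent.Lib.Helper29.MeroGen Groth.Agent.Lib.Helper29.MeroDenom
open Groth.Agent.Lib.Helper28.TensorGen

variable {X : Scheme.{u}}

/-- conversion of the two notions of generator -/
theorem isGen28_of_isGen {L : X.Modules} {U : X.Opens} {e : Γ(L, U)} (h : IsGen L U e) :
    Groth.Agent.Lib.Helper28.GenLocus.IsGen L U e := by
  intro W hW
  constructor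
  · intro c c' hcc
    have h1 : ((c - c') • res L hW e : Γ(L, W)) = 0 := by
      rw [sub_smul]; exact sub_eq_zero.2 hcc
    exact sub_eq_zero.1 (h.indep hW _ h1)
  · intro t
    obtain ⟨a, ha⟩ := IsGen.exists_coeff h hW t
    exact ⟨a, ha.symm⟩

theorem isGen_of_isGen28 {L : X.Modules} {U : X.Opens} {e : Γ(L, U)}
    (h : Groth.Agent.Lib.Helper28.GenLocus.IsGen L U e) : IsGen L U e := by
  refine isGen_of_indep_gen (fun T hT c hc => ?_) (fun T hT t pt hpt => ?_)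
  · apply (h T hT).1
    change (c • res L hT e : Γ(L, T)) = ((0 : Γ(X, T)) • res L hT e : Γ(L, T))
    rw [hc, zero_smul]
  · obtain ⟨c, hc⟩ := (h T hT).2 t
    refine ⟨T, le_refl T, hpt, c, ?_⟩
    rw [res_self]
    exact hc.symm

theorem σ_tmulHom {L₁ L₂ : X.Modules} (s₁ : Coh.structureModule X ⟶ L₁)
    (s₂ : Coh.structureModule X ⟶ L₂) (U : X.Opens) :
    σ (CohB1.tensorMod L₁ L₂) (SecTwist.tmulHom s₁ s₂) U =
      tmulSec L₁ L₂ (σ L₁ s₁ U) (σ L₂ s₂ U) :=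
  SecTwist.val_tmulHom s₁ s₂ U

theorem isDivOfIdeal_mul {L₁ L₂ : X.Modules} (hL₁ : PicF.IsInvertible L₁) (hL₂ : PicF.IsInvertible L₂)
    (s₁ : Coh.structureModule X ⟶ L₁) (s₂ : Coh.structureModule X ⟶ L₂) (D₁ D₂ : Divisor X)
    (hD₁ : IsDivOfIdeal D₁ (PicF2.zeroScheme L₁ s₁)) (hD₂ : IsDivOfIdeal D₂ (PicF2.zeroScheme L₂ s₂)) :
    IsDivOfIdeal (D₁ * D₂)
      (PicF2.zeroScheme (CohB1.tensorMod L₁ L₂) (SecTwist.tmulHom s₁ s₂)) := by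
  intro x
  obtain ⟨U₁, hxU₁, f₁, hf₁, hI₁, hDf₁⟩ := hD₁ x
  obtain ⟨U₂, hxU₂, f₂, hf₂, hI₂, hDf₂⟩ := hD₂ x
  obtain ⟨V₁, hxV₁, e₁, he₁⟩ := exists_isGen hL₁ x
  obtain ⟨V₂, hxV₂, e₂, he₂⟩ := exists_isGen hL₂ x
  obtain ⟨c₁, hc₁⟩ := IsGen.exists_coeff he₁ (le_refl V₁) (σ L₁ s₁ V₁)
  obtain ⟨c₂, hc₂⟩ := IsGen.exists_coeff he₂ (le_refl V₂) (σ L₂ s₂ V₂)
  rw [res_self] at hc₁ hc₂
  obtain ⟨_, ⟨U, hU, rfl⟩, hxU, hUsub⟩ := X.isBasis_affineOpens.exists_subset_of_mem_open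
    (show x ∈ ((U₁.1 ⊓ U₂.1 ⊓ (V₁ ⊓ V₂) : X.Opens) : Set X) from ⟨⟨hxU₁, hxU₂⟩, ⟨hxV₁, hxV₂⟩⟩)
    (U₁.1 ⊓ U₂.1 ⊓ (V₁ ⊓ V₂)).2
  have hUU₁ : U ≤ U₁.1 := fun y hy => (hUsub hy).1.1
  have hUU₂ : U ≤ U₂.1 := fun y hy => (hUsub hy).1.2
  have hUV₁ : U ≤ V₁ := fun y hy => (hUsub hy).2.1
  have hUV₂ : U ≤ V₂ := fun y hy => (hUsub hy).2.2
  -- the ideals on U
  have hσ₁ : σ L₁ s₁ U = resO hUV₁ c₁ • res L₁ hUV₁ e₁ := by
    rw [← res_σ L₁ s₁ hUV₁, hc₁, res_smul]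
  have hσ₂ : σ L₂ s₂ U = resO hUV₂ c₂ • res L₂ hUV₂ e₂ := by
    rw [← res_σ L₂ s₂ hUV₂, hc₂, res_smul]
  have hi₁ : Ideal.span {resO hUU₁ f₁} = Ideal.span {resO hUV₁ c₁} := by
    rw [← zeroScheme_ideal_eq_span hL₁ ⟨U, hU⟩ (he₁.mono hUV₁) hσ₁,
      ← (PicF2.zeroScheme L₁ s₁).map_ideal (U := ⟨U, hU⟩) (V := U₁) hUU₁, hI₁, Ideal.map_span,
      Set.image_singleton]
    rfl
  have hi₂ : Ideal.span {resO hUU₂ f₂} = Ideal.span {resO hUV₂ c₂} := by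
    rw [← zeroScheme_ideal_eq_span hL₂ ⟨U, hU⟩ (he₂.mono hUV₂) hσ₂,
      ← (PicF2.zeroScheme L₂ s₂).map_ideal (U := ⟨U, hU⟩) (V := U₂) hUU₂, hI₂, Ideal.map_span,
      Set.image_singleton]
    rfl
  have hd₁ := Ideal.span_singleton_le_span_singleton.1 hi₁.le
  have hd₁' := Ideal.span_singleton_le_span_singleton.1 hi₁.ge
  have hd₂ := Ideal.span_singleton_le_span_singleton.1 hi₂.le
  have hd₂' := Ideal.span_singleton_le_span_singleton.1 hi₂.ge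
  have hgen : IsGen (CohB1.tensorMod L₁ L₂) U
      (tmulSec L₁ L₂ (res L₁ hUV₁ e₁) (res L₂ hUV₂ e₂)) :=
    isGen_of_isGen28 (Groth.Agent.Lib.Helper28.InvTensor.isGen_tmulSec L₁ L₂
      (isGen28_of_isGen (he₁.mono hUV₁)) (isGen28_of_isGen (he₂.mono hUV₂)))
  have hσ : σ (CohB1.tensorMod L₁ L₂) (SecTwist.tmulHom s₁ s₂) U =
      (resO hUV₁ c₁ * resO hUV₂ c₂) • tmulSec L₁ L₂ (res L₁ hUV₁ e₁) (res L₂ hUV₂ e₂) := by
    rw [σ_tmulHom, hσ₁, hσ₂, tmulSec_smul_left, tmulSec_smul_right, ← mul_smul]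
  have hIU := zeroScheme_ideal_eq_span
    (Groth.Agent.Lib.Helper28.GenLocus.isInvertible_tensorMod hL₁ hL₂) ⟨U, hU⟩ hgen hσ
  refine ⟨⟨U, hU⟩, hxU, resO hUU₁ f₁ * resO hUU₂ f₂,
    Submonoid.mul_mem _ (regSub_res (homOfLE hUU₁) hf₁) (regSub_res (homOfLE hUU₂) hf₂), ?_,
    fun y => ?_⟩
  · rw [hIU]
    apply le_antisymm
    · rw [Ideal.span_singleton_le_span_singleton]
      exact mul_dvd_mul hd₁' hd₂'
    · rw [Ideal.span_singleton_le_span_singleton]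
      exact mul_dvd_mul hd₁ hd₂
  · have e1 : (D₁ * D₂).1 y.1 = D₁.1 y.1 * D₂.1 y.1 := rfl
    rw [e1, hDf₁ ⟨y.1, hUU₁ y.2⟩, hDf₂ ⟨y.1, hUU₂ y.2⟩, ← QuotientGroup.mk_mul]
    congr 1
    apply Units.ext
    change algebraMap _ (KStalk X y.1) (X.presheaf.germ U₁.1 y.1 (hUU₁ y.2) f₁) *
      algebraMap _ (KStalk X y.1) (X.presheaf.germ U₂.1 y.1 (hUU₂ y.2) f₂) =
      algebraMap _ (KStalk X y.1) (X.presheaf.germ U y.1 y.2 (resO hUU₁ f₁ * resO hUU₂ f₂))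
    rw [map_mul, map_mul, germ_resO, germ_resO]

end Groth.Agent.Lib.Helper29.ZeroSch
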