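import Mathlib

/-!
# Affine-local description of the inverse image ideal sheaf (helper29)

`(I.comap f).ideal U = (I.ideal V).map (f.appLE V U e)` for affine opens `U ⊆ f⁻¹ V`.
-/

set_option autoImplicit false
universe u
open CategoryTheory CategoryTheory.Limits AlgebraicGeometry TopologicalSpace

namespace Groth.Agent.Lib.Helper29.EffCart
variable {X Y : Scheme.{u}}


lemma appLE_congr_hom {A B : Scheme.{u}} {g g' : A ⟶ B} (hg : g = g') (U : B.Opens) (W : A.Opens)
    (h : W ≤ g ⁻¹ᵁ U) : g.appLE U W h = g'.appLE U W (hg ▸ h) := by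
  subst hg; rfl

/-- `⊇`: generators of `I(V)` pull back into `(f⁻¹ I)(U)`. -/
lemma map_ideal_le_ideal_comap (I : Y.IdealSheafData) (f : X ⟶ Y) (V : Y.affineOpens)
    (U : X.affineOpens) (e : U.1 ≤ f ⁻¹ᵁ V.1) :
    (I.ideal V).map (f.appLE V.1 U.1 e).hom ≤ (I.comap f).ideal U := by
  rw [Ideal.map_le_iff_le_comap]
  intro s hs
  rw [Ideal.mem_comap, ← (I.comap f).ker_subschemeι_app U, RingHom.mem_ker]
  have hfac : (I.comap f).subschemeι ≫ f =
      ((I.comapIso f).hom ≫ pullback.snd f I.subschemeι) ≫ I.subschemeι := by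
    rw [← I.comapIso_hom_fst f, Category.assoc, Category.assoc, pullback.condition]
  have hs0 : (I.subschemeι.app V.1).hom s = 0 := by
    rw [← RingHom.mem_ker, I.ker_subschemeι_app V]; exact hs
  rw [Scheme.Hom.app_eq_appLE, ← CommRingCat.comp_apply, Scheme.Hom.appLE_comp_appLE,
    appLE_congr_hom hfac, Scheme.Hom.comp_appLE, CommRingCat.comp_apply, hs0, map_zero]



/-- the closed subscheme `Spec (Γ(X,U)/J) ⟶ X` of an affine open. -/
noncomputable def specQuot (U : X.affineOpens) (J : Ideal Γ(X, U.1)) :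
    Spec (.of (Γ(X, U.1) ⧸ J)) ⟶ X :=
  Spec.map (CommRingCat.ofHom (Ideal.Quotient.mk J)) ≫ U.2.fromSpec

lemma fromSpec_appLE_top (U : X.affineOpens) :
    U.2.fromSpec.appLE U.1 ⊤ (by rw [U.2.fromSpec_preimage_self]) =
      (Scheme.ΓSpecIso Γ(X, U.1)).inv := by
  rw [Scheme.Hom.appLE, U.2.fromSpec_app_self, Category.assoc, ← Functor.map_comp]
  convert Category.comp_id _
  exact CategoryTheory.Functor.map_id _ _

lemma ker_specQuot_app_le (U : X.affineOpens) (J : Ideal Γ(X, U.1)) :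
    RingHom.ker ((specQuot U J).app U.1).hom ≤ J := by
  intro t ht
  rw [RingHom.mem_ker] at ht
  have hle : (⊤ : (Spec (.of (Γ(X, U.1) ⧸ J))).Opens) ≤ (specQuot U J) ⁻¹ᵁ U.1 := by
    intro x _
    change (specQuot U J) x ∈ U.1
    rw [specQuot, Scheme.Hom.comp_apply]
    have : U.2.fromSpec ((Spec.map (CommRingCat.ofHom (Ideal.Quotient.mk J))) x) ∈
        Set.range U.2.fromSpec := ⟨_, rfl⟩
    rw [U.2.range_fromSpec] at this
    exact this
  have h1 : ((specQuot U J).appLE U.1 ⊤ hle).hom t = 0 := by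
    rw [Scheme.Hom.appLE, CommRingCat.comp_apply, ht, map_zero]
  have h2 : (specQuot U J).appLE U.1 ⊤ hle =
      CommRingCat.ofHom (Ideal.Quotient.mk J) ≫ (Scheme.ΓSpecIso (.of (Γ(X, U.1) ⧸ J))).inv := by
    have e1 : (specQuot U J).appLE U.1 ⊤ hle =
        U.2.fromSpec.appLE U.1 ⊤ (by rw [U.2.fromSpec_preimage_self]) ≫
          (Spec.map (CommRingCat.ofHom (Ideal.Quotient.mk J))).appLE ⊤ ⊤ le_top :=
      (Scheme.Hom.appLE_comp_appLE _ _ _ _ _ _ _).symm
    rw [e1, fromSpec_appLE_top]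
    exact (Scheme.ΓSpecIso_inv_naturality (CommRingCat.ofHom (Ideal.Quotient.mk J))).symm
  rw [h2, CommRingCat.comp_apply] at h1
  have hinj : Function.Injective (Scheme.ΓSpecIso (.of (Γ(X, U.1) ⧸ J))).inv.hom :=
    ((ConcreteCategory.isIso_iff_bijective _).1 inferInstance).1
  have h3 : (Ideal.Quotient.mk J) t = 0 := hinj (by rw [map_zero]; exact h1)
  exact Ideal.Quotient.eq_zero_iff_mem.1 h3

lemma ideal_comap_le_map_ideal (I : Y.IdealSheafData) (f : X ⟶ Y) (V : Y.affineOpens)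
    (U : X.affineOpens) (e : U.1 ≤ f ⁻¹ᵁ V.1) :
    (I.comap f).ideal U ≤ (I.ideal V).map (f.appLE V.1 U.1 e).hom := by
  set J' := (I.ideal V).map (f.appLE V.1 U.1 e).hom with hJ'
  let ψ : (Γ(Y, V.1) ⧸ I.ideal V) →+* (Γ(X, U.1) ⧸ J') :=
    Ideal.quotientMap J' (f.appLE V.1 U.1 e).hom Ideal.le_comap_map
  let a : Spec (.of (Γ(X, U.1) ⧸ J')) ⟶ I.subscheme :=
    Spec.map (CommRingCat.ofHom ψ) ≫ I.subschemeCover.f V
  have hcomm : CommRingCat.ofHom (Ideal.Quotient.mk (I.ideal V)) ≫ CommRingCat.ofHom ψ =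
      f.appLE V.1 U.1 e ≫ CommRingCat.ofHom (Ideal.Quotient.mk J') := by
    ext x
    simp [ψ]
  have hw : specQuot U J' ≫ f = a ≫ I.subschemeι := by
    change (Spec.map _ ≫ U.2.fromSpec) ≫ f = (Spec.map _ ≫ I.subschemeCover.f V) ≫ I.subschemeι
    rw [Category.assoc, Category.assoc, I.subschemeCover_map_subschemeι V, I.glueDataObjι_ι V,
      ← IsAffineOpen.SpecMap_appLE_fromSpec f V.2 U.2 e, ← Spec.map_comp_assoc,
      ← hcomm, Spec.map_comp, Category.assoc]
    rfl
  let b : Spec (.of (Γ(X, U.1) ⧸ J')) ⟶ pullback f I.subschemeι := pullback.lift _ _ hw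
  have hb : b ≫ pullback.fst f I.subschemeι = specQuot U J' := pullback.lift_fst _ _ _
  have h1 : I.comap f ≤ (specQuot U J').ker := by
    rw [← hb]
    exact Scheme.Hom.le_ker_comp b (pullback.fst f I.subschemeι)
  exact ((h1 U).trans (Scheme.Hom.ideal_ker_le _ U)).trans (ker_specQuot_app_le U J')


/-- **Affine-local description of the inverse image ideal sheaf.** -/
theorem ideal_comap_eq_map (I : Y.IdealSheafData) (f : X ⟶ Y) (V : Y.affineOpens)
    (U : X.affineOpens) (e : U.1 ≤ f ⁻¹ᵁ V.1) :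
    (I.comap f).ideal U = (I.ideal V).map (f.appLE V.1 U.1 e).hom :=
  le_antisymm (ideal_comap_le_map_ideal I f V U e) (map_ideal_le_ideal_comap I f V U e)

end Groth.Agent.Lib.Helper29.EffCart
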