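import Groth.Agent.Lib.Helper29.QCohStalk2

set_option autoImplicit false
universe u
open CategoryTheory CategoryTheory.Limits AlgebraicGeometry Opposite TopologicalSpace

namespace Groth.Agent.Lib.Helper29.QCohStalk

open Groth.Agent.Lib.Helper28.QCohLoc

variable {X : Scheme.{u}}

/-- a function viewed as a section of the structure module -/
def toSM {U : X.Opens} (a : Γ(X, U)) : Γ(Coh.structureModule X, U) := a

/-- a section of the structure module viewed as a function -/
def ofSM {U : X.Opens} (a : Γ(Coh.structureModule X, U)) : Γ(X, U) := a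

@[simp] theorem toSM_ofSM {U : X.Opens} (a : Γ(Coh.structureModule X, U)) : toSM (ofSM a) = a := rfl
@[simp] theorem ofSM_toSM {U : X.Opens} (a : Γ(X, U)) : ofSM (toSM a) = a := rfl

theorem toSM_smul {U : X.Opens} (r a : Γ(X, U)) : r • toSM a = toSM (r * a) := rfl

theorem res_toSM {U V : X.Opens} (h : V ≤ U) (a : Γ(X, U)) :
    res (Coh.structureModule X) h (toSM a) = toSM (resO h a) := rfl

theorem toSM_zero {U : X.Opens} : toSM (0 : Γ(X, U)) = 0 := rfl

theorem toSM_eq_zero_iff {U : X.Opens} (a : Γ(X, U)) : toSM a = 0 ↔ a = 0 := Iff.rfl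

theorem isLocOn_structureModule {U : X.Opens} (hU : IsAffineOpen U) : IsLocOn (Coh.structureModule X) U where
  surj r y := by
    haveI := hU.isLocalization_basicOpen r
    obtain ⟨n, a, ha⟩ := IsLocalization.Away.surj r (ofSM y)
    refine ⟨n, toSM a, ?_⟩
    rw [res_toSM]
    have h1 : algebraMap Γ(X, U) Γ(X, X.basicOpen r) a = resO (X.basicOpen_le r) a := rfl
    have h2 : algebraMap Γ(X, U) Γ(X, X.basicOpen r) r = resO (X.basicOpen_le r) r := rfl
    rw [h1, h2, mul_comm] at ha
    have : (resO (X.basicOpen_le r) r ^ n • y : Γ(Coh.structureModule X, X.basicOpen r)) =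
        toSM (resO (X.basicOpen_le r) r ^ n * ofSM y) := rfl
    rw [this, ha]
  inj r x hx := by
    haveI := hU.isLocalization_basicOpen r
    have h1 : algebraMap Γ(X, U) Γ(X, X.basicOpen r) (ofSM x) = 0 := hx
    obtain ⟨⟨_, n, rfl⟩, hn⟩ := (IsLocalization.map_eq_zero_iff (Submonoid.powers r) _ _).1 h1
    exact ⟨n, hn⟩

instance : (Coh.structureModule X).IsQuasicoherent :=
  isQuasicoherent_of_forall_isLocOn _ fun U => isLocOn_structureModule U.2

theorem ann_toSM {U : X.Opens} (a : Γ(X, U)) :
    ann (R := Γ(X, U)) (toSM a) = ann (R := Γ(X, U)) a := by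
  ext r
  rw [mem_ann, mem_ann, toSM_smul, toSM_eq_zero_iff, smul_eq_mul]

end Groth.Agent.Lib.Helper29.QCohStalk
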