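import Groth.Agent.Lib.Helper29.FreeIso3
import Groth.Agent.Lib.Helper29.QCohStruct
import Groth.Agent.Lib.Helper28.FinTypeConv

/-!
# Finite locally free modules are quasi-coherent of finite type; gluing bases of sections

* `isLocOn_of_basis`: a module with a (globally generating) basis of sections over an affine open has the
  localization property there.
* `isQuasicoherent_of_isFinLocFree`, `isFiniteType_of_isFinLocFree`.
* `isBasisOn_iSup`: a family of sections which is a basis on each member of a family of opens is a basis on the union.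
-/

set_option autoImplicit false
universe u
open CategoryTheory CategoryTheory.Limits AlgebraicGeometry TopologicalSpace Opposite

namespace Groth.Agent.Lib.Helper29.FreeIso

open Groth.Agent.Lib.Helper28.QCohLoc Groth.Agent.Lib.Helper29.QCohStalk

variable {X : Scheme.{u}}

theorem res_sum_smul' (F : X.Modules) {T T' : X.Opens} (h : T' ≤ T) {r : ℕ} (c : Fin r → Γ(X, T))
    (σ : Fin r → Γ(F, T)) :
    res F h (∑ j, c j • σ j) = ∑ j, resO h (c j) • res F h (σ j) := res_sum_smul F h c σ

/-- a module with a globally generating basis of sections over an affine open has the localization property -/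
theorem isLocOn_of_basis (F : X.Modules) {W : X.Opens} (hW : IsAffineOpen W) {r : ℕ} (τ : Fin r → Γ(F, W))
    (hind : ∀ (T : X.Opens) (hT : T ≤ W) (c : Fin r → Γ(X, T)),
      (∑ j, c j • res F hT (τ j) : Γ(F, T)) = 0 → ∀ j, c j = 0)
    (hgen : ∀ (T : X.Opens) (hT : T ≤ W) (t : Γ(F, T)), ∃ c : Fin r → Γ(X, T), t = ∑ j, c j • res F hT (τ j)) :
    IsLocOn F W where
  surj g y := by
    haveI := hW.isLocalization_basicOpen g
    obtain ⟨c, hc⟩ := hgen (X.basicOpen g) (X.basicOpen_le g) y
    obtain ⟨⟨_, n, rfl⟩, hb⟩ := IsLocalization.exist_integer_multiples_of_finite (Submonoid.powers g) c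
    choose a ha using hb
    refine ⟨n, ∑ j, a j • τ j, ?_⟩
    rw [res_sum_smul, hc, Finset.smul_sum]
    refine Finset.sum_congr rfl fun j _ => ?_
    rw [smul_smul]
    congr 1
    have h1 : algebraMap Γ(X, W) Γ(X, X.basicOpen g) (a j) = resO (X.basicOpen_le g) (a j) := rfl
    have h2 := ha j
    rw [h1] at h2
    rw [h2, Algebra.smul_def, map_pow]
    rfl
  inj g x hx := by
    haveI := hW.isLocalization_basicOpen g
    obtain ⟨c, hc⟩ := hgen W le_rfl x
    have hc' : x = ∑ j, c j • τ j := by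
      rw [hc]
      refine Finset.sum_congr rfl fun j _ => ?_
      rw [res_self]
    have h1 : (∑ j, resO (X.basicOpen_le g) (c j) • res F (X.basicOpen_le g) (τ j) :
        Γ(F, X.basicOpen g)) = 0 := by
      rw [← res_sum_smul, ← hc']
      exact hx
    have h2 := hind _ (X.basicOpen_le g) _ h1
    have h3 : ∀ j, ∃ n : ℕ, g ^ n * c j = 0 := by
      intro j
      have h4 : algebraMap Γ(X, W) Γ(X, X.basicOpen g) (c j) = 0 := h2 j
      obtain ⟨⟨_, n, rfl⟩, hn⟩ := (IsLocalization.map_eq_zero_iff (Submonoid.powers g) _ _).1 h4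
      exact ⟨n, hn⟩
    choose n hn using h3
    refine ⟨∑ j, n j, ?_⟩
    rw [hc', Finset.smul_sum]
    refine Finset.sum_eq_zero fun j _ => ?_
    rw [smul_smul]
    have h5 : g ^ (∑ j, n j) * c j = 0 := by
      have h6 : ∑ j, n j = (∑ i ∈ Finset.univ.erase j, n i) + n j := by
        rw [Finset.sum_erase_add _ _ (Finset.mem_univ j)]
      rw [h6, pow_add, mul_assoc, hn j, mul_zero]
    rw [h5, zero_smul]

/-- a finite locally free module is quasi-coherent -/
theorem isQuasicoherent_of_isFinLocFree (M : X.Modules) (h : FlatMod.IsFinLocFree M) : M.IsQuasicoherent := by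
  choose U n hxU e using h
  have hV : ∀ x, ∃ V : X.Opens, IsAffineOpen V ∧ x ∈ V ∧ V ≤ U x := by
    intro x
    obtain ⟨V, hV', hxV, hVU⟩ := (Opens.isBasis_iff_nbhd.1 X.isBasis_affineOpens) (hxU x)
    exact ⟨V, hV', hxV, hVU⟩
  choose V hVaff hxV hVU using hV
  refine isQuasicoherent_of_isLocOn M V ?_ hVaff ?_
  · rw [IsOpenCover, eq_top_iff]
    intro x _
    exact Opens.mem_iSup.2 ⟨x, hxV x⟩
  · intro x
    obtain ⟨τ, hτ, hgen⟩ := exists_isBasisOn_of_iso' M (U x) (n x) (e x).some
    refine isLocOn_of_basis M (hVaff x) (fun j => res M (hVU x) (τ j)) ?_ ?_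
    · exact (hτ.mono (hVU x)).1
    · intro T hT t
      obtain ⟨c, hc⟩ := hgen T (hT.trans (hVU x)) t
      refine ⟨c, hc.trans (Finset.sum_congr rfl fun j _ => ?_)⟩
      rw [res_res]

/-- a finite locally free module is of finite type -/
theorem isFiniteType_of_isFinLocFree (M : X.Modules) (h : FlatMod.IsFinLocFree M) :
    SheafOfModules.IsFiniteType.{u} (R := X.ringCatSheaf) M := by
  haveI := isQuasicoherent_of_isFinLocFree M h
  choose U n hxU e using h
  have hV : ∀ x, ∃ V : X.Opens, IsAffineOpen V ∧ x ∈ V ∧ V ≤ U x := by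
    intro x
    obtain ⟨V, hV', hxV, hVU⟩ := (Opens.isBasis_iff_nbhd.1 X.isBasis_affineOpens) (hxU x)
    exact ⟨V, hV', hxV, hVU⟩
  choose V hVaff hxV hVU using hV
  refine Groth.Agent.Lib.Helper28.FinType.isFiniteType_of_finite_cover M V ?_ hVaff ?_
  · rw [IsOpenCover, eq_top_iff]
    intro x _
    exact Opens.mem_iSup.2 ⟨x, hxV x⟩
  · intro x
    classical
    obtain ⟨τ, -, hgen⟩ := exists_isBasisOn_of_iso' M (U x) (n x) (e x).some
    refine Module.Finite.of_fg_top (R := Γ(X, V x)) ⟨Finset.univ.image (fun j => res M (hVU x) (τ j)), ?_⟩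
    rw [eq_top_iff]
    intro t _
    obtain ⟨c, hc⟩ := hgen (V x) (hVU x) t
    rw [hc]
    refine Submodule.sum_mem _ fun j _ => Submodule.smul_mem _ _ (Submodule.subset_span ?_)
    simp

/-- gluing: sections which form a basis over each member of a family of opens form a basis over the union -/
theorem isBasisOn_iSup (F : X.Modules) {ι : Type*} (D : ι → X.Opens) {V : X.Opens} (hD : ∀ i, D i ≤ V) {r : ℕ}
    (σ : Fin r → Γ(F, V)) (h : ∀ i, IsBasisOn F (D i) (fun j => res F (hD i) (σ j))) :
    IsBasisOn F (⨆ i, D i) (fun j => res F (iSup_le hD) (σ j)) := by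
  constructor
  · intro T hT c hc j
    refine TopCat.Presheaf.section_ext X.sheaf T (c j) 0 fun y hy => ?_
    obtain ⟨i, hyi⟩ := Opens.mem_iSup.1 (hT hy)
    have hyTi : y ∈ T ⊓ D i := ⟨hy, hyi⟩
    have h1 := congrArg (res F (inf_le_left : T ⊓ D i ≤ T)) hc
    rw [res_sum_smul, res_zero] at h1
    have h2 : (∑ j, resO (inf_le_left : T ⊓ D i ≤ T) (c j) •
        res F (inf_le_right : T ⊓ D i ≤ D i) (res F (hD i) (σ j)) : Γ(F, T ⊓ D i)) = 0 := by
      refine Eq.trans (Finset.sum_congr rfl fun j _ => ?_) h1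
      simp only [res_res]
    have h3 := (h i).1 (T ⊓ D i) inf_le_right _ h2 j
    have h4 : X.presheaf.germ T y hy (c j) =
        X.presheaf.germ (T ⊓ D i) y hyTi (resO (inf_le_left : T ⊓ D i ≤ T) (c j)) :=
      (germ_resO (inf_le_left : T ⊓ D i ≤ T) y hyTi (c j)).symm
    have h5 : X.presheaf.germ T y hy (0 : Γ(X, T)) = 0 := map_zero _
    change X.presheaf.germ T y hy (c j) = X.presheaf.germ T y hy 0
    rw [h4, h3, map_zero, h5]
  · intro T hT t pt hpt
    obtain ⟨i, hpti⟩ := Opens.mem_iSup.1 (hT hpt)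
    obtain ⟨T₁, h1, hpt₁, c, hc⟩ := (h i).2 (T ⊓ D i) inf_le_right (res F inf_le_left t) pt ⟨hpt, hpti⟩
    refine ⟨T₁, h1.trans inf_le_left, hpt₁, c, ?_⟩
    rw [res_res] at hc
    refine hc.trans (Finset.sum_congr rfl fun j _ => ?_)
    simp only [res_res]

end Groth.Agent.Lib.Helper29.FreeIso
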