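import Groth.Agent.Lib.Helper29.MeroInv
import Groth.Agent.Lib.Helper29.QCohStalk
import Groth.Agent.Lib.Helper28.TensorIso

set_option autoImplicit false
set_option linter.unusedVariables false
set_option linter.style.haveILetI false
universe u

namespace Groth.Agent.Lib.Helper29.MeroGen

open AlgebraicGeometry TopologicalSpace CategoryTheory Opposite Mero
open Groth.Agent.Lib.Helper28.QCohLoc Groth.Agent.Lib.Helper29.FreeIso
  Groth.Agent.Lib.Helper29.QCohStalk Groth.Agent.Lib.Helper29.MeroDiv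

variable {X : Scheme.{u}} (L : X.Modules)

/-- `e` freely generates `L` over (every open of) `U` -/
def IsGen (U : X.Opens) (e : Γ(L, U)) : Prop := IsBasisOn L U (fun _ : Fin 1 => e)

variable {L}

theorem IsGen.indep {U : X.Opens} {e : Γ(L, U)} (h : IsGen L U e) {T : X.Opens} (hT : T ≤ U)
    (c : Γ(X, T)) (hc : (c • res L hT e : Γ(L, T)) = 0) : c = 0 := by
  refine h.1 T hT (fun _ => c) ?_ 0
  rw [Fin.sum_univ_one]
  exact hc

theorem IsGen.gen {U : X.Opens} {e : Γ(L, U)} (h : IsGen L U e) {T : X.Opens} (hT : T ≤ U)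
    (t : Γ(L, T)) (pt : X) (hpt : pt ∈ T) :
    ∃ (T₁ : X.Opens) (h1 : T₁ ≤ T), pt ∈ T₁ ∧ ∃ c : Γ(X, T₁),
      res L h1 t = c • res L (h1.trans hT) e := by
  obtain ⟨T₁, h1, hpt₁, c, hc⟩ := h.2 T hT t pt hpt
  refine ⟨T₁, h1, hpt₁, c 0, ?_⟩
  rw [hc, Fin.sum_univ_one]

theorem IsGen.mono {U V : X.Opens} {e : Γ(L, U)} (h : IsGen L U e) (hVU : V ≤ U) :
    IsGen L V (res L hVU e) :=
  IsBasisOn.mono h hVU

theorem isGen_of_indep_gen {U : X.Opens} {e : Γ(L, U)}
    (h1 : ∀ (T : X.Opens) (hT : T ≤ U) (c : Γ(X, T)), (c • res L hT e : Γ(L, T)) = 0 → c = 0)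
    (h2 : ∀ (T : X.Opens) (hT : T ≤ U) (t : Γ(L, T)) (pt : X), pt ∈ T →
      ∃ (T₁ : X.Opens) (h1 : T₁ ≤ T), pt ∈ T₁ ∧ ∃ c : Γ(X, T₁),
        res L h1 t = c • res L (h1.trans hT) e) : IsGen L U e := by
  refine ⟨fun T hT c hc j => ?_, fun T hT t pt hpt => ?_⟩
  · obtain rfl : j = 0 := Subsingleton.elim _ _
    rw [Fin.sum_univ_one] at hc
    exact h1 T hT (c 0) hc
  · obtain ⟨T₁, h1', hpt₁, c, hc⟩ := h2 T hT t pt hpt
    refine ⟨T₁, h1', hpt₁, fun _ => c, ?_⟩
    rw [Fin.sum_univ_one]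
    exact hc

/-- an invertible module has local generators -/
theorem exists_isGen (hL : PicF.IsInvertible L) (x : X) :
    ∃ (U : X.Opens) (_ : x ∈ U) (e : Γ(L, U)), IsGen L U e := by
  obtain ⟨U, hxU, ⟨i⟩⟩ := hL x
  obtain ⟨τ, hτ⟩ := exists_isBasisOn_of_iso L U 1
    (i ≪≫ (Limits.coproductUniqueIso (fun _ : Fin 1 => Coh.structureModule (↑U))).symm)
  refine ⟨U, hxU, τ 0, ?_⟩
  have : τ = fun _ : Fin 1 => τ 0 := funext fun j => by rw [Subsingleton.elim j 0]
  unfold IsGen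
  rw [← this]
  exact hτ

/-- stalkwise independence -/
theorem IsGen.stalk_indep {U : X.Opens} {e : Γ(L, U)} (h : IsGen L U e) (y : X) (hy : y ∈ U)
    (r : X.presheaf.stalk y) (hr : r • gm L U y hy e = 0) : r = 0 := by
  obtain ⟨T, hyT, c, rfl⟩ := TopCat.Presheaf.exists_germ_eq X.presheaf r
  have h1 : gm L (T ⊓ U) y ⟨hyT, hy⟩ (resO (inf_le_left : T ⊓ U ≤ T) c • res L inf_le_right e) = 0 := by
    rw [gm_smul, gm_res, germ_resO]
    exact hr
  rw [← gm_zero L (T ⊓ U) y ⟨hyT, hy⟩] at h1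
  obtain ⟨T₁, hyT₁, j₁, j₂, h2⟩ := TopCat.Presheaf.germ_eq L.presheaf y _ _ _ _ h1
  have h3 : (resO (j₁.le.trans inf_le_left : T₁ ≤ T) c • res L (j₁.le.trans inf_le_right) e :
      Γ(L, T₁)) = 0 := by
    have e1 : L.presheaf.map j₁.op (resO (inf_le_left : T ⊓ U ≤ T) c • res L inf_le_right e) =
        resO (j₁.le.trans inf_le_left : T₁ ≤ T) c • res L (j₁.le.trans inf_le_right) e := by
      have := res_smul L j₁.le (resO (inf_le_left : T ⊓ U ≤ T) c) (res L inf_le_right e)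
      rw [resO_resO, res_res] at this
      exact this
    rw [← e1, h2]
    exact map_zero _
  have h4 := h.indep (j₁.le.trans inf_le_right) _ h3
  have h5 := congrArg (X.presheaf.germ T₁ y hyT₁) h4
  rw [germ_resO, map_zero] at h5
  exact h5

/-- stalkwise generation -/
theorem IsGen.stalk_gen {U : X.Opens} {e : Γ(L, U)} (h : IsGen L U e) (y : X) (hy : y ∈ U)
    (t : L.presheaf.stalk y) : ∃ r : X.presheaf.stalk y, t = r • gm L U y hy e := by
  obtain ⟨T, hyT, m, rfl⟩ := TopCat.Presheaf.exists_germ_eq L.presheaf t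
  obtain ⟨T₁, h1, hyT₁, c, hc⟩ := h.gen (inf_le_right : T ⊓ U ≤ U) (res L inf_le_left m) y ⟨hyT, hy⟩
  refine ⟨X.presheaf.germ T₁ y hyT₁ c, ?_⟩
  have h2 := congrArg (gm L T₁ y hyT₁) hc
  rw [gm_smul, gm_res, gm_res, gm_res] at h2
  exact h2

variable (L) in
theorem kmk_smul_mk (x : X) (a : X.presheaf.stalk x) (s : regStalk X x) (m : L.presheaf.stalk x)
    (t : regStalk X x) :
    (LocalizedModule.mk a s : KStalk X x) • (LocalizedModule.mk m t : MStalk L x) =
      LocalizedModule.mk (a • m) (s * t) := by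
  exact LocalizedModule.mk_smul_mk a m s t

variable (L) in
theorem algebraMap_smul_mk (x : X) (a : X.presheaf.stalk x) (m : L.presheaf.stalk x)
    (t : regStalk X x) :
    algebraMap (X.presheaf.stalk x) (KStalk X x) a • (LocalizedModule.mk m t : MStalk L x) =
      LocalizedModule.mk (a • m) t := by
  have h1 : algebraMap (X.presheaf.stalk x) (KStalk X x) a = LocalizedModule.mk a 1 := by
    rw [mk_eq_mk', IsLocalization.mk'_one]
  rw [h1, kmk_smul_mk, one_mul]

/-- independence in the localised stalk -/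
theorem IsGen.mstalk_indep {U : X.Opens} {e : Γ(L, U)} (h : IsGen L U e) (y : X) (hy : y ∈ U)
    (q : KStalk X y) (hq : q • (LocalizedModule.mk (gm L U y hy e) 1 : MStalk L y) = 0) : q = 0 := by
  obtain ⟨α, β, rfl⟩ := IsLocalization.exists_mk'_eq (regStalk X y) q
  rw [← mk_eq_mk', kmk_smul_mk, ← LocalizedModule.zero_mk (1 : regStalk X y),
    LocalizedModule.mk_eq] at hq
  obtain ⟨u, hu⟩ := hq
  rw [smul_zero, smul_zero, one_smul] at hu
  have h1 : ((u : X.presheaf.stalk y) * α) • gm L U y hy e = 0 := by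
    rw [mul_smul]; exact hu
  have h2 := h.stalk_indep y hy _ h1
  have h3 : α = 0 :=
    (mem_nonZeroDivisors_iff.1 (regStalk_le_nonZeroDivisors y u.2)).1 α h2
  rw [h3, IsLocalization.mk'_zero]

/-- generation of the localised stalk -/
theorem IsGen.mstalk_gen {U : X.Opens} {e : Γ(L, U)} (h : IsGen L U e) (y : X) (hy : y ∈ U)
    (σ : MStalk L y) :
    ∃ q : KStalk X y, σ = q • (LocalizedModule.mk (gm L U y hy e) 1 : MStalk L y) := by
  induction σ using LocalizedModule.induction_on with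
  | h m s =>
    obtain ⟨r, rfl⟩ := h.stalk_gen y hy m
    refine ⟨LocalizedModule.mk r s, ?_⟩
    rw [kmk_smul_mk, mul_one]

/-- local form of a regular meromorphic section of an invertible module: `s = (c • e) / b` with
`e` a generator and `c`, `b` regular -/
theorem exists_local_form (hL : PicF.IsInvertible L) (s : Γ(merMod L, ⊤)) (hs : IsRegularMero L s)
    (x : X) :
    ∃ (V : X.Opens) (_ : x ∈ V) (e : Γ(L, V)) (c b : regSub X V), IsGen L V e ∧
      ∀ y : V, s.1 ⟨y.1, trivial⟩ =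
        LocalizedModule.mk (gm L V y.1 y.2 (c.1 • e)) (regGerm y b) := by
  obtain ⟨V₀, hxV₀, i, m, b, hab⟩ := s.2 ⟨x, trivial⟩
  have hab' : ∀ y : V₀, s.1 ⟨y.1, trivial⟩ =
      LocalizedModule.mk (gm L V₀ y.1 y.2 m) (regGerm y b) := hab
  obtain ⟨U, hxU, e, he⟩ := exists_isGen hL x
  obtain ⟨T₁, h1, hxT₁, c, hc⟩ := he.gen (inf_le_right : V₀ ⊓ U ≤ U) (res L inf_le_left m) x
    ⟨hxV₀, hxU⟩
  have hTV₀ : T₁ ≤ V₀ := h1.trans inf_le_left
  have hTU : T₁ ≤ U := h1.trans inf_le_right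
  have he' : IsGen L T₁ (res L hTU e) := he.mono hTU
  have hform : ∀ y : T₁, s.1 ⟨y.1, trivial⟩ =
      LocalizedModule.mk (gm L T₁ y.1 y.2 (c • res L hTU e))
        (regGerm y ⟨resO hTV₀ b.1, regSub_res (homOfLE hTV₀) b.2⟩) := by
    intro y
    rw [hab' ⟨y.1, hTV₀ y.2⟩]
    refine mk_congr ?_ ?_
    · rw [← hc, gm_res, gm_res]
    · exact (germ_resO hTV₀ y.1 y.2 b.1).symm
  have hc' : c ∈ regSub X T₁ := by
    intro y
    rw [mem_nonZeroDivisors_iff_right]
    intro r hr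
    have h2 := hs y.1 (algebraMap _ _ r)
    rw [hform y, algebraMap_smul_mk, gm_smul, ← mul_smul, hr, zero_smul,
      LocalizedModule.zero_mk] at h2
    have h3 := h2 rfl
    rw [← map_zero (algebraMap (X.presheaf.stalk y.1) (KStalk X y.1))] at h3
    exact algebraMap_KStalk_injective y.1 h3
  exact ⟨T₁, hxT₁, res L hTU e, ⟨c, hc'⟩, ⟨resO hTV₀ b.1, regSub_res (homOfLE hTV₀) b.2⟩, he', hform⟩

/-- two generators of `L` near `y` differ by a unit germ -/
theorem IsGen.exists_unit {U U' : X.Opens} {e : Γ(L, U)} {e' : Γ(L, U')} (h : IsGen L U e)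
    (h' : IsGen L U' e') (y : X) (hy : y ∈ U) (hy' : y ∈ U') :
    ∃ u : (X.presheaf.stalk y)ˣ, gm L U' y hy' e' = (u : X.presheaf.stalk y) • gm L U y hy e := by
  obtain ⟨u, hu⟩ := h.stalk_gen y hy (gm L U' y hy' e')
  obtain ⟨v, hv⟩ := h'.stalk_gen y hy' (gm L U y hy e)
  have h1 : (v * u - 1) • gm L U y hy e = 0 := by
    rw [sub_smul, one_smul, mul_smul, ← hu, ← hv, sub_self]
  have h2 : v * u = 1 := sub_eq_zero.1 (h.stalk_indep y hy _ h1)
  exact ⟨⟨u, v, by rw [mul_comm]; exact h2, h2⟩, hu⟩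

/-- the class of the coefficient of a meromorphic section with respect to a local generator does
not depend on the generator -/
theorem germ_class_eq {U U' : X.Opens} {e : Γ(L, U)} {e' : Γ(L, U')} (h : IsGen L U e)
    (h' : IsGen L U' e') (y : X) (hy : y ∈ U) (hy' : y ∈ U') (g g' : (KStalk X y)ˣ)
    (hgg' : (g : KStalk X y) • (LocalizedModule.mk (gm L U y hy e) 1 : MStalk L y) =
      (g' : KStalk X y) • (LocalizedModule.mk (gm L U' y hy' e') 1 : MStalk L y)) :
    (QuotientGroup.mk g : Germ X y) = QuotientGroup.mk g' := by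
  obtain ⟨u, hu⟩ := h.exists_unit h' y hy hy'
  rw [hu, ← algebraMap_smul_mk, ← mul_smul] at hgg'
  have h1 : ((g : KStalk X y) - (g' : KStalk X y) * algebraMap _ _ (u : X.presheaf.stalk y)) •
      (LocalizedModule.mk (gm L U y hy e) 1 : MStalk L y) = 0 := by
    rw [sub_smul, hgg', sub_self]
  have h2 := sub_eq_zero.1 (h.mstalk_indep y hy _ h1)
  rw [eq_comm, QuotientGroup.eq]
  refine ⟨u, Units.ext ?_⟩
  have h3 : ((g'⁻¹ * g : (KStalk X y)ˣ) : KStalk X y) =
      ((g'⁻¹ : (KStalk X y)ˣ) : KStalk X y) * (g : KStalk X y) := rfl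
  rw [h3, h2, ← mul_assoc, Units.inv_mul, one_mul]
  rfl

/-- a morphism of modules which is injective on the sections over a basis of opens and locally
surjective is an isomorphism -/
theorem isIso_of_injective_of_locally_surjective {M N : X.Modules} (ψ : M ⟶ N) (B : X.Opens → Prop)
    (basis : ∀ (U : X.Opens) (x : X), x ∈ U → ∃ V : X.Opens, B V ∧ x ∈ V ∧ V ≤ U)
    (hinj : ∀ W : X.Opens, B W → Function.Injective (ψ.app W))
    (hsurj : ∀ (U : X.Opens) (t : Γ(N, U)) (x : X), x ∈ U → ∃ (V : X.Opens) (hV : V ≤ U), x ∈ V ∧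
      ∃ m : Γ(M, V), ψ.app V m = res N hV t) : IsIso ψ := by
  let ψ' : (show SheafOfModules.{u} X.ringCatSheaf from M) ⟶
    (show SheafOfModules.{u} X.ringCatSheaf from N) := ψ
  haveI : IsIso ((SheafOfModules.toSheaf X.ringCatSheaf).map ψ') := by
    refine (Sheaf.isLocallyBijective_iff_isIso _).1
      ⟨Groth.Agent.Lib.Helper28.TensorIso.isLocallyInjective_of_basis
        ((SheafOfModules.toSheaf X.ringCatSheaf).map ψ').hom B basis hinj, ?_⟩
    constructor
    intro U t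
    rw [Opens.mem_grothendieckTopology]
    intro p hp
    obtain ⟨V, hV, hpV, m, hm⟩ := hsurj U t p hp
    exact ⟨V, homOfLE hV, ⟨m, hm⟩, hpV⟩
  have h : IsIso ψ' := isIso_of_reflects_iso ψ' (SheafOfModules.toSheaf X.ringCatSheaf)
  exact h

end Groth.Agent.Lib.Helper29.MeroGen
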