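import Groth.Agent.Lib.Helper28.TwistGen
import Groth.Agent.S8889

/-!
# A module generated freely by finitely many global sections is free

* `FreeIso.nonempty_iso_freeMod`: if global sections `τ j` of `G` are linearly independent over every open and
  generate `G` locally, then `G ≅ O^r`.
-/

set_option autoImplicit false
universe u
open CategoryTheory CategoryTheory.Limits AlgebraicGeometry TopologicalSpace Opposite

namespace Groth.Agent.Lib.Helper29.FreeIso

open Groth.Agent.Lib.Helper28.QCohLoc Groth.Agent.Lib.Helper28.TwistGen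

variable {Y : Scheme.{u}}

theorem sum_app {M N : Y.Modules} {ι : Type*} (φ : ι → (M ⟶ N)) (s : Finset ι) (W : Y.Opens) (z : Γ(M, W)) :
    (∑ j ∈ s, φ j).app W z = ∑ j ∈ s, (φ j).app W z := by
  classical
  induction s using Finset.induction_on with
  | empty =>
    rw [Finset.sum_empty, Finset.sum_empty, Scheme.Modules.Hom.zero_app]
    rfl
  | insert a s ha ih =>
    rw [Finset.sum_insert ha, Finset.sum_insert ha, Scheme.Modules.Hom.add_app, ← ih]
    rfl

theorem app_sum {M N : Y.Modules} (φ : M ⟶ N) {ι : Type*} (s : Finset ι) (W : Y.Opens) (z : ι → Γ(M, W)) :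
    φ.app W (∑ j ∈ s, z j) = ∑ j ∈ s, φ.app W (z j) :=
  map_sum (ConcreteCategory.hom (φ.app W)) z s

section

variable (r : ℕ)

instance : HasFiniteBiproducts Y.Modules := Abelian.hasFiniteBiproducts

/-- the biproduct of `r` copies of the structure sheaf -/
noncomputable abbrev B (Y : Scheme.{u}) (r : ℕ) : Y.Modules := ⨁ (fun _ : Fin r => Coh.structureModule Y)

theorem decomp (W : Y.Opens) (z : Γ(B Y r, W)) :
    z = ∑ j : Fin r, (biproduct.ι (fun _ : Fin r => Coh.structureModule Y) j).app W
      ((biproduct.π (fun _ : Fin r => Coh.structureModule Y) j).app W z) := by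
  have h := congrArg (fun φ : B Y r ⟶ B Y r => φ.app W z)
    (biproduct.total (f := fun _ : Fin r => Coh.structureModule Y))
  simp only [sum_app] at h
  exact h.symm

variable {r} (G : Y.Modules) (τ : Fin r → Γ(G, ⊤))

/-- the morphism `O^r ⟶ G` defined by `r` global sections -/
noncomputable def ψ : B Y r ⟶ G := biproduct.desc (fun j => ofSection G (τ j))

theorem ψ_app_ι (W : Y.Opens) (j : Fin r) (c : Γ(Y, W)) :
    (ψ G τ).app W ((biproduct.ι (fun _ : Fin r => Coh.structureModule Y) j).app W
      (show Γ(Coh.structureModule Y, W) from c)) = c • res G (le_top : W ≤ ⊤) (τ j) := by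
  have h1 : (ψ G τ).app W ((biproduct.ι (fun _ : Fin r => Coh.structureModule Y) j).app W
      (show Γ(Coh.structureModule Y, W) from c)) =
      (biproduct.ι (fun _ : Fin r => Coh.structureModule Y) j ≫ ψ G τ).app W
        (show Γ(Coh.structureModule Y, W) from c) := rfl
  rw [h1]
  unfold ψ
  rw [biproduct.ι_desc, ofSection_app]

theorem ψ_app (W : Y.Opens) (z : Γ(B Y r, W)) :
    (ψ G τ).app W z = ∑ j : Fin r,
      (show Γ(Y, W) from (biproduct.π (fun _ : Fin r => Coh.structureModule Y) j).app W z) •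
        res G (le_top : W ≤ ⊤) (τ j) := by
  conv_lhs => rw [decomp r W z]
  rw [app_sum]
  refine Finset.sum_congr rfl fun j _ => ?_
  exact ψ_app_ι G τ W j _

/-- **Freeness criterion** (explicit form): the morphism `O^r ⟶ G` defined by global sections which are independent
over every open and generate locally is an isomorphism. -/
theorem isIso_ψ
    (hind : ∀ (W : Y.Opens) (c : Fin r → Γ(Y, W)),
      (∑ j : Fin r, c j • res G (le_top : W ≤ ⊤) (τ j) : Γ(G, W)) = 0 → ∀ j, c j = 0)
    (hgen : ∀ (W : Y.Opens) (t : Γ(G, W)) (pt : Y), pt ∈ W → ∃ (W₁ : Y.Opens) (hW₁ : W₁ ≤ W), pt ∈ W₁ ∧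
      ∃ c : Fin r → Γ(Y, W₁), res G hW₁ t = ∑ j : Fin r, c j • res G (le_top : W₁ ≤ ⊤) (τ j)) :
    IsIso (ψ G τ) := by
  haveI hmono : Mono (ψ G τ) := by
    refine Groth.Agent.S8889.mono_of_injective_app _ fun W => ?_
    rw [injective_iff_map_eq_zero]
    intro z hz
    rw [ψ_app] at hz
    have hc := hind W _ hz
    rw [decomp r W z]
    refine Finset.sum_eq_zero fun j _ => ?_
    have : (biproduct.π (fun _ : Fin r => Coh.structureModule Y) j).app W z = 0 := hc j
    rw [this, map_zero]
  haveI hepi : Epi (ψ G τ) := by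
    refine epi_of_locally_in_range _ ?_
    intro W t pt hpt
    obtain ⟨W₁, hW₁, hpt₁, c, hc⟩ := hgen W t pt hpt
    refine ⟨W₁, hW₁, hpt₁, ∑ j : Fin r, (biproduct.ι (fun _ : Fin r => Coh.structureModule Y) j).app W₁
      (show Γ(Coh.structureModule Y, W₁) from c j), ?_⟩
    rw [app_sum, hc]
    refine Finset.sum_congr rfl fun j _ => ?_
    exact ψ_app_ι G τ W₁ j (c j)
  exact isIso_of_mono_of_epi _

/-- **Freeness criterion**: global sections which are independent over every open and generate locally give an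
isomorphism with the free module. -/
theorem nonempty_iso_freeMod
    (hind : ∀ (W : Y.Opens) (c : Fin r → Γ(Y, W)),
      (∑ j : Fin r, c j • res G (le_top : W ≤ ⊤) (τ j) : Γ(G, W)) = 0 → ∀ j, c j = 0)
    (hgen : ∀ (W : Y.Opens) (t : Γ(G, W)) (pt : Y), pt ∈ W → ∃ (W₁ : Y.Opens) (hW₁ : W₁ ≤ W), pt ∈ W₁ ∧
      ∃ c : Fin r → Γ(Y, W₁), res G hW₁ t = ∑ j : Fin r, c j • res G (le_top : W₁ ≤ ⊤) (τ j)) :
    Nonempty (G ≅ FlatMod.freeMod Y r) := by
  haveI : IsIso (ψ G τ) := isIso_ψ G τ hind hgen
  exact ⟨(asIso (ψ G τ)).symm ≪≫ biproduct.isoCoproduct _⟩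

end

end Groth.Agent.Lib.Helper29.FreeIso
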