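import Groth.Agent.Lib.Helper29.FreeIso4
import Groth.Agent.S9825

/-!
# Trivialising a locally free module near finitely many points of an affine open

* `span_eq_top_of_sub_mem`: Nakayama perturbation lemma.
* `exists_isBasisOn_basicOpen_of_span_stalk`: sections over an affine open generating the stalk at `x` of a finite type
  quasi-coherent module with free stalks of constant fibre rank form a basis over a basic open neighbourhood of `x`.
* `exists_sections_span_stalks`: sections generating the stalks at finitely many pairwise non-specialising points.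
* `exists_isBasisOn_nhds_of_finset`: a locally free module of rank `r` has `r` sections over an affine open which form
  a basis near each of finitely many pairwise non-specialising points.
-/

set_option autoImplicit false
universe u
open CategoryTheory CategoryTheory.Limits AlgebraicGeometry TopologicalSpace Opposite

namespace Groth.Agent.Lib.Helper29.FreeIso

open Groth.Agent.Lib.Helper28.QCohLoc Groth.Agent.Lib.Helper29.QCohStalk
open TensorProduct IsLocalRing

/-- Nakayama: perturbing a generating family by a unit and elements of `𝔪 N` keeps it generating -/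
theorem span_eq_top_of_sub_mem {R : Type*} [CommRing R] [IsLocalRing R] {N : Type*} [AddCommGroup N] [Module R N]
    [Module.Finite R N] {ι : Type*} (v v' : ι → N) (u : R) (hu : IsUnit u)
    (hsub : ∀ j, v j - u • v' j ∈ (maximalIdeal R) • (⊤ : Submodule R N))
    (hv' : Submodule.span R (Set.range v') = ⊤) : Submodule.span R (Set.range v) = ⊤ := by
  rw [eq_top_iff]
  refine Submodule.le_of_le_smul_of_le_jacobson_bot (I := maximalIdeal R) Module.Finite.fg_top
    (IsLocalRing.maximalIdeal_le_jacobson ⊥) ?_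
  rw [← hv', Submodule.span_le]
  rintro _ ⟨j, rfl⟩
  obtain ⟨w, hw⟩ := hu
  have h1 : v' j = (↑w⁻¹ : R) • v j - (↑w⁻¹ : R) • (v j - u • v' j) := by
    rw [smul_sub, sub_sub_cancel, smul_smul, ← hw, Units.inv_mul, one_smul]
  rw [h1]
  refine Submodule.sub_mem _ (Submodule.mem_sup_left (Submodule.smul_mem _ _ (Submodule.subset_span ⟨j, rfl⟩)))
    (Submodule.mem_sup_right (Submodule.smul_mem _ _ ?_))
  rw [hv']
  exact hsub j

variable {X : Scheme.{u}}

theorem exists_sections_span_stalk' (M : X.Modules) {U₀ : X.Opens} (hU₀ : IsAffineOpen U₀)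
    (hloc : IsLocOn M U₀) (x : X) (hx : x ∈ U₀) [Module.Finite (X.presheaf.stalk x) (M.presheaf.stalk x)] {r : ℕ}
    (hr : Module.finrank (ResidueField (X.presheaf.stalk x))
      (ResidueField (X.presheaf.stalk x) ⊗[X.presheaf.stalk x] M.presheaf.stalk x) = r) :
    ∃ σ : Fin r → Γ(M, U₀),
      Submodule.span (X.presheaf.stalk x) (Set.range fun j => gm M U₀ x hx (σ j)) = ⊤ := by
  subst hr
  exact Groth.Agent.S9824.exists_sections_span_stalk M hU₀ hloc x hx

/-- sections generating the stalk at `x` form a basis over a basic open neighbourhood of `x` -/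
theorem exists_isBasisOn_basicOpen_of_span_stalk (M : X.Modules) [M.IsQuasicoherent]
    [SheafOfModules.IsFiniteType.{u} (R := X.ringCatSheaf) M]
    (hfree : ∀ x : X, Module.Free (X.presheaf.stalk x) (M.presheaf.stalk x))
    {U₀ : X.Opens} (hU₀ : IsAffineOpen U₀) {r : ℕ}
    (hrank : ∀ y : X, y ∈ U₀ → Module.finrank (ResidueField (X.presheaf.stalk y))
      (ResidueField (X.presheaf.stalk y) ⊗[X.presheaf.stalk y] M.presheaf.stalk y) = r)
    (σ : Fin r → Γ(M, U₀)) (x : X) (hx : x ∈ U₀)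
    (hspan : Submodule.span (X.presheaf.stalk x) (Set.range fun j => gm M U₀ x hx (σ j)) = ⊤) :
    ∃ f : Γ(X, U₀), x ∈ X.basicOpen f ∧
      IsBasisOn M (X.basicOpen f) (fun j => res M (X.basicOpen_le f) (σ j)) := by
  have hloc := isLocOn_of_isQuasicoherent M hU₀
  haveI : Module.Finite Γ(X, U₀) Γ(M, U₀) := Groth.Agent.Lib.Helper28.FinType.finite_of_isAffineOpen M hU₀
  obtain ⟨S, hS⟩ := (Module.Finite.fg_top : (⊤ : Submodule Γ(X, U₀) Γ(M, U₀)).FG)
  have hC := Groth.Agent.S8887.exists_smul_eq_sum M hU₀ hloc x hx σ hspan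
  choose fm hfm cm hcm using hC
  classical
  have hfu : IsUnit (X.presheaf.germ U₀ x hx (∏ m ∈ S, fm m)) := by
    rw [map_prod]
    exact (IsUnit.prod_iff).2 fun m _ => hfm m
  have hD := Groth.Agent.S8887.exists_prod_smul_eq_sum S hS σ fm cm hcm
  have hxf : x ∈ X.basicOpen (∏ m ∈ S, fm m) := (Scheme.mem_basicOpen _ _ _ hx).2 hfu
  generalize (∏ m ∈ S, fm m) = f at hD hxf
  have hgen : ∀ (T : X.Opens) (hT : T ≤ X.basicOpen f) (t : Γ(M, T)) (pt : X), pt ∈ T →
      ∃ (T₁ : X.Opens) (h1 : T₁ ≤ T), pt ∈ T₁ ∧ ∃ c : Fin r → Γ(X, T₁),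
        res M h1 t = ∑ j, c j • res M (h1.trans hT) (res M (X.basicOpen_le f) (σ j)) := by
    intro T hT t pt hpt
    obtain ⟨g, hptg, hgT, hg⟩ := Groth.Agent.S8887.generated_of_smul M hU₀ hloc σ f hD T hT t pt hpt
    obtain ⟨c, hc⟩ := hg (X.basicOpen g) le_rfl hgT ((hgT.trans hT).trans (X.basicOpen_le f))
    refine ⟨X.basicOpen g, hgT, hptg, c, hc.trans (Finset.sum_congr rfl fun j _ => ?_)⟩
    rw [res_res]
  refine ⟨f, hxf, ?_, hgen⟩
  intro T hT c hc j
  apply Groth.Agent.S9825.eq_zero_of_forall_germ_eq_zero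
  intro y hyT
  have hyU : y ∈ X.basicOpen f := hT hyT
  have hspany := span_germ_of_gen hgen y hyU
  have hry := hrank y (X.basicOpen_le f hyU)
  have h0 : ∑ j, X.presheaf.germ T y hyT (c j) •
      gm M (X.basicOpen f) y hyU (res M (X.basicOpen_le f) (σ j)) = 0 := by
    have h1 := congrArg (gm M T y hyT) hc
    rw [gm_sum_smul, gm_zero] at h1
    refine Eq.trans (Finset.sum_congr rfl fun j _ => ?_) h1
    simp only [gm_res]
  haveI := hfree y
  have hli := Groth.Agent.S9825.linearIndependent_of_span_of_finrank_fibre _ hspany hry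
  exact Fintype.linearIndependent_iff.1 hli _ h0 j

/-- sections generating the stalks at finitely many pairwise non-specialising points of an affine open -/
theorem exists_sections_span_stalks (M : X.Modules) [M.IsQuasicoherent]
    [SheafOfModules.IsFiniteType.{u} (R := X.ringCatSheaf) M] {V : X.Opens} (hV : IsAffineOpen V) {r : ℕ}
    (hrank : ∀ y : X, y ∈ V → Module.finrank (ResidueField (X.presheaf.stalk y))
      (ResidueField (X.presheaf.stalk y) ⊗[X.presheaf.stalk y] M.presheaf.stalk y) = r)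
    (Z : Finset X) (hZV : ∀ z ∈ Z, z ∈ V) (hinc : ∀ z ∈ Z, ∀ w ∈ Z, z ≠ w → ¬ (w ⤳ z)) :
    ∃ σ : Fin r → Γ(M, V), ∀ (z : X) (hz : z ∈ V), z ∈ Z →
      Submodule.span (X.presheaf.stalk z) (Set.range fun j => gm M V z hz (σ j)) = ⊤ := by
  classical
  have hloc := isLocOn_of_isQuasicoherent M hV
  haveI : Module.Finite Γ(X, V) Γ(M, V) := Groth.Agent.Lib.Helper28.FinType.finite_of_isAffineOpen M hV
  have hfin : ∀ (z : X) (hz : z ∈ V), Module.Finite (X.presheaf.stalk z) (M.presheaf.stalk z) :=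
    fun z hz => Groth.Agent.S4637.finite_stalk M hV hloc z hz
  have hsec : ∀ z : {z // z ∈ Z}, ∃ σ : Fin r → Γ(M, V), Submodule.span (X.presheaf.stalk z.1)
      (Set.range fun j => gm M V z.1 (hZV z.1 z.2) (σ j)) = ⊤ := by
    intro z
    haveI := hfin z.1 (hZV z.1 z.2)
    exact exists_sections_span_stalk' M hV hloc z.1 (hZV z.1 z.2) (hrank z.1 (hZV z.1 z.2))
  choose σz hσz using hsec
  have hb : ∀ z w : {z // z ∈ Z}, ∃ b : Γ(X, V), z ≠ w →
      (b ∈ germPrime V w.1 (hZV w.1 w.2) ∧ b ∉ germPrime V z.1 (hZV z.1 z.2)) := by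
    intro z w
    by_cases h : z = w
    · exact ⟨1, fun h' => absurd h h'⟩
    · have hne : z.1 ≠ w.1 := fun h' => h (Subtype.ext h')
      have h1 : ¬ germPrime V w.1 (hZV w.1 w.2) ≤ germPrime V z.1 (hZV z.1 z.2) := fun hle =>
        hinc z.1 z.2 w.1 w.2 hne (specializes_of_germPrime_le hV w.1 z.1 _ _ hle)
      obtain ⟨b, hbw, hbz⟩ := SetLike.not_le_iff_exists.1 h1
      exact ⟨b, fun _ => ⟨hbw, hbz⟩⟩
  choose b hb using hb
  let a : {z // z ∈ Z} → Γ(X, V) := fun z => ∏ w ∈ Finset.univ.erase z, b z w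
  have ha1 : ∀ z : {z // z ∈ Z}, a z ∉ germPrime V z.1 (hZV z.1 z.2) := by
    intro z hmem
    obtain ⟨w, hw, hbw⟩ := Ideal.IsPrime.prod_mem_iff.1 hmem
    exact (hb z w (Finset.ne_of_mem_erase hw).symm).2 hbw
  have ha2 : ∀ z w : {z // z ∈ Z}, z ≠ w → a z ∈ germPrime V w.1 (hZV w.1 w.2) := by
    intro z w hzw
    have hw : w ∈ Finset.univ.erase z := Finset.mem_erase.2 ⟨hzw.symm, Finset.mem_univ w⟩
    have h1 : a z = b z w * ∏ w' ∈ (Finset.univ.erase z).erase w, b z w' :=
      (Finset.mul_prod_erase _ _ hw).symm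
    rw [h1]
    exact Ideal.mul_mem_right _ _ (hb z w hzw).1
  refine ⟨fun j => ∑ w : {z // z ∈ Z}, a w • σz w j, ?_⟩
  intro z hz hzZ
  haveI := hfin z hz
  let zs : {z // z ∈ Z} := ⟨z, hzZ⟩
  have hgm : ∀ j, gm M V z hz (∑ w : {z // z ∈ Z}, a w • σz w j) =
      ∑ w : {z // z ∈ Z}, X.presheaf.germ V z hz (a w) • gm M V z hz (σz w j) := by
    intro j
    have := map_sum (ConcreteCategory.hom (M.presheaf.germ V z hz)) (fun w : {z // z ∈ Z} => a w • σz w j)
      Finset.univ
    refine this.trans ?_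
    refine Finset.sum_congr rfl fun w _ => ?_
    exact gm_smul M V z hz (a w) (σz w j)
  refine span_eq_top_of_sub_mem (fun j => gm M V z hz (∑ w : {z // z ∈ Z}, a w • σz w j))
    (fun j => gm M V z hz (σz zs j)) (X.presheaf.germ V z hz (a zs))
    ((notMem_germPrime_iff V z hz (a zs)).1 (ha1 zs)) ?_ (hσz zs)
  intro j
  change gm M V z hz (∑ w : {z // z ∈ Z}, a w • σz w j) -
    X.presheaf.germ V z hz (a zs) • gm M V z hz (σz zs j) ∈ _
  rw [hgm j, ← Finset.add_sum_erase Finset.univ _ (Finset.mem_univ zs), add_sub_cancel_left]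
  refine Submodule.sum_mem _ fun w hw => ?_
  refine Submodule.smul_mem_smul ?_ trivial
  have hwz : w ≠ zs := Finset.ne_of_mem_erase hw
  have h2 := ha2 w zs hwz
  rw [mem_germPrime_iff] at h2
  exact h2

/-- **Trivialisation near finitely many points**: a locally free module of rank `r` has `r` sections over an affine
open `V` forming a basis over a basic open neighbourhood of each of finitely many pairwise non-specialising points. -/
theorem exists_isBasisOn_nhds_of_finset (M : X.Modules) {r : ℕ} (hM : FlatMod.IsFinLocFreeOfRank r M)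
    {V : X.Opens} (hV : IsAffineOpen V) (Z : Finset X) (hZV : ∀ z ∈ Z, z ∈ V)
    (hinc : ∀ z ∈ Z, ∀ w ∈ Z, z ≠ w → ¬ (w ⤳ z)) :
    ∃ (σ : Fin r → Γ(M, V)) (f : X → Γ(X, V)), ∀ z ∈ Z, z ∈ X.basicOpen (f z) ∧
      IsBasisOn M (X.basicOpen (f z)) (fun j => res M (X.basicOpen_le (f z)) (σ j)) := by
  have hM' : FlatMod.IsFinLocFree M := fun x => by
    obtain ⟨U, hxU, e⟩ := hM x
    exact ⟨U, r, hxU, e⟩
  haveI := isQuasicoherent_of_isFinLocFree M hM'
  haveI := isFiniteType_of_isFinLocFree M hM'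
  have hfree : ∀ x : X, Module.Free (X.presheaf.stalk x) (M.presheaf.stalk x) := by
    intro x
    obtain ⟨U, hxU, ⟨e⟩⟩ := hM x
    obtain ⟨τ, hτ⟩ := exists_isBasisOn_of_iso M U r e
    exact hτ.free_stalk x hxU
  have hrank : ∀ y : X, y ∈ V → Module.finrank (ResidueField (X.presheaf.stalk y))
      (ResidueField (X.presheaf.stalk y) ⊗[X.presheaf.stalk y] M.presheaf.stalk y) = r := by
    intro x _
    obtain ⟨U, hxU, ⟨e⟩⟩ := hM x
    obtain ⟨τ, hτ⟩ := exists_isBasisOn_of_iso M U r e
    exact hτ.finrank_fibre x hxU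
  obtain ⟨σ, hσ⟩ := exists_sections_span_stalks M hV hrank Z hZV hinc
  have hex : ∀ z : X, ∃ f : Γ(X, V), z ∈ Z → (z ∈ X.basicOpen f ∧
      IsBasisOn M (X.basicOpen f) (fun j => res M (X.basicOpen_le f) (σ j))) := by
    intro z
    by_cases hz : z ∈ Z
    · obtain ⟨f, hzf, hf⟩ := exists_isBasisOn_basicOpen_of_span_stalk M hfree hV hrank σ z (hZV z hz)
        (hσ z (hZV z hz) hz)
      exact ⟨f, fun _ => ⟨hzf, hf⟩⟩
    · exact ⟨0, fun h => absurd h hz⟩
  choose f hf using hex
  exact ⟨σ, f, fun z hz => hf z hz⟩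

end Groth.Agent.Lib.Helper29.FreeIso
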