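import Groth.Agent.Lib.Helper28.FinTypeConv
import Groth.Agent.Lib.Helper28.QCohConv

/-!
# Finite presentation dictionary

`SheafOfModules.IsFinitePresentation M` for a module on a scheme  ⇔  `M` quasi-coherent with finitely presented
sections over (all / a cover by) affine opens.
-/

set_option autoImplicit false
universe u
open CategoryTheory CategoryTheory.Limits AlgebraicGeometry Opposite TopologicalSpace
open AlgebraicGeometry.Scheme.Modules

namespace Groth.Agent.Lib.Helper29.FPDict

open Groth.Agent.Lib.Helper28.QCohLoc Groth.Agent.Lib.Helper28.FinType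


section mapFinite
variable {C : Type u} [Category.{u} C] {J : GrothendieckTopology C} {R : Sheaf J RingCat.{u}}
  [HasSheafify J AddCommGrpCat.{u}] [J.WEqualsLocallyBijective AddCommGrpCat.{u}]
variable {C' : Type u} [Category.{u} C'] {J' : GrothendieckTopology C'} {S : Sheaf J' RingCat.{u}}
  [HasSheafify J' AddCommGrpCat.{u}] [J'.WEqualsLocallyBijective AddCommGrpCat.{u}]
variable {M : SheafOfModules.{u} R} (P : SheafOfModules.Presentation M)
  (F : SheafOfModules.{u} R ⥤ SheafOfModules.{u} S) [PreservesColimitsOfSize.{u, u} F]
  (η : SheafOfModules.unit S ≅ F.obj (SheafOfModules.unit R))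

theorem map_isFinite [P.IsFinite] : (P.map F η).IsFinite where
  isFiniteType_generators := ⟨by
    rw [SheafOfModules.Presentation.map_generators_I]
    exact SheafOfModules.GeneratingSections.IsFiniteType.finite⟩
  isFiniteType_relations := ⟨by
    rw [SheafOfModules.Presentation.map_relations_I]
    exact SheafOfModules.GeneratingSections.IsFiniteType.finite⟩
end mapFinite

section affine

variable {R : CommRingCat.{u}}

set_option backward.isDefEq.respectTransparency false in
/-- a module with a presentation on an affine scheme is the tilde of the cokernel of the relation matrix -/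
theorem exists_iso_tilde_cokernel (N : (Spec R).Modules) (P : N.Presentation) :
    ∃ g : ModuleCat.of R (P.relations.I →₀ R) ⟶ ModuleCat.of R (P.generators.I →₀ R),
      Nonempty ((tilde.functor R).obj (cokernel g) ≅ N) := by
  let g := (tilde.functor _).preimage <| (tildeFinsupp _).hom ≫ P.relations.π ≫ kernel.ι _ ≫
    (tildeFinsupp _).inv
  let iso : cokernel ((tilde.functor R).map g) ≅ cokernel (P.relations.π ≫ kernel.ι _) := by
    refine cokernel.mapIso _ _ (tildeFinsupp _) (tildeFinsupp _) ?_
    simp only [g, (tilde.functor R).map_preimage]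
    simp
  exact ⟨g, ⟨PreservesCokernel.iso (tilde.functor R) g ≪≫ iso ≪≫
    IsColimit.coconePointUniqueUpToIso (colimit.isColimit _) P.isColimit⟩⟩

/-- the cokernel of a map between finite free modules is finitely presented -/
theorem fp_cokernel {I J : Type u} [Finite I] [Finite J]
    (g : ModuleCat.of R (J →₀ R) ⟶ ModuleCat.of R (I →₀ R)) :
    Module.FinitePresentation R (cokernel g : ModuleCat.{u} R) := by
  have h1 : Module.FinitePresentation R ((I →₀ R) ⧸ LinearMap.range g.hom) := by
    refine Module.finitePresentation_of_surjective (LinearMap.range g.hom).mkQ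
      (Submodule.mkQ_surjective _) ?_
    rw [Submodule.ker_mkQ, LinearMap.range_eq_map]
    exact Submodule.FG.map _ Module.Finite.fg_top
  exact Module.FinitePresentation.of_equiv (ModuleCat.cokernelIsoRangeQuotient g).symm.toLinearEquiv

/-- the global sections of a module with a finite presentation on an affine scheme are finitely presented -/
theorem fp_Γ_of_presentation (N : (Spec R).Modules) (P : N.Presentation) [P.IsFinite] :
    Module.FinitePresentation R (moduleSpecΓFunctor.obj N) := by
  obtain ⟨g, ⟨e⟩⟩ := exists_iso_tilde_cokernel N P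
  haveI hg : P.generators.IsFiniteType := SheafOfModules.Presentation.IsFinite.isFiniteType_generators
  haveI hr : P.relations.IsFiniteType := SheafOfModules.Presentation.IsFinite.isFiniteType_relations
  haveI : Finite P.generators.I := hg.finite
  haveI : Finite P.relations.I := hr.finite
  haveI := fp_cokernel g
  let e1 : moduleSpecΓFunctor.obj ((tilde.functor R).obj (cokernel g)) ≅ moduleSpecΓFunctor.obj N :=
    moduleSpecΓFunctor.mapIso e
  let e2 : (cokernel g : ModuleCat.{u} R) ≅ moduleSpecΓFunctor.obj ((tilde.functor R).obj (cokernel g)) :=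
    tilde.toTildeΓNatIso.app _
  exact Module.FinitePresentation.of_equiv (e2 ≪≫ e1).toLinearEquiv


set_option backward.isDefEq.respectTransparency.types false in
/-- a quasi-coherent module on an affine scheme with finitely presented global sections has a finite presentation -/
theorem exists_finite_presentation_of_fp (N : (Spec R).Modules) [N.IsQuasicoherent]
    (hfp : Module.FinitePresentation R (moduleSpecΓFunctor.obj N)) :
    ∃ P : N.Presentation, P.IsFinite := by
  haveI hN : IsIso N.fromTildeΓ := inferInstance
  let G : ModuleCat.{u} R := (modulesSpecToSheaf.obj N).presheaf.obj (.op ⊤)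
  have hfpG : Module.FinitePresentation R G := hfp
  have hfinG : Module.Finite R G := inferInstance
  obtain ⟨s, hs⟩ := hfinG.fg_top
  let s' : Set G := ↑s
  haveI : Finite ↥s' := s.finite_toSet
  let K := LinearMap.ker (Finsupp.linearCombination R ((↑) : s' → G))
  have hsurj : Function.Surjective (Finsupp.linearCombination R ((↑) : s' → G)) := by
    rw [← LinearMap.range_eq_top, Finsupp.range_linearCombination]
    simpa using hs
  obtain ⟨t, ht⟩ : K.FG := Module.FinitePresentation.fg_ker _ hsurj
  let P0 : (tilde G).Presentation := presentationTilde.{u} G s' hs ↑t ht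
  haveI : P0.IsFinite :=
    { isFiniteType_generators := ⟨(inferInstance : Finite ↥s')⟩
      isFiniteType_relations := ⟨(t.finite_toSet : Finite ↥(↑t : Set (s' →₀ R)))⟩ }
  letI hN' : @IsIso (SheafOfModules.{u} (Spec R).ringCatSheaf) _ _ _ N.fromTildeΓ := hN
  exact ⟨@SheafOfModules.Presentation.ofIsIso.{u, u, u} _ _ _ _ _ _ _ _ N.fromTildeΓ hN' P0, inferInstance⟩

end affine


variable {X : Scheme.{u}} (M : X.Modules)

/-- the global sections of `M` restricted to `Spec Γ(X, U)` are the sections of `M` over the affine open `U` -/
noncomputable def linearEquivFromSpec {U : X.Opens} (hU : IsAffineOpen U) :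
    (moduleSpecΓFunctor.obj (M.restrict hU.fromSpec)) ≃ₗ[Γ(X, U)] Γ(M, U) :=
  have hle : U ≤ hU.fromSpec ''ᵁ ⊤ := by rw [Scheme.Hom.image_top_eq_opensRange, hU.opensRange_fromSpec]
  have hge : hU.fromSpec ''ᵁ ⊤ ≤ U := image_le hU ⊤
  { toFun := fun y => res M hle (show Γ(M, hU.fromSpec ''ᵁ ⊤) from y)
    map_add' := fun y y' => res_add M hle _ _
    map_smul' := fun a y => by
      have h3 := smul_restrict_eq M hU ⊤ hge a y
      have h4 : resO hle (resO hge a) = a := by
        refine (resO_resO hge hle a).trans ?_
        have : (homOfLE (le_refl U)).op = 𝟙 (op U) := rfl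
        change X.presheaf.map (homOfLE (le_refl U)).op a = a
        rw [this, X.presheaf.map_id]
        rfl
      refine (congrArg (res M hle) h3).trans ((res_smul M hle _ _).trans ?_)
      rw [h4]
      rfl
    invFun := fun x => (show Γ(M.restrict hU.fromSpec, ⊤) from res M hge x)
    left_inv := fun y => by
      change res M hge (res M hle (show Γ(M, hU.fromSpec ''ᵁ ⊤) from y)) = _
      rw [res_res, res_self]
    right_inv := fun x => by
      change res M hle (res M hge x) = x
      rw [res_res, res_self] }


set_option backward.isDefEq.respectTransparency false in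
/-- a finitely presented module has finite presentations over the members of an affine open cover -/
theorem exists_isOpenCover_presentation_finite
    [SheafOfModules.IsFinitePresentation.{u} (R := X.ringCatSheaf) M] :
    ∃ (ι : Type u) (U : ι → X.Opens) (P : ∀ i, (M.restrict (U i).ι).Presentation),
      (∀ i, (P i).IsFinite) ∧ IsOpenCover U ∧ (∀ i, IsAffineOpen (U i)) := by
  obtain ⟨⟨I, W, cov, pres⟩, hfin⟩ := SheafOfModules.IsFinitePresentation.exists_quasicoherentData (M := M)
  choose κ hsub heq using fun i ↦ Opens.isBasis_iff_cover.mp X.isBasis_affineOpens (W i)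
  let u' : ∀ i : (Σ (i : I), κ i), (i.2.1 : Scheme) ⟶ (W i.1 : Scheme) := fun i =>
    X.homOfLE (U := i.2) (V := W i.1) (by simp [heq, le_sSup])
  let F : ∀ i : (Σ (i : I), κ i), SheafOfModules ((X.ringCatSheaf).over (W i.1)) ⥤ (i.2.1 : Scheme).Modules :=
    fun i => (overEquiv (W i.1)).functor ⋙ restrictFunctor (u' i)
  have iso : ∀ i : (Σ (i : I), κ i), SheafOfModules.overFunctor X.ringCatSheaf _ ⋙ F i ≅ restrictFunctor
      (Scheme.Opens.ι i.2.1) := fun i => (Functor.associator _ _ _).symm ≪≫
        Functor.isoWhiskerRight (Scheme.Modules.overFunctorEquiv _) _ ≪≫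
        (restrictFunctorComp _ _).symm ≪≫ (restrictFunctorCongr (by simp [u']))
  have hpres : ∀ i : (Σ (i : I), κ i), PreservesColimitsOfSize.{u, u} (F i) := fun i => by
    have : PreservesColimitsOfSize.{u, u} (restrictFunctor (u' i)) := inferInstance
    infer_instance
  refine ⟨Σ (i : I), κ i, fun j ↦ j.2, fun i ↦ ?_, ?_, ?_, ?_⟩
  · haveI := hpres i
    exact SheafOfModules.Presentation.ofIsIso.{u, u, u} ((iso i).app M).hom <|
      (pres i.1).map (F i) (Scheme.Modules.restrictUnitIso _).symm
  · intro i
    have := hpres i
    have := hfin.isFinite_presentation i.1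
    have := map_isFinite (pres i.1) (F i) (Scheme.Modules.restrictUnitIso _).symm
    infer_instance
  · rw [Opens.coversTop_iff, IsOpenCover] at cov
    rw [IsOpenCover, iSup_sigma, ← cov]
    refine iSup_congr fun i ↦ ?_
    rw [heq i, sSup_eq_iSup']
  · intro j
    exact hsub _ j.2.2


set_option backward.isDefEq.respectTransparency false in
/-- a presentation of the restriction of `M` to an affine open gives a presentation on `Spec` -/
noncomputable def presentationFromSpec {U : X.Opens} (hU : IsAffineOpen U)
    (P : (M.restrict U.ι).Presentation) : (M.restrict hU.fromSpec).Presentation :=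
  SheafOfModules.Presentation.ofIsIso.{u, u, u} ((restrictFunctorComp hU.isoSpec.inv U.ι).app M).inv
    (presentationRestrict hU.isoSpec.inv P)

set_option backward.isDefEq.respectTransparency false in
theorem presentationFromSpec_isFinite {U : X.Opens} (hU : IsAffineOpen U)
    (P : (M.restrict U.ι).Presentation) [P.IsFinite] : (presentationFromSpec M hU P).IsFinite := by
  have : PreservesColimitsOfSize.{u, u} (restrictFunctor hU.isoSpec.inv) := inferInstance
  have := map_isFinite P (restrictFunctor hU.isoSpec.inv) (Scheme.Modules.restrictUnitIso _).symm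
  unfold presentationFromSpec presentationRestrict
  infer_instance

/-- the sections over an affine open of a module whose restriction there has a finite presentation are finitely
presented -/
theorem fp_of_presentation {U : X.Opens} (hU : IsAffineOpen U)
    (P : (M.restrict U.ι).Presentation) [P.IsFinite] : Module.FinitePresentation Γ(X, U) Γ(M, U) := by
  haveI := presentationFromSpec_isFinite M hU P
  haveI : Module.FinitePresentation Γ(X, U) (moduleSpecΓFunctor.obj (M.restrict hU.fromSpec)) :=
    fp_Γ_of_presentation (R := Γ(X, U)) (M.restrict hU.fromSpec) (presentationFromSpec M hU P)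
  exact Module.FinitePresentation.of_equiv (linearEquivFromSpec M hU)

theorem exists_affine_cover_fp [SheafOfModules.IsFinitePresentation.{u} (R := X.ringCatSheaf) M] :
    ∃ (ι : Type u) (U : ι → X.Opens), IsOpenCover U ∧ (∀ i, IsAffineOpen (U i)) ∧
      ∀ i, Module.FinitePresentation Γ(X, U i) Γ(M, U i) := by
  obtain ⟨ι, U, P, hP, hcov, hU⟩ := exists_isOpenCover_presentation_finite M
  refine ⟨ι, U, hcov, hU, fun i => ?_⟩
  haveI := hP i
  exact fp_of_presentation M (hU i) (P i)


section locality

/-- the `Γ(X, U)`-module structure on the sections over a basic open -/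
noncomputable abbrev modBasicOpen {U : X.Opens} (g : Γ(X, U)) : Module Γ(X, U) Γ(M, X.basicOpen g) :=
  Module.compHom _ (algebraMap Γ(X, U) Γ(X, X.basicOpen g))

theorem isScalarTower_basicOpen {U : X.Opens} (g : Γ(X, U)) :
    letI := modBasicOpen M g
    IsScalarTower Γ(X, U) Γ(X, X.basicOpen g) Γ(M, X.basicOpen g) :=
  letI := modBasicOpen M g
  IsScalarTower.of_algebraMap_smul fun _ _ => rfl

/-- restriction to a basic open, as a linear map -/
noncomputable def resLin {U : X.Opens} (g : Γ(X, U)) :
    letI := modBasicOpen M g
    Γ(M, U) →ₗ[Γ(X, U)] Γ(M, X.basicOpen g) :=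
  letI := modBasicOpen M g
  { toFun := res M (X.basicOpen_le g)
    map_add' := res_add M _
    map_smul' := fun a x => res_smul M _ a x }

variable {M}

/-- for a module with the localization property on `U`, restriction to `D(g)` is localization at `g` -/
theorem isLocalizedModule_resLin {U : X.Opens} (h : IsLocOn M U) (g : Γ(X, U)) :
    letI := modBasicOpen M g
    IsLocalizedModule (Submonoid.powers g) (resLin M g) := by
  letI := modBasicOpen M g
  haveI := isScalarTower_basicOpen M g
  have hu : IsUnit (resO (X.basicOpen_le g) g) := RingedSpace.isUnit_res_basicOpen _ g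
  have hsm : ∀ (a : Γ(X, U)) (y : Γ(M, X.basicOpen g)), a • y = resO (X.basicOpen_le g) a • y :=
    fun _ _ => rfl
  refine ⟨?_, ?_, ?_⟩
  · rintro ⟨_, n, rfl⟩
    rw [Module.End.isUnit_iff]
    have hun : IsUnit (resO (X.basicOpen_le g) (g ^ n)) := by
      rw [resO_pow]; exact hu.pow n
    obtain ⟨v, hv⟩ := hun
    constructor
    · intro y y' hyy'
      have h1 : resO (X.basicOpen_le g) (g ^ n) • y = resO (X.basicOpen_le g) (g ^ n) • y' := hyy'
      rw [← hv] at h1
      have h2 := congrArg (fun z => (↑v⁻¹ : Γ(X, X.basicOpen g)) • z) h1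
      simpa [smul_smul] using h2
    · intro y
      refine ⟨(↑v⁻¹ : Γ(X, X.basicOpen g)) • y, ?_⟩
      change resO (X.basicOpen_le g) (g ^ n) • ((↑v⁻¹ : Γ(X, X.basicOpen g)) • y) = y
      rw [← hv, smul_smul, Units.mul_inv, one_smul]
  · intro y
    obtain ⟨n, x, hx⟩ := h.surj g y
    refine ⟨(x, ⟨g ^ n, n, rfl⟩), ?_⟩
    change resO (X.basicOpen_le g) (g ^ n) • y = res M (X.basicOpen_le g) x
    rw [resO_pow]
    exact hx
  · intro x₁ x₂ hx
    have h1 : res M (X.basicOpen_le g) (x₁ - x₂) = 0 := by
      rw [res_sub]
      exact sub_eq_zero.2 hx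
    obtain ⟨n, hn⟩ := h.inj g _ h1
    refine ⟨⟨g ^ n, n, rfl⟩, ?_⟩
    change g ^ n • x₁ = g ^ n • x₂
    rw [smul_sub] at hn
    exact sub_eq_zero.1 hn

end locality


section locality2

variable {M}

/-- finite presentation passes to basic opens -/
theorem fp_basicOpen {U : X.Opens} (hU : IsAffineOpen U) (h : IsLocOn M U) (g : Γ(X, U))
    (hfp : Module.FinitePresentation Γ(X, U) Γ(M, U)) :
    Module.FinitePresentation Γ(X, X.basicOpen g) Γ(M, X.basicOpen g) := by
  letI := modBasicOpen M g
  haveI := isScalarTower_basicOpen M g
  haveI := isLocalizedModule_resLin h g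
  haveI : IsLocalization (Submonoid.powers g) Γ(X, X.basicOpen g) := hU.isLocalization_basicOpen g
  exact FinitePresentation.of_isBaseChange (resLin M g)
    (IsLocalizedModule.isBaseChange (Submonoid.powers g) Γ(X, X.basicOpen g) (resLin M g))

theorem fp_congr {V V' : X.Opens} (e : V = V') (h : Module.FinitePresentation Γ(X, V) Γ(M, V)) :
    Module.FinitePresentation Γ(X, V') Γ(M, V') := by
  subst e; exact h

/-- finite presentation over an affine open is local on the open -/
theorem fp_of_locally {U : X.Opens} (hU : IsAffineOpen U) (h : IsLocOn M U)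
    (hloc : ∀ x : X, x ∈ U → ∃ r : Γ(X, U), x ∈ X.basicOpen r ∧
      Module.FinitePresentation Γ(X, X.basicOpen r) Γ(M, X.basicOpen r)) :
    Module.FinitePresentation Γ(X, U) Γ(M, U) := by
  let S : Set Γ(X, U) := {r | Module.FinitePresentation Γ(X, X.basicOpen r) Γ(M, X.basicOpen r)}
  have hS : Ideal.span S = ⊤ := by
    rw [← hU.self_le_iSup_basicOpen_iff]
    intro x hx
    obtain ⟨r, hxr, hr⟩ := hloc x hx
    exact Opens.mem_iSup.mpr ⟨⟨r, hr⟩, hxr⟩
  letI : ∀ g : S, Module Γ(X, U) Γ(M, X.basicOpen g.1) := fun g => modBasicOpen M g.1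
  haveI : ∀ g : S, IsScalarTower Γ(X, U) Γ(X, X.basicOpen g.1) Γ(M, X.basicOpen g.1) :=
    fun g => isScalarTower_basicOpen M g.1
  haveI : ∀ g : S, IsLocalizedModule (Submonoid.powers g.1) (resLin M g.1) :=
    fun g => isLocalizedModule_resLin h g.1
  haveI : ∀ g : S, IsLocalization.Away g.1 Γ(X, X.basicOpen g.1) :=
    fun g => hU.isLocalization_basicOpen g.1
  exact Module.FinitePresentation.of_localizationSpan' S hS (Rₚ := fun g => Γ(X, X.basicOpen g.1))
    (Mₚ := fun g => Γ(M, X.basicOpen g.1)) (fun g => resLin M g.1) (fun g => g.2)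

variable (M)

set_option backward.isDefEq.respectTransparency.types false in
theorem isQuasicoherent_of_isFinitePresentation
    [SheafOfModules.IsFinitePresentation.{u} (R := X.ringCatSheaf) M] : M.IsQuasicoherent :=
  inferInstance

set_option backward.isDefEq.respectTransparency.types false in
theorem isFiniteType_of_isFinitePresentation
    [SheafOfModules.IsFinitePresentation.{u} (R := X.ringCatSheaf) M] :
    SheafOfModules.IsFiniteType.{u} (R := X.ringCatSheaf) M :=
  inferInstance

/-- **The sections of a finitely presented module over an affine open are finitely presented.** -/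
theorem fp_of_isAffineOpen [SheafOfModules.IsFinitePresentation.{u} (R := X.ringCatSheaf) M]
    {U : X.Opens} (hU : IsAffineOpen U) : Module.FinitePresentation Γ(X, U) Γ(M, U) := by
  haveI := isQuasicoherent_of_isFinitePresentation M
  obtain ⟨ι, W, hcov, hW, hfp⟩ := exists_affine_cover_fp M
  refine fp_of_locally hU (isLocOn_of_isQuasicoherent M hU) ?_
  intro x hx
  have hxW : x ∈ ⨆ i, W i := by rw [hcov.iSup_eq_top]; trivial
  obtain ⟨i, hi⟩ := Opens.mem_iSup.mp hxW
  obtain ⟨f, g, hfg, hxf⟩ := exists_basicOpen_le_affine_inter hU (hW i) x ⟨hx, hi⟩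
  refine ⟨f, hxf, fp_congr hfg.symm ?_⟩
  exact fp_basicOpen (hW i) (isLocOn_of_isQuasicoherent M (hW i)) g (hfp i)

end locality2


section converse

attribute [local instance] map_isFinite in
set_option backward.isDefEq.respectTransparency.types false in
/-- **A quasi-coherent module whose sections over the members of an affine open cover are finitely presented is
of finite presentation.** -/
theorem isFinitePresentation_of_fp_cover [M.IsQuasicoherent] {ι : Type u} (U : ι → X.Opens)
    (hcov : IsOpenCover U) (hU : ∀ i, IsAffineOpen (U i))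
    (hfp : ∀ i, Module.FinitePresentation Γ(X, U i) Γ(M, U i)) :
    SheafOfModules.IsFinitePresentation.{u} (R := X.ringCatSheaf) M := by
  have h1 : ∀ i, ∃ P : (M.restrict (hU i).fromSpec).Presentation, P.IsFinite := fun i => by
    haveI := hfp i
    exact exists_finite_presentation_of_fp (R := Γ(X, U i)) _
      (Module.FinitePresentation.of_equiv (linearEquivFromSpec M (hU i)).symm)
  choose P hP using h1
  let q : SheafOfModules.QuasicoherentData.{u, u, u, u} M :=
    { I := ι
      X := U
      coversTop := by rw [Opens.coversTop_iff]; exact hcov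
      presentation := fun i => presentationOver M (U i) (presentationOfFromSpec M (hU i) (P i)) }
  have hfinP : ∀ i, (presentationOver M (U i) (presentationOfFromSpec M (hU i) (P i))).IsFinite := by
    intro i
    haveI := hP i
    unfold presentationOver presentationOfFromSpec Scheme.Modules.presentationRestrict
    infer_instance
  haveI : q.IsFinitePresentation := { isFinite_presentation := fun i => hfinP i }
  exact { exists_quasicoherentData := ⟨q, inferInstance⟩ }

/-- **Dictionary**: a module on a scheme is of finite presentation iff it is quasi-coherent with finitely presented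
sections over every affine open. -/
theorem isFinitePresentation_iff :
    SheafOfModules.IsFinitePresentation.{u} (R := X.ringCatSheaf) M ↔
      M.IsQuasicoherent ∧ ∀ U : X.Opens, IsAffineOpen U → Module.FinitePresentation Γ(X, U) Γ(M, U) := by
  constructor
  · intro h
    exact ⟨isQuasicoherent_of_isFinitePresentation M, fun U hU => fp_of_isAffineOpen M hU⟩
  · rintro ⟨hq, h⟩
    exact isFinitePresentation_of_fp_cover M (fun V : X.affineOpens => V.1)
      (IsOpenCover.mk (iSup_affineOpens_eq_top X)) (fun V => V.2) (fun V => h V.1 V.2)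

end converse

end Groth.Agent.Lib.Helper29.FPDict
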