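import Mathlib.RingTheory.Ideal.HasGoingUp
import Mathlib.RingTheory.KrullDimension.Basic

/-! Krull dimension is preserved by injective integral extensions. -/

namespace Groth.Agent.Lib.Helper29

variable {A A' : Type*} [CommRing A] [CommRing A'] [Algebra A A'] [Algebra.IsIntegral A A']

lemma comap_strictMono_of_isIntegral :
    StrictMono (PrimeSpectrum.comap (algebraMap A A')) := by
  intro q q' h
  have h' : q.asIdeal < q'.asIdeal := h
  exact Ideal.IsIntegral.comap_lt_comap (R := A) h'

lemma ringKrullDim_le_of_isIntegral : ringKrullDim A' ≤ ringKrullDim A :=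
  Order.krullDim_le_of_strictMono _ (comap_strictMono_of_isIntegral (A := A) (A' := A'))

lemma ringKrullDim_le_of_isIntegral_of_injective
    (hinj : Function.Injective (algebraMap A A')) : ringKrullDim A ≤ ringKrullDim A' := by
  have : FaithfulSMul A A' := (faithfulSMul_iff_algebraMap_injective A A').mpr hinj
  refine iSup_le fun l ↦ ?_
  obtain ⟨⟨P, hP, hlo⟩⟩ := Ideal.nonempty_primesOver (S := A') (RelSeries.head l).asIdeal
  obtain ⟨L, hL, -, -⟩ := Ideal.exists_ltSeries_of_hasGoingUp l P
  rw [← hL]
  exact Order.LTSeries.length_le_krullDim L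

lemma ringKrullDim_eq_of_isIntegral_of_injective
    (hinj : Function.Injective (algebraMap A A')) : ringKrullDim A' = ringKrullDim A :=
  le_antisymm ringKrullDim_le_of_isIntegral (ringKrullDim_le_of_isIntegral_of_injective hinj)

end Groth.Agent.Lib.Helper29
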