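import Groth.Prelude.Def_Hensel
import Mathlib.Dynamics.Newton
import Mathlib.Algebra.Polynomial.Lifts
import Mathlib.RingTheory.Ideal.Quotient.Operations
import Mathlib.RingTheory.LocalRing.RingHom.Basic

set_option autoImplicit false
universe u
open Polynomial IsLocalRing

namespace Groth.Agent.Lib.Helper29

/-- A local ring whose maximal ideal consists of nilpotent elements is henselian. -/
theorem henselian_of_nil (Q : Type u) [CommRing Q] [IsLocalRing Q]
    (h : ∀ x ∈ maximalIdeal Q, IsNilpotent x) : HenselianLocalRing Q where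
  is_henselian f _ a₀ h₁ h₂ := by
    have h1 : IsNilpotent (aeval a₀ f) := by
      rw [coe_aeval_eq_eval]; exact h _ h₁
    have h2 : IsUnit (aeval a₀ (derivative f)) := by
      rw [coe_aeval_eq_eval]; exact h₂
    obtain ⟨r, ⟨hr1, hr2⟩, -⟩ := existsUnique_nilpotent_sub_and_aeval_eq_zero h1 h2
    refine ⟨r, ?_, ?_⟩
    · rw [IsRoot.def, ← coe_aeval_eq_eval]; exact hr2
    · rw [mem_maximalIdeal, mem_nonunits_iff]
      intro hu
      have : IsNilpotent (r - a₀) := by
        rw [← neg_sub, isNilpotent_neg_iff]; exact hr1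
      exact this.not_isUnit hu

/-- A local quotient of a henselian local ring is henselian. -/
theorem henselian_quotient (S : Type u) [CommRing S] [HenselianLocalRing S] (I : Ideal S)
    [IsLocalRing (S ⧸ I)] : HenselianLocalRing (S ⧸ I) where
  is_henselian f hf a₀ h₁ h₂ := by
    haveI : IsLocalHom (Ideal.Quotient.mk I) :=
      IsLocalHom.of_surjective _ Ideal.Quotient.mk_surjective
    obtain ⟨F, rfl, -, hFm⟩ := lifts_and_natDegree_eq_and_monic
      (mem_lifts_of_surjective Ideal.Quotient.mk_surjective f) hf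
    obtain ⟨b₀, rfl⟩ := Ideal.Quotient.mk_surjective a₀
    rw [eval_map_apply] at h₁
    rw [derivative_map, eval_map_apply] at h₂
    have h1 : F.eval b₀ ∈ maximalIdeal S := by
      rw [mem_maximalIdeal, mem_nonunits_iff] at h₁ ⊢
      exact fun hu => h₁ (hu.map _)
    have h2 : IsUnit (F.derivative.eval b₀) := IsLocalHom.map_nonunit _ h₂
    obtain ⟨b, hb, hb'⟩ := HenselianLocalRing.is_henselian F hFm b₀ h1 h2
    refine ⟨Ideal.Quotient.mk I b, ?_, ?_⟩
    · rw [IsRoot.def, eval_map_apply, hb, map_zero]
    · rw [← map_sub, mem_maximalIdeal, mem_nonunits_iff]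
      rw [mem_maximalIdeal, mem_nonunits_iff] at hb'
      exact fun hu => hb' (IsLocalHom.map_nonunit _ hu)

/-- If `R → S` is a henselization and `R ⧸ I` is henselian local, then `R ⧸ I → S ⧸ I S` is bijective. -/
theorem quot_bijective (R : Type u) [CommRing R] [IsLocalRing R] (S : Type u) [CommRing S]
    [IsLocalRing S] [Algebra R S] [IsLocalHom (algebraMap R S)] [Hensel.IsHenselization R S]
    (I : Ideal R) [hQ : HenselianLocalRing (R ⧸ I)] :
    Function.Bijective (Ideal.quotientMap (Ideal.map (algebraMap R S) I) (algebraMap R S)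
      Ideal.le_comap_map) := by
  haveI : HenselianLocalRing S := Hensel.IsHenselization.henselian R
  have hI : I ≤ maximalIdeal R := by
    intro x hx
    rw [mem_maximalIdeal, mem_nonunits_iff]
    intro hu
    have h1 : (Ideal.Quotient.mk I x) = 0 := Ideal.Quotient.eq_zero_iff_mem.2 hx
    have h2 : IsUnit (Ideal.Quotient.mk I x) := hu.map _
    rw [h1] at h2
    exact not_isUnit_zero h2
  have hJ : Ideal.map (algebraMap R S) I ≤ maximalIdeal S :=
    (Ideal.map_mono hI).trans (IsLocalRing.map_maximalIdeal_le (algebraMap R S))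
  haveI : Nontrivial (S ⧸ Ideal.map (algebraMap R S) I) :=
    Ideal.Quotient.nontrivial_iff.2 (fun h => by
      have : (1 : S) ∈ maximalIdeal S := hJ (h ▸ Submodule.mem_top)
      exact (Ideal.ne_top_iff_one _).1 (maximalIdeal.isMaximal S).ne_top this)
  haveI : IsLocalRing (S ⧸ Ideal.map (algebraMap R S) I) :=
    IsLocalRing.of_surjective' (Ideal.Quotient.mk _) Ideal.Quotient.mk_surjective
  haveI : HenselianLocalRing (S ⧸ Ideal.map (algebraMap R S) I) := henselian_quotient S _
  haveI : IsLocalHom (Ideal.Quotient.mk I) :=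
    IsLocalHom.of_surjective _ Ideal.Quotient.mk_surjective
  haveI : IsLocalHom (Ideal.Quotient.mk (Ideal.map (algebraMap R S) I)) :=
    IsLocalHom.of_surjective _ Ideal.Quotient.mk_surjective
  set φ := Ideal.quotientMap (Ideal.map (algebraMap R S) I) (algebraMap R S) Ideal.le_comap_map
    with hφ
  obtain ⟨g, hg, -⟩ := Hensel.IsHenselization.universal (R := R) (S := S) (R ⧸ I)
    (Ideal.Quotient.mk I) inferInstance
  have hgJ : ∀ s ∈ Ideal.map (algebraMap R S) I, g s = 0 := by
    have : Ideal.map (algebraMap R S) I ≤ RingHom.ker g := by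
      rw [Ideal.map_le_iff_le_comap]
      intro y hy
      rw [Ideal.mem_comap, RingHom.mem_ker]
      have := congrArg (fun h : R →+* R ⧸ I => h y) hg
      simp only [RingHom.comp_apply] at this
      rw [this]
      exact Ideal.Quotient.eq_zero_iff_mem.2 hy
    exact fun s hs => this hs
  constructor
  · rw [injective_iff_map_eq_zero]
    intro x hx
    obtain ⟨r, rfl⟩ := Ideal.Quotient.mk_surjective x
    rw [hφ, Ideal.quotientMap_mk, Ideal.Quotient.eq_zero_iff_mem] at hx
    have h1 := hgJ _ hx
    have h2 := congrArg (fun h : R →+* R ⧸ I => h r) hg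
    simp only [RingHom.comp_apply] at h2
    rw [← h2, h1]
  · have hloc : IsLocalHom ((Ideal.Quotient.mk (Ideal.map (algebraMap R S) I)).comp
        (algebraMap R S)) := RingHom.isLocalHom_comp _ _
    obtain ⟨g', -, huniq⟩ := Hensel.IsHenselization.universal (R := R) (S := S)
      (S ⧸ Ideal.map (algebraMap R S) I)
      ((Ideal.Quotient.mk (Ideal.map (algebraMap R S) I)).comp (algebraMap R S)) hloc
    have e1 : Ideal.Quotient.mk (Ideal.map (algebraMap R S) I) = g' := huniq _ rfl
    have e2 : φ.comp g = g' := by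
      apply huniq
      rw [RingHom.comp_assoc, hg]
      ext r
      simp [hφ]
    intro y
    obtain ⟨s, rfl⟩ := Ideal.Quotient.mk_surjective y
    refine ⟨g s, ?_⟩
    have := congrArg (fun h : S →+* S ⧸ Ideal.map (algebraMap R S) I => h s) (e2.trans e1.symm)
    simpa using this

end Groth.Agent.Lib.Helper29
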