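import Mathlib

/-!
# Affine dictionary for ideal sheaves (helper29)

Points of an affine open `U` of a scheme `X` are `U.2.fromSpec y` for primes `y` of `Γ(X, U)`.
We translate: membership in the support of an ideal sheaf, specialisation, Krull dimension of the
stalk.  Then Krull's principal ideal theorem at generic points of locally principal subschemes.
-/

set_option autoImplicit false
universe u
open CategoryTheory AlgebraicGeometry

namespace Groth.Agent.Lib.Helper29.EffCart

variable {X : Scheme.{u}}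

lemma fromSpec_mem (U : X.affineOpens) (y : PrimeSpectrum Γ(X, U.1)) :
    U.2.fromSpec y ∈ U.1 := by
  have : U.2.fromSpec y ∈ Set.range U.2.fromSpec := ⟨y, rfl⟩
  rw [U.2.range_fromSpec] at this
  exact this

lemma exists_fromSpec_eq (U : X.affineOpens) {x : X} (hx : x ∈ U.1) :
    ∃ y : PrimeSpectrum Γ(X, U.1), U.2.fromSpec y = x := by
  have : x ∈ Set.range U.2.fromSpec := by rw [U.2.range_fromSpec]; exact hx
  exact this

lemma fromSpec_mem_support_iff (D : X.IdealSheafData) (U : X.affineOpens)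
    (y : PrimeSpectrum Γ(X, U.1)) :
    U.2.fromSpec y ∈ D.support ↔ D.ideal U ≤ y.asIdeal := by
  rw [Scheme.IdealSheafData.mem_support_iff_of_mem (fromSpec_mem U y)]
  have h := U.2.fromSpec_preimage_zeroLocus (D.ideal U : Set Γ(X, U.1))
  have : U.2.fromSpec y ∈ X.zeroLocus (U := U.1) (D.ideal U : Set Γ(X, U.1)) ↔
      y ∈ PrimeSpectrum.zeroLocus (D.ideal U : Set Γ(X, U.1)) := by
    rw [← h]; rfl
  rw [this, PrimeSpectrum.mem_zeroLocus]
  rfl

lemma fromSpec_specializes_iff (U : X.affineOpens) (y z : PrimeSpectrum Γ(X, U.1)) :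
    U.2.fromSpec y ⤳ U.2.fromSpec z ↔ y ≤ z := by
  rw [PrimeSpectrum.le_iff_specializes]
  exact U.2.fromSpec.isOpenEmbedding.isInducing.specializes_iff

lemma fromSpec_injective (U : X.affineOpens) : Function.Injective U.2.fromSpec :=
  U.2.fromSpec.isOpenEmbedding.injective

/-- A generisation of a point of an open set lies in the open set. -/
lemma mem_of_specializes {U : X.Opens} {y x : X} (h : y ⤳ x) (hx : x ∈ U) : y ∈ U :=
  h.mem_open U.2 hx

lemma ringKrullDim_stalk_fromSpec (U : X.affineOpens) (y : PrimeSpectrum Γ(X, U.1)) :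
    ringKrullDim (X.presheaf.stalk (U.2.fromSpec y)) = y.asIdeal.height := by
  have h := U.2.isLocalization_stalk' y (fromSpec_mem U y)
  exact @IsLocalization.AtPrime.ringKrullDim_eq_height _ _ y.asIdeal _ _ _
    (TopCat.Presheaf.algebra_section_stalk X.presheaf ⟨U.2.fromSpec y, fromSpec_mem U y⟩) h

/-- If `ξ = fromSpec p` lies in the support of `D` and is maximal there under generisation, then
`p` is a minimal prime over `D.ideal U`. -/
lemma mem_minimalPrimes_of_generic (D : X.IdealSheafData) (U : X.affineOpens)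
    (p : PrimeSpectrum Γ(X, U.1)) (hξ : U.2.fromSpec p ∈ D.support)
    (hgen : ∀ y ∈ (D.support : Set X), y ⤳ U.2.fromSpec p → y = U.2.fromSpec p) :
    p.asIdeal ∈ (D.ideal U).minimalPrimes := by
  refine ⟨⟨p.2, (fromSpec_mem_support_iff D U p).1 hξ⟩, ?_⟩
  rintro q ⟨hq, hle⟩ hqp
  have h1 : U.2.fromSpec ⟨q, hq⟩ ∈ D.support := (fromSpec_mem_support_iff D U ⟨q, hq⟩).2 hle
  have h2 : U.2.fromSpec ⟨q, hq⟩ ⤳ U.2.fromSpec p := (fromSpec_specializes_iff U _ _).2 hqp
  have h3 := fromSpec_injective U (hgen _ h1 h2)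
  rw [← h3]

/-- Krull's Hauptidealsatz at a point `ξ ∈ U` of the support of `D`, maximal under generisation, when
`D.ideal U` is principal. -/
theorem ringKrullDim_stalk_le_one_of_principal [IsLocallyNoetherian X] (D : X.IdealSheafData)
    (U : X.affineOpens) (f : Γ(X, U.1)) (hf : D.ideal U = Ideal.span {f}) (ξ : X) (hξU : ξ ∈ U.1)
    (hξ : ξ ∈ (D.support : Set X)) (hgen : ∀ y ∈ (D.support : Set X), y ⤳ ξ → y = ξ) :
    ringKrullDim (X.presheaf.stalk ξ) ≤ 1 := by
  obtain ⟨p, rfl⟩ := exists_fromSpec_eq U hξU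
  have : IsNoetherianRing Γ(X, U.1) := IsLocallyNoetherian.component_noetherian U
  have hmin := mem_minimalPrimes_of_generic D U p hξ hgen
  rw [ringKrullDim_stalk_fromSpec]
  rw [hf] at hmin
  have : (Ideal.span {f}).IsPrincipal := ⟨⟨f, rfl⟩⟩
  have := Ideal.height_le_one_of_isPrincipal_of_mem_minimalPrimes _ _ hmin
  exact_mod_cast this

/-- If moreover `f` is a nonzerodivisor, the dimension is exactly one. -/
theorem ringKrullDim_stalk_eq_one_of_principal_nzd [IsLocallyNoetherian X] (D : X.IdealSheafData)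
    (U : X.affineOpens) (f : Γ(X, U.1)) (hfnzd : f ∈ nonZeroDivisors Γ(X, U.1))
    (hf : D.ideal U = Ideal.span {f}) (ξ : X) (hξU : ξ ∈ U.1)
    (hξ : ξ ∈ (D.support : Set X)) (hgen : ∀ y ∈ (D.support : Set X), y ⤳ ξ → y = ξ) :
    ringKrullDim (X.presheaf.stalk ξ) = 1 := by
  refine le_antisymm (ringKrullDim_stalk_le_one_of_principal D U f hf ξ hξU hξ hgen) ?_
  obtain ⟨p, rfl⟩ := exists_fromSpec_eq U hξU
  rw [ringKrullDim_stalk_fromSpec]
  have hfp : f ∈ p.asIdeal := by
    have := (fromSpec_mem_support_iff D U p).1 hξ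
    rw [hf] at this
    exact this (Ideal.subset_span rfl)
  have hne : p.asIdeal.height ≠ 0 := by
    intro h0
    rw [Ideal.height_eq_zero_iff] at h0
    exact Set.disjoint_left.mp (Ideal.disjoint_nonZeroDivisors_of_mem_minimalPrimes h0) hfp hfnzd
  have : (1 : ℕ∞) ≤ p.asIdeal.height := Order.one_le_iff_pos.2 (pos_iff_ne_zero.2 hne)
  exact_mod_cast this

end Groth.Agent.Lib.Helper29.EffCart
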