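import Mathlib

/-!
# Descending a finitely presented module along a ring map through which its relations lift

`isBaseChange_quotient_span`: if the generators of `K ⊆ Bⁿ` lift to `B₀ⁿ`, then `Bⁿ/K` is the base change of
`B₀ⁿ/K₀`, `K₀` the span of the lifts.
-/

set_option autoImplicit false
universe u

namespace Groth.Agent.Lib.Helper29.FPModel

open TensorProduct

variable {B₀ B : Type u} [CommRing B₀] [CommRing B] [Algebra B₀ B]

/-- coordinatewise application of the structure map -/
def mapVec (n : ℕ) : (Fin n → B₀) →ₗ[B₀] (Fin n → B) :=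
  LinearMap.pi fun i => (Algebra.linearMap B₀ B).comp (LinearMap.proj i)

@[simp] theorem mapVec_apply (n : ℕ) (w : Fin n → B₀) (i : Fin n) : mapVec (B := B) n w i = algebraMap B₀ B (w i) := rfl

theorem sum_smul_single {R : Type*} [CommRing R] (n : ℕ) (w : Fin n → R) :
    ∑ i, w i • (Pi.single i (1 : R) : Fin n → R) = w := by
  ext j
  simp [Finset.sum_apply, Pi.single_apply]

/-- the comparison map `B₀ⁿ/K₀ → Bⁿ/K` -/
def quotMap (n : ℕ) {κ : Type*} (v₀ : κ → (Fin n → B₀)) :
    ((Fin n → B₀) ⧸ Submodule.span B₀ (Set.range v₀)) →ₗ[B₀]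
      ((Fin n → B) ⧸ Submodule.span B (Set.range fun j => mapVec (B := B) n (v₀ j))) :=
  Submodule.liftQ _ (((Submodule.span B (Set.range fun j => mapVec (B := B) n (v₀ j))).mkQ.restrictScalars B₀).comp
    (mapVec n)) (by
    rw [Submodule.span_le]
    rintro _ ⟨j, rfl⟩
    change (Submodule.span B (Set.range fun j => mapVec (B := B) n (v₀ j))).mkQ (mapVec n (v₀ j)) = 0
    rw [Submodule.mkQ_apply, Submodule.Quotient.mk_eq_zero]
    exact Submodule.subset_span ⟨j, rfl⟩)

theorem quotMap_mk (n : ℕ) {κ : Type*} (v₀ : κ → (Fin n → B₀)) (w : Fin n → B₀) :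
    quotMap (B := B) n v₀ (Submodule.Quotient.mk w) = Submodule.Quotient.mk (mapVec n w) := rfl

theorem isBaseChange_quotMap (n : ℕ) {κ : Type*} (v₀ : κ → (Fin n → B₀)) :
    IsBaseChange B (quotMap (B := B) n v₀) := by
  apply IsBaseChange.of_lift_unique
  intro Q _ _ _ _ g
  letI : AddCommGroup Q := Module.addCommMonoidToAddCommGroup B
  -- the map on `Bⁿ`
  let G : (Fin n → B) →ₗ[B] Q :=
    Fintype.linearCombination B (fun i => g (Submodule.Quotient.mk (Pi.single i (1 : B₀))))
  have hG : ∀ w : Fin n → B₀, G (mapVec n w) = g (Submodule.Quotient.mk w) := by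
    intro w
    have h1 : G (mapVec n w) = ∑ i, (algebraMap B₀ B (w i)) • g (Submodule.Quotient.mk (Pi.single i (1 : B₀))) := by
      simp [G, Fintype.linearCombination_apply]
    rw [h1]
    have h2 : ∀ i, (algebraMap B₀ B (w i)) • g (Submodule.Quotient.mk (Pi.single i (1 : B₀))) =
        g (Submodule.Quotient.mk (w i • (Pi.single i (1 : B₀) : Fin n → B₀))) := by
      intro i
      rw [algebraMap_smul, Submodule.Quotient.mk_smul, map_smul]
    rw [Finset.sum_congr rfl fun i _ => h2 i]
    have h3 := map_sum (g.comp (Submodule.mkQ (Submodule.span B₀ (Set.range v₀))))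
      (fun i => w i • (Pi.single i (1 : B₀) : Fin n → B₀)) Finset.univ
    rw [sum_smul_single] at h3
    exact h3.symm
  have hK : Submodule.span B (Set.range fun j => mapVec (B := B) n (v₀ j)) ≤ LinearMap.ker G := by
    rw [Submodule.span_le]
    rintro _ ⟨j, rfl⟩
    change G (mapVec n (v₀ j)) = 0
    rw [hG]
    have : (Submodule.Quotient.mk (v₀ j) : (Fin n → B₀) ⧸ Submodule.span B₀ (Set.range v₀)) = 0 :=
      (Submodule.Quotient.mk_eq_zero _).2 (Submodule.subset_span ⟨j, rfl⟩)
    rw [this, map_zero]
  refine ⟨Submodule.liftQ _ G hK, ?_, ?_⟩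
  · refine LinearMap.ext fun x => ?_
    obtain ⟨w, rfl⟩ := Submodule.Quotient.mk_surjective _ x
    change Submodule.liftQ _ G hK (quotMap (B := B) n v₀ (Submodule.Quotient.mk w)) = _
    rw [quotMap_mk, Submodule.liftQ_apply, hG]
  · intro g'' hg''
    apply Submodule.linearMap_qext
    apply LinearMap.pi_ext
    intro i b
    have hb : (Pi.single i b : Fin n → B) = b • mapVec n (Pi.single i (1 : B₀)) := by
      ext j
      by_cases hij : j = i
      · subst hij
        simp
      · simp [hij]
    simp only [LinearMap.comp_apply, Submodule.mkQ_apply]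
    rw [hb, Submodule.Quotient.mk_smul, map_smul, map_smul, Submodule.liftQ_apply, hG]
    have := congrArg (fun l => l (Submodule.Quotient.mk (Pi.single i (1 : B₀)))) hg''
    simp only [LinearMap.comp_apply, LinearMap.restrictScalars_apply, quotMap_mk] at this
    rw [this]

end Groth.Agent.Lib.Helper29.FPModel
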