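import Groth.Agent.Lib.Helper29.EffCart
import Groth.Prelude.Def_BlowUp2
set_option autoImplicit false
universe u
open CategoryTheory AlgebraicGeometry TopologicalSpace

namespace Groth.Agent.Lib.Helper29.EffCart
variable {X : Scheme.{u}}

/-- On an affine open where the ideal is generated by `f`, the complement of the support is the
basic open of `f`. -/
lemma compl_support_inf_eq_basicOpen (D : X.IdealSheafData) (V : X.affineOpens) (g : Γ(X, V.1))
    (hg : D.ideal V = Ideal.span {g}) : D.support.compl ⊓ V.1 = X.basicOpen g := by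
  ext y
  constructor
  · rintro ⟨hyU, hyV⟩
    have h1 : ¬ y ∈ D.support := hyU
    rw [Scheme.IdealSheafData.mem_support_iff_of_mem (U := V) hyV, hg, Scheme.zeroLocus_span,
      Scheme.zeroLocus_singleton] at h1
    simpa using h1
  · intro hy
    have hyV : y ∈ V.1 := X.basicOpen_le g hy
    refine ⟨?_, hyV⟩
    change ¬ y ∈ D.support
    rw [Scheme.IdealSheafData.mem_support_iff_of_mem (U := V) hyV, hg, Scheme.zeroLocus_span,
      Scheme.zeroLocus_singleton]
    simpa using hy

theorem ker_ι_compl_support_eq_bot (D : X.IdealSheafData) (hD : BlowUp.IsEffCartierIdeal D) :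
    (Scheme.Opens.ι (X := X) D.support.compl).ker = ⊥ := by
  set U : X.Opens := D.support.compl with hU
  rw [eq_bot_iff]
  choose W hxW f hfnzd hf using hD
  refine Scheme.IdealSheafData.le_of_iSup_eq_top W ?_ ?_
  · rw [eq_top_iff]
    intro x _
    exact Opens.mem_iSup.2 ⟨x, hxW x⟩
  · intro x s hs
    have hs' : s ∈ RingHom.ker ((U.ι).app (W x).1).hom :=
      Scheme.Hom.ideal_ker_le _ _ hs
    rw [RingHom.mem_ker] at hs'
    have hleU : X.basicOpen (f x) ≤ U.ι.opensRange := by
      rw [Scheme.Opens.opensRange_ι, ← compl_support_inf_eq_basicOpen D (W x) (f x) (hf x)]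
      exact inf_le_left
    have : IsIso (U.ι.app (X.basicOpen (f x))) := U.ι.isIso_app _ hleU
    have h0 : s |_ (X.basicOpen (f x)) = 0 := by
      have hinj : Function.Injective (U.ι.app (X.basicOpen (f x))).hom :=
        ((ConcreteCategory.isIso_iff_bijective _).1 inferInstance).1
      apply hinj
      rw [map_zero]
      change (X.presheaf.map (homOfLE (X.basicOpen_le (f x))).op ≫
        U.ι.app (X.basicOpen (f x))).hom s = 0
      rw [U.ι.naturality, CommRingCat.comp_apply, hs', map_zero]
    obtain ⟨n, hn⟩ := exists_pow_mul_eq_zero_of_res_basicOpen_eq_zero_of_isAffineOpen X (W x).2 s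
      (f x) h0
    have : s = 0 := by
      have hnzd : (f x) ^ n ∈ nonZeroDivisors Γ(X, (W x).1) := pow_mem (hfnzd x) n
      exact (mul_left_mem_nonZeroDivisors_eq_zero_iff hnzd).1 (by rwa [mul_comm] at hn) |>.symm ▸ rfl
    rw [this]
    exact Ideal.zero_mem _

end Groth.Agent.Lib.Helper29.EffCart
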