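import Groth.Agent.Lib.Helper29.BlowUpUP3
import Groth.Agent.Lib.Helper29.EffCart2
import Groth.Agent.S8853

set_option autoImplicit false
universe u
open CategoryTheory CategoryTheory.Limits AlgebraicGeometry Opposite TopologicalSpace

namespace Groth.Agent.Lib.Helper29.EffCart

variable {X X' : Scheme.{u}}

lemma le_ker_iff_comap_eq_bot {Y : Scheme.{u}} (f : Y ⟶ X) (𝓚 : X.IdealSheafData) :
    𝓚 ≤ f.ker ↔ 𝓚.comap f = ⊥ := by
  rw [← Scheme.IdealSheafData.map_bot, Scheme.IdealSheafData.le_map_iff_comap_le, le_bot_iff]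

lemma comap_subschemeι_self (𝓙 : X.IdealSheafData) : 𝓙.comap 𝓙.subschemeι = ⊥ := by
  rw [← le_ker_iff_comap_eq_bot, Scheme.IdealSheafData.ker_subschemeι]

lemma isAffineHom_ι_compl_support (D : X.IdealSheafData) (hD : BlowUp.IsEffCartierIdeal D) :
    IsAffineHom (Scheme.Opens.ι (X := X) D.support.compl) := by
  refine Groth.Agent.S8853.result D ?_
  intro x _
  obtain ⟨U, hxU, f, -, hf⟩ := hD x
  exact ⟨U, hxU, f, hf⟩

section

variable (𝓘 𝓙 : X.IdealSheafData) (b : X' ⟶ X)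

/-- The locally closed subscheme `b⁻¹(Z ∖ V(𝓘))` of `X'`, mapped to `X'`. -/
noncomputable def stj :
    pullback (Scheme.Opens.ι (X := X') (𝓘.comap b).support.compl ≫ b) 𝓙.subschemeι ⟶ X' :=
  pullback.fst _ _ ≫ Scheme.Opens.ι (X := X') (𝓘.comap b).support.compl

/-- The ideal of the strict transform of `V(𝓙)` under the blow-up `b` of `𝓘`. -/
noncomputable def stIdeal : X'.IdealSheafData := (stj 𝓘 𝓙 b).ker

lemma stj_comp : stj 𝓘 𝓙 b ≫ b = pullback.snd _ _ ≫ 𝓙.subschemeι := by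
  rw [stj, Category.assoc, pullback.condition]

/-- the strict transform maps into `V(𝓙)` -/
lemma le_ker_stIdeal_subschemeι_comp : 𝓙 ≤ ((stIdeal 𝓘 𝓙 b).subschemeι ≫ b).ker := by
  rw [Scheme.Hom.ker_comp, Scheme.IdealSheafData.ker_subschemeι,
    Scheme.IdealSheafData.le_map_iff_comap_le, stIdeal, le_ker_iff_comap_eq_bot,
    ← Scheme.IdealSheafData.comap_comp, stj_comp, Scheme.IdealSheafData.comap_comp,
    comap_subschemeι_self, Scheme.IdealSheafData.comap_bot]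

/-- The strict transform as a scheme over `V(𝓙)`. -/
noncomputable def stMap : (stIdeal 𝓘 𝓙 b).subscheme ⟶ 𝓙.subscheme :=
  IsClosedImmersion.lift 𝓙.subschemeι ((stIdeal 𝓘 𝓙 b).subschemeι ≫ b)
    (by rw [Scheme.IdealSheafData.ker_subschemeι]; exact le_ker_stIdeal_subschemeι_comp 𝓘 𝓙 b)

lemma stMap_comp : stMap 𝓘 𝓙 b ≫ 𝓙.subschemeι = (stIdeal 𝓘 𝓙 b).subschemeι ≫ b :=
  IsClosedImmersion.lift_fac _ _ _

end

section

variable (𝓘 𝓙 : X.IdealSheafData) (b : X' ⟶ X)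

lemma stj_mem_compl_support (y) : stj 𝓘 𝓙 b y ∈ (𝓘.comap b).support.compl := by
  rw [stj, Scheme.Hom.comp_apply]
  exact (pullback.fst (Scheme.Opens.ι (X := X') (𝓘.comap b).support.compl ≫ b) 𝓙.subschemeι y).2

/-- The exceptional ideal restricted to the strict transform is effective Cartier. -/
theorem isEffCartierIdeal_comap_stIdeal (hE : BlowUp.IsEffCartierIdeal (𝓘.comap b)) :
    BlowUp.IsEffCartierIdeal ((𝓘.comap b).comap (stIdeal 𝓘 𝓙 b).subschemeι) := by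
  have haffι := isAffineHom_ι_compl_support (𝓘.comap b) hE
  have hqc : QuasiCompact (stj 𝓘 𝓙 b) := by unfold stj; infer_instance
  intro z
  obtain ⟨V', hzV', e, he, hEV⟩ := hE ((stIdeal 𝓘 𝓙 b).subschemeι z)
  have haff : IsAffineOpen ((stIdeal 𝓘 𝓙 b).subschemeι ⁻¹ᵁ V'.1) :=
    V'.2.preimage (stIdeal 𝓘 𝓙 b).subschemeι
  have hkerI : RingHom.ker ((stIdeal 𝓘 𝓙 b).subschemeι.app V'.1).hom =
      RingHom.ker ((stj 𝓘 𝓙 b).app V'.1).hom := by
    rw [(stIdeal 𝓘 𝓙 b).ker_subschemeι_app V', stIdeal, Scheme.Hom.ker_apply]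
  refine ⟨⟨_, haff⟩, hzV', ((stIdeal 𝓘 𝓙 b).subschemeι.app V'.1).hom e, ?_, ?_⟩
  · rw [mem_nonZeroDivisors_iff_right]
    intro y hy
    obtain ⟨s, rfl⟩ := (stIdeal 𝓘 𝓙 b).subschemeι_app_surjective V' y
    have h1 : s * e ∈ RingHom.ker ((stj 𝓘 𝓙 b).app V'.1).hom := by
      rw [← hkerI, RingHom.mem_ker, map_mul]
      exact hy
    have hu : IsUnit (((stj 𝓘 𝓙 b).app V'.1).hom e) := by
      refine RingedSpace.isUnit_of_isUnit_germ _ _ _ fun y hy => ?_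
      have hmem : y ∈ (stj 𝓘 𝓙 b) ⁻¹ᵁ X'.basicOpen e := by
        change stj 𝓘 𝓙 b y ∈ X'.basicOpen e
        rw [← compl_support_inf_eq_basicOpen (𝓘.comap b) V' e hEV]
        exact ⟨stj_mem_compl_support 𝓘 𝓙 b y, hy⟩
      rw [Scheme.preimage_basicOpen] at hmem
      exact (Scheme.mem_basicOpen _ _ _ hy).1 hmem
    have h2 : ((stj 𝓘 𝓙 b).app V'.1).hom s = 0 := by
      rw [RingHom.mem_ker, map_mul] at h1
      exact (hu.mul_left_eq_zero).1 h1
    have h3 : s ∈ RingHom.ker ((stIdeal 𝓘 𝓙 b).subschemeι.app V'.1).hom := by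
      rw [hkerI]; exact h2
    exact h3
  · rw [ideal_comap_eq_map (𝓘.comap b) (stIdeal 𝓘 𝓙 b).subschemeι V' ⟨_, haff⟩ le_rfl, hEV,
      Ideal.map_span, Set.image_singleton, Scheme.Hom.appLE_eq_app]

end

section

variable (𝓘 𝓙 : X.IdealSheafData) (b : X' ⟶ X)

lemma comap_stj_stIdeal : (stIdeal 𝓘 𝓙 b).comap (stj 𝓘 𝓙 b) = ⊥ := by
  rw [← le_ker_iff_comap_eq_bot, stIdeal]

/-- A morphism to `X'` lifting a morphism `t` to `V(𝓙)`, with effective Cartier inverse image of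
`𝓘`, factors through the strict transform. -/
lemma stIdeal_le_ker_of_lift {T : Scheme.{u}} (t : T ⟶ 𝓙.subscheme) (m : T ⟶ X')
    (hm : m ≫ b = t ≫ 𝓙.subschemeι)
    (hT : BlowUp.IsEffCartierIdeal (𝓘.comap (t ≫ 𝓙.subschemeι))) :
    stIdeal 𝓘 𝓙 b ≤ m.ker := by
  rw [le_ker_iff_comap_eq_bot]
  set T₀ : T.Opens := (𝓘.comap (t ≫ 𝓙.subschemeι)).support.compl with hT₀
  have hdense : T₀.ι.ker = ⊥ := ker_ι_compl_support_eq_bot _ hT
  -- the dense open maps into the locally closed piece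
  have hrange : Set.range (T₀.ι ≫ m) ⊆
      Set.range (Scheme.Opens.ι (X := X') (𝓘.comap b).support.compl) := by
    rintro _ ⟨x, rfl⟩
    rw [Scheme.Opens.range_ι]
    change (T₀.ι ≫ m) x ∉ (𝓘.comap b).support
    rw [Scheme.IdealSheafData.support_comap]
    change b ((T₀.ι ≫ m) x) ∉ 𝓘.support
    rw [← Scheme.Hom.comp_apply, Category.assoc, hm]
    have hx : T₀.ι x ∉ (𝓘.comap (t ≫ 𝓙.subschemeι)).support := x.2
    rw [Scheme.IdealSheafData.support_comap] at hx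
    exact hx
  let q₁ := IsOpenImmersion.lift (Scheme.Opens.ι (X := X') (𝓘.comap b).support.compl)
    (T₀.ι ≫ m) hrange
  have hq₁ : q₁ ≫ Scheme.Opens.ι (X := X') (𝓘.comap b).support.compl = T₀.ι ≫ m :=
    IsOpenImmersion.lift_fac _ _ _
  let q : (T₀ : Scheme) ⟶ pullback (Scheme.Opens.ι (X := X') (𝓘.comap b).support.compl ≫ b)
      𝓙.subschemeι :=
    pullback.lift q₁ (T₀.ι ≫ t) (by rw [← Category.assoc, hq₁, Category.assoc, hm, Category.assoc])
  have hq : q ≫ stj 𝓘 𝓙 b = T₀.ι ≫ m := by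
    rw [stj, ← Category.assoc, pullback.lift_fst, hq₁]
  have h1 : ((stIdeal 𝓘 𝓙 b).comap m).comap T₀.ι = ⊥ := by
    rw [← Scheme.IdealSheafData.comap_comp, ← hq, Scheme.IdealSheafData.comap_comp,
      comap_stj_stIdeal, Scheme.IdealSheafData.comap_bot]
  have h2 : (stIdeal 𝓘 𝓙 b).comap m ≤ T₀.ι.ker := by
    rw [le_ker_iff_comap_eq_bot]; exact h1
  rw [hdense] at h2
  exact le_bot_iff.1 h2

/-- The strict transform of `V(𝓙)` under a blow-up of `𝓘` is a blow-up of `V(𝓙)` in the inverse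
image of `𝓘`. -/
theorem isBlowUp_stMap (hb : BlowUp.IsBlowUp b 𝓘) :
    BlowUp.IsBlowUp (stMap 𝓘 𝓙 b) (𝓘.comap 𝓙.subschemeι) := by
  refine ⟨?_, ?_⟩
  · rw [← Scheme.IdealSheafData.comap_comp, stMap_comp, Scheme.IdealSheafData.comap_comp]
    exact isEffCartierIdeal_comap_stIdeal 𝓘 𝓙 b hb.1
  · intro T t hT
    rw [← Scheme.IdealSheafData.comap_comp] at hT
    obtain ⟨m, hm, hmu⟩ := hb.2 T (t ≫ 𝓙.subschemeι) hT
    have hle := stIdeal_le_ker_of_lift 𝓘 𝓙 b t m hm hT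
    let n : T ⟶ (stIdeal 𝓘 𝓙 b).subscheme :=
      IsClosedImmersion.lift (stIdeal 𝓘 𝓙 b).subschemeι m
        (by rw [Scheme.IdealSheafData.ker_subschemeι]; exact hle)
    have hn : n ≫ (stIdeal 𝓘 𝓙 b).subschemeι = m := IsClosedImmersion.lift_fac _ _ _
    refine ⟨n, ?_, ?_⟩
    · change n ≫ stMap 𝓘 𝓙 b = t
      rw [← cancel_mono 𝓙.subschemeι, Category.assoc, stMap_comp, ← Category.assoc, hn, hm]
    · intro n' hn'
      rw [← cancel_mono (stIdeal 𝓘 𝓙 b).subschemeι, hn]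
      apply hmu
      change (n' ≫ (stIdeal 𝓘 𝓙 b).subschemeι) ≫ b = t ≫ 𝓙.subschemeι
      rw [Category.assoc, ← stMap_comp, ← Category.assoc]
      exact congrArg (· ≫ 𝓙.subschemeι) hn'

end

end Groth.Agent.Lib.Helper29.EffCart
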