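import Mathlib
set_option autoImplicit false

namespace Groth.Agent.Lib.Helper29.EffCart

section Spread
variable {A : Type*} [CommRing A]

lemma exists_common_mul_mem (p : Ideal A) [p.IsPrime] (K J : Ideal A) (hK : K.FG)
    (h : ∀ b ∈ K, ∃ r ∉ p, r * b ∈ J) : ∃ t ∉ p, ∀ b ∈ K, t * b ∈ J := by
  classical
  obtain ⟨s, rfl⟩ := hK
  choose! r hr hrb using fun b (hb : b ∈ (s : Set A)) => h b (Ideal.subset_span hb)
  refine ⟨∏ b ∈ s, r b, ?_, ?_⟩
  · have : (∏ b ∈ s, r b) ∈ p.primeCompl :=
      Submonoid.prod_mem _ fun b hb => hr b hb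
    exact this
  · intro b hb
    induction hb using Submodule.span_induction with
    | mem x hx =>
      rw [← Finset.mul_prod_erase s r hx, mul_comm (r x), mul_assoc]
      exact J.mul_mem_left _ (hrb x hx)
    | zero => simp
    | add x y _ _ hx hy => rw [mul_add]; exact J.add_mem hx hy
    | smul a x _ hx =>
      rw [smul_eq_mul, mul_left_comm]; exact J.mul_mem_left _ hx

/-- Spreading out a principal generator with nonzerodivisor germ from the localisation at a prime. -/
theorem exists_away_principal_nzd [IsNoetherianRing A] (I : Ideal A) (p : Ideal A) [p.IsPrime]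
    (S : Type*) [CommRing S] [Algebra A S] [IsLocalization.AtPrime S p] (g : S)
    (hg : g ∈ nonZeroDivisors S) (hI : I.map (algebraMap A S) = Ideal.span {g}) :
    ∃ t ∉ p, ∃ a ∈ I, (∀ b ∈ I, ∃ c, t * b = c * a) ∧ (∀ r, r * a = 0 → t * r = 0) := by
  -- step 1: a generator coming from `I`
  have hgI : g ∈ I.map (algebraMap A S) := by rw [hI]; exact Ideal.subset_span rfl
  obtain ⟨⟨⟨a, haI⟩, s⟩, hgs⟩ := (IsLocalization.mem_map_algebraMap_iff p.primeCompl S).1 hgI
  simp only at hgs
  have hsunit : IsUnit (algebraMap A S s) := IsLocalization.map_units S s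
  have hanzd : algebraMap A S a ∈ nonZeroDivisors S := by
    rw [← hgs]
    exact mul_mem hg hsunit.mem_nonZeroDivisors
  have hspan : Ideal.span {g} = Ideal.span {algebraMap A S a} := by
    rw [← hgs]
    exact (Ideal.span_singleton_mul_right_unit hsunit g).symm
  -- step 2: `t₁ I ⊆ (a)`
  have h1 : ∀ b ∈ I, ∃ r ∉ p, r * b ∈ Ideal.span {a} := by
    intro b hb
    have hbS : algebraMap A S b ∈ Ideal.span {algebraMap A S a} := by
      rw [← hspan, ← hI]; exact Ideal.mem_map_of_mem _ hb
    obtain ⟨z, hz⟩ := Ideal.mem_span_singleton'.1 hbS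
    obtain ⟨c, s', rfl⟩ := IsLocalization.exists_mk'_eq p.primeCompl z
    have : algebraMap A S (s' * b) = algebraMap A S (c * a) := by
      rw [map_mul, map_mul, ← hz, ← mul_assoc, IsLocalization.mk'_spec']
    obtain ⟨u, hu⟩ := (IsLocalization.eq_iff_exists p.primeCompl S).1 this
    refine ⟨u * s', (u * s').2, ?_⟩
    rw [Ideal.mem_span_singleton']
    exact ⟨u * c, by push_cast; linear_combination -hu⟩
  obtain ⟨t₁, ht₁, ht₁I⟩ := exists_common_mul_mem p I (Ideal.span {a})
    (IsNoetherian.noetherian I) h1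
  -- step 3: `t₂ ann(a) = 0`
  let K : Ideal A := (Ideal.span {a}).annihilator
  have hK : ∀ r, r ∈ K ↔ r * a = 0 := by
    intro r
    simp only [K, Submodule.mem_annihilator_span_singleton, smul_eq_mul]
  have h2 : ∀ b ∈ K, ∃ r ∉ p, r * b ∈ (⊥ : Ideal A) := by
    intro b hb
    rw [hK] at hb
    have : algebraMap A S b * algebraMap A S a = 0 := by rw [← map_mul, hb, map_zero]
    have hb0 : algebraMap A S b = 0 := (mul_right_mem_nonZeroDivisors_eq_zero_iff hanzd).1 this
    obtain ⟨u, hu⟩ := (IsLocalization.map_eq_zero_iff p.primeCompl S b).1 hb0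
    exact ⟨u, u.2, by simpa using hu⟩
  obtain ⟨t₂, ht₂, ht₂K⟩ := exists_common_mul_mem p K ⊥ (IsNoetherian.noetherian K) h2
  refine ⟨t₁ * t₂, ?_, a, haI, ?_, ?_⟩
  · exact (p.primeCompl).mul_mem ht₁ ht₂
  · intro b hb
    obtain ⟨c, hc⟩ := Ideal.mem_span_singleton'.1 (ht₁I b hb)
    exact ⟨t₂ * c, by rw [mul_assoc, mul_comm t₂ b, ← mul_assoc, ← hc]; ring⟩
  · intro r hr
    have := ht₂K r ((hK r).2 hr)
    rw [Ideal.mem_bot] at this
    rw [mul_assoc, this, mul_zero]

/-- Consequence in the localisation away from `t`. -/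
theorem away_principal_nzd (I : Ideal A) (t a : A) (ha : a ∈ I)
    (h1 : ∀ b ∈ I, ∃ c, t * b = c * a) (h2 : ∀ r, r * a = 0 → t * r = 0)
    (B : Type*) [CommRing B] [Algebra A B] [IsLocalization.Away t B] :
    I.map (algebraMap A B) = Ideal.span {algebraMap A B a} ∧
      algebraMap A B a ∈ nonZeroDivisors B := by
  have htunit : IsUnit (algebraMap A B t) := IsLocalization.Away.algebraMap_isUnit t
  constructor
  · apply le_antisymm
    · rw [Ideal.map_le_iff_le_comap]
      intro b hb
      obtain ⟨c, hc⟩ := h1 b hb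
      rw [Ideal.mem_comap, Ideal.mem_span_singleton']
      refine ⟨htunit.unit⁻¹ * algebraMap A B c, ?_⟩
      have : algebraMap A B t * algebraMap A B b = algebraMap A B c * algebraMap A B a := by
        rw [← map_mul, hc, map_mul]
      rw [mul_assoc, ← this, ← mul_assoc, IsUnit.val_inv_mul, one_mul]
    · rw [Ideal.span_singleton_le_iff_mem]
      exact Ideal.mem_map_of_mem _ ha
  · rw [mem_nonZeroDivisors_iff_right]
    intro z hz
    obtain ⟨r, s, rfl⟩ := IsLocalization.exists_mk'_eq (Submonoid.powers t) z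
    have hra : algebraMap A B (r * a) = 0 := by
      rw [map_mul, ← IsLocalization.mk'_spec' B r s, mul_assoc, hz, mul_zero]
    obtain ⟨⟨_, m, rfl⟩, hm⟩ := (IsLocalization.map_eq_zero_iff (Submonoid.powers t) B _).1 hra
    have h3 : t * (t ^ m * r) = 0 := h2 _ (by simp only at hm; rw [mul_assoc]; exact hm)
    have h4 : algebraMap A B r = 0 := by
      have : algebraMap A B (t ^ (m + 1)) * algebraMap A B r = 0 := by
        rw [← map_mul, pow_succ', mul_assoc, h3, map_zero]
      have hu : IsUnit (algebraMap A B (t ^ (m + 1))) := by rw [map_pow]; exact htunit.pow _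
      exact (hu.mul_right_eq_zero).1 this
    rw [IsLocalization.mk'_eq_zero_iff]
    exact (IsLocalization.map_eq_zero_iff (Submonoid.powers t) B r).1 h4

end Spread
end Groth.Agent.Lib.Helper29.EffCart
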