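import Groth.Agent.Lib.Helper29.EffCart2
import Groth.Agent.Lib.Helper29.EffCartSpread
set_option autoImplicit false
universe u
open CategoryTheory AlgebraicGeometry TopologicalSpace

namespace Groth.Agent.Lib.Helper29.EffCart
variable {X : Scheme.{u}}

lemma fromSpec_mem_basicOpen_iff (U : X.affineOpens) (p : PrimeSpectrum Γ(X, U.1)) (t : Γ(X, U.1)) :
    U.2.fromSpec p ∈ X.basicOpen t ↔ t ∉ p.asIdeal := by
  have h := U.2.fromSpec_preimage_basicOpen t
  have : U.2.fromSpec p ∈ X.basicOpen t ↔ p ∈ U.2.fromSpec ⁻¹ᵁ X.basicOpen t := Iff.rfl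
  rw [this, h]
  rfl

/-- Spreading out: if the ideal of `D` on the affine open `U` becomes principal, generated by a
nonzerodivisor, in the stalk at `x = fromSpec p`, then it is so on a basic open neighbourhood. -/
theorem exists_affine_nhd_principal_nzd (D : X.IdealSheafData) (U : X.affineOpens)
    [IsNoetherianRing Γ(X, U.1)] (p : PrimeSpectrum Γ(X, U.1))
    (g : X.presheaf.stalk (U.2.fromSpec p)) (hg : g ∈ nonZeroDivisors (X.presheaf.stalk (U.2.fromSpec p)))
    (hI : (D.ideal U).map (X.presheaf.germ U.1 (U.2.fromSpec p) (fromSpec_mem U p)).hom =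
      Ideal.span {g}) :
    ∃ V : X.affineOpens, U.2.fromSpec p ∈ V.1 ∧
      ∃ f : Γ(X, V.1), f ∈ nonZeroDivisors Γ(X, V.1) ∧ D.ideal V = Ideal.span {f} := by
  letI alg : Algebra Γ(X, U.1) (X.presheaf.stalk (U.2.fromSpec p)) :=
    TopCat.Presheaf.algebra_section_stalk X.presheaf ⟨U.2.fromSpec p, fromSpec_mem U p⟩
  haveI hloc : IsLocalization.AtPrime (X.presheaf.stalk (U.2.fromSpec p)) p.asIdeal :=
    U.2.isLocalization_stalk' p (fromSpec_mem U p)
  have hI' : (D.ideal U).map (algebraMap Γ(X, U.1) (X.presheaf.stalk (U.2.fromSpec p))) =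
      Ideal.span {g} := hI
  obtain ⟨t, htp, a, haI, h1, h2⟩ :=
    exists_away_principal_nzd (D.ideal U) p.asIdeal (X.presheaf.stalk (U.2.fromSpec p)) g hg hI'
  refine ⟨X.affineBasicOpen t, (fromSpec_mem_basicOpen_iff U p t).2 htp, ?_⟩
  haveI := U.2.isLocalization_basicOpen t
  obtain ⟨h3, h4⟩ := away_principal_nzd (D.ideal U) t a haI h1 h2 Γ(X, X.basicOpen t)
  refine ⟨algebraMap Γ(X, U.1) Γ(X, X.basicOpen t) a, h4, ?_⟩
  rw [← D.map_ideal_basicOpen U t]
  exact h3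

lemma exists_affine_nhd_top_of_not_mem_support (D : X.IdealSheafData) (x : X)
    (hx : x ∉ D.support) : ∃ V : X.affineOpens, x ∈ V.1 ∧ D.ideal V = ⊤ := by
  have hopen : IsOpen ((D.support : Set X)ᶜ) := D.support.isClosed.isOpen_compl
  obtain ⟨_, ⟨V, hV, rfl⟩, hxV, hVU⟩ :=
    X.isBasis_affineOpens.exists_subset_of_mem_open (show x ∈ (D.support : Set X)ᶜ from hx) hopen
  refine ⟨⟨V, hV⟩, hxV, ?_⟩
  by_contra hne
  obtain ⟨m, hm, hle⟩ := Ideal.exists_le_maximal _ hne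
  let y : PrimeSpectrum Γ(X, V) := ⟨m, hm.isPrime⟩
  have h1 : IsAffineOpen.fromSpec hV y ∈ D.support :=
    (fromSpec_mem_support_iff D ⟨V, hV⟩ y).2 hle
  exact hVU (fromSpec_mem ⟨V, hV⟩ y) h1

end Groth.Agent.Lib.Helper29.EffCart
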