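import Groth.Agent.Lib.Helper29.BlowUpUP
import Groth.Agent.Lib.Helper29.EffCart3

set_option autoImplicit false
universe u
open CategoryTheory CategoryTheory.Limits AlgebraicGeometry Opposite TopologicalSpace

namespace Groth.Agent.Lib.Helper29.EffCart

open Groth.Agent.Lib.Helper29.FlatExt

variable {X Y : Scheme.{u}}

/-- Where the inverse image ideal is generated by `e`, the basic open `D(e)` lies over the
complement of the centre. -/
lemma basicOpen_le_preimage_compl_support {X' : Scheme.{u}} (b : X' ⟶ X) (𝓘 : X.IdealSheafData)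
    (W : X'.affineOpens) (e : Γ(X', W.1)) (hE : (𝓘.comap b).ideal W = Ideal.span {e}) :
    X'.basicOpen e ≤ b ⁻¹ᵁ 𝓘.support.compl := by
  intro y hy
  have hyW : y ∈ W.1 := X'.basicOpen_le e hy
  obtain ⟨q, rfl⟩ := exists_fromSpec_eq W hyW
  intro hmem
  have h1 : W.2.fromSpec q ∈ (𝓘.comap b).support := by
    rw [Scheme.IdealSheafData.support_comap]
    exact hmem
  have h2 := (fromSpec_mem_support_iff (𝓘.comap b) W q).1 h1
  rw [hE, Ideal.span_singleton_le_iff_mem] at h2
  exact (fromSpec_mem_basicOpen_iff W q e).1 hy h2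

/-- The stalk maps of a blow-up at points over the complement of the centre are flat (they are
isomorphisms). -/
lemma IsBlowUp.flat_stalkMap {X' : Scheme.{u}} {b : X' ⟶ X} {𝓘 : X.IdealSheafData}
    (hb : BlowUp.IsBlowUp b 𝓘) (y : X') (hy : y ∈ b ⁻¹ᵁ 𝓘.support.compl) :
    (b.stalkMap y).hom.Flat := by
  have hiso := IsBlowUp.isIso_morphismRestrict hb
  rw [← RingHom.Flat.respectsIso.arrow_mk_iso_iff
    (morphismRestrictStalkMap b 𝓘.support.compl ⟨y, hy⟩)]
  have h3 : ∀ z : (b ⁻¹ᵁ 𝓘.support.compl : X'.Opens).toScheme,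
      IsIso ((b ∣_ 𝓘.support.compl).stalkMap z) := fun z => inferInstance
  have := h3 ⟨y, hy⟩
  exact RingHom.Flat.of_bijective (ConcreteCategory.bijective_of_isIso _)

/-- Sections over an affine open where the exceptional ideal is generated by the nonzerodivisor
`e` inject into sections over `D(e)`. -/
lemma eq_zero_of_res_basicOpen_eq_zero {X' : Scheme.{u}} (W : X'.affineOpens) (e : Γ(X', W.1))
    (he : e ∈ nonZeroDivisors Γ(X', W.1)) (s : Γ(X', W.1))
    (hs : (X'.presheaf.map (homOfLE (X'.basicOpen_le e)).op).hom s = 0) : s = 0 := by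
  have inst := W.2.isLocalization_basicOpen e
  have hs' : algebraMap Γ(X', W.1) Γ(X', X'.basicOpen e) s = 0 := hs
  obtain ⟨⟨_, n, rfl⟩, hn⟩ := (IsLocalization.map_eq_zero_iff (Submonoid.powers e) _ s).1 hs'
  exact (mem_nonZeroDivisors_iff.1 (pow_mem he n)).1 s hn

/-- The inverse image of an effective Cartier ideal under a blow-up is effective Cartier. -/
theorem IsBlowUp.isEffCartierIdeal_comap {X' : Scheme.{u}} {b : X' ⟶ X} {𝓘 : X.IdealSheafData}
    (hb : BlowUp.IsBlowUp b 𝓘) (𝓓 : X.IdealSheafData) (h𝓓 : BlowUp.IsEffCartierIdeal 𝓓) :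
    BlowUp.IsEffCartierIdeal (𝓓.comap b) := by
  intro x'
  obtain ⟨U, hU, d, hd, hI⟩ := h𝓓 (b x')
  obtain ⟨W, hxW, hle, e, he, hE⟩ :=
    exists_affine_principal_nzd_le (𝓘.comap b) hb.1 x' (b ⁻¹ᵁ U.1) hU
  refine ⟨W, hxW, (b.appLE U.1 W.1 hle).hom d, ?_, ?_⟩
  · have hO := basicOpen_le_preimage_compl_support b 𝓘 W e hE
    have hle' : X'.basicOpen e ≤ b ⁻¹ᵁ U.1 := (X'.basicOpen_le e).trans hle
    have hflat : (b.appLE U.1 (X'.basicOpen e) hle').hom.Flat :=
      flat_appLE_of_forall_stalkMap b U (X'.affineBasicOpen e) hle'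
        fun y hy => IsBlowUp.flat_stalkMap hb y (hO hy)
    have hnzd := map_mem_nonZeroDivisors_of_flat _ hflat d hd
    rw [mem_nonZeroDivisors_iff_right]
    intro s hs
    apply eq_zero_of_res_basicOpen_eq_zero W e he
    apply (mem_nonZeroDivisors_iff_right.1 hnzd)
    have hcomp : (b.appLE U.1 (X'.basicOpen e) hle').hom d =
        (X'.presheaf.map (homOfLE (X'.basicOpen_le e)).op).hom ((b.appLE U.1 W.1 hle).hom d) := by
      have := congrArg CommRingCat.Hom.hom (b.appLE_map hle (homOfLE (X'.basicOpen_le e)).op)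
      exact (DFunLike.congr_fun this d).symm
    rw [hcomp, ← map_mul, hs, map_zero]
  · rw [ideal_comap_eq_map 𝓓 b U W hle, hI, Ideal.map_span, Set.image_singleton]

/-- A blow-up of a reduced scheme is reduced. -/
theorem IsBlowUp.isReduced {X' : Scheme.{u}} {b : X' ⟶ X} {𝓘 : X.IdealSheafData}
    (hb : BlowUp.IsBlowUp b 𝓘) [IsReduced X] : IsReduced X' := by
  have key : ∀ x' : X', _root_.IsReduced (X'.presheaf.stalk x') := by
    intro x'
    obtain ⟨W, hxW, -, e, he, hE⟩ :=
      exists_affine_principal_nzd_le (𝓘.comap b) hb.1 x' ⊤ trivial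
    have hO := basicOpen_le_preimage_compl_support b 𝓘 W e hE
    -- `D(e)` is reduced, being an open subscheme of `X` via `b`
    have hiso := IsBlowUp.isIso_morphismRestrict hb
    have hfac : (X'.basicOpen e).ι ≫ b =
        (X'.homOfLE hO ≫ (b ∣_ 𝓘.support.compl)) ≫
          Scheme.Opens.ι (X := X) 𝓘.support.compl := by
      rw [Category.assoc, morphismRestrict_ι, Scheme.homOfLE_ι_assoc]
    have hoi : IsOpenImmersion ((X'.basicOpen e).ι ≫ b) := by
      rw [hfac]; infer_instance
    have hred : IsReduced (X'.basicOpen e : Scheme) :=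
      isReduced_of_isOpenImmersion ((X'.basicOpen e).ι ≫ b)
    have hredO : _root_.IsReduced Γ(X', X'.basicOpen e) :=
      isReduced_of_injective (X'.basicOpen e).topIso.inv.hom
        (X'.basicOpen e).topIso.symm.commRingCatIsoToRingEquiv.injective
    have hredW : _root_.IsReduced Γ(X', W.1) :=
      isReduced_of_injective (X'.presheaf.map (homOfLE (X'.basicOpen_le e)).op).hom
        ((injective_iff_map_eq_zero _).2 fun s hs => eq_zero_of_res_basicOpen_eq_zero W e he s hs)
    letI := X'.presheaf.algebra_section_stalk ⟨x', hxW⟩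
    have := W.2.isLocalization_stalk ⟨x', hxW⟩
    exact isReduced_localizationPreserves (W.2.primeIdealOf ⟨x', hxW⟩).asIdeal.primeCompl
      (X'.presheaf.stalk x') hredW
  exact isReduced_of_isReduced_stalk X'

end Groth.Agent.Lib.Helper29.EffCart
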