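import Groth.Prelude.Def_BlowUp2
import Groth.Agent.Lib.Helper29.EffCart
import Mathlib

set_option autoImplicit false
universe u
open CategoryTheory CategoryTheory.Limits AlgebraicGeometry Opposite TopologicalSpace

namespace Groth.Agent.Lib.Helper29.EffCart

lemma topologicalKrullDim_affineOpen {X : Scheme.{u}} (U : X.Opens) (hU : IsAffineOpen U) :
    topologicalKrullDim ↥(U : Set X) = ringKrullDim Γ(X, U) := by
  rw [← PrimeSpectrum.topologicalKrullDim_eq_ringKrullDim Γ(X, U)]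
  change _ = topologicalKrullDim (Spec Γ(X, U))
  exact IsHomeomorph.topologicalKrullDim_eq _ hU.isoSpec.hom.homeomorph.isHomeomorph

lemma topologicalKrullDim_mono_set {T : Type*} [TopologicalSpace T] {A B : Set T} (h : A ⊆ B) :
    topologicalKrullDim ↥A ≤ topologicalKrullDim ↥B :=
  (Topology.IsEmbedding.inclusion h).isInducing.topologicalKrullDim_le

lemma topologicalKrullDim_nonneg_of_mem {T : Type*} [TopologicalSpace T] {A : Set T} {x : T}
    (hx : x ∈ A) : 0 ≤ topologicalKrullDim ↥A := by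
  have : Nonempty (IrreducibleCloseds ↥A) :=
    ⟨⟨closure {(⟨x, hx⟩ : ↥A)}, isIrreducible_singleton.closure, isClosed_closure⟩⟩
  exact Order.krullDim_nonneg

/-- Key inequality: on an affine open `W` where the ideal is generated by a nonzerodivisor, the
preimage in the closed subscheme has dimension at most `dim W - 1`. -/
lemma topologicalKrullDim_preimage_succ_le {S : Scheme.{u}} (𝓘 : S.IdealSheafData)
    (W : S.affineOpens) (t : Γ(S, W.1)) (ht : t ∈ nonZeroDivisors Γ(S, W.1))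
    (hI : 𝓘.ideal W = Ideal.span {t}) :
    topologicalKrullDim ↥((𝓘.subschemeι ⁻¹ᵁ W.1 : 𝓘.subscheme.Opens) : Set 𝓘.subscheme) + 1 ≤
      topologicalKrullDim ↥(W.1 : Set S) := by
  have haff : IsAffineOpen (𝓘.subschemeι ⁻¹ᵁ W.1) := W.2.preimage 𝓘.subschemeι
  rw [topologicalKrullDim_affineOpen _ haff, topologicalKrullDim_affineOpen _ W.2]
  refine ringKrullDim_succ_le_of_surjective (𝓘.subschemeι.app W.1).hom
    (𝓘.subschemeι_app_surjective W) ht ?_
  have : t ∈ RingHom.ker (𝓘.subschemeι.app W.1).hom := by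
    rw [𝓘.ker_subschemeι_app W, hI]
    exact Ideal.subset_span rfl
  exact this

/-- Restriction of a principal nzd-generated ideal to a basic open. -/
lemma principal_nzd_basicOpen {S : Scheme.{u}} (𝓘 : S.IdealSheafData) (U : S.affineOpens)
    (t : Γ(S, U.1)) (ht : t ∈ nonZeroDivisors Γ(S, U.1)) (hI : 𝓘.ideal U = Ideal.span {t})
    (g : Γ(S, U.1)) :
    ∃ t' : Γ(S, (S.affineBasicOpen g).1), t' ∈ nonZeroDivisors Γ(S, (S.affineBasicOpen g).1) ∧
      𝓘.ideal (S.affineBasicOpen g) = Ideal.span {t'} := by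
  have inst := U.2.isLocalization_basicOpen g
  have hmap : (S.presheaf.map (homOfLE (S.basicOpen_le g)).op).hom = algebraMap _ _ := rfl
  refine ⟨(S.presheaf.map (homOfLE (S.basicOpen_le g)).op).hom t, ?_, ?_⟩
  · change (S.presheaf.map (homOfLE (S.basicOpen_le g)).op).hom t ∈
      nonZeroDivisors Γ(S, S.basicOpen g)
    rw [hmap]
    exact IsLocalization.map_nonZeroDivisors_le (Submonoid.powers g) _ ⟨t, ht, rfl⟩
  · rw [← 𝓘.map_ideal_basicOpen U g, hI, Ideal.map_span, Set.image_singleton]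
    rfl

/-- Effective Cartier ideals are principal-nzd on a basis of affine neighbourhoods. -/
lemma exists_affine_principal_nzd_le {S : Scheme.{u}} (𝓘 : S.IdealSheafData)
    (h𝓘 : BlowUp.IsEffCartierIdeal 𝓘) (s : S) (W₀ : S.Opens) (hs : s ∈ W₀) :
    ∃ W : S.affineOpens, s ∈ W.1 ∧ W.1 ≤ W₀ ∧ ∃ t : Γ(S, W.1), t ∈ nonZeroDivisors Γ(S, W.1) ∧
      𝓘.ideal W = Ideal.span {t} := by
  obtain ⟨U, hsU, t, ht, hI⟩ := h𝓘 s
  obtain ⟨g, hle, hsg⟩ := U.2.exists_basicOpen_le (V := W₀) ⟨s, hs⟩ hsU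
  obtain ⟨t', ht', hI'⟩ := principal_nzd_basicOpen 𝓘 U t ht hI g
  exact ⟨S.affineBasicOpen g, hsg, hle, t', ht', hI'⟩

end Groth.Agent.Lib.Helper29.EffCart
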