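import Mathlib
import Groth.Prelude.Def_BlowUp2
import Groth.Agent.Lib.Helper29.EffCart4

/-!
# Colon ideal sheaves and division by an effective Cartier ideal (helper29)
-/

set_option autoImplicit false
universe u
open CategoryTheory AlgebraicGeometry TopologicalSpace

namespace Groth.Agent.Lib.Helper29.Colon

/-- Colon ideals commute with localization when the second ideal is finitely generated. -/
lemma colon_map_localization {A B : Type*} [CommRing A] [CommRing B] [Algebra A B]
    (M : Submonoid A) [IsLocalization M B] (Z D : Ideal A) (hD : D.FG) :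
    (Z.colon (D : Set A)).map (algebraMap A B) =
      (Z.map (algebraMap A B)).colon ((D.map (algebraMap A B) : Ideal B) : Set B) := by
  classical
  apply le_antisymm
  · rw [Ideal.map_le_iff_le_comap]
    intro r hr
    have hmap : (D.map (algebraMap A B) : Ideal B) = Ideal.span (algebraMap A B '' (D : Set A)) :=
      rfl
    rw [Ideal.mem_comap, hmap, Ideal.colon_span, Submodule.mem_colon]
    rintro _ ⟨d, hd, rfl⟩
    rw [smul_eq_mul, ← map_mul]
    exact Ideal.mem_map_of_mem _ (Submodule.mem_colon.1 hr d hd)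
  · intro b hb
    obtain ⟨S, hS⟩ := hD
    obtain ⟨w, m, rfl⟩ := IsLocalization.exists_mk'_eq M b
    have hex : ∀ d ∈ S, ∃ n ∈ M, n * (w * d) ∈ Z := by
      intro d hd
      have hdD : d ∈ D := hS ▸ Ideal.subset_span hd
      have h1 : IsLocalization.mk' B w m * algebraMap A B d ∈ Z.map (algebraMap A B) :=
        Submodule.mem_colon.1 hb _ (Ideal.mem_map_of_mem _ hdD)
      have h2 : algebraMap A B (w * d) ∈ Z.map (algebraMap A B) := by
        have : algebraMap A B (w * d) =
            algebraMap A B m * (IsLocalization.mk' B w m * algebraMap A B d) := by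
          rw [← mul_assoc, mul_comm (algebraMap A B m), IsLocalization.mk'_spec, map_mul]
        rw [this]
        exact Ideal.mul_mem_left _ _ h1
      exact (IsLocalization.algebraMap_mem_map_algebraMap_iff M B Z (w * d)).1 h2
    choose! n hnM hn using hex
    have hN : ∏ d ∈ S, n d ∈ M := Submonoid.prod_mem M fun d hd => hnM d hd
    rw [IsLocalization.mk'_mem_map_algebraMap_iff M]
    refine ⟨∏ d ∈ S, n d, hN, ?_⟩
    rw [← hS, Ideal.colon_span, Submodule.mem_colon]
    intro d hd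
    have hd' : d ∈ S := hd
    rw [smul_eq_mul, ← Finset.mul_prod_erase S n hd']
    have : (n d * ∏ x ∈ S.erase d, n x) * w * d = (∏ x ∈ S.erase d, n x) * (n d * (w * d)) := by
      ring
    rw [this]
    exact Ideal.mul_mem_left _ _ (hn d hd')

variable {X : Scheme.{u}}

/-- The colon ideal sheaf `(𝓩 : 𝓓)` on a locally Noetherian scheme. -/
noncomputable def colonSheaf [IsLocallyNoetherian X] (𝓩 𝓓 : X.IdealSheafData) :
    X.IdealSheafData where
  ideal U := (𝓩.ideal U).colon (𝓓.ideal U : Set Γ(X, U.1))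
  map_ideal_basicOpen U f := by
    haveI : IsNoetherianRing Γ(X, U.1) := IsLocallyNoetherian.component_noetherian U
    have inst := U.2.isLocalization_basicOpen f
    have hmap : (X.presheaf.map (homOfLE (X.basicOpen_le f)).op).hom = algebraMap _ _ := rfl
    have h := colon_map_localization (B := Γ(X, X.basicOpen f)) (Submonoid.powers f)
      (𝓩.ideal U) (𝓓.ideal U) (IsNoetherian.noetherian _)
    rw [← 𝓩.map_ideal_basicOpen U f, ← 𝓓.map_ideal_basicOpen U f, hmap]
    exact h

@[simp] lemma colonSheaf_ideal [IsLocallyNoetherian X] (𝓩 𝓓 : X.IdealSheafData)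
    (U : X.affineOpens) :
    (colonSheaf 𝓩 𝓓).ideal U = (𝓩.ideal U).colon (𝓓.ideal U : Set Γ(X, U.1)) := rfl

lemma le_colonSheaf [IsLocallyNoetherian X] (𝓩 𝓓 : X.IdealSheafData) : 𝓩 ≤ colonSheaf 𝓩 𝓓 :=
  fun _ => Ideal.le_colon

lemma colonSheaf_mul_le [IsLocallyNoetherian X] (𝓩 𝓓 : X.IdealSheafData) :
    colonSheaf 𝓩 𝓓 * 𝓓 ≤ 𝓩 := by
  intro U
  change (𝓩.ideal U).colon (𝓓.ideal U : Set Γ(X, U.1)) * 𝓓.ideal U ≤ 𝓩.ideal U
  rw [Ideal.mul_le]
  intro r hr d hd
  exact Submodule.mem_colon.1 hr d hd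

/-- Division by an effective Cartier ideal: if `𝓩 ≤ 𝓓` with `𝓓` effective Cartier then
`(𝓩 : 𝓓) * 𝓓 = 𝓩`. -/
theorem colonSheaf_mul_eq [IsLocallyNoetherian X] (𝓩 𝓓 : X.IdealSheafData)
    (hD : BlowUp.IsEffCartierIdeal 𝓓) (hle : 𝓩 ≤ 𝓓) : colonSheaf 𝓩 𝓓 * 𝓓 = 𝓩 := by
  refine le_antisymm (colonSheaf_mul_le 𝓩 𝓓) ?_
  choose U hxU t ht hI using hD
  refine Scheme.IdealSheafData.le_of_iSup_eq_top U ?_ ?_
  · rw [eq_top_iff]
    intro x _
    exact TopologicalSpace.Opens.mem_iSup.2 ⟨x, hxU x⟩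
  · intro x z hz
    have hz' : z ∈ Ideal.span {t x} := hI x ▸ hle (U x) hz
    obtain ⟨y, rfl⟩ := Ideal.mem_span_singleton'.1 hz'
    change y * t x ∈ (𝓩.ideal (U x)).colon (𝓓.ideal (U x) : Set Γ(X, (U x).1)) * 𝓓.ideal (U x)
    refine Ideal.mul_mem_mul ?_ (hI x ▸ Ideal.mem_span_singleton_self (t x))
    rw [hI x, Ideal.colon_span, Submodule.mem_colon_singleton]
    exact hz

end Groth.Agent.Lib.Helper29.Colon
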