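import Mathlib

set_option autoImplicit false

namespace Groth.Agent.Lib.Helper29.FlatExt

open TensorProduct LinearMap

section Modules

variable {R : Type*} [CommRing R] {M N P : Type*} [AddCommGroup M] [AddCommGroup N]
  [AddCommGroup P] [Module R M] [Module R N] [Module R P]

/-- The kernel of a surjection between flat modules is flat. -/
theorem flat_of_exact_left (g : M →ₗ[R] N) (f : N →ₗ[R] P) (hg : Function.Injective g)
    (hf : Function.Surjective f) (H : Function.Exact g f) [Module.Flat R N] [Module.Flat R P] :
    Module.Flat R M := by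
  rw [Module.Flat.iff_rTensor_injective']
  intro I
  rw [injective_iff_map_eq_zero]
  intro x hx
  have h1 : (I.subtype.rTensor N) (g.lTensor I x) = 0 := by
    have : (I.subtype.rTensor N) ∘ₗ (g.lTensor I) = (g.lTensor R) ∘ₗ (I.subtype.rTensor M) := by
      rw [rTensor_comp_lTensor, lTensor_comp_rTensor]
    have h2 := LinearMap.congr_fun this x
    simp only [LinearMap.comp_apply] at h2
    rw [h2, hx, map_zero]
  have h3 : g.lTensor I x = 0 :=
    (injective_iff_map_eq_zero _).1 (Module.Flat.rTensor_preserves_injective_linearMap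
      (M := N) I.subtype Subtype.val_injective) _ h1
  exact (injective_iff_map_eq_zero _).1
    (LinearMap.lTensor_injective_of_exact_of_flat f hf g hg H I) _ h3

/-- An extension of flat modules is flat. -/
theorem flat_of_exact_middle (g : M →ₗ[R] N) (f : N →ₗ[R] P) (hg : Function.Injective g)
    (hf : Function.Surjective f) (H : Function.Exact g f) [Module.Flat R M] [Module.Flat R P] :
    Module.Flat R N := by
  rw [Module.Flat.iff_rTensor_injective']
  intro I
  rw [injective_iff_map_eq_zero]
  intro x hx
  -- image in I ⊗ P vanishes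
  have h1 : f.lTensor I x = 0 := by
    apply (injective_iff_map_eq_zero _).1 (Module.Flat.rTensor_preserves_injective_linearMap
      (M := P) I.subtype Subtype.val_injective)
    have : (I.subtype.rTensor P) ∘ₗ (f.lTensor I) = (f.lTensor R) ∘ₗ (I.subtype.rTensor N) := by
      rw [rTensor_comp_lTensor, lTensor_comp_rTensor]
    have h2 := LinearMap.congr_fun this x
    simp only [LinearMap.comp_apply] at h2
    rw [h2, hx, map_zero]
  obtain ⟨y, rfl⟩ := (lTensor_exact I H hf x).1 h1
  have h4 : (g.lTensor R) (I.subtype.rTensor M y) = 0 := by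
    have : (I.subtype.rTensor N) ∘ₗ (g.lTensor I) = (g.lTensor R) ∘ₗ (I.subtype.rTensor M) := by
      rw [rTensor_comp_lTensor, lTensor_comp_rTensor]
    have h2 := LinearMap.congr_fun this y
    simp only [LinearMap.comp_apply] at h2
    rw [← h2, hx]
  have h5 : I.subtype.rTensor M y = 0 :=
    (injective_iff_map_eq_zero _).1
      (Module.Flat.lTensor_preserves_injective_linearMap (M := R) g hg) _ h4
  have h6 : y = 0 := (injective_iff_map_eq_zero _).1
    (Module.Flat.rTensor_preserves_injective_linearMap (M := M) I.subtype Subtype.val_injective) _ h5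
  rw [h6, map_zero]

end Modules

section Algebras

variable {R B : Type*} [CommRing R] [CommRing B] [Algebra R B]

lemma exact_mulLeft_mk (t : B) :
    Function.Exact (LinearMap.mulLeft R t) (Ideal.Quotient.mkₐ R (Ideal.span {t})).toLinearMap := by
  intro y
  constructor
  · intro h
    have : y ∈ Ideal.span {t} := Ideal.Quotient.eq_zero_iff_mem.1 h
    obtain ⟨a, ha⟩ := Ideal.mem_span_singleton'.1 this
    exact ⟨a, by simp [← ha, mul_comm]⟩
  · rintro ⟨a, rfl⟩
    refine Ideal.Quotient.eq_zero_iff_mem.2 ?_
    exact Ideal.mem_span_singleton'.2 ⟨a, by simp [mul_comm]⟩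

/-- If `t` is a nonzerodivisor of the `R`-algebra `B` with `B/t` flat over `R`, then `t` is a
nonzerodivisor on `B ⊗[R] N` for every `R`-module `N`. -/
theorem smul_tensor_injective (t : B) (ht : t ∈ nonZeroDivisors B)
    [Module.Flat R (B ⧸ Ideal.span {t})] (N : Type*) [AddCommGroup N] [Module R N] :
    Function.Injective (fun y : B ⊗[R] N => t • y) := by
  have hinj : Function.Injective (LinearMap.mulLeft R t) := by
    intro a b hab
    exact (mul_cancel_left_mem_nonZeroDivisors ht).1 hab
  have h := LinearMap.lTensor_injective_of_exact_of_flat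
    (Ideal.Quotient.mkₐ R (Ideal.span {t})).toLinearMap
    (Ideal.Quotient.mkₐ_surjective R _) (LinearMap.mulLeft R t) hinj (exact_mulLeft_mk t) N
  rw [LinearMap.lTensor_inj_iff_rTensor_inj] at h
  have : (fun y : B ⊗[R] N => t • y) = ⇑((LinearMap.mulLeft R t).rTensor N) := by
    funext y
    induction y using TensorProduct.induction_on with
    | zero => simp
    | tmul b n => simp [TensorProduct.smul_tmul']
    | add a b ha hb => simp only [smul_add, map_add, ha, hb]
  rw [this]
  exact h

/-- If `t ∈ B` is a nonzerodivisor, `B/t` is flat over `R` and `B[1/t]` is flat over `R`, then `B` is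
flat over `R`. -/
theorem flat_of_flat_quotient_of_flat_away (t : B) (ht : t ∈ nonZeroDivisors B)
    [Module.Flat R (B ⧸ Ideal.span {t})] (L : Type*) [CommRing L] [Algebra B L] [Algebra R L]
    [IsScalarTower R B L] [IsLocalization.Away t L] [Module.Flat R L] : Module.Flat R B := by
  rw [Module.Flat.iff_lTensor_injective']
  intro I
  rw [injective_iff_map_eq_zero]
  intro x hx
  let φ : B ⊗[R] I →ₗ[B] L ⊗[R] I := AlgebraTensorModule.rTensor R I (Algebra.linearMap B L)
  have hloc : IsLocalizedModule (Submonoid.powers t) φ := inferInstance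
  have h1 : φ x = 0 := by
    apply (injective_iff_map_eq_zero _).1
      (Module.Flat.lTensor_preserves_injective_linearMap (M := L) I.subtype Subtype.val_injective)
    have key : ∀ y : B ⊗[R] I, (I.subtype.lTensor L) (φ y) =
        (((Algebra.linearMap B L).restrictScalars R).rTensor R) ((I.subtype.lTensor B) y) := by
      intro y
      induction y using TensorProduct.induction_on with
      | zero => simp
      | tmul b n => simp [φ]
      | add a b ha hb => simp only [map_add, ha, hb]
    rw [key, hx, map_zero]
  obtain ⟨⟨_, n, rfl⟩, hs⟩ := (IsLocalizedModule.eq_zero_iff (Submonoid.powers t) φ).1 h1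
  have hs' : t ^ n • x = 0 := hs
  have hinj := smul_tensor_injective (R := R) t ht I
  clear hs h1 hloc
  induction n with
  | zero => simpa using hs'
  | succ n ih =>
    apply ih
    apply hinj
    simp only [smul_zero]
    rw [← hs', pow_succ', mul_smul]

/-- Local criterion, special case: `B` Noetherian local, `t ∈ 𝔪_B` a nonzerodivisor with `B/t` flat
over `R`; then `B` is flat over `R`. -/
theorem flat_of_flat_quotient_of_isNoetherianRing_of_isLocalRing [IsLocalRing B]
    [IsNoetherianRing B] (t : B) (ht : t ∈ nonZeroDivisors B)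
    (htm : t ∈ IsLocalRing.maximalIdeal B) [Module.Flat R (B ⧸ Ideal.span {t})] :
    Module.Flat R B := by
  rw [Module.Flat.iff_lTensor_injective]
  intro I hI
  have : Module.Finite R I := Module.Finite.of_fg hI
  let ψ : B ⊗[R] I →ₗ[B] B ⊗[R] R := AlgebraTensorModule.lTensor B B I.subtype
  have hψ : ∀ y, ψ y = (I.subtype.lTensor B) y := fun y => rfl
  let K : Submodule B (B ⊗[R] I) := LinearMap.ker ψ
  have hK : K = ⊥ := by
    refine Submodule.eq_bot_of_le_smul_of_le_jacobson_bot (Ideal.span {t}) K
      (IsNoetherian.noetherian K) ?_ ?_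
    · intro x hx
      have hx0 : (I.subtype.lTensor B) x = 0 := hx
      set π : B →ₗ[R] B ⧸ Ideal.span {t} := (Ideal.Quotient.mkₐ R (Ideal.span {t})).toLinearMap
      have h1 : π.rTensor I x = 0 := by
        apply (injective_iff_map_eq_zero _).1
          (Module.Flat.lTensor_preserves_injective_linearMap (M := B ⧸ Ideal.span {t}) I.subtype
            Subtype.val_injective)
        have : (I.subtype.lTensor (B ⧸ Ideal.span {t})) ∘ₗ (π.rTensor I) =
            (π.rTensor R) ∘ₗ (I.subtype.lTensor B) := by
          rw [lTensor_comp_rTensor, rTensor_comp_lTensor]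
        have h2 := LinearMap.congr_fun this x
        simp only [LinearMap.comp_apply] at h2
        rw [h2, hx0, map_zero]
      obtain ⟨y, rfl⟩ := (rTensor_exact I (exact_mulLeft_mk (R := R) t)
        (Ideal.Quotient.mkₐ_surjective R _) x).1 h1
      have hty : ∀ z : B ⊗[R] I, (LinearMap.mulLeft R t).rTensor I z = t • z := by
        intro z
        induction z using TensorProduct.induction_on with
        | zero => simp
        | tmul b n => simp [TensorProduct.smul_tmul']
        | add a b ha hb => simp only [smul_add, map_add, ha, hb]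
      rw [hty]
      have hyK : y ∈ K := by
        change ψ y = 0
        have : t • ψ y = 0 := by
          rw [← map_smul, ← hty]
          exact hx
        exact smul_tensor_injective (R := R) t ht R (by simpa using this)
      exact Submodule.smul_mem_smul (Ideal.mem_span_singleton_self t) hyK
    · rw [IsLocalRing.jacobson_eq_maximalIdeal ⊥ bot_ne_top]
      exact (Ideal.span_singleton_le_iff_mem _).2 htm
  rw [injective_iff_map_eq_zero]
  intro x hx
  have : x ∈ K := hx
  rw [hK] at this
  exact this

/-- Flatness of a composite `R → B → C` with `B → C` surjective is flatness of `B ⧸ ker`. -/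
theorem flat_comp_iff_flat_quotient {C : Type*} [CommRing C] (π : B →+* C)
    (hπ : Function.Surjective π) (J : Ideal B) (hker : RingHom.ker π = J) :
    (π.comp (algebraMap R B)).Flat ↔ Module.Flat R (B ⧸ J) := by
  subst hker
  letI : Algebra R C := (π.comp (algebraMap R B)).toAlgebra
  let e : (B ⧸ RingHom.ker π) ≃ₗ[R] C :=
    { (RingHom.quotientKerEquivOfSurjective hπ).toAddEquiv with
      map_smul' := by
        intro r x
        obtain ⟨b, rfl⟩ := Ideal.Quotient.mk_surjective x
        change RingHom.quotientKerEquivOfSurjective hπ (r • Ideal.Quotient.mk _ b) =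
          r • RingHom.quotientKerEquivOfSurjective hπ (Ideal.Quotient.mk _ b)
        rw [Algebra.smul_def, Algebra.smul_def, map_mul]
        rfl }
  change Module.Flat R C ↔ _
  exact ⟨fun h => Module.Flat.of_linearEquiv e, fun h => Module.Flat.of_linearEquiv e.symm⟩

section QuotSeq

variable (R) (a b : B)

/-- multiplication by `b` as a map `B/(a) → B/(ab)` -/
noncomputable def mulQuot : (B ⧸ Ideal.span {a}) →ₗ[R] (B ⧸ Ideal.span {a * b}) :=
  (Submodule.mapQ (Ideal.span {a}) (Ideal.span {a * b}) (LinearMap.mulLeft B b) (by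
    intro x hx
    obtain ⟨c, rfl⟩ := Ideal.mem_span_singleton'.1 hx
    exact Ideal.mem_span_singleton'.2 ⟨c, by change c * (a * b) = b * (c * a); ring⟩)).restrictScalars R

/-- the projection `B/(ab) → B/(b)` -/
noncomputable def projQuot : (B ⧸ Ideal.span {a * b}) →ₗ[R] (B ⧸ Ideal.span {b}) :=
  (Submodule.mapQ (Ideal.span {a * b}) (Ideal.span {b}) LinearMap.id (by
    intro x hx
    obtain ⟨c, rfl⟩ := Ideal.mem_span_singleton'.1 hx
    exact Ideal.mem_span_singleton'.2 ⟨c * a, by change c * a * b = c * (a * b); ring⟩)).restrictScalars R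

lemma mulQuot_mk (x : B) : mulQuot R a b (Ideal.Quotient.mk _ x) = Ideal.Quotient.mk _ (b * x) := rfl

lemma projQuot_mk (x : B) : projQuot R a b (Ideal.Quotient.mk _ x) = Ideal.Quotient.mk _ x := rfl

lemma mulQuot_injective (hb : b ∈ nonZeroDivisors B) : Function.Injective (mulQuot R a b) := by
  rw [injective_iff_map_eq_zero]
  intro x hx
  obtain ⟨x, rfl⟩ := Ideal.Quotient.mk_surjective x
  rw [mulQuot_mk, Ideal.Quotient.eq_zero_iff_mem] at hx
  obtain ⟨c, hc⟩ := Ideal.mem_span_singleton'.1 hx
  have h1 : b * (x - c * a) = 0 := by linear_combination -hc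
  have h2 : x - c * a = 0 := (mul_cancel_left_mem_nonZeroDivisors hb).1 (by rw [h1, mul_zero])
  rw [Ideal.Quotient.eq_zero_iff_mem]
  exact Ideal.mem_span_singleton'.2 ⟨c, (sub_eq_zero.1 h2).symm⟩

lemma projQuot_surjective : Function.Surjective (projQuot R a b) := by
  intro y
  obtain ⟨y, rfl⟩ := Ideal.Quotient.mk_surjective y
  exact ⟨Ideal.Quotient.mk _ y, rfl⟩

lemma exact_mulQuot_projQuot : Function.Exact (mulQuot R a b) (projQuot R a b) := by
  intro y
  obtain ⟨y, rfl⟩ := Ideal.Quotient.mk_surjective y
  rw [projQuot_mk, Ideal.Quotient.eq_zero_iff_mem]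
  constructor
  · intro h
    obtain ⟨c, rfl⟩ := Ideal.mem_span_singleton'.1 h
    exact ⟨Ideal.Quotient.mk _ c, by rw [mulQuot_mk, mul_comm b c]⟩
  · rintro ⟨x, hx⟩
    obtain ⟨x, rfl⟩ := Ideal.Quotient.mk_surjective x
    rw [mulQuot_mk, Ideal.Quotient.eq] at hx
    obtain ⟨c, hc⟩ := Ideal.mem_span_singleton'.1 hx
    exact Ideal.mem_span_singleton'.2 ⟨x - c * a, by linear_combination -hc⟩

variable {R}

/-- `B/(a)`, `B/(b)` flat and `b` nzd imply `B/(ab)` flat. -/
theorem flat_quotient_mul (hb : b ∈ nonZeroDivisors B) [Module.Flat R (B ⧸ Ideal.span {a})]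
    [Module.Flat R (B ⧸ Ideal.span {b})] : Module.Flat R (B ⧸ Ideal.span {a * b}) :=
  flat_of_exact_middle (mulQuot R a b) (projQuot R a b) (mulQuot_injective R a b hb)
    (projQuot_surjective R a b) (exact_mulQuot_projQuot R a b)

/-- `B/(ab)`, `B/(b)` flat and `b` nzd imply `B/(a)` flat. -/
theorem flat_quotient_of_mul (hb : b ∈ nonZeroDivisors B)
    [Module.Flat R (B ⧸ Ideal.span {a * b})]
    [Module.Flat R (B ⧸ Ideal.span {b})] : Module.Flat R (B ⧸ Ideal.span {a}) :=
  flat_of_exact_left (mulQuot R a b) (projQuot R a b) (mulQuot_injective R a b hb)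
    (projQuot_surjective R a b) (exact_mulQuot_projQuot R a b)

end QuotSeq

end Algebras

section Pushout

universe u
open CategoryTheory CategoryTheory.Limits

open TensorProduct in
/-- In a pushout square of commutative rings `P = A ⊗[R] B`, a nonzerodivisor `t` of `A` with
`A/t` flat over `R` stays a nonzerodivisor in `P`. -/
theorem map_mem_nonZeroDivisors_of_isPushout {R A B P : CommRingCat.{u}} {φ : R ⟶ A} {ψ : R ⟶ B}
    {a : A ⟶ P} {b : B ⟶ P} (H : IsPushout φ ψ a b) (t : A) (ht : t ∈ nonZeroDivisors A)
    (hfl : letI := φ.hom.toAlgebra; Module.Flat R (A ⧸ Ideal.span {t})) :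
    a.hom t ∈ nonZeroDivisors P := by
  algebraize [φ.hom, ψ.hom]
  let e : A ⊗[R] B ≃+* P :=
    ((CommRingCat.isPushout_tensorProduct R A B).isoIsPushout A B H).commRingCatIsoToRingEquiv
  have he : ∀ x : A, e (x ⊗ₜ 1) = a.hom x := by
    intro x
    have := congr($((CommRingCat.isPushout_tensorProduct R A B).inl_isoIsPushout_hom A B H).hom x)
    exact this
  have hinj := smul_tensor_injective (R := R) t ht B
  have hmul : ∀ y : A ⊗[R] B, (t ⊗ₜ[R] (1 : B)) * y = t • y := by
    intro y
    induction y using TensorProduct.induction_on with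
    | zero => simp
    | tmul x z => simp [TensorProduct.smul_tmul']
    | add x y hx hy => rw [mul_add, smul_add, hx, hy]
  rw [mem_nonZeroDivisors_iff_right]
  intro z hz
  obtain ⟨y, rfl⟩ := e.surjective z
  rw [← he, ← map_mul, mul_comm, hmul] at hz
  have : t • y = 0 := e.injective (by rw [hz, map_zero])
  have : y = 0 := hinj (by simpa using this)
  rw [this, map_zero]

end Pushout

end Groth.Agent.Lib.Helper29.FlatExt
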