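import Groth.Prelude.Def_BlowUp2
import Groth.Agent.Lib.Helper29.EffCart4
import Groth.Agent.Lib.Helper29.FlatExt

set_option autoImplicit false
universe u
open CategoryTheory CategoryTheory.Limits AlgebraicGeometry Opposite TopologicalSpace

namespace Groth.Agent.Lib.Helper29.EffCart

open Groth.Agent.Lib.Helper29.FlatExt

variable {X S : Scheme.{u}}

lemma subschemeι_comp_appLE (f : X ⟶ S) (𝓘 : X.IdealSheafData) (V : S.Opens) (U : X.Opens)
    (e : U ≤ f ⁻¹ᵁ V) :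
    (𝓘.subschemeι ≫ f).appLE V (𝓘.subschemeι ⁻¹ᵁ U)
      (fun _ hx => e hx) = f.appLE V U e ≫ 𝓘.subschemeι.app U := by
  rw [Scheme.Hom.app_eq_appLE, Scheme.Hom.appLE_comp_appLE]

/-- If `D → S` is flat then affine-locally `Γ(U)/𝓘(U)` is flat over `Γ(V)`. -/
lemma flat_quotient_of_flat_subschemeι_comp (f : X ⟶ S) (𝓘 : X.IdealSheafData)
    (hfl : Flat (𝓘.subschemeι ≫ f)) (V : S.affineOpens) (U : X.affineOpens)
    (e : U.1 ≤ f ⁻¹ᵁ V.1) :
    letI := (f.appLE V.1 U.1 e).hom.toAlgebra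
    Module.Flat Γ(S, V.1) (Γ(X, U.1) ⧸ 𝓘.ideal U) := by
  letI := (f.appLE V.1 U.1 e).hom.toAlgebra
  rw [← flat_comp_iff_flat_quotient (𝓘.subschemeι.app U.1).hom (𝓘.subschemeι_app_surjective U) _
    (𝓘.ker_subschemeι_app U)]
  have h := HasRingHomProperty.appLE (P := @Flat) _ hfl V
    ⟨𝓘.subschemeι ⁻¹ᵁ U.1, U.2.preimage _⟩ (fun _ hx => e hx)
  rw [subschemeι_comp_appLE] at h
  exact h

/-- Conversely, `D → S` is flat if around every point of `D` some affine-local quotient is flat. -/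
lemma flat_subschemeι_comp_of_forall (f : X ⟶ S) (𝓘 : X.IdealSheafData)
    (h : ∀ x ∈ 𝓘.support, ∃ (V : S.affineOpens) (U : X.affineOpens) (_ : x ∈ U.1)
      (e : U.1 ≤ f ⁻¹ᵁ V.1), letI := (f.appLE V.1 U.1 e).hom.toAlgebra
      Module.Flat Γ(S, V.1) (Γ(X, U.1) ⧸ 𝓘.ideal U)) :
    Flat (𝓘.subschemeι ≫ f) := by
  rw [HasRingHomProperty.iff_exists_appLE (P := @Flat)
    (RingHom.Flat.stableUnderComposition.stableUnderCompositionWithLocalizationAway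
      RingHom.Flat.holdsForLocalizationAway).1]
  intro d
  have hd : 𝓘.subschemeι d ∈ 𝓘.support := by
    have : 𝓘.subschemeι d ∈ Set.range 𝓘.subschemeι := ⟨d, rfl⟩
    rw [𝓘.range_subschemeι] at this
    exact this
  obtain ⟨V, U, hxU, e, hfl⟩ := h _ hd
  refine ⟨V, ⟨𝓘.subschemeι ⁻¹ᵁ U.1, U.2.preimage _⟩, hxU, fun _ hx => e hx, ?_⟩
  rw [subschemeι_comp_appLE]
  letI := (f.appLE V.1 U.1 e).hom.toAlgebra
  exact (flat_comp_iff_flat_quotient (𝓘.subschemeι.app U.1).hom (𝓘.subschemeι_app_surjective U) _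
    (𝓘.ker_subschemeι_app U)).2 hfl

/-- If all stalk maps of `f` at points of the affine open `U` are flat, the ring map
`Γ(V) → Γ(U)` is flat. -/
lemma flat_appLE_of_forall_stalkMap (f : X ⟶ S) (V : S.affineOpens) (U : X.affineOpens)
    (e : U.1 ≤ f ⁻¹ᵁ V.1) (h : ∀ x ∈ U.1, (f.stalkMap x).hom.Flat) :
    (f.appLE V.1 U.1 e).hom.Flat := by
  have h1 : Flat (f.resLE V.1 U.1 e) := by
    refine Flat.of_stalkMap _ fun x => ?_
    rw [RingHom.Flat.respectsIso.arrow_mk_iso_iff (Scheme.Hom.resLEStalkMap f e x)]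
    exact h x.1 x.2
  have : IsAffine (U.1 : Scheme) := U.2
  have : IsAffine (V.1 : Scheme) := V.2
  rw [HasRingHomProperty.iff_of_isAffine (P := @Flat)] at h1
  rwa [RingHom.Flat.respectsIso.arrow_mk_iso_iff (arrowResLEAppIso f V.1 U.1 e)] at h1

/-- Two effective Cartier ideals are simultaneously principal-nzd on a basis of affine
neighbourhoods. -/
lemma exists_affine_principal_nzd_le₂ (𝓘₁ 𝓘₂ : X.IdealSheafData)
    (h₁ : BlowUp.IsEffCartierIdeal 𝓘₁) (h₂ : BlowUp.IsEffCartierIdeal 𝓘₂) (x : X) (W₀ : X.Opens)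
    (hx : x ∈ W₀) :
    ∃ W : X.affineOpens, x ∈ W.1 ∧ W.1 ≤ W₀ ∧
      (∃ t₁ : Γ(X, W.1), t₁ ∈ nonZeroDivisors Γ(X, W.1) ∧ 𝓘₁.ideal W = Ideal.span {t₁}) ∧
      (∃ t₂ : Γ(X, W.1), t₂ ∈ nonZeroDivisors Γ(X, W.1) ∧ 𝓘₂.ideal W = Ideal.span {t₂}) := by
  obtain ⟨W₁, hxW₁, hle₁, t₁, ht₁, hI₁⟩ := exists_affine_principal_nzd_le 𝓘₁ h₁ x W₀ hx
  obtain ⟨U₂, hxU₂, t₂, ht₂, hI₂⟩ := h₂ x
  obtain ⟨f, g, hfg, hxf⟩ := exists_basicOpen_le_affine_inter W₁.2 U₂.2 x ⟨hxW₁, hxU₂⟩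
  have p₁ := principal_nzd_basicOpen 𝓘₁ W₁ t₁ ht₁ hI₁ f
  have p₂ := principal_nzd_basicOpen 𝓘₂ U₂ t₂ ht₂ hI₂ g
  have heq : X.affineBasicOpen f = X.affineBasicOpen g := Subtype.ext hfg
  rw [← heq] at p₂
  exact ⟨X.affineBasicOpen f, hxf, (X.basicOpen_le f).trans hle₁, p₁, p₂⟩

/-- The product of two effective Cartier ideals is effective Cartier. -/
theorem isEffCartierIdeal_mul (𝓘₁ 𝓘₂ : X.IdealSheafData)
    (h₁ : BlowUp.IsEffCartierIdeal 𝓘₁) (h₂ : BlowUp.IsEffCartierIdeal 𝓘₂) :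
    BlowUp.IsEffCartierIdeal (𝓘₁ * 𝓘₂) := by
  intro x
  obtain ⟨W, hxW, -, ⟨t₁, ht₁, hI₁⟩, ⟨t₂, ht₂, hI₂⟩⟩ :=
    exists_affine_principal_nzd_le₂ 𝓘₁ 𝓘₂ h₁ h₂ x ⊤ trivial
  refine ⟨W, hxW, t₁ * t₂, mul_mem ht₁ ht₂, ?_⟩
  rw [Scheme.IdealSheafData.ideal_mul, Pi.mul_apply, hI₁, hI₂, Ideal.span_singleton_mul_span_singleton]

lemma stalk_affine_surj {U : X.Opens} (hU : IsAffineOpen U) (x : X) (hx : x ∈ U)
    (b : X.presheaf.stalk x) :
    ∃ s g : Γ(X, U), IsUnit (X.presheaf.germ U x hx g) ∧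
      b * X.presheaf.germ U x hx g = X.presheaf.germ U x hx s := by
  letI := X.presheaf.algebra_section_stalk ⟨x, hx⟩
  have := hU.isLocalization_stalk ⟨x, hx⟩
  obtain ⟨⟨s, g⟩, h⟩ := IsLocalization.surj (hU.primeIdealOf ⟨x, hx⟩).asIdeal.primeCompl b
  exact ⟨s, g.1, IsLocalization.map_units (X.presheaf.stalk x) g, h⟩

lemma stalk_affine_eq_zero {U : X.Opens} (hU : IsAffineOpen U) (x : X) (hx : x ∈ U)
    (a : Γ(X, U)) (h : X.presheaf.germ U x hx a = 0) :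
    ∃ g : Γ(X, U), IsUnit (X.presheaf.germ U x hx g) ∧ g * a = 0 := by
  letI := X.presheaf.algebra_section_stalk ⟨x, hx⟩
  have := hU.isLocalization_stalk ⟨x, hx⟩
  obtain ⟨g, hg⟩ := (IsLocalization.map_eq_zero_iff
    (hU.primeIdealOf ⟨x, hx⟩).asIdeal.primeCompl (X.presheaf.stalk x) a).1 h
  exact ⟨g.1, IsLocalization.map_units (X.presheaf.stalk x) g, hg⟩

lemma germ_mem_nonZeroDivisors {U : X.Opens} (hU : IsAffineOpen U) (x : X) (hx : x ∈ U)
    (t : Γ(X, U)) (ht : t ∈ nonZeroDivisors Γ(X, U)) :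
    X.presheaf.germ U x hx t ∈ nonZeroDivisors (X.presheaf.stalk x) := by
  letI := X.presheaf.algebra_section_stalk ⟨x, hx⟩
  have := hU.isLocalization_stalk ⟨x, hx⟩
  exact IsLocalization.map_nonZeroDivisors_le (hU.primeIdealOf ⟨x, hx⟩).asIdeal.primeCompl
    (X.presheaf.stalk x) ⟨t, ht, rfl⟩

/-- The kernel of the stalk map of the closed immersion `V(𝓘) → X` at a point is generated by the
germ of a local generator of `𝓘`. -/
theorem ker_stalkMap_subschemeι (𝓘 : X.IdealSheafData) (W : X.affineOpens) (t : Γ(X, W.1))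
    (hI : 𝓘.ideal W = Ideal.span {t}) (d : 𝓘.subscheme) (hd : 𝓘.subschemeι d ∈ W.1) :
    RingHom.ker (𝓘.subschemeι.stalkMap d).hom =
      Ideal.span {X.presheaf.germ W.1 (𝓘.subschemeι d) hd t} := by
  have haff : IsAffineOpen (𝓘.subschemeι ⁻¹ᵁ W.1) := W.2.preimage 𝓘.subschemeι
  have hker : ∀ a : Γ(X, W.1), (𝓘.subschemeι.app W.1).hom a = 0 ↔ a ∈ Ideal.span {t} := by
    intro a
    rw [← hI, ← 𝓘.ker_subschemeι_app W]
    rfl
  apply le_antisymm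
  · intro b hb
    obtain ⟨s, g, hg, hbg⟩ := stalk_affine_surj W.2 _ hd b
    have h1 : (𝓘.subschemeι.stalkMap d).hom (X.presheaf.germ W.1 _ hd s) = 0 := by
      rw [← hbg, map_mul, (RingHom.mem_ker).1 hb, zero_mul]
    have h1' : 𝓘.subscheme.presheaf.germ (𝓘.subschemeι ⁻¹ᵁ W.1) d hd
        ((𝓘.subschemeι.app W.1).hom s) = 0 := by
      rw [← h1]
      exact (Scheme.Hom.germ_stalkMap_apply 𝓘.subschemeι W.1 d hd s).symm
    obtain ⟨g', hg', hg's⟩ := stalk_affine_eq_zero haff d hd _ h1'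
    obtain ⟨g'', rfl⟩ := 𝓘.subschemeι_app_surjective W g'
    have hunit : IsUnit (X.presheaf.germ W.1 _ hd g'') := by
      have h2 : IsUnit ((𝓘.subschemeι.stalkMap d).hom (X.presheaf.germ W.1 _ hd g'')) := by
        have := Scheme.Hom.germ_stalkMap_apply 𝓘.subschemeι W.1 d hd g''
        rw [show (𝓘.subschemeι.stalkMap d).hom (X.presheaf.germ W.1 _ hd g'') = _ from this]
        exact hg'
      exact isUnit_of_map_unit (𝓘.subschemeι.stalkMap d).hom _ h2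
    have h3 : g'' * s ∈ Ideal.span {t} := by
      rw [← hker, map_mul]
      exact hg's
    obtain ⟨c, hc⟩ := Ideal.mem_span_singleton'.1 h3
    rw [Ideal.mem_span_singleton']
    obtain ⟨u, hu⟩ := hg
    obtain ⟨u', hu'⟩ := hunit
    refine ⟨((u⁻¹ : (X.presheaf.stalk (𝓘.subschemeι d))ˣ) : X.presheaf.stalk (𝓘.subschemeι d)) *
      ((u'⁻¹ : (X.presheaf.stalk (𝓘.subschemeι d))ˣ) : X.presheaf.stalk (𝓘.subschemeι d)) *
      X.presheaf.germ W.1 _ hd c, ?_⟩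
    have e1 : X.presheaf.germ W.1 _ hd g'' * X.presheaf.germ W.1 _ hd s =
        X.presheaf.germ W.1 _ hd c * X.presheaf.germ W.1 _ hd t := by
      rw [← map_mul, ← map_mul, hc]
    have e2 : b = ((u⁻¹ : (X.presheaf.stalk (𝓘.subschemeι d))ˣ) : X.presheaf.stalk (𝓘.subschemeι d)) *
        X.presheaf.germ W.1 _ hd s := by
      rw [← hbg, ← hu]
      rw [mul_comm b, ← mul_assoc, Units.inv_mul, one_mul]
    have e3 : X.presheaf.germ W.1 _ hd s =
        ((u'⁻¹ : (X.presheaf.stalk (𝓘.subschemeι d))ˣ) : X.presheaf.stalk (𝓘.subschemeι d)) *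
        (X.presheaf.germ W.1 _ hd c *
        X.presheaf.germ W.1 _ hd t) := by
      rw [← e1, ← hu', ← mul_assoc, Units.inv_mul, one_mul]
    rw [e2, e3]
    ring
  · rw [Ideal.span_le, Set.singleton_subset_iff]
    change (𝓘.subschemeι.stalkMap d).hom (X.presheaf.germ W.1 _ hd t) = 0
    have := Scheme.Hom.germ_stalkMap_apply 𝓘.subschemeι W.1 d hd t
    rw [show (𝓘.subschemeι.stalkMap d).hom (X.presheaf.germ W.1 _ hd t) = _ from this]
    rw [show (𝓘.subschemeι.app W.1) t = (𝓘.subschemeι.app W.1).hom t from rfl,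
      (hker t).2 (Ideal.mem_span_singleton_self t), map_zero]


end Groth.Agent.Lib.Helper29.EffCart
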