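import Groth.Agent.Lib.Helper29.QCohStalk2
import Groth.Agent.Lib.Helper28.QCohConv

set_option autoImplicit false
universe u
open CategoryTheory CategoryTheory.Limits AlgebraicGeometry Opposite TopologicalSpace

namespace Groth.Agent.Lib.Helper29.TildeBridge

open Groth.Agent.Lib.Helper28.QCohLoc Groth.Agent.Lib.Helper29.QCohStalk

variable {A : CommRingCat.{u}} (M : ModuleCat.{u} A)

/-- the ring iso `A ≅ Γ(Spec A, ⊤)` -/
noncomputable def ι : A ≃+* Γ(Spec A, ⊤) := (Scheme.ΓSpecIso A).symm.commRingCatIsoToRingEquiv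

/-- the map `M → Γ(tilde M, ⊤)` -/
noncomputable def e (m : M) : Γ(tilde M, ⊤) := (tilde.toOpen M ⊤).hom m

theorem e_add (m n : M) : e M (m + n) = e M m + e M n := map_add _ _ _

theorem e_zero : e M 0 = 0 := map_zero _

theorem e_smul (a : A) (m : M) : e M (a • m) = ι a • e M m := by
  have h := (tilde.toOpen M ⊤).hom.map_smul a m
  refine h.trans ?_
  have h2 := Scheme.Modules.smul_Spec_def (M := tilde M) (U := ⊤) a (e M m)
  refine h2.trans ?_
  congr 1

theorem e_bijective : Function.Bijective (e M) := by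
  have : IsIso (tilde.toOpen M ⊤) := inferInstance
  exact (ConcreteCategory.isIso_iff_bijective _).1 this

theorem e_eq_zero_iff (m : M) : e M m = 0 ↔ m = 0 := by
  constructor
  · intro h
    exact (e_bijective M).1 (h.trans (e_zero M).symm)
  · rintro rfl; exact e_zero M

theorem mem_basicOpen_ι (a : A) (p : Spec A) : p ∈ (Spec A).basicOpen (ι a) ↔ a ∉ p.asIdeal := by
  have h : (Spec A).basicOpen (ι a) = PrimeSpectrum.basicOpen a := basicOpen_eq_of_affine a
  rw [h]
  rfl

theorem mem_top' (p : Spec A) : p ∈ (⊤ : (Spec A).Opens) := trivial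

theorem ι_mem_germPrime_iff (a : A) (p : Spec A) :
    ι a ∈ germPrime (⊤ : (Spec A).Opens) p (mem_top' p) ↔ a ∈ p.asIdeal := by
  rw [mem_germPrime_iff_notMem_basicOpen, mem_basicOpen_ι, not_not]

theorem isLocOn_tilde : IsLocOn (tilde M) (⊤ : (Spec A).Opens) :=
  isLocOn_of_isQuasicoherent (tilde M) (isAffineOpen_top (Spec A))

theorem mem_minimalPrimes_comap_equiv {R S : Type*} [CommRing R] [CommRing S] (f : R ≃+* S) (I J : Ideal S) :
    J.comap (f : R →+* S) ∈ (I.comap (f : R →+* S)).minimalPrimes ↔ J ∈ I.minimalPrimes := by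
  constructor
  · intro h
    have h2 := Ideal.minimalPrimes_comap_of_surjective (f := (f.symm : S →+* R)) f.symm.surjective h
    have hc : ∀ K : Ideal S, (K.comap (f : R →+* S)).comap (f.symm : S →+* R) = K := by
      intro K
      ext x
      rw [Ideal.mem_comap, Ideal.mem_comap]
      simp
    rwa [hc, hc] at h2
  · exact Ideal.minimalPrimes_comap_of_surjective (f := (f : R →+* S)) f.surjective

theorem comap_germPrime (p : Spec A) :
    (germPrime (⊤ : (Spec A).Opens) p (mem_top' p)).comap ((ι : A ≃+* Γ(Spec A, ⊤)) : A →+* Γ(Spec A, ⊤)) = p.asIdeal := by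
  ext a
  rw [Ideal.mem_comap]
  exact ι_mem_germPrime_iff a p

theorem comap_ann (m : M) :
    (ann (R := Γ(Spec A, ⊤)) (e M m)).comap ((ι : A ≃+* Γ(Spec A, ⊤)) : A →+* Γ(Spec A, ⊤)) = (Submodule.span A {m}).annihilator := by
  ext a
  rw [Ideal.mem_comap, mem_ann, Submodule.mem_annihilator_span_singleton]
  have : ((ι : A ≃+* Γ(Spec A, ⊤)) : A →+* Γ(Spec A, ⊤)) a • e M m = e M (a • m) := (e_smul M a m).symm
  rw [this, e_eq_zero_iff]

end Groth.Agent.Lib.Helper29.TildeBridge
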