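import Groth.Prelude.Def_OmegaPn
import Mathlib.Algebra.Category.ModuleCat.Sheaf.PullbackFree

set_option autoImplicit false
universe u
open CategoryTheory CategoryTheory.Limits AlgebraicGeometry TopologicalSpace Opposite

namespace Groth.Agent.Lib.Helper29.UnitIso

variable {X Y : Scheme.{u}}

theorem final_opensMap (f : X ⟶ Y) : (TopologicalSpace.Opens.map f.base).Final where
  out d := by
    let T : StructuredArrow d (TopologicalSpace.Opens.map f.base) :=
      StructuredArrow.mk (Y := ⊤) (homOfLE le_top)
    have hT : IsTerminal T := by
      refine IsTerminal.ofUniqueHom (fun A => StructuredArrow.homMk (homOfLE le_top) (Subsingleton.elim _ _)) ?_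
      intro A m
      apply StructuredArrow.ext
      exact Subsingleton.elim _ _
    haveI : HasTerminal (StructuredArrow d (TopologicalSpace.Opens.map f.base)) := hT.hasTerminal
    exact isConnected_of_hasTerminal _

set_option backward.isDefEq.respectTransparency.types false in
/-- the canonical map from the pullback of the structure sheaf to the structure sheaf. -/
noncomputable def unitHom (f : X ⟶ Y) :
    (Scheme.Modules.pullback f).obj (Coh.structureModule Y) ⟶ Coh.structureModule X :=
  SheafOfModules.pullbackObjUnitToUnit f.toRingCatSheafHom

set_option backward.isDefEq.respectTransparency.types false in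
instance isIso_unitHom (f : X ⟶ Y) : IsIso (unitHom f) := by
  haveI := final_opensMap f
  exact SheafOfModules.instIsIsoPullbackObjUnitToUnitOfFinal _

theorem unitHom_pullSect (f : X ⟶ Y) (U : Y.Opens) (s : Γ(Y, U)) :
    (unitHom f).app (f ⁻¹ᵁ U)
      (OmegaSh.pullSect f (Coh.structureModule Y) U (OmegaSh.strSect Y U s)) =
      OmegaSh.strSect X (f ⁻¹ᵁ U) (f.app U s) := by
  have h1 : (Scheme.Modules.pullbackPushforwardAdjunction f).unit.app (Coh.structureModule Y) ≫
      (Scheme.Modules.pushforward f).map (unitHom f) =
      SheafOfModules.unitToPushforwardObjUnit f.toRingCatSheafHom := by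
    have h2 := SheafOfModules.pullbackPushforwardAdjunction_homEquiv_pullbackObjUnitToUnit
      f.toRingCatSheafHom
    rw [Adjunction.homEquiv_unit] at h2
    exact h2
  have h3 := congrArg (fun φ : Coh.structureModule Y ⟶
      (Scheme.Modules.pushforward f).obj (Coh.structureModule X) => φ.app U
        (OmegaSh.strSect Y U s)) h1
  exact h3

end Groth.Agent.Lib.Helper29.UnitIso
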