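import Groth.Agent.Lib.Helper29.MeroDenom
import Groth.Agent.Lib.Helper29.QCohStalk2
import Groth.Agent.Lib.Helper28.InvQC
import Groth.Agent.Lib.Helper28.SecTwistCompat
import Groth.Prelude.Def_PicF2

set_option autoImplicit false
set_option linter.unusedVariables false
set_option linter.style.haveILetI false
universe u

namespace Groth.Agent.Lib.Helper29.ZeroSch

open AlgebraicGeometry TopologicalSpace CategoryTheory Opposite
open Groth.Agent.Lib.Helper28.QCohLoc Groth.Agent.Lib.Helper29.FreeIso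
  Groth.Agent.Lib.Helper29.QCohStalk
  Groth.Agent.Lib.Helper29.MeroGen Groth.Agent.Lib.Helper29.MeroDenom

variable {X : Scheme.{u}} (L : X.Modules) (s : Coh.structureModule X ⟶ L)

/-- the section named by `s` over `U` -/
noncomputable abbrev σ (U : X.Opens) : Γ(L, U) := PicF2.secVal L s U

theorem res_σ {U V : X.Opens} (h : V ≤ U) : res L h (σ L s U) = σ L s V := by
  have h1 : σ L s U = res L (le_top : U ≤ ⊤) (Groth.Agent.Lib.Helper28.GenLocus.secOf s) :=
    Groth.Agent.Lib.Helper28.GenLocus.sectwist_val s U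
  have h2 : σ L s V = res L (le_top : V ≤ ⊤) (Groth.Agent.Lib.Helper28.GenLocus.secOf s) :=
    Groth.Agent.Lib.Helper28.GenLocus.sectwist_val s V
  rw [h1, h2, res_res]

/-- the ideal of the zero scheme over `U`, as an ideal of `Γ(X, U)` -/
noncomputable abbrev zI (U : X.Opens) : Ideal Γ(X, U) := PicF2.zeroIdealOn L s U

theorem mem_zI_iff (U : X.Opens) (a : Γ(X, U)) :
    a ∈ zI L s U ↔ ∀ m : Γ(L, U), ∃ b : Γ(X, U), a • m = b • σ L s U := Iff.rfl

/-- the stalkwise condition -/
def StalkCond (x : X) (r : X.presheaf.stalk x) : Prop :=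
  ∀ μ : L.presheaf.stalk x, ∃ β : X.presheaf.stalk x, r • μ = β • gm L ⊤ x trivial (σ L s ⊤)

theorem gm_σ (U : X.Opens) (x : X) (hx : x ∈ U) :
    gm L U x hx (σ L s U) = gm L ⊤ x trivial (σ L s ⊤) := by
  rw [← res_σ L s (le_top : U ≤ ⊤), gm_res]

variable {L s}

/-- over an affine open, membership in the zero ideal is a stalkwise condition -/
theorem mem_zI_iff_stalk {U : X.Opens} (hU : IsAffineOpen U) (hloc : IsLocOn L U) (a : Γ(X, U)) :
    a ∈ zI L s U ↔ ∀ (x : X) (hx : x ∈ U), StalkCond L s x (X.presheaf.germ U x hx a) := by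
  constructor
  · intro ha x hx μ
    obtain ⟨g, m, hg, hgm⟩ := exists_germ_smul_eq L hU hloc x hx μ
    obtain ⟨b, hb⟩ := (mem_zI_iff L s U a).1 ha m
    have h1 := congrArg (gm L U x hx) hb
    rw [gm_smul, gm_smul, gm_σ, ← hgm] at h1
    obtain ⟨v, hv⟩ := hg
    refine ⟨(↑v⁻¹ : X.presheaf.stalk x) * X.presheaf.germ U x hx b, ?_⟩
    rw [mul_smul, ← h1, ← hv, smul_smul, smul_smul]
    congr 1
    rw [mul_comm, ← mul_assoc, Units.mul_inv, one_mul]
  · intro h
    rw [mem_zI_iff]
    intro m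
    -- the ideal of multipliers
    let 𝔞 : Ideal Γ(X, U) :=
      { carrier := {r | ∃ b : Γ(X, U), r • (a • m) = b • σ L s U}
        add_mem' := by
          rintro r r' ⟨b, hb⟩ ⟨b', hb'⟩
          exact ⟨b + b', by rw [add_smul, add_smul, hb, hb']⟩
        zero_mem' := ⟨0, by rw [zero_smul, zero_smul]⟩
        smul_mem' := by
          rintro c r ⟨b, hb⟩
          exact ⟨c * b, by rw [smul_eq_mul, mul_smul, hb, mul_smul]⟩ }
    have htop : 𝔞 = ⊤ := by
      by_contra hne
      obtain ⟨𝔪, h𝔪, hle⟩ := Ideal.exists_le_maximal 𝔞 hne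
      let P : PrimeSpectrum Γ(X, U) := ⟨𝔪, h𝔪.isPrime⟩
      have hxU : hU.fromSpec P ∈ U := fromSpec_mem hU P
      have hP : germPrime U (hU.fromSpec P) hxU = 𝔪 := germPrime_fromSpec hU P
      obtain ⟨β, hβ⟩ := h (hU.fromSpec P) hxU (gm L U (hU.fromSpec P) hxU m)
      obtain ⟨s', g, hg, hsg⟩ := stalk_affine_surj hU (hU.fromSpec P) hxU β
      have h1 : gm L U (hU.fromSpec P) hxU (g • (a • m) - s' • σ L s U) = 0 := by
        have e1 : gm L U (hU.fromSpec P) hxU (g • (a • m) - s' • σ L s U) =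
            gm L U (hU.fromSpec P) hxU (g • (a • m)) - gm L U (hU.fromSpec P) hxU (s' • σ L s U) :=
          map_sub _ _ _
        rw [e1, gm_smul, gm_smul, gm_smul, gm_σ, hβ, ← hsg, smul_smul, mul_comm, sub_self]
      obtain ⟨g', hg', hg'0⟩ := exists_smul_eq_zero_of_gm_eq_zero L hU hloc _ hxU _ h1
      have hmem : g' * g ∈ 𝔞 := by
        refine ⟨g' * s', ?_⟩
        rw [smul_sub, sub_eq_zero] at hg'0
        rw [mul_smul, mul_smul]
        exact hg'0
      have h2 : g' * g ∈ germPrime U (hU.fromSpec P) hxU := by rw [hP]; exact hle hmem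
      rw [mem_germPrime_iff, map_mul] at h2
      exact h2 (hg'.mul hg)
    have h1 : (1 : Γ(X, U)) ∈ 𝔞 := by rw [htop]; trivial
    obtain ⟨b, hb⟩ := h1
    rw [one_smul] at hb
    exact ⟨b, hb⟩

section local_crit

variable {V₀ : X.Opens} {e : Γ(L, V₀)} {c : Γ(X, V₀)}

/-- local criterion: where `L` is free on `e` and `s = c • e`, the zero ideal is `(c)` -/
theorem mem_zI_iff_local (he : IsGen L V₀ e) (hc : σ L s V₀ = c • e) {T : X.Opens} (hT : T ≤ V₀)
    (a : Γ(X, T)) : a ∈ zI L s T ↔ ∃ b : Γ(X, T), a = b * resO hT c := by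
  have hσ : σ L s T = resO hT c • res L hT e := by
    rw [← res_σ L s hT, hc, res_smul]
  constructor
  · intro ha
    obtain ⟨b, hb⟩ := (mem_zI_iff L s T a).1 ha (res L hT e)
    refine ⟨b, ?_⟩
    rw [hσ, smul_smul] at hb
    have h1 : ((a - b * resO hT c) • res L hT e : Γ(L, T)) = 0 := by
      rw [sub_smul, hb, sub_self]
    exact sub_eq_zero.1 (he.indep hT _ h1)
  · rintro ⟨b, rfl⟩
    rw [mem_zI_iff]
    intro m
    obtain ⟨r, rfl⟩ := IsGen.exists_coeff he hT m
    refine ⟨b * r, ?_⟩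
    rw [hσ, smul_smul, smul_smul]
    congr 1
    ring

end local_crit

section local_step

variable {V₀ : X.Opens} {e : Γ(L, V₀)} {c : Γ(X, V₀)}

/-- affine local step -/
theorem exists_pow_mul_mem_zI_local (he : IsGen L V₀ e) (hc : σ L s V₀ = c • e)
    {T : X.Opens} (hTaff : IsAffineOpen T) (hT : T ≤ V₀) (f : Γ(X, T))
    (η : Γ(X, X.basicOpen f)) (hη : η ∈ zI L s (X.basicOpen f)) (φ : Γ(X, T)) (k : ℕ)
    (hrel : η * resO (X.basicOpen_le f) f ^ k = resO (X.basicOpen_le f) φ) :
    ∃ N : ℕ, f ^ N * φ ∈ zI L s T := by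
  have hD : X.basicOpen f ≤ T := X.basicOpen_le f
  obtain ⟨b, hb⟩ := (mem_zI_iff_local he hc (hD.trans hT) η).1 hη
  haveI := hTaff.isLocalization_basicOpen f
  obtain ⟨⟨b', ⟨_, k', rfl⟩⟩, hk'⟩ := IsLocalization.surj (Submonoid.powers f)
    (show Γ(X, X.basicOpen f) from b)
  have hk'' : b * resO hD f ^ k' = resO hD b' := by
    have : (show Γ(X, X.basicOpen f) from b) * algebraMap Γ(X, T) Γ(X, X.basicOpen f) (f ^ k') =
        algebraMap Γ(X, T) Γ(X, X.basicOpen f) b' := hk'
    rw [map_pow] at this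
    exact this
  set cT := resO hT c with hcT
  have hc' : resO (hD.trans hT) c = resO hD cT := (resO_resO hT hD c).symm
  rw [hc'] at hb
  have hz : algebraMap Γ(X, T) Γ(X, X.basicOpen f) (φ * f ^ k' - b' * cT * f ^ k) = 0 := by
    change resO hD (φ * f ^ k' - b' * cT * f ^ k) = 0
    rw [resO_sub, resO_mul, resO_mul, resO_mul, resO_pow', resO_pow', ← hrel, ← hk'', hb]
    ring
  obtain ⟨⟨_, M, rfl⟩, hM⟩ := (IsLocalization.map_eq_zero_iff (Submonoid.powers f)
    Γ(X, X.basicOpen f) _).1 hz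
  refine ⟨M + k', (mem_zI_iff_local he hc hT _).2 ⟨f ^ (M + k) * b', ?_⟩⟩
  have hM' : f ^ M * (φ * f ^ k' - b' * cT * f ^ k) = 0 := hM
  rw [← hcT]
  have : f ^ (M + k') * φ - f ^ (M + k) * b' * cT =
      f ^ M * (φ * f ^ k' - b' * cT * f ^ k) := by ring
  exact sub_eq_zero.1 (this.trans hM')

end local_step

variable (L s) in
theorem isLocOn_of_isInvertible (hL : PicF.IsInvertible L) {U : X.Opens} (hU : IsAffineOpen U) :
    IsLocOn L U := by
  haveI := Groth.Agent.Lib.Helper28.InvQC.isQuasicoherent_of_isInvertible L hL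
  exact isLocOn_of_isQuasicoherent L hU

/-- restriction between affine opens preserves the zero ideal -/
theorem resO_mem_zI (hL : PicF.IsInvertible L) {U T : X.Opens} (hU : IsAffineOpen U)
    (hT : IsAffineOpen T) (h : T ≤ U) (a : Γ(X, U)) (ha : a ∈ zI L s U) : resO h a ∈ zI L s T := by
  rw [mem_zI_iff_stalk hT (isLocOn_of_isInvertible L hL hT)]
  intro x hx
  rw [germ_resO]
  exact (mem_zI_iff_stalk hU (isLocOn_of_isInvertible L hL hU) a).1 ha x (h hx)

/-- global step over an affine open -/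
theorem exists_pow_mul_mem_zI (hL : PicF.IsInvertible L) {U : X.Opens} (hU : IsAffineOpen U)
    (f : Γ(X, U)) (h : Γ(X, X.basicOpen f)) (hh : h ∈ zI L s (X.basicOpen f)) (h' : Γ(X, U)) (k : ℕ)
    (hrel : h * resO (X.basicOpen_le f) f ^ k = resO (X.basicOpen_le f) h') :
    ∃ N : ℕ, f ^ N * h' ∈ zI L s U := by
  have step1 : ∀ x : U, ∃ (T : X.Opens) (hT : T ≤ U) (N : ℕ), x.1 ∈ T ∧
      ∀ n, N ≤ n → ∀ (y : X) (hy : y ∈ T),
        StalkCond L s y (X.presheaf.germ U y (hT hy) (f ^ n * h')) := by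
    intro x
    obtain ⟨V, hxV, e, he⟩ := exists_isGen hL x.1
    obtain ⟨c, hc⟩ := IsGen.exists_coeff he (le_refl V) (σ L s V)
    rw [res_self] at hc
    obtain ⟨g, hgV, hxg⟩ := hU.exists_basicOpen_le (V := V) ⟨x.1, hxV⟩ x.2
    have hTU : X.basicOpen g ≤ U := X.basicOpen_le g
    have hTaff : IsAffineOpen (X.basicOpen g) := hU.basicOpen g
    set fT := resO hTU f with hfT
    have hDle : X.basicOpen fT ≤ X.basicOpen f := by
      rw [hfT, Scheme.basicOpen_res]
      exact inf_le_right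
    obtain ⟨N, hN⟩ := exists_pow_mul_mem_zI_local he hc hTaff hgV fT
      (resO hDle h) (resO_mem_zI hL (hU.basicOpen f) (hTaff.basicOpen fT) hDle h hh)
      (resO hTU h') k (by
        have h1 := congrArg (resO hDle) hrel
        rw [resO_mul, resO_pow', resO_resO, resO_resO] at h1
        have e1 : resO (X.basicOpen_le fT) fT = resO ((X.basicOpen_le fT).trans hTU) f :=
          resO_resO hTU _ f
        rw [e1, resO_resO]
        exact h1)
    refine ⟨X.basicOpen g, hTU, N, hxg, fun n hn y hy => ?_⟩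
    have h2 : resO hTU (f ^ n * h') = fT ^ (n - N) * (fT ^ N * resO hTU h') := by
      rw [← mul_assoc, ← pow_add, Nat.sub_add_cancel hn, resO_mul, resO_pow']
    have h3 : resO hTU (f ^ n * h') ∈ zI L s (X.basicOpen g) := by
      rw [h2]
      exact Ideal.mul_mem_left _ _ hN
    have h4 := (mem_zI_iff_stalk hTaff (isLocOn_of_isInvertible L hL hTaff) _).1 h3 y hy
    rw [germ_resO] at h4
    exact h4
  choose T hT N hxT hN using step1
  obtain ⟨t, ht⟩ := hU.isCompact.elim_nhds_subcover' (fun x hx => (T ⟨x, hx⟩ : Set X))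
    (fun x hx => (T ⟨x, hx⟩).2.mem_nhds (hxT ⟨x, hx⟩))
  refine ⟨t.sup N, ?_⟩
  rw [mem_zI_iff_stalk hU (isLocOn_of_isInvertible L hL hU)]
  intro y hy
  have hy' := ht hy
  simp only [Set.mem_iUnion] at hy'
  obtain ⟨x, hxt, hyx⟩ := hy'
  exact hN ⟨x.1, x.2⟩ _ (Finset.le_sup (f := N) hxt) y hyx

/-- the zero ideals are compatible with localization -/
theorem map_zI_basicOpen (hL : PicF.IsInvertible L) {U : X.Opens} (hU : IsAffineOpen U)
    (f : Γ(X, U)) :
    (zI L s U).map (X.presheaf.map (homOfLE (X.basicOpen_le f)).op).hom = zI L s (X.basicOpen f) := by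
  apply le_antisymm
  · rw [Ideal.map_le_iff_le_comap]
    intro g hg
    exact resO_mem_zI hL hU (hU.basicOpen f) (X.basicOpen_le f) g hg
  · intro h hh
    haveI := hU.isLocalization_basicOpen f
    obtain ⟨⟨h', ⟨_, k, rfl⟩⟩, hk⟩ := IsLocalization.surj (Submonoid.powers f)
      (show Γ(X, X.basicOpen f) from h)
    have hk' : h * resO (X.basicOpen_le f) f ^ k = resO (X.basicOpen_le f) h' := by
      have : (show Γ(X, X.basicOpen f) from h) * algebraMap Γ(X, U) Γ(X, X.basicOpen f) (f ^ k) =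
          algebraMap Γ(X, U) Γ(X, X.basicOpen f) h' := hk
      rw [map_pow] at this
      exact this
    obtain ⟨N, hN⟩ := exists_pow_mul_mem_zI hL hU f h hh h' k hk'
    have h1 : resO (X.basicOpen_le f) (f ^ N * h') ∈
        (zI L s U).map (X.presheaf.map (homOfLE (X.basicOpen_le f)).op).hom :=
      Ideal.mem_map_of_mem _ hN
    have hu : IsUnit (resO (X.basicOpen_le f) f) := X.toRingedSpace.isUnit_res_basicOpen f
    have h2 : resO (X.basicOpen_le f) (f ^ N * h') = resO (X.basicOpen_le f) f ^ (N + k) * h := by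
      rw [resO_mul, resO_pow', ← hk', pow_add]
      ring
    rw [h2] at h1
    exact (Ideal.unit_mul_mem_iff_mem _ (hu.pow (N + k))).1 h1

variable (L s) in
/-- the zero ideals of a section of an invertible module, as an ideal sheaf -/
noncomputable def zeroData (hL : PicF.IsInvertible L) : X.IdealSheafData where
  ideal U := zI L s U.1
  map_ideal_basicOpen U f := map_zI_basicOpen hL U.2 f

theorem zeroScheme_eq (hL : PicF.IsInvertible L) : PicF2.zeroScheme L s = zeroData L s hL :=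
  Scheme.IdealSheafData.ofIdeals_ideal (zeroData L s hL)

/-- **the ideal of the zero scheme over an affine open** -/
theorem zeroScheme_ideal (hL : PicF.IsInvertible L) (U : X.affineOpens) :
    (PicF2.zeroScheme L s).ideal U = zI L s U.1 := by
  rw [zeroScheme_eq hL]
  rfl

/-- where `L` is free on `e` and `s = c • e`, the ideal of the zero scheme is `(c)` -/
theorem zeroScheme_ideal_eq_span (hL : PicF.IsInvertible L) (U : X.affineOpens) {e : Γ(L, U.1)}
    (he : IsGen L U.1 e) {c : Γ(X, U.1)} (hc : σ L s U.1 = c • e) :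
    (PicF2.zeroScheme L s).ideal U = Ideal.span {c} := by
  rw [zeroScheme_ideal hL]
  ext a
  rw [mem_zI_iff_local he hc (le_refl U.1), Ideal.mem_span_singleton']
  constructor
  · rintro ⟨b, hb⟩
    exact ⟨b, by rw [hb, resO_self']⟩
  · rintro ⟨b, hb⟩
    exact ⟨b, by rw [← hb, resO_self']⟩

end Groth.Agent.Lib.Helper29.ZeroSch
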