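import Groth.Agent.Lib.Helper29.OmegaCan

set_option autoImplicit false
universe u
open CategoryTheory CategoryTheory.Limits AlgebraicGeometry TensorProduct Opposite

namespace Groth.Agent.Lib.Helper29.OmegaUniv

open Groth.Agent.Lib.Helper29.OmegaLoc Groth.Agent.Lib.Helper28.QCohLoc

variable {X S : Scheme.{u}} (f : X ⟶ S) [QuasiSeparated f]
  {U : X.Opens} (hU : IsAffineOpen U) {V : S.Opens} (hV : IsAffineOpen V) (e : U ≤ f ⁻¹ᵁ V)

include hU hV e in
/-- Over an affine pair the sections of `Ω_{X/S}` are spanned by the `d s`. -/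
theorem span_dSect (x : Γ(Omega.sheaf f, U)) :
    x ∈ Submodule.span Γ(X, U) (Set.range (OmegaSh.dSect f U)) := by
  letI := alg f e
  obtain ⟨Φ, hΦs, hΦd⟩ := OmegaCan.exists_sections_equiv_can f hU hV e
  have key : ∀ y : Ω[Γ(X, U)⁄Γ(S, V)],
      Φ.symm y ∈ Submodule.span Γ(X, U) (Set.range (OmegaSh.dSect f U)) := by
    intro y
    have hy : y ∈ Submodule.span Γ(X, U) (Set.range (KaehlerDifferential.D Γ(S, V) Γ(X, U))) := by
      rw [KaehlerDifferential.span_range_derivation]; trivial
    induction hy using Submodule.span_induction with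
    | mem z hz =>
      obtain ⟨s, rfl⟩ := hz
      rw [← hΦd, Φ.symm_apply_apply]
      exact Submodule.subset_span ⟨s, rfl⟩
    | zero => rw [map_zero]; exact zero_mem _
    | add y z _ _ hy hz => rw [map_add]; exact add_mem hy hz
    | smul b y _ hy =>
      have : Φ.symm (b • y) = b • Φ.symm y := by
        apply Φ.injective
        rw [hΦs, Φ.apply_symm_apply, Φ.apply_symm_apply]
      rw [this]
      exact Submodule.smul_mem _ b hy
  have := key (Φ x)
  rwa [Φ.symm_apply_apply] at this

omit [QuasiSeparated f] in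
/-- a derivation kills the functions coming from the base. -/
theorem der_appLE {F : X.Modules} (D : OmegaSh.Der f F) (V : S.Opens) (U : X.Opens) (e : U ≤ f ⁻¹ᵁ V)
    (c : Γ(S, V)) : D.app U (f.appLE V U e c) = 0 := by
  rw [Scheme.Hom.appLE]
  change D.d (X := op U) (X.presheaf.map (homOfLE e).op (f.app V c)) = 0
  rw [D.d_map]
  have h0 : D.d (X := op (f ⁻¹ᵁ V)) (f.app V c) = 0 := D.d_app (X := op V) c
  rw [h0]
  exact map_zero _

omit [QuasiSeparated f] in
theorem der_res {F : X.Modules} (D : OmegaSh.Der f F) {U U' : X.Opens} (h : U' ≤ U) (s : Γ(X, U)) :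
    D.app U' (resO h s) = res F h (D.app U s) :=
  D.d_map (homOfLE h).op s

omit [QuasiSeparated f] in
theorem der_mul {F : X.Modules} (D : OmegaSh.Der f F) (U : X.Opens) (a b : Γ(X, U)) :
    D.app U (a * b) = a • D.app U b + b • D.app U a :=
  D.d_mul a b

include hU hV e in
/-- local factorisation of a derivation through `d_{X/S}` over an affine pair. -/
theorem exists_local_lift (F : X.Modules) (D : OmegaSh.Der f F) :
    ∃ α : Γ(Omega.sheaf f, U) →+ Γ(F, U),
      (∀ (b : Γ(X, U)) (x : Γ(Omega.sheaf f, U)), α (b • x) = b • α x) ∧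
      ∀ s : Γ(X, U), α (OmegaSh.dSect f U s) = D.app U s := by
  letI := alg f e
  obtain ⟨Φ, hΦs, hΦd⟩ := OmegaCan.exists_sections_equiv_can f hU hV e
  letI : Module Γ(S, V) Γ(F, U) := Module.compHom _ (algebraMap Γ(S, V) Γ(X, U))
  haveI : IsScalarTower Γ(S, V) Γ(X, U) Γ(F, U) := ⟨fun a b m => by
    change (a • b) • m = algebraMap Γ(S, V) Γ(X, U) a • (b • m)
    rw [Algebra.smul_def, mul_smul]⟩
  have h0 : ∀ a : Γ(S, V), D.app U (algebraMap Γ(S, V) Γ(X, U) a) = 0 := fun a => der_appLE f D V U e a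
  let der : Derivation Γ(S, V) Γ(X, U) Γ(F, U) :=
    { toFun := fun b => D.app U b
      map_add' := fun b b' => map_add _ b b'
      map_smul' := fun a b => by
        change D.app U (a • b) = algebraMap Γ(S, V) Γ(X, U) a • D.app U b
        rw [Algebra.smul_def, der_mul, h0, smul_zero, add_zero]
      map_one_eq_zero' := by
        change D.app U 1 = 0
        rw [← (algebraMap Γ(S, V) Γ(X, U)).map_one, h0]
      leibniz' := fun b b' => der_mul f D U b b' }
  refine ⟨(der.liftKaehlerDifferential).toAddMonoidHom.comp Φ.toAddMonoidHom, ?_, ?_⟩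
  · intro b x
    change der.liftKaehlerDifferential (Φ (b • x)) = b • der.liftKaehlerDifferential (Φ x)
    rw [hΦs, map_smul]
  · intro s
    change der.liftKaehlerDifferential (Φ (OmegaSh.dSect f U s)) = _
    rw [hΦd]
    exact der.liftKaehlerDifferential_comp_D s

include hU hV e in
/-- semilinear additive maps out of `Γ(Ω, U)` are determined by their values on the `d s`. -/
theorem local_ext {R' M : Type*} [Semiring R'] [AddCommMonoid M] [Module R' M] (ρ : Γ(X, U) →+* R')
    (α β : Γ(Omega.sheaf f, U) →+ M)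
    (hα : ∀ (b : Γ(X, U)) (x : Γ(Omega.sheaf f, U)), α (b • x) = ρ b • α x)
    (hβ : ∀ (b : Γ(X, U)) (x : Γ(Omega.sheaf f, U)), β (b • x) = ρ b • β x)
    (h : ∀ s : Γ(X, U), α (OmegaSh.dSect f U s) = β (OmegaSh.dSect f U s))
    (x : Γ(Omega.sheaf f, U)) : α x = β x := by
  have hx := span_dSect f hU hV e x
  induction hx using Submodule.span_induction with
  | mem z hz =>
    obtain ⟨s, rfl⟩ := hz
    exact h s
  | zero => rw [map_zero, map_zero]
  | add y z _ _ hy hz => rw [map_add, map_add, hy, hz]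
  | smul b y _ hy => rw [hα, hβ, hy]

/-- the index type of the basis of affine pairs. -/
abbrev Idx : Type u :=
  {p : X.Opens × S.Opens // IsAffineOpen p.1 ∧ IsAffineOpen p.2 ∧ p.1 ≤ f ⁻¹ᵁ p.2}

/-- the basis of affine opens of `X` mapping into an affine open of `S`. -/
abbrev B (i : Idx f) : X.Opens := i.1.1

omit [QuasiSeparated f] in
theorem isBasis : TopologicalSpace.Opens.IsBasis (Set.range (B f)) := by
  rw [TopologicalSpace.Opens.isBasis_iff_nbhd]
  intro W x hx
  obtain ⟨U, V, hU, hV, hxU, hUV⟩ := exists_affine_pair f x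
  obtain ⟨U', hU', hxU', hU'W⟩ := TopologicalSpace.Opens.isBasis_iff_nbhd.mp X.isBasis_affineOpens
    (show x ∈ W ⊓ U from ⟨hx, hxU⟩)
  exact ⟨U', ⟨⟨(U', V), hU', hV, (hU'W.trans inf_le_right).trans hUV⟩, rfl⟩, hxU', hU'W.trans inf_le_left⟩

omit [QuasiSeparated f] in
theorem le_iSup_B (W : X.Opens) : W ≤ ⨆ i : {i : Idx f // B f i ≤ W}, B f i.1 := by
  intro x hx
  obtain ⟨_, ⟨i, rfl⟩, hxi, hiW⟩ := TopologicalSpace.Opens.isBasis_iff_nbhd.mp (isBasis f) hx
  exact TopologicalSpace.Opens.mem_iSup.2 ⟨⟨i, hiW⟩, hxi⟩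

variable (F : X.Modules) (D : OmegaSh.Der f F)

/-- the local factorisation over a basis element. -/
noncomputable def loc (i : Idx f) : Γ(Omega.sheaf f, B f i) →+ Γ(F, B f i) :=
  Classical.choose (exists_local_lift f i.2.1 i.2.2.1 i.2.2.2 F D)

theorem loc_smul (i : Idx f) (b : Γ(X, B f i)) (x : Γ(Omega.sheaf f, B f i)) :
    loc f F D i (b • x) = b • loc f F D i x :=
  (Classical.choose_spec (exists_local_lift f i.2.1 i.2.2.1 i.2.2.2 F D)).1 b x

theorem loc_d (i : Idx f) (s : Γ(X, B f i)) :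
    loc f F D i (OmegaSh.dSect f (B f i) s) = D.app (B f i) s :=
  (Classical.choose_spec (exists_local_lift f i.2.1 i.2.2.1 i.2.2.2 F D)).2 s

theorem loc_res (i j : Idx f) (h : B f j ≤ B f i) (x : Γ(Omega.sheaf f, B f i)) :
    res F h (loc f F D i x) = loc f F D j (res (Omega.sheaf f) h x) := by
  let r1 : Γ(F, B f i) →+ Γ(F, B f j) := (F.presheaf.map (homOfLE h).op).hom
  let r2 : Γ(Omega.sheaf f, B f i) →+ Γ(Omega.sheaf f, B f j) :=
    ((Omega.sheaf f).presheaf.map (homOfLE h).op).hom
  refine local_ext f i.2.1 i.2.2.1 i.2.2.2 (X.presheaf.map (homOfLE h).op).hom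
    (r1.comp (loc f F D i)) ((loc f F D j).comp r2) ?_ ?_ ?_ x
  · intro b y
    change res F h (loc f F D i (b • y)) = resO h b • res F h (loc f F D i y)
    rw [loc_smul, res_smul]
  · intro b y
    change loc f F D j (res (Omega.sheaf f) h (b • y)) = resO h b • loc f F D j (res (Omega.sheaf f) h y)
    rw [res_smul, loc_smul]
  · intro s
    change res F h (loc f F D i (OmegaSh.dSect f (B f i) s)) =
      loc f F D j (res (Omega.sheaf f) h (OmegaSh.dSect f (B f i) s))
    rw [loc_d, ← der_res]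
    have h1 : res (Omega.sheaf f) h (OmegaSh.dSect f (B f i) s) =
        OmegaSh.dSect f (B f j) (resO h s) := (OmegaSh.dSect_map f h s).symm
    rw [h1, loc_d]

/-- the local factorisations, as a natural transformation on the basis. -/
noncomputable def locNat :
    (inducedFunctor (B f)).op ⋙ (Omega.sheaf f).presheaf ⟶ (inducedFunctor (B f)).op ⋙ F.presheaf where
  app i := AddCommGrpCat.ofHom (loc f F D i.unop)
  naturality i j g := by
    ext x
    have hle : B f j.unop ≤ B f i.unop := leOfHom g.unop.hom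
    exact (loc_res f F D i.unop j.unop hle x).symm

/-- the glued map of abelian presheaves. -/
noncomputable def glueAb : (Omega.sheaf f).presheaf ⟶ F.presheaf :=
  TopCat.Sheaf.restrictHomEquivHom (Omega.sheaf f).presheaf
    (⟨F.presheaf, F.isSheaf⟩ : TopCat.Sheaf Ab X) (isBasis f) (locNat f F D)

theorem glueAb_app (i : Idx f) (x : Γ(Omega.sheaf f, B f i)) :
    (glueAb f F D).app (op (B f i)) x = loc f F D i x := by
  have h := TopCat.Sheaf.extend_hom_app (Omega.sheaf f).presheaf
    (⟨F.presheaf, F.isSheaf⟩ : TopCat.Sheaf Ab X) (isBasis f) (locNat f F D) i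
  exact congrArg (fun ψ => ψ.hom x) h

theorem glueAb_res {W W' : X.Opens} (h : W' ≤ W) (x : Γ(Omega.sheaf f, W)) :
    (glueAb f F D).app (op W') (res (Omega.sheaf f) h x) =
      res F h ((glueAb f F D).app (op W) x) := by
  have h1 := (glueAb f F D).naturality (homOfLE h).op
  exact congrArg (fun ψ => ψ.hom x) h1

theorem glueAb_smul (W : X.Opens) (a : Γ(X, W)) (x : Γ(Omega.sheaf f, W)) :
    (glueAb f F D).app (op W) (a • x) = a • (glueAb f F D).app (op W) x := by
  refine eq_of_locally_eq F (fun i : {i : Idx f // B f i ≤ W} => B f i.1) W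
    (fun i => i.2) (le_iSup_B f W) _ _ (fun i => ?_)
  rw [res_smul, ← glueAb_res, ← glueAb_res, res_smul, glueAb_app, glueAb_app, loc_smul]

theorem glueAb_d (W : X.Opens) (s : Γ(X, W)) :
    (glueAb f F D).app (op W) (OmegaSh.dSect f W s) = D.app W s := by
  refine eq_of_locally_eq F (fun i : {i : Idx f // B f i ≤ W} => B f i.1) W
    (fun i => i.2) (le_iSup_B f W) _ _ (fun i => ?_)
  have h1 : res (Omega.sheaf f) i.2 (OmegaSh.dSect f W s) =
      OmegaSh.dSect f (B f i.1) (resO i.2 s) := (OmegaSh.dSect_map f i.2 s).symm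
  rw [← glueAb_res, h1, glueAb_app, loc_d, der_res]

/-- the glued `O_X`-linear map. -/
noncomputable def glue : Omega.sheaf f ⟶ F :=
  ⟨PresheafOfModules.homMk (glueAb f F D) (fun W a x => glueAb_smul f F D W.unop a x)⟩

theorem glue_app (W : X.Opens) (x : Γ(Omega.sheaf f, W)) :
    (glue f F D).app W x = (glueAb f F D).app (op W) x := rfl

theorem postcomp_glue : (OmegaSh.dOmega f).postcomp (glue f F D).val = D := by
  apply PresheafOfModules.Derivation.ext
  funext W
  ext s
  exact glueAb_d f F D W.unop s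

theorem glue_unique (β : Omega.sheaf f ⟶ F) (hβ : (OmegaSh.dOmega f).postcomp β.val = D) :
    β = glue f F D := by
  apply Scheme.Modules.hom_ext
  intro W
  ext x
  refine eq_of_locally_eq F (fun i : {i : Idx f // B f i ≤ W} => B f i.1) W
    (fun i => i.2) (le_iSup_B f W) _ _ (fun i => ?_)
  rw [← app_res, ← app_res]
  let b1 : Γ(Omega.sheaf f, B f i.1) →+ Γ(F, B f i.1) := (β.app (B f i.1)).hom
  let b2 : Γ(Omega.sheaf f, B f i.1) →+ Γ(F, B f i.1) :=
    ((glue f F D).app (B f i.1)).hom
  change b1 _ = b2 _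
  refine local_ext f i.1.2.1 i.1.2.2.1 i.1.2.2.2 (RingHom.id _) b1 b2 ?_ ?_ ?_ _
  · intro b y
    exact Scheme.Modules.Hom.app_smul β b y
  · intro b y
    exact Scheme.Modules.Hom.app_smul (glue f F D) b y
  · intro s
    change β.app (B f i.1) (OmegaSh.dSect f (B f i.1) s) =
      (glueAb f F D).app (op (B f i.1)) (OmegaSh.dSect f (B f i.1) s)
    rw [glueAb_d]
    have := PresheafOfModules.Derivation.congr_d hβ (X := op (B f i.1)) s
    exact this

/-- **`d_{X/S}` is a universal derivation** (for quasi-separated `f`). -/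
theorem isUniversal_dOmega : OmegaSh.IsUniversal (OmegaSh.dOmega f) := by
  intro F D
  exact ⟨glue f F D, postcomp_glue f F D, fun β hβ => glue_unique f F D β hβ⟩

end Groth.Agent.Lib.Helper29.OmegaUniv
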