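import Mathlib

set_option autoImplicit false
universe u
open TensorProduct

namespace Groth.Agent.Lib.Helper29.KaehlerIso

/-- A commutative square of rings induces a semilinear map of Kähler differentials. -/
theorem exists_map {A B A' B' : Type u} [CommRing A] [CommRing B] [CommRing A'] [CommRing B']
    [Algebra A B] [Algebra A' B'] (α : A →+* A') (θ : B →+* B')
    (h : ∀ a, θ (algebraMap A B a) = algebraMap A' B' (α a)) :
    ∃ K : Ω[B⁄A] →+ Ω[B'⁄A'], (∀ (b : B) (x : Ω[B⁄A]), K (b • x) = θ b • K x) ∧
      ∀ b : B, K (KaehlerDifferential.D A B b) = KaehlerDifferential.D A' B' (θ b) := by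
  letI : Algebra A A' := α.toAlgebra
  letI : Algebra B B' := θ.toAlgebra
  letI : Algebra A B' := (θ.comp (algebraMap A B)).toAlgebra
  haveI : IsScalarTower A B B' := .of_algebraMap_eq fun _ => rfl
  haveI : IsScalarTower A A' B' := .of_algebraMap_eq fun a => h a
  haveI : SMulCommClass A' B B' := ⟨fun a' b x => by
    simp only [Algebra.smul_def]
    ring⟩
  refine ⟨(KaehlerDifferential.map A A' B B').toAddMonoidHom, ?_, ?_⟩
  · intro b x
    change KaehlerDifferential.map A A' B B' (b • x) = _
    rw [map_smul]
    rfl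
  · intro b
    exact KaehlerDifferential.map_D A A' B B' b

/-- Isomorphic ring pairs have isomorphic Kähler differentials, compatibly with `D`. -/
theorem exists_equiv {A B A' B' : Type u} [CommRing A] [CommRing B] [CommRing A'] [CommRing B']
    [Algebra A B] [Algebra A' B'] (α : A ≃+* A') (θ : B ≃+* B')
    (h : ∀ a, θ (algebraMap A B a) = algebraMap A' B' (α a)) :
    ∃ K : Ω[B⁄A] ≃+ Ω[B'⁄A'], (∀ (b : B) (x : Ω[B⁄A]), K (b • x) = θ b • K x) ∧
      ∀ b : B, K (KaehlerDifferential.D A B b) = KaehlerDifferential.D A' B' (θ b) := by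
  obtain ⟨K1, hs1, hd1⟩ := exists_map (α : A →+* A') (θ : B →+* B') h
  have h' : ∀ a', (θ.symm : B' →+* B) (algebraMap A' B' a') = algebraMap A B ((α.symm : A' →+* A) a') := by
    intro a'
    obtain ⟨a, rfl⟩ := α.surjective a'
    change θ.symm (algebraMap A' B' (α a)) = algebraMap A B (α.symm (α a))
    rw [← h, θ.symm_apply_apply, α.symm_apply_apply]
  obtain ⟨K2, hs2, hd2⟩ := exists_map (α.symm : A' →+* A) (θ.symm : B' →+* B) h'
  have h21 : ∀ x, K2 (K1 x) = x := by
    intro x
    have hx : x ∈ Submodule.span B (Set.range (KaehlerDifferential.D A B)) := by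
      rw [KaehlerDifferential.span_range_derivation]; trivial
    induction hx using Submodule.span_induction with
    | mem y hy =>
      obtain ⟨b, rfl⟩ := hy
      rw [hd1, hd2]
      change KaehlerDifferential.D A B (θ.symm (θ b)) = _
      rw [θ.symm_apply_apply]
    | zero => rw [map_zero, map_zero]
    | add y z _ _ hy hz => rw [map_add, map_add, hy, hz]
    | smul b y _ hy =>
      rw [hs1, hs2, hy]
      change θ.symm (θ b) • y = _
      rw [θ.symm_apply_apply]
  have h12 : ∀ x, K1 (K2 x) = x := by
    intro x
    have hx : x ∈ Submodule.span B' (Set.range (KaehlerDifferential.D A' B')) := by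
      rw [KaehlerDifferential.span_range_derivation]; trivial
    induction hx using Submodule.span_induction with
    | mem y hy =>
      obtain ⟨b, rfl⟩ := hy
      rw [hd2, hd1]
      change KaehlerDifferential.D A' B' (θ (θ.symm b)) = _
      rw [θ.apply_symm_apply]
    | zero => rw [map_zero, map_zero]
    | add y z _ _ hy hz => rw [map_add, map_add, hy, hz]
    | smul b y _ hy =>
      rw [hs2, hs1, hy]
      change θ (θ.symm b) • y = _
      rw [θ.apply_symm_apply]
  exact ⟨{ toFun := K1, invFun := K2, left_inv := h21, right_inv := h12, map_add' := map_add K1 },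
    hs1, hd1⟩

end Groth.Agent.Lib.Helper29.KaehlerIso
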