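import Groth.Prelude.Def_CycDet
import Mathlib

set_option autoImplicit false
set_option linter.unusedSectionVars false
universe u v

namespace Groth.Agent.Lib.Helper29.CycDetLib

open CycDet IsLocalRing

variable {R : Type u} [CommRing R] [IsLocalRing R] {M : Type v} [AddCommGroup M] [Module R M]

/-- class of an admissible tuple in `DetOfLen` -/
noncomputable abbrev cls {l : ℕ} (e : Adm R M l) : DetOfLen R M l :=
  Submodule.Quotient.mk (sym R M e)

lemma spanBefore_mono {l : ℕ} (e : Fin l → M) {i i' : ℕ} (h : i ≤ i') :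
    spanBefore R M e i ≤ spanBefore R M e i' := by
  unfold spanBefore
  apply Submodule.span_mono
  apply Set.image_mono
  intro k hk
  exact lt_of_lt_of_le hk h

lemma mem_spanBefore {l : ℕ} (e : Fin l → M) (k : Fin l) {i : ℕ} (h : (k : ℕ) < i) :
    e k ∈ spanBefore R M e i :=
  Submodule.subset_span ⟨k, h, rfl⟩

lemma spanBefore_zero {l : ℕ} (e : Fin l → M) : spanBefore R M e 0 = ⊥ := by
  unfold spanBefore
  have : {j : Fin l | (j : ℕ) < 0} = ∅ := by ext; simp
  rw [this, Set.image_empty, Submodule.span_empty]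

lemma spanBefore_ge {l : ℕ} (e : Fin l → M) {i : ℕ} (h : l ≤ i) :
    spanBefore R M e i = Submodule.span R (Set.range e) := by
  unfold spanBefore
  have : {j : Fin l | (j : ℕ) < i} = Set.univ := by
    ext j; simp; exact lt_of_lt_of_le j.2 h
  rw [this, Set.image_univ]

lemma spanBefore_le_of {l : ℕ} (e e' : Fin l → M) (i : ℕ)
    (h : ∀ k : Fin l, (k : ℕ) < i → e k ∈ spanBefore R M e' i) :
    spanBefore R M e i ≤ spanBefore R M e' i := by
  unfold spanBefore
  rw [Submodule.span_le]
  rintro _ ⟨k, hk, rfl⟩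
  exact h k hk

lemma spanBefore_congr {l : ℕ} (e e' : Fin l → M) (i : ℕ)
    (h : ∀ k : Fin l, (k : ℕ) < i → e k = e' k) :
    spanBefore R M e i = spanBefore R M e' i := by
  apply le_antisymm
  · exact spanBefore_le_of e e' i fun k hk => by rw [h k hk]; exact mem_spanBefore e' k hk
  · exact spanBefore_le_of e' e i fun k hk => by rw [← h k hk]; exact mem_spanBefore e k hk

lemma spanBefore_succ {l : ℕ} (e : Fin l → M) (i : Fin l) :
    spanBefore R M e ((i : ℕ) + 1) = spanBefore R M e i ⊔ Submodule.span R {e i} := by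
  apply le_antisymm
  · unfold spanBefore
    rw [Submodule.span_le]
    rintro _ ⟨k, hk, rfl⟩
    rcases Nat.lt_succ_iff_lt_or_eq.mp hk with h1 | h1
    · exact Submodule.mem_sup_left (Submodule.subset_span ⟨k, h1, rfl⟩)
    · have : k = i := Fin.ext h1
      rw [this]
      exact Submodule.mem_sup_right (Submodule.subset_span rfl)
  · apply sup_le
    · exact spanBefore_mono e (Nat.le_succ _)
    · rw [Submodule.span_le]
      rintro _ rfl
      exact mem_spanBefore e i (Nat.lt_succ_self _)

/-! ### relations as equalities -/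

lemma rel_a {l : ℕ} (e : Adm R M l) (a : Fin l) (h : e.1 a ∈ spanBefore R M e.1 a) :
    cls e = 0 := by
  rw [Submodule.Quotient.mk_eq_zero]
  apply Submodule.subset_span
  exact Or.inl (Or.inl ⟨e, a, h, rfl⟩)

lemma rel_b {l : ℕ} (e e' : Adm R M l) (a : Fin l) (c : Rˣ)
    (h1 : ∀ j, j ≠ a → e.1 j = e'.1 j)
    (h2 : e.1 a - (c : R) • e'.1 a ∈ spanBefore R M e.1 a) :
    cls e = IsLocalRing.residue R (c : R) • cls e' := by
  have : sym R M e - IsLocalRing.residue R (c : R) • sym R M e' ∈
      Submodule.span (ResidueField R) (relSet R M l) := by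
    apply Submodule.subset_span
    exact Or.inl (Or.inr ⟨e, e', a, c, h1, h2, rfl⟩)
  have h3 := (Submodule.Quotient.eq _).mpr this
  exact h3

lemma rel_c {l : ℕ} (e e' : Adm R M l) (a b : Fin l) (hab : (b : ℕ) + 1 = (a : ℕ))
    (h : ∀ r ∈ maximalIdeal R, r • e.1 a ∈ spanBefore R M e.1 b)
    (he' : e'.1 = e.1 ∘ Equiv.swap a b) :
    cls e = - cls e' := by
  have : sym R M e + sym R M e' ∈ Submodule.span (ResidueField R) (relSet R M l) := by
    apply Submodule.subset_span
    exact Or.inr ⟨e, e', a, b, hab, h, he', rfl⟩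
  have h3 : cls e + cls e' = 0 := by
    show (Submodule.Quotient.mk (sym R M e) : DetOfLen R M l) + Submodule.Quotient.mk (sym R M e') = 0
    rw [← Submodule.Quotient.mk_add, Submodule.Quotient.mk_eq_zero]
    exact this
  exact eq_neg_of_add_eq_zero_left h3

/-! ### swapping adjacent entries -/

lemma spanBefore_swap {l : ℕ} (h : Fin l → M) (a b : Fin l) (i : ℕ)
    (hi : ((a : ℕ) < i ∧ (b : ℕ) < i) ∨ (i ≤ (a : ℕ) ∧ i ≤ (b : ℕ))) :
    spanBefore R M (h ∘ Equiv.swap a b) i = spanBefore R M h i := by
  have key : ∀ k : Fin l, (k : ℕ) < i → ((Equiv.swap a b k : Fin l) : ℕ) < i := by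
    intro k hk
    by_cases hka : k = a
    · subst hka
      rw [Equiv.swap_apply_left]
      rcases hi with hi | hi
      · exact hi.2
      · omega
    · by_cases hkb : k = b
      · subst hkb
        rw [Equiv.swap_apply_right]
        rcases hi with hi | hi
        · exact hi.1
        · omega
      · rw [Equiv.swap_apply_of_ne_of_ne hka hkb]
        exact hk
  apply le_antisymm
  · apply spanBefore_le_of
    intro k hk
    exact mem_spanBefore h _ (key k hk)
  · apply spanBefore_le_of
    intro k hk
    have : h k = (h ∘ Equiv.swap a b) (Equiv.swap a b k) := by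
      simp [Function.comp]
    rw [this]
    exact mem_spanBefore _ _ (key k hk)

lemma isAdmissible_swap {l : ℕ} (h : Fin l → M) (hh : IsAdmissible R M h) (a b : Fin l)
    (hab : (b : ℕ) + 1 = (a : ℕ))
    (hc : ∀ r ∈ maximalIdeal R, r • h a ∈ spanBefore R M h b) :
    IsAdmissible R M (h ∘ Equiv.swap a b) := by
  intro i r hr
  have hne : a ≠ b := by
    intro hEq
    rw [hEq] at hab
    omega
  by_cases hia : i = a
  · subst hia
    simp only [Function.comp, Equiv.swap_apply_left]
    -- entry is h b
    have h1 := hh b r hr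
    have h2 : spanBefore R M h b ≤ spanBefore R M (h ∘ Equiv.swap i b) i := by
      rw [← spanBefore_swap h i b b (Or.inr ⟨by omega, le_refl _⟩)]
      exact spanBefore_mono _ (by omega)
    exact h2 h1
  · by_cases hib : i = b
    · subst hib
      simp only [Function.comp, Equiv.swap_apply_right]
      rw [spanBefore_swap h a i i (Or.inr ⟨by omega, le_refl _⟩)]
      exact hc r hr
    · simp only [Function.comp, Equiv.swap_apply_of_ne_of_ne hia hib]
      have hcase : ((a : ℕ) < (i : ℕ) ∧ (b : ℕ) < (i : ℕ)) ∨ ((i : ℕ) ≤ (a : ℕ) ∧ (i : ℕ) ≤ (b : ℕ)) := by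
        have h1 : (i : ℕ) ≠ (a : ℕ) := fun h' => hia (Fin.ext h')
        have h2 : (i : ℕ) ≠ (b : ℕ) := fun h' => hib (Fin.ext h')
        omega
      rw [spanBefore_swap h a b i hcase]
      exact hh i r hr

lemma range_swap {l : ℕ} (h : Fin l → M) (a b : Fin l) :
    Set.range (h ∘ Equiv.swap a b) = Set.range h :=
  (Equiv.swap a b).surjective.range_comp h

/-! ### replacing an entry -/

lemma update_facts {l : ℕ} (g : Fin l → M) (hg : IsAdmissible R M g) (i₀ : Fin l) (x y : M) (c : Rˣ)
    (hdec : g i₀ = (c : R) • x + y) (hy : y ∈ spanBefore R M g i₀)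
    (hx : ∀ r ∈ maximalIdeal R, r • x ∈ spanBefore R M g i₀) :
    IsAdmissible R M (Function.update g i₀ x) ∧
      (∀ k : ℕ, spanBefore R M g k ≤ spanBefore R M (Function.update g i₀ x) k) ∧
      Submodule.span R (Set.range g) ≤ Submodule.span R (Set.range (Function.update g i₀ x)) := by
  have hlow : ∀ k : ℕ, k ≤ (i₀ : ℕ) →
      spanBefore R M g k = spanBefore R M (Function.update g i₀ x) k := by
    intro k hk
    apply spanBefore_congr
    intro j hj
    rw [Function.update_of_ne]
    intro hEq
    rw [hEq] at hj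
    omega
  have hle : ∀ k : ℕ, spanBefore R M g k ≤ spanBefore R M (Function.update g i₀ x) k := by
    intro k
    by_cases hk : k ≤ (i₀ : ℕ)
    · rw [hlow k hk]
    · apply spanBefore_le_of
      intro j hj
      by_cases hj0 : j = i₀
      · subst hj0
        rw [hdec]
        apply Submodule.add_mem
        · apply Submodule.smul_mem
          have h2 := mem_spanBefore (R := R) (Function.update g j x) j hj
          simpa using h2
        · have h1 : y ∈ spanBefore R M (Function.update g j x) j := by
            rw [← hlow j (le_refl _)]; exact hy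
          exact spanBefore_mono _ (by omega) h1
      · have : g j = Function.update g i₀ x j := by rw [Function.update_of_ne hj0]
        rw [this]
        exact mem_spanBefore _ j hj
  refine ⟨?_, hle, ?_⟩
  · intro k r hr
    by_cases hk : k = i₀
    · subst hk
      simp only [Function.update_self]
      rw [← hlow k (le_refl _)]
      exact hx r hr
    · rw [Function.update_of_ne hk]
      exact hle k (hg k r hr)
  · have h1 := hle l
    rw [spanBefore_ge g (le_refl l), spanBefore_ge _ (le_refl l)] at h1
    exact h1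

lemma exists_decomp {l : ℕ} (g : Fin l → M) (hg : IsAdmissible R M g) (i₀ : Fin l) (x : M)
    (h1 : x ∈ spanBefore R M g ((i₀ : ℕ) + 1)) (h2 : x ∉ spanBefore R M g i₀) :
    ∃ (c : Rˣ) (y : M), y ∈ spanBefore R M g i₀ ∧ g i₀ = (c : R) • x + y := by
  rw [spanBefore_succ, Submodule.mem_sup] at h1
  obtain ⟨y', hy', z, hz, hsum⟩ := h1
  rw [Submodule.mem_span_singleton] at hz
  obtain ⟨μ, rfl⟩ := hz
  have hμ : IsUnit μ := by
    by_contra hnu
    have hmem : μ ∈ maximalIdeal R := (IsLocalRing.mem_maximalIdeal μ).mpr hnu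
    apply h2
    rw [← hsum]
    exact Submodule.add_mem _ hy' (hg i₀ μ hmem)
  obtain ⟨u, rfl⟩ := hμ
  refine ⟨u⁻¹, -(((u⁻¹ : Rˣ) : R) • y'), ?_, ?_⟩
  · exact Submodule.neg_mem _ (Submodule.smul_mem _ _ hy')
  · rw [← hsum, smul_add, smul_smul, Units.inv_mul, one_smul]
    abel

theorem exchange {l : ℕ} (f : Adm R M l) (hf : ∀ a : Fin l, f.1 a ∉ spanBefore R M f.1 a) :
    ∀ (n j : ℕ), j + n = l → ∀ g : Adm R M l, Submodule.span R (Set.range g.1) = ⊤ →
      (∀ i : Fin l, (i : ℕ) < j → g.1 i = f.1 i) →
      cls g ∈ Submodule.span (ResidueField R) {cls f} := by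
  intro n
  induction n with
  | zero =>
    intro j hj g _ hgf
    have : g = f := by
      apply Subtype.ext
      funext i
      exact hgf i (by have := i.2; omega)
    rw [this]
    exact Submodule.subset_span rfl
  | succ n ih =>
    intro j hj g hgen hgf
    have hjl : j < l := by omega
    obtain ⟨x, hxdef⟩ : ∃ x : M, x = f.1 ⟨j, hjl⟩ := ⟨_, rfl⟩
    have hfj : spanBefore R M g.1 j = spanBefore R M f.1 j :=
      spanBefore_congr _ _ _ fun k hk => hgf k hk
    have hx_notin : x ∉ spanBefore R M g.1 j := by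
      rw [hfj, hxdef]
      exact hf ⟨j, hjl⟩
    have hxm : ∀ r ∈ maximalIdeal R, r • x ∈ spanBefore R M f.1 j := by
      intro r hr
      rw [hxdef]
      exact f.2 ⟨j, hjl⟩ r hr
    -- the inner statement: moving `x` down
    have inner : ∀ d k : ℕ, k = j + d → ∀ hk : k < l, ∀ h : Adm R M l,
        Submodule.span R (Set.range h.1) = ⊤ →
        (∀ i : Fin l, (i : ℕ) < j → h.1 i = f.1 i) → h.1 ⟨k, hk⟩ = x →
        cls h ∈ Submodule.span (ResidueField R) {cls f} := by
      intro d
      induction d with
      | zero =>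
        intro k hkj hk h hhgen hhf hhx
        apply ih (j + 1) (by omega) h hhgen
        intro i hi
        rcases Nat.lt_succ_iff_lt_or_eq.mp hi with h1 | h1
        · exact hhf i h1
        · have : i = ⟨k, hk⟩ := Fin.ext (by simp [h1, hkj])
          rw [this, hhx, hxdef]
          have h3 : (⟨j, hjl⟩ : Fin l) = ⟨k, hk⟩ := Fin.ext (by simp [hkj])
          rw [h3]
      | succ d ihd =>
        intro k hkj hk h hhgen hhf hhx
        have hk1 : k - 1 < l := by omega
        have hab : ((⟨k - 1, hk1⟩ : Fin l) : ℕ) + 1 = ((⟨k, hk⟩ : Fin l) : ℕ) := by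
          simp; omega
        have hc : ∀ r ∈ maximalIdeal R, r • h.1 ⟨k, hk⟩ ∈ spanBefore R M h.1 (⟨k - 1, hk1⟩ : Fin l) := by
          intro r hr
          rw [hhx]
          have h1 : spanBefore R M h.1 j = spanBefore R M f.1 j :=
            spanBefore_congr _ _ _ fun i hi => hhf i hi
          have h2 : spanBefore R M h.1 j ≤ spanBefore R M h.1 ((⟨k - 1, hk1⟩ : Fin l) : ℕ) :=
            spanBefore_mono _ (by simp; omega)
          apply h2
          rw [h1]
          exact hxm r hr
        have hadm := isAdmissible_swap h.1 h.2 ⟨k, hk⟩ ⟨k - 1, hk1⟩ hab hc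
        have hrel := rel_c h ⟨_, hadm⟩ ⟨k, hk⟩ ⟨k - 1, hk1⟩ hab hc rfl
        rw [hrel]
        apply Submodule.neg_mem
        apply ihd (k - 1) (by omega) hk1 ⟨_, hadm⟩
        · show Submodule.span R (Set.range (h.1 ∘ Equiv.swap _ _)) = ⊤
          rw [range_swap]; exact hhgen
        · intro i hi
          show (h.1 ∘ Equiv.swap _ _) i = f.1 i
          have h1 : i ≠ ⟨k, hk⟩ := by
            intro hEq; rw [hEq] at hi; simp at hi; omega
          have h2 : i ≠ ⟨k - 1, hk1⟩ := by
            intro hEq; rw [hEq] at hi; simp at hi; omega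
          simp only [Function.comp, Equiv.swap_apply_of_ne_of_ne h1 h2]
          exact hhf i hi
        · show (h.1 ∘ Equiv.swap _ _) ⟨k - 1, hk1⟩ = x
          simp only [Function.comp, Equiv.swap_apply_right]
          exact hhx
    -- find the first position where `x` appears
    have hex : ∃ m : ℕ, x ∈ spanBefore R M g.1 m := by
      refine ⟨l, ?_⟩
      rw [spanBefore_ge _ (le_refl l), hgen]
      exact Submodule.mem_top
    classical
    obtain ⟨n₀, hn₀⟩ : ∃ n₀ : ℕ, n₀ = Nat.find hex := ⟨_, rfl⟩
    have hn₀mem : x ∈ spanBefore R M g.1 n₀ := by rw [hn₀]; exact Nat.find_spec hex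
    have hn₀min : ∀ m : ℕ, m < n₀ → x ∉ spanBefore R M g.1 m := by
      intro m hm; rw [hn₀] at hm; exact Nat.find_min hex hm
    have hn₀l : n₀ ≤ l := by
      rw [hn₀]
      apply Nat.find_min' hex
      rw [spanBefore_ge _ (le_refl l), hgen]
      exact Submodule.mem_top
    have hn₀j : j < n₀ := by
      by_contra hcon
      exact hx_notin (spanBefore_mono _ (by omega) hn₀mem)
    have hi₀ : n₀ - 1 < l := by omega
    have hmem1 : x ∈ spanBefore R M g.1 (((⟨n₀ - 1, hi₀⟩ : Fin l) : ℕ) + 1) := by
      have : ((⟨n₀ - 1, hi₀⟩ : Fin l) : ℕ) + 1 = n₀ := by simp; omega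
      rw [this]; exact hn₀mem
    have hmem2 : x ∉ spanBefore R M g.1 ((⟨n₀ - 1, hi₀⟩ : Fin l) : ℕ) :=
      hn₀min _ (by simp; omega)
    obtain ⟨c, y, hy, hdec⟩ := exists_decomp g.1 g.2 ⟨n₀ - 1, hi₀⟩ x hmem1 hmem2
    have hxm' : ∀ r ∈ maximalIdeal R, r • x ∈ spanBefore R M g.1 ((⟨n₀ - 1, hi₀⟩ : Fin l) : ℕ) := by
      intro r hr
      have h2 : spanBefore R M g.1 j ≤ spanBefore R M g.1 ((⟨n₀ - 1, hi₀⟩ : Fin l) : ℕ) :=
        spanBefore_mono _ (by simp; omega)
      apply h2
      rw [hfj]
      exact hxm r hr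
    obtain ⟨hadm', _, hgen'⟩ := update_facts g.1 g.2 ⟨n₀ - 1, hi₀⟩ x y c hdec hy hxm'
    have hrelb := rel_b g ⟨_, hadm'⟩ ⟨n₀ - 1, hi₀⟩ c
      (fun k hk => by show g.1 k = Function.update g.1 _ x k; rw [Function.update_of_ne hk])
      (by
        show g.1 _ - (c : R) • Function.update g.1 _ x _ ∈ _
        rw [Function.update_self, hdec]
        have : (c : R) • x + y - (c : R) • x = y := by abel
        rw [this]; exact hy)
    rw [hrelb]
    apply Submodule.smul_mem
    apply inner (n₀ - 1 - j) (n₀ - 1) (by omega) hi₀ ⟨_, hadm'⟩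
    · show Submodule.span R (Set.range (Function.update g.1 _ x)) = ⊤
      rw [eq_top_iff, ← hgen]; exact hgen'
    · intro i hi
      show Function.update g.1 _ x i = f.1 i
      rw [Function.update_of_ne]
      · exact hgf i hi
      · intro hEq; rw [hEq] at hi; simp at hi; omega
    · show Function.update g.1 _ x _ = x
      rw [Function.update_self]

/-- A strictly increasing admissible tuple of length `length M` generates `M`. -/
lemma span_eq_top_of_strict {l : ℕ} (hM : IsFiniteLength R M)
    (hl : l = (Module.length R M).toNat) (e : Fin l → M)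
    (he : ∀ a : Fin l, e a ∉ spanBefore R M e a) :
    Submodule.span R (Set.range e) = ⊤ := by
  by_contra hne
  have hstep : ∀ i : ℕ, ∀ hi : i < l, spanBefore R M e i < spanBefore R M e (i + 1) := by
    intro i hi
    refine lt_of_le_of_ne (spanBefore_mono e (Nat.le_succ i)) ?_
    intro hEq
    apply he ⟨i, hi⟩
    show e ⟨i, hi⟩ ∈ spanBefore R M e i
    rw [hEq]
    exact mem_spanBefore e ⟨i, hi⟩ (Nat.lt_succ_self i)
  let s : LTSeries (Submodule R M) :=
    { length := l + 1
      toFun := fun i => if (i : ℕ) ≤ l then spanBefore R M e i else ⊤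
      step := by
        intro i
        show (if ((i.castSucc : Fin (l + 1 + 1)) : ℕ) ≤ l then spanBefore R M e (i.castSucc : Fin (l + 1 + 1)) else ⊤) <
          (if ((i.succ : Fin (l + 1 + 1)) : ℕ) ≤ l then spanBefore R M e (i.succ : Fin (l + 1 + 1)) else ⊤)
        have hi := i.2
        simp only [Fin.val_castSucc, Fin.val_succ]
        rw [if_pos (by omega)]
        by_cases hil : (i : ℕ) < l
        · rw [if_pos (by omega)]
          exact hstep i hil
        · rw [if_neg (by omega)]
          have : (i : ℕ) = l := by omega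
          rw [this, spanBefore_ge e (le_refl l)]
          exact lt_top_iff_ne_top.mpr hne }
  have h1 := Order.LTSeries.length_le_krullDim s
  rw [← Module.coe_length] at h1
  have hfin : Module.length R M ≠ ⊤ := Module.length_ne_top_iff.mpr hM
  have h2 : ((l + 1 : ℕ) : ℕ∞) ≤ Module.length R M := by
    have : ((s.length : ℕ) : WithBot ℕ∞) ≤ ((Module.length R M : ℕ∞) : WithBot ℕ∞) := h1
    exact_mod_cast this
  have h3 : Module.length R M = (l : ℕ∞) := by
    rw [hl]
    exact (ENat.natCast_toNat hfin).symm
  rw [h3] at h2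
  have : l + 1 ≤ l := by exact_mod_cast h2
  omega

theorem rank_le_one (hM : IsFiniteLength R M) :
    Module.rank (ResidueField R) (Det R M) ≤ 1 := by
  classical
  rw [rank_le_one_iff]
  by_cases hex : ∃ f : Adm R M (Module.length R M).toNat,
      ∀ a : Fin (Module.length R M).toNat, f.1 a ∉ spanBefore R M f.1 a
  · obtain ⟨f, hf⟩ := hex
    have hcls : ∀ g : Adm R M (Module.length R M).toNat,
        cls g ∈ Submodule.span (ResidueField R) {cls f} := by
      intro g
      by_cases hg : ∀ a : Fin (Module.length R M).toNat, g.1 a ∉ spanBefore R M g.1 a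
      · have hgen := span_eq_top_of_strict hM rfl g.1 hg
        exact exchange f hf (Module.length R M).toNat 0 (by simp) g hgen (fun i hi => absurd hi (Nat.not_lt_zero _))
      · push Not at hg
        obtain ⟨a, ha⟩ := hg
        rw [rel_a g a ha]
        exact Submodule.zero_mem _
    refine ⟨cls f, ?_⟩
    intro v
    obtain ⟨φ, rfl⟩ := Submodule.Quotient.mk_surjective _ v
    rw [← Submodule.mem_span_singleton]
    induction φ using Finsupp.induction_linear with
    | zero => exact Submodule.zero_mem _
    | add a b ha hb =>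
      rw [Submodule.Quotient.mk_add]
      exact Submodule.add_mem _ ha hb
    | single e c =>
      have : (Finsupp.single e c : Free R M _) = c • sym R M e := by
        simp [sym]
      rw [this, Submodule.Quotient.mk_smul]
      exact Submodule.smul_mem _ _ (hcls e)
  · push Not at hex
    refine ⟨0, ?_⟩
    intro v
    refine ⟨0, ?_⟩
    rw [smul_zero]
    obtain ⟨φ, rfl⟩ := Submodule.Quotient.mk_surjective _ v
    symm
    induction φ using Finsupp.induction_linear with
    | zero => rfl
    | add a b ha hb =>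
      rw [Submodule.Quotient.mk_add, ha, hb, add_zero]
    | single e c =>
      have : (Finsupp.single e c : Free R M _) = c • sym R M e := by
        simp [sym]
      rw [this, Submodule.Quotient.mk_smul]
      obtain ⟨a, ha⟩ := hex e
      have h0 : cls e = 0 := rel_a e a ha
      show c • cls e = 0
      rw [h0, smul_zero]

end Groth.Agent.Lib.Helper29.CycDetLib
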