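import Mathlib.Algebra.Module.FinitePresentation
import Mathlib.RingTheory.Finiteness.Basic

/-!
# Finite presentation of modules under change of rings (pure algebra helpers)
-/

set_option autoImplicit false

namespace Groth.Agent.Lib.Helper29.FPAlg

/-- if `S` is finite over `R` and the `S`-module `M` is finitely presented over `R`, it is finitely presented over
`S` -/
theorem fp_of_restrictScalars (R S M : Type*) [CommRing R] [CommRing S] [Algebra R S] [AddCommGroup M]
    [Module R M] [Module S M] [IsScalarTower R S M] [Module.Finite R S] [Module.FinitePresentation R M] :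
    Module.FinitePresentation S M := by
  haveI : Module.Finite S M := Module.Finite.of_restrictScalars_finite R S M
  obtain ⟨n, φ, hφ⟩ := Module.Finite.exists_fin' S M
  haveI : Module.Finite R (Fin n → S) := Module.Finite.pi
  have hK : (LinearMap.ker (φ.restrictScalars R)).FG :=
    Module.FinitePresentation.fg_ker (φ.restrictScalars R) hφ
  refine Module.finitePresentation_of_surjective φ hφ ?_
  refine Submodule.FG.of_restrictScalars R ?_
  rwa [LinearMap.ker_restrictScalars] at hK

/-- finite presentation is invariant under semilinear bijections over a ring isomorphism -/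
theorem fp_of_semilinear_bij {R S M N : Type*} [CommRing R] [CommRing S] [AddCommGroup M]
    [AddCommGroup N] [Module R M] [Module S N] (f : R ≃+* S) (g : M → N)
    (hadd : ∀ x y, g (x + y) = g x + g y) (hsmul : ∀ r x, g (r • x) = f r • g x)
    (hg : Function.Bijective g) (h : Module.FinitePresentation R M) : Module.FinitePresentation S N := by
  letI : Algebra R S := (f : R →+* S).toAlgebra
  letI : Module R N := Module.compHom N (f : R →+* S)
  haveI : IsScalarTower R S N := IsScalarTower.of_algebraMap_smul fun r x => rfl
  let gl : M ≃ₗ[R] N := LinearEquiv.ofBijective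
    { toFun := g, map_add' := hadd, map_smul' := fun r x => hsmul r x } hg
  haveI hRS : Module.Finite R S := Module.Finite.of_surjective (Algebra.linearMap R S) f.surjective
  haveI : Module.FinitePresentation R N := Module.FinitePresentation.of_equiv gl
  exact fp_of_restrictScalars R S N

theorem fp_iff_of_semilinear_bij {R S M N : Type*} [CommRing R] [CommRing S] [AddCommGroup M]
    [AddCommGroup N] [Module R M] [Module S N] (f : R ≃+* S) (g : M → N)
    (hadd : ∀ x y, g (x + y) = g x + g y) (hsmul : ∀ r x, g (r • x) = f r • g x)
    (hg : Function.Bijective g) : Module.FinitePresentation R M ↔ Module.FinitePresentation S N := by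
  refine ⟨fp_of_semilinear_bij f g hadd hsmul hg, fun h => ?_⟩
  let ge := Equiv.ofBijective g hg
  refine fp_of_semilinear_bij f.symm ge.symm (fun x y => ?_) (fun s x => ?_) ge.symm.bijective h
  · apply ge.injective
    have h1 : ge (ge.symm x + ge.symm y) = ge (ge.symm x) + ge (ge.symm y) := hadd _ _
    rw [h1]
    simp
  · apply ge.injective
    have h1 : ge (f.symm s • ge.symm x) = f (f.symm s) • ge (ge.symm x) := hsmul _ _
    rw [h1]
    simp

end Groth.Agent.Lib.Helper29.FPAlg
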