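import Groth.Agent.Lib.Helper29.FilColimSec
import Mathlib.AlgebraicGeometry.Morphisms.QuasiSeparated

/-!
# Sections of a filtered colimit of `O_X`-modules over a quasi-compact quasi-separated open

* `isQCQSSite_of_qcqs`: a quasi-compact and quasi-separated open of a scheme is quasi-compact and
  quasi-separated for the site of opens.
* `sec_surj_qcqs`, `sec_surj_affine`: over such an open every section of a filtered colimit of
  `O_X`-modules comes from a stage.
-/

set_option autoImplicit false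
universe u
open CategoryTheory CategoryTheory.Limits AlgebraicGeometry TopologicalSpace Opposite

namespace Groth.Agent.Lib.Helper29.FilColimSec

open Groth.Agent.Lib.Helper27.ExtFilt

variable {X : Scheme.{u}}

theorem isQCQSSite_of_qcqs (U : X.Opens) (hU : IsCompact (U : Set X))
    (hqs : IsQuasiSeparated (U : Set X)) :
    IsQCQSSite (Opens.grothendieckTopology X) U := by
  classical
  intro S hS
  have hS' : ∀ x : U, ∃ (V : X.Opens) (f : V ⟶ U), S f ∧ x.1 ∈ V ∧ IsCompact (V : Set X) := by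
    intro x
    obtain ⟨V, f, hf, hxV⟩ := hS x.1 x.2
    obtain ⟨W, hW, hxW, hWV⟩ := (Opens.isBasis_iff_nbhd.1 X.isBasis_affineOpens) hxV
    have hWa : IsAffineOpen W := hW
    exact ⟨W, homOfLE (hWV.trans f.le), S.downward_closed hf (homOfLE hWV), hxW, hWa.isCompact⟩
  choose V f hf hxV hVc using hS'
  obtain ⟨t, ht⟩ := hU.elim_finite_subcover (fun x : U => (V x : Set X)) (fun x => (V x).isOpen)
    (fun x hx => Set.mem_iUnion.2 ⟨⟨x, hx⟩, hxV ⟨x, hx⟩⟩)
  let e : Fin t.card ≃ t := t.equivFin.symm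
  refine ⟨t.card, fun k => V (e k).1, fun k => f (e k).1, fun k => hf _, ?_, fun k k' => ?_⟩
  · intro x hx
    obtain ⟨y, hy⟩ := Set.mem_iUnion.1 (ht hx)
    obtain ⟨hyt, hxy⟩ := Set.mem_iUnion.1 hy
    refine ⟨V y, f y, ?_, hxy⟩
    have : y = (e (e.symm ⟨y, hyt⟩)).1 := by rw [Equiv.apply_symm_apply]
    rw [this]
    exact Sieve.ofArrows_mk _ _ (e.symm ⟨y, hyt⟩)
  · refine ⟨V (e k).1 ⊓ V (e k').1, homOfLE inf_le_left, homOfLE inf_le_right, ?_, ?_⟩
    · refine ⟨⟨Subsingleton.elim _ _⟩, ⟨PullbackCone.IsLimit.mk _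
        (fun s => homOfLE (le_inf s.fst.le s.snd.le)) (fun _ => Subsingleton.elim _ _)
        (fun _ => Subsingleton.elim _ _) (fun _ _ _ _ => Subsingleton.elim _ _)⟩⟩
    · refine isQCSite_opens _ ?_
      exact hqs _ _ (f (e k).1).le (V (e k).1).isOpen (hVc _) (f (e k').1).le (V (e k').1).isOpen (hVc _)

theorem isQCQSSite_of_isAffineOpen {U : X.Opens} (hU : IsAffineOpen U) :
    IsQCQSSite (Opens.grothendieckTopology X) U :=
  isQCQSSite_of_qcqs U hU.isCompact hU.isQuasiSeparated

variable {I : Type u} [SmallCategory I] [IsFiltered I] {D : I ⥤ X.Modules} {c : Cocone D} (hc : IsColimit c)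

include hc

theorem sec_surj_qcqs (U : X.Opens) (hU : IsCompact (U : Set X)) (hqs : IsQuasiSeparated (U : Set X))
    (t : Γ(c.pt, U)) :
    ∃ (i : I) (s : Γ(D.obj i, U)), (c.ι.app i).app U s = t := by
  have h2 : PreservesColimit D (SheafOfModules.toSheaf.{u} X.ringCatSheaf) :=
    (Groth.Agent.Lib.lead.SheafModRestrict.toSheaf_preservesColimitsOfShape X.ringCatSheaf I).preservesColimit
  have hc' := @isColimitOfPreserves _ _ _ _ _ _ _ (SheafOfModules.toSheaf.{u} X.ringCatSheaf) c hc h2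
  exact sections_surj (F := D ⋙ SheafOfModules.toSheaf.{u} X.ringCatSheaf) hc' (isQCQSSite_of_qcqs U hU hqs) t

theorem sec_surj_affine {U : X.Opens} (hU : IsAffineOpen U) (t : Γ(c.pt, U)) :
    ∃ (i : I) (s : Γ(D.obj i, U)), (c.ι.app i).app U s = t :=
  sec_surj_qcqs hc U hU.isCompact hU.isQuasiSeparated t

end Groth.Agent.Lib.Helper29.FilColimSec
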