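import Mathlib
import Groth.Prelude.Def_BlowUp2

/-!
# The affine blow-up algebra `A[I/a]`: algebraic universal property (helper29)
-/

set_option autoImplicit false
universe u
open CategoryTheory AlgebraicGeometry

namespace Groth.Agent.Lib.Helper29.AffBlow

variable (A : Type u) [CommRing A] (I : Ideal A) (a : A)

/-- The fraction `x / a` as an element of `A[I/a]`, for `x ∈ I`. -/
noncomputable def frac (x : A) (hx : x ∈ I) : BlowUp.affineAlgebra A I a :=
  ⟨IsLocalization.mk' (Localization.Away a) x ⟨a, Submonoid.mem_powers a⟩,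
    Algebra.subset_adjoin ⟨x, hx, rfl⟩⟩

lemma algebraMap_eq_mul_frac (x : A) (hx : x ∈ I) :
    algebraMap A (BlowUp.affineAlgebra A I a) x =
      algebraMap A (BlowUp.affineAlgebra A I a) a * frac A I a x hx := by
  apply Subtype.ext
  change algebraMap A (Localization.Away a) x = algebraMap A (Localization.Away a) a *
    IsLocalization.mk' (Localization.Away a) x ⟨a, Submonoid.mem_powers a⟩
  exact (IsLocalization.mk'_spec' (Localization.Away a) x ⟨a, Submonoid.mem_powers a⟩).symm

lemma algebraMap_mem_nonZeroDivisors :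
    algebraMap A (BlowUp.affineAlgebra A I a) a ∈ nonZeroDivisors (BlowUp.affineAlgebra A I a) := by
  rw [mem_nonZeroDivisors_iff_right]
  intro y hy
  apply Subtype.ext
  have h1 : (y : Localization.Away a) * algebraMap A (Localization.Away a) a = 0 :=
    congrArg Subtype.val hy
  have hu : IsUnit (algebraMap A (Localization.Away a) a) :=
    IsLocalization.map_units (Localization.Away a) (⟨a, Submonoid.mem_powers a⟩ : Submonoid.powers a)
  exact (hu.mul_left_eq_zero).1 h1

/-- Induction principle for `A[I/a]`. -/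
lemma induction_on {p : BlowUp.affineAlgebra A I a → Prop}
    (hA : ∀ r : A, p (algebraMap A _ r)) (hf : ∀ (x : A) (hx : x ∈ I), p (frac A I a x hx))
    (hadd : ∀ y z, p y → p z → p (y + z)) (hmul : ∀ y z, p y → p z → p (y * z))
    (y : BlowUp.affineAlgebra A I a) : p y := by
  obtain ⟨y, hy⟩ := y
  refine Algebra.adjoin_induction (p := fun y hy => p ⟨y, hy⟩) ?_ ?_ ?_ ?_ hy
  · rintro _ ⟨x, hx, rfl⟩
    exact hf x hx
  · intro r
    exact hA r
  · intro y z hy hz h1 h2
    exact hadd _ _ h1 h2
  · intro y z hy hz h1 h2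
    exact hmul _ _ h1 h2

variable {A I a}

/-- Two ring maps out of `A[I/a]` agreeing on `A` agree, if the image of `a` is a nonzerodivisor. -/
lemma ringHom_ext {B : Type*} [CommRing B] (θ₁ θ₂ : BlowUp.affineAlgebra A I a →+* B)
    (h : ∀ r : A, θ₁ (algebraMap A _ r) = θ₂ (algebraMap A _ r))
    (hnzd : θ₁ (algebraMap A _ a) ∈ nonZeroDivisors B) : θ₁ = θ₂ := by
  ext y
  refine induction_on A I a (p := fun y => θ₁ y = θ₂ y) h ?_ ?_ ?_ y
  · intro x hx
    have e1 := congrArg θ₁ (algebraMap_eq_mul_frac A I a x hx)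
    have e2 := congrArg θ₂ (algebraMap_eq_mul_frac A I a x hx)
    rw [map_mul] at e1 e2
    rw [h x, e2, ← h a] at e1
    have h0 : (θ₂ (frac A I a x hx) - θ₁ (frac A I a x hx)) * θ₁ (algebraMap A _ a) = 0 := by
      rw [sub_mul, mul_comm, e1, mul_comm, sub_self]
    exact (sub_eq_zero.1 ((mem_nonZeroDivisors_iff_right.1 hnzd) _ h0)).symm
  · intro y z hy hz
    rw [map_add, map_add, hy, hz]
  · intro y z hy hz
    rw [map_mul, map_mul, hy, hz]

/-- Universal property of `A[I/a]`: a ring map `φ : A → B` with `φ a` a nonzerodivisor dividing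
`φ x` for all `x ∈ I` extends to `A[I/a]`. -/
theorem exists_lift {B : Type*} [CommRing B] (φ : A →+* B) (hnzd : φ a ∈ nonZeroDivisors B)
    (hdiv : ∀ x ∈ I, ∃ s : B, φ x = φ a * s) :
    ∃ θ : BlowUp.affineAlgebra A I a →+* B, ∀ r : A, θ (algebraMap A _ r) = φ r := by
  classical
  let L := Localization.Away (φ a)
  let ι : B →+* L := algebraMap B L
  have hι : Function.Injective ι :=
    IsLocalization.injective L (Submonoid.powers_le.2 hnzd)
  have hu : IsUnit (ι (φ a)) :=
    IsLocalization.map_units L (⟨φ a, Submonoid.mem_powers _⟩ : Submonoid.powers (φ a))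
  let Φ : Localization.Away a →+* L :=
    IsLocalization.Away.lift (S := Localization.Away a) a (g := ι.comp φ) hu
  have hΦ : ∀ r : A, Φ (algebraMap A (Localization.Away a) r) = ι (φ r) := fun r =>
    IsLocalization.Away.lift_eq a hu r
  have hrange : ∀ y : BlowUp.affineAlgebra A I a, Φ (y : Localization.Away a) ∈ ι.range := by
    intro y
    refine induction_on A I a (p := fun y => Φ (y : Localization.Away a) ∈ ι.range) ?_ ?_ ?_ ?_ y
    · intro r
      exact ⟨φ r, (hΦ r).symm⟩
    · intro x hx
      obtain ⟨s, hs⟩ := hdiv x hx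
      refine ⟨s, ?_⟩
      have h1 : Φ (IsLocalization.mk' (Localization.Away a) x ⟨a, Submonoid.mem_powers a⟩) *
          ι (φ a) = ι (φ x) := by
        rw [← hΦ a, ← map_mul, ← hΦ x]
        congr 1
        exact IsLocalization.mk'_spec (Localization.Away a) x ⟨a, Submonoid.mem_powers a⟩
      rw [hs, map_mul, mul_comm (ι (φ a))] at h1
      exact (hu.mul_left_injective h1).symm
    · intro y z hy hz
      exact (ι.range.add_mem hy hz : (Φ (y : Localization.Away a) + Φ (z : Localization.Away a)) ∈
        ι.range) |> fun h => by simpa using h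
    · intro y z hy hz
      exact (ι.range.mul_mem hy hz : (Φ (y : Localization.Away a) * Φ (z : Localization.Away a)) ∈
        ι.range) |> fun h => by simpa using h
  let e : B ≃+* ι.range := RingEquiv.ofBijective ι.rangeRestrict
    ⟨fun x y h => hι (congrArg Subtype.val h), ι.rangeRestrict_surjective⟩
  let Ψ : BlowUp.affineAlgebra A I a →+* ι.range :=
    (Φ.comp (BlowUp.affineAlgebra A I a).val.toRingHom).codRestrict ι.range hrange
  refine ⟨e.symm.toRingHom.comp Ψ, fun r => ?_⟩
  apply hι
  have h1 : ι (e.symm (Ψ (algebraMap A _ r))) = (Ψ (algebraMap A _ r) : L) := by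
    have := e.apply_symm_apply (Ψ (algebraMap A _ r))
    exact congrArg Subtype.val this
  change ι (e.symm (Ψ (algebraMap A _ r))) = ι (φ r)
  rw [h1]
  exact hΦ r

end Groth.Agent.Lib.Helper29.AffBlow
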