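import Groth.Agent.Lib.Helper29.GrMap

set_option autoImplicit false
universe u
open CategoryTheory CategoryTheory.Limits AlgebraicGeometry TensorProduct Opposite

namespace Groth.Agent.Lib.Helper29.GrCompat

open Groth.Agent.Lib.Helper28.QCohLoc Groth.Agent.Lib.Helper29.ConormalMap
  Groth.Agent.Lib.Helper29.GrMap

/-- vanishing on `V(K)` is membership of the ideal, over an affine open. -/
theorem subschemeι_app_eq_zero_iff {P : Scheme.{u}} (K : P.IdealSheafData) (V : P.affineOpens)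
    (y : Γ(P, V.1)) : K.subschemeι.app V.1 y = 0 ↔ y ∈ K.ideal V := by
  rw [← Scheme.IdealSheafData.ker_subschemeι_app, RingHom.mem_ker]

/-- vanishing on `V(K)` is local. -/
theorem subschemeι_app_eq_zero_of_cover {P : Scheme.{u}} (K : P.IdealSheafData) (W : P.Opens)
    (x : Γ(P, W))
    (h : ∀ z ∈ W, ∃ (V : P.affineOpens) (hV : V.1 ≤ W), z ∈ V.1 ∧
      P.presheaf.map (homOfLE hV).op x ∈ K.ideal V) :
    K.subschemeι.app W x = 0 := by
  let ι := K.subschemeι
  refine K.subscheme.sheaf.eq_of_locally_eq'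
    (fun V : {V : P.affineOpens // ∃ hV : (V : P.Opens) ≤ W,
        P.presheaf.map (homOfLE hV).op x ∈ K.ideal V} => ι ⁻¹ᵁ (V.1 : P.Opens))
    (ι ⁻¹ᵁ W) (fun V => (TopologicalSpace.Opens.map ι.base).map (homOfLE V.2.1)) ?_ _ _ ?_
  · intro z hz
    obtain ⟨V, hV, hzV, hmem⟩ := h (ι z) hz
    exact TopologicalSpace.Opens.mem_iSup.mpr ⟨⟨V, hV, hmem⟩, hzV⟩
  · intro V
    change K.subscheme.presheaf.map ((TopologicalSpace.Opens.map ι.base).map (homOfLE V.2.1)).op
        (ι.app W x) =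
      K.subscheme.presheaf.map ((TopologicalSpace.Opens.map ι.base).map (homOfLE V.2.1)).op 0
    rw [map_zero, ← ConcreteCategory.comp_apply]
    erw [← Scheme.Hom.naturality ι (homOfLE V.2.1).op]
    rw [ConcreteCategory.comp_apply]
    exact (subschemeι_app_eq_zero_iff K V.1 _).2 V.2.2

theorem compat_of_affine {X X' : Scheme.{u}} (g : X ⟶ X') (K : X.IdealSheafData)
    (K' : X'.IdealSheafData)
    (h : ∀ (V' : X'.affineOpens) (V : X.affineOpens) (e : V.1 ≤ g ⁻¹ᵁ V'.1),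
      (K'.ideal V').map (g.appLE V'.1 V.1 e).hom ≤ K.ideal V) : Compat g K K' := by
  intro U' y hy
  refine subschemeι_app_eq_zero_of_cover K _ _ ?_
  intro z hz
  obtain ⟨_, ⟨V', hV', rfl⟩, hzV', hV'U'⟩ :=
    X'.isBasis_affineOpens.exists_subset_of_mem_open (show g z ∈ (U' : Set X') from hz) U'.isOpen
  have hz2 : z ∈ g ⁻¹ᵁ V' := hzV'
  obtain ⟨_, ⟨V, hV, rfl⟩, hzV, hVV'⟩ :=
    X.isBasis_affineOpens.exists_subset_of_mem_open hz2 (g ⁻¹ᵁ V').isOpen
  have hVW : V ≤ g ⁻¹ᵁ U' := fun a ha => hV'U' (hVV' ha)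
  refine ⟨⟨V, hV⟩, hVW, hzV, ?_⟩
  have hy' : X'.presheaf.map (homOfLE hV'U').op y ∈ K'.ideal ⟨V', hV'⟩ := by
    rw [← subschemeι_app_eq_zero_iff]
    have h2 := congr($(K'.subschemeι.naturality (homOfLE hV'U').op) y)
    rw [ConcreteCategory.comp_apply, ConcreteCategory.comp_apply, hy, map_zero] at h2
    exact h2
  have h3 := h ⟨V', hV'⟩ ⟨V, hV⟩ hVV' (Ideal.mem_map_of_mem _ hy')
  have h4 : X.presheaf.map (homOfLE hVW).op (g.app U' y) =
      (g.appLE V' V hVV').hom (X'.presheaf.map (homOfLE hV'U').op y) := by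
    have e1 : g.app U' ≫ X.presheaf.map (homOfLE hVW).op = g.appLE U' V hVW := by
      rw [Scheme.Hom.app_eq_appLE, Scheme.Hom.appLE_map]
    have e2 : X'.presheaf.map (homOfLE hV'U').op ≫ g.appLE V' V hVV' = g.appLE U' V hVW := by
      rw [Scheme.Hom.map_appLE]
    have e3 := congr($e1 y)
    have e4 := congr($e2 y)
    rw [ConcreteCategory.comp_apply] at e3 e4
    exact e3.trans e4.symm
  rw [h4]
  exact h3

section Pow

variable {Z X Z' X' : Scheme.{u}} (i : Z ⟶ X) (i' : Z' ⟶ X') (g : X ⟶ X') (gZ : Z ⟶ Z')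
  (hsq : gZ ≫ i' = i ≫ g) [QuasiCompact i]

include hsq in
theorem map_ker_le (V' : X'.affineOpens) (V : X.affineOpens) (e : V.1 ≤ g ⁻¹ᵁ V'.1) :
    (i'.ker.ideal V').map (g.appLE V'.1 V.1 e).hom ≤ i.ker.ideal V := by
  rw [Ideal.map_le_iff_le_comap]
  intro y hy
  rw [Ideal.mem_comap, ← subschemeι_app_eq_zero_iff]
  refine subschemeι_app_eq_zero i _ _ ?_
  have h1 : i'.app V'.1 y = 0 :=
    app_eq_zero_of_subschemeι i' V'.1 y ((subschemeι_app_eq_zero_iff i'.ker V' y).2 hy)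
  have h2 := app_app_eq_zero i i' g gZ hsq V'.1 y h1
  have h3 : (g.appLE V'.1 V.1 e).hom y = X.presheaf.map (homOfLE e).op (g.app V'.1 y) := rfl
  rw [h3]
  have h4 := congr($(i.naturality (homOfLE e).op) (g.app V'.1 y))
  rw [ConcreteCategory.comp_apply, ConcreteCategory.comp_apply, h2, map_zero] at h4
  exact h4

include hsq in
theorem compat_ker_pow (n : ℕ) : Compat g (i.ker ^ n) (i'.ker ^ n) := by
  refine compat_of_affine g _ _ ?_
  intro V' V e
  change ((i'.ker.ideal V') ^ n).map (g.appLE V'.1 V.1 e).hom ≤ (i.ker.ideal V) ^ n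
  rw [Ideal.map_pow]
  exact Ideal.pow_right_mono (map_ker_le i i' g gZ hsq V' V e) n

end Pow

end Groth.Agent.Lib.Helper29.GrCompat
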