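import Groth.Agent.Lib.Helper29.ConormalBC
import Groth.Agent.Lib.Helper29.GrCompat

set_option autoImplicit false
universe u
open CategoryTheory CategoryTheory.Limits AlgebraicGeometry TensorProduct Opposite

namespace Groth.Agent.Lib.Helper29.GrBC

open Groth.Agent.Lib.Helper28.QCohLoc Groth.Agent.Lib.Helper29.ConormalMap
  Groth.Agent.Lib.Helper29.ConormalAlg Groth.Agent.Lib.Helper17.PullbackBC
  Groth.Agent.Lib.Helper28.PullbackInv Groth.Agent.Lib.Helper29.ConormalBC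
  Groth.Agent.Lib.Helper29.GrMap Groth.Agent.Lib.Helper29.GrCompat

section Core

open Groth.Agent.Lib.Helper17.ModPullback Groth.Agent.Lib.Helper17.CohKer
  Groth.Agent.Lib.Helper17.Serre

variable {Z X Z' X' : Scheme.{u}} {i : Z ⟶ X} {i' : Z' ⟶ X'} {g : X ⟶ X'} {gZ : Z ⟶ Z'}
  (H : IsPullback i gZ g i') (K : X.IdealSheafData) (K' : X'.IdealSheafData) (hK : Compat g K K')
  {W' : X'.Opens} (hW' : IsAffineOpen W')
  {W : X.Opens} (hW : IsAffineOpen W) (e : W ≤ g ⁻¹ᵁ W')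

/-- `g♯` on sections of the ideals, from `W'` to `W ≤ g⁻¹ W'`. -/
noncomputable def tmap (s' : Γ(ClSub.idealMod K', W')) : Γ(ClSub.idealMod K, W) :=
  res (ClSub.idealMod K) e (pushSect g K K' hK W' s')

theorem idealSect_tmap (s' : Γ(ClSub.idealMod K', W')) :
    OmegaSh.idealSect K W (tmap K K' hK e s') = g.appLE W' W e (OmegaSh.idealSect K' W' s') := by
  unfold tmap
  rw [idealSect_res, GrMap.idealSect_pushSect]
  rfl

/-- `s' ↦ i'^* s'`. -/
noncomputable def c₁ (s' : Γ(ClSub.idealMod K', W')) : Γ(grK i' K', i' ⁻¹ᵁ W') :=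
  res ((Scheme.Modules.pullback i').obj (ClSub.idealMod K')) (le_refl (i' ⁻¹ᵁ W'))
    (pbs i' (ClSub.idealMod K') W' s')

/-- `m ↦ (gZ^* m)|_{i⁻¹ W}`. -/
noncomputable def c₂ (m : Γ(grK i' K', i' ⁻¹ᵁ W')) :
    Γ((Scheme.Modules.pullback gZ).obj (grK i' K'), i ⁻¹ᵁ W) :=
  res ((Scheme.Modules.pullback gZ).obj (grK i' K')) (preimage_le H e)
    (pbs gZ (grK i' K') (i' ⁻¹ᵁ W') m)

/-- `s ↦ i^* s`. -/
noncomputable def c₃ (s : Γ(ClSub.idealMod K, W)) : Γ(grK i K, i ⁻¹ᵁ W) :=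
  res ((Scheme.Modules.pullback i).obj (ClSub.idealMod K)) (le_refl (i ⁻¹ᵁ W))
    (pbs i (ClSub.idealMod K) W s)

theorem grMap_app_c (s' : Γ(ClSub.idealMod K', W')) :
    (grMap i i' g gZ H.w.symm K K' hK).app (i ⁻¹ᵁ W) (c₂ H K' e (c₁ K' s')) =
      c₃ K (tmap K K' hK e s') := by
  unfold c₂ c₁ c₃ tmap
  rw [res_self, res_self, app_res]
  have h1 := grMap_pullSect i i' g gZ H.w.symm K K' hK W' s'
  have h2 : (grMap i i' g gZ H.w.symm K K' hK).app (gZ ⁻¹ᵁ (i' ⁻¹ᵁ W'))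
      (pbs gZ (grK i' K') (i' ⁻¹ᵁ W') (pbs i' (ClSub.idealMod K') W' s')) =
      (grK i K).presheaf.map (eqToHom (preimage_eq i i' g gZ H.w.symm W')).op
        (OmegaSh.pullSect i (ClSub.idealMod K) (g ⁻¹ᵁ W') (pushSect g K K' hK W' s')) := h1
  rw [h2]
  have h3 := pbs_res i (ClSub.idealMod K) e (pushSect g K K' hK W' s')
  rw [h3]
  exact map_map_eq _ _ _ _ _

theorem c₃_add (a b : Γ(ClSub.idealMod K, W)) : c₃ (i := i) K (a + b) = c₃ K a + c₃ K b := by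
  unfold c₃
  rw [pbs_add]
  exact map_add _ _ _

theorem c₃_zero : c₃ (i := i) K (0 : Γ(ClSub.idealMod K, W)) = 0 := by
  have h := c₃_add (i := i) K (0 : Γ(ClSub.idealMod K, W)) 0
  rw [add_zero] at h
  exact left_eq_add.1 h

theorem c₃_smul (c : Γ(X, W)) (a : Γ(ClSub.idealMod K, W)) :
    c₃ (i := i) K (c • a) = i.app W c • c₃ K a := by
  unfold c₃
  rw [pbs_smul, res_self, res_self]

include hW' hW in
theorem surjective_grMap_app (hU : IsAffineOpen (i ⁻¹ᵁ W))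
    (hideal : K.ideal ⟨W, hW⟩ = (K'.ideal ⟨W', hW'⟩).map (g.appLE W' W e).hom) :
    Function.Surjective ((grMap i i' g gZ H.w.symm K K' hK).app (i ⁻¹ᵁ W)) := by
  have h₃ : IsBC (i.appLE W (i ⁻¹ᵁ W) le_rfl).hom (c₃ (i := i) (W := W) K) :=
    isBC_pullback i hW hU le_rfl (ClSub.idealMod K)
  let Φ := (grMap i i' g gZ H.w.symm K K' hK).app (i ⁻¹ᵁ W)
  have claim : ∀ x ∈ (K'.ideal ⟨W', hW'⟩).map (g.appLE W' W e).hom,
      ∃ (s : Γ(ClSub.idealMod K, W)) (m : Γ((Scheme.Modules.pullback gZ).obj (grK i' K'), i ⁻¹ᵁ W)),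
        OmegaSh.idealSect K W s = x ∧ Φ m = c₃ K s := by
    intro x hx
    refine Submodule.span_induction ?_ ?_ ?_ ?_ hx
    · rintro _ ⟨x', hx', rfl⟩
      rw [← range_idealιLin K' hW'] at hx'
      obtain ⟨s', rfl⟩ := hx'
      exact ⟨tmap K K' hK e s', c₂ H K' e (c₁ K' s'), idealSect_tmap K K' hK e s',
        grMap_app_c H K K' hK e s'⟩
    · exact ⟨0, 0, map_zero _, by rw [map_zero, c₃_zero]⟩
    · rintro y z _ _ ⟨s₁, m₁, rfl, h₁⟩ ⟨s₂, m₂, rfl, h₂⟩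
      exact ⟨s₁ + s₂, m₁ + m₂, map_add _ _ _, by rw [map_add, h₁, h₂, c₃_add]⟩
    · rintro c y _ ⟨s₁, m₁, rfl, h₁⟩
      refine ⟨c • s₁, i.app W c • m₁, idealSect_smul _ _ _ _, ?_⟩
      rw [c₃_smul, ← h₁]
      exact Scheme.Modules.Hom.app_smul _ _ _
  intro y
  have hy := span_of_isBC _ _ h₃ y
  induction hy using Submodule.span_induction with
  | mem z hz =>
    obtain ⟨s, rfl⟩ := hz
    have hs : OmegaSh.idealSect K W s ∈ (K'.ideal ⟨W', hW'⟩).map (g.appLE W' W e).hom := by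
      rw [← hideal, ← range_idealιLin K hW]
      exact ⟨s, rfl⟩
    obtain ⟨s₀, m, hs₀, hm⟩ := claim _ hs
    have : s₀ = s := idealSect_injective _ _ hs₀
    subst this
    exact ⟨m, hm⟩
  | zero => exact ⟨0, map_zero _⟩
  | add a b _ _ ha hb =>
    obtain ⟨ma, rfl⟩ := ha
    obtain ⟨mb, rfl⟩ := hb
    exact ⟨ma + mb, map_add _ _ _⟩
  | smul r a _ ha =>
    obtain ⟨ma, rfl⟩ := ha
    exact ⟨r • ma, Scheme.Modules.Hom.app_smul _ _ _⟩

include hW' hW in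
theorem bijective_grMap_app (hU' : IsAffineOpen (i' ⁻¹ᵁ W')) (hU : IsAffineOpen (i ⁻¹ᵁ W))
    (hideal : K.ideal ⟨W, hW⟩ = (K'.ideal ⟨W', hW'⟩).map (g.appLE W' W e).hom)
    (htor : letI := (g.appLE W' W e).hom.toAlgebra
      Function.Injective (LinearMap.lTensor Γ(X, W) (idealιLin K' W'))) :
    Function.Bijective ((grMap i i' g gZ H.w.symm K K' hK).app (i ⁻¹ᵁ W)) := by
  have h₁ : IsBC (i'.appLE W' (i' ⁻¹ᵁ W') le_rfl).hom (c₁ (i' := i') (W' := W') K') :=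
    isBC_pullback i' hW' hU' le_rfl (ClSub.idealMod K')
  have h₂ : IsBC (gZ.appLE (i' ⁻¹ᵁ W') (i ⁻¹ᵁ W) (preimage_le H e)).hom (c₂ H K' e) :=
    isBC_pullback gZ hU' hU (preimage_le H e) (grK i' K')
  have h₃ : IsBC (i.appLE W (i ⁻¹ᵁ W) le_rfl).hom (c₃ (i := i) (W := W) K) :=
    isBC_pullback i hW hU le_rfl (ClSub.idealMod K)
  have hrange : ∀ n : Γ(ClSub.idealMod K, W), idealιLin K W n ∈
      Ideal.map (g.appLE W' W e).hom (LinearMap.range (idealιLin K' W') : Ideal Γ(X', W')) := by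
    intro n
    rw [range_idealιLin K' hW', ← hideal, ← range_idealιLin K hW]
    exact ⟨n, rfl⟩
  have h₄ : IsBC (g.appLE W' W e).hom (tmap K K' hK e) :=
    isBC_ideal (g.appLE W' W e).hom (idealιLin K' W') (idealιLin K W)
      (idealιLin_injective K W) (tmap K K' hK e) (idealSect_tmap K K' hK e) hrange htor
  have h₁₂ := isBC_comp _ _ _ _ h₁ h₂
  have h₄₃ := isBC_comp _ _ _ _ h₄ h₃
  have hring : (i.appLE W (i ⁻¹ᵁ W) le_rfl).hom.comp (g.appLE W' W e).hom =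
      (gZ.appLE (i' ⁻¹ᵁ W') (i ⁻¹ᵁ W) (preimage_le H e)).hom.comp
        (i'.appLE W' (i' ⁻¹ᵁ W') le_rfl).hom := by
    rw [← CommRingCat.hom_comp, ← CommRingCat.hom_comp, Scheme.Hom.appLE_comp_appLE,
      Scheme.Hom.appLE_comp_appLE]
    exact congrArg CommRingCat.Hom.hom (OmegaSh.appLE_congr_hom H.w _ _)
  rw [hring] at h₄₃
  refine bijective_of_isBC_of_isBC _ _ _ h₁₂ h₄₃
    ((grMap i i' g gZ H.w.symm K K' hK).app (i ⁻¹ᵁ W)).hom ?_ ?_
  · intro r m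
    exact Scheme.Modules.Hom.app_smul _ _ _
  · intro s'
    exact grMap_app_c H K K' hK e s'

end Core

section Global

variable {Z X Z' X' : Scheme.{u}} {i : Z ⟶ X} {i' : Z' ⟶ X'} {g : X ⟶ X'} {gZ : Z ⟶ Z'}
  (H : IsPullback i gZ g i') [IsImmersion i] [IsImmersion i'] [QuasiCompact i] [QuasiCompact i']
  (n : ℕ)

/-- the canonical map `gZ^* i'^* (ker i')^n ⟶ i^* (ker i)^n` of a cartesian square. -/
noncomputable abbrev grMapPow :
    (Scheme.Modules.pullback gZ).obj (grK i' (i'.ker ^ n)) ⟶ grK i (i.ker ^ n) :=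
  grMap i i' g gZ H.w.symm (i.ker ^ n) (i'.ker ^ n) (compat_ker_pow i i' g gZ H.w.symm n)

include H in
theorem ideal_pow_eq_map {W' : X'.Opens} (hW' : IsAffineOpen W') {W : X.Opens} (hW : IsAffineOpen W)
    (e : W ≤ g ⁻¹ᵁ W') (hU' : IsAffineOpen (i' ⁻¹ᵁ W')) (hsurj : Function.Surjective (i'.app W')) :
    (i.ker ^ n).ideal ⟨W, hW⟩ = ((i'.ker ^ n).ideal ⟨W', hW'⟩).map (g.appLE W' W e).hom := by
  change (i.ker.ideal ⟨W, hW⟩) ^ n = ((i'.ker.ideal ⟨W', hW'⟩) ^ n).map (g.appLE W' W e).hom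
  rw [Ideal.map_pow, ideal_eq_map H hW' hW e hU' hsurj]

/-- **the canonical map of graded pieces of a cartesian square is an epimorphism.** -/
theorem epi_grMapPow : Epi (grMapPow H n) := by
  refine epi_of_locally_in_range _ ?_
  intro O x z hz
  obtain ⟨W', W, hW', hc, hW, e, hzW, hle⟩ := exists_chart H O z hz
  obtain ⟨hU', hsurj'⟩ := affine_surjective_of_le_coborder i' hW' hc
  have hU := isAffineOpen_preimage H hW' hW e hU'
  obtain ⟨y, hy⟩ := surjective_grMap_app H (i.ker ^ n) (i'.ker ^ n)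
    (compat_ker_pow i i' g gZ H.w.symm n) hW' hW e hU
    (ideal_pow_eq_map H n hW' hW e hU' hsurj') (res (grK i (i.ker ^ n)) hle x)
  exact ⟨i ⁻¹ᵁ W, hle, hzW, y, hy⟩

/-- **the canonical map of graded pieces of a cartesian square is an isomorphism when `g` is flat.** -/
theorem isIso_grMapPow_of_flat [Flat g] : IsIso (grMapPow H n) := by
  refine Groth.Agent.Lib.Helper28.TensorIso.isIso_of_bijective_on_basis _
    (fun U => ∃ (W' : X'.Opens) (W : X.Opens) (_ : IsAffineOpen W')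
      (_ : IsAffineOpen W) (_ : W ≤ g ⁻¹ᵁ W'), W' ≤ i'.coborderRange ∧ U = i ⁻¹ᵁ W) ?_ ?_
  · intro O z hz
    obtain ⟨W', W, hW', hc, hW, e, hzW, hle⟩ := exists_chart H O z hz
    exact ⟨i ⁻¹ᵁ W, ⟨W', W, hW', hW, e, hc, rfl⟩, hzW, hle⟩
  · rintro U ⟨W', W, hW', hW, e, hc, rfl⟩
    obtain ⟨hU', hsurj'⟩ := affine_surjective_of_le_coborder i' hW' hc
    have hU := isAffineOpen_preimage H hW' hW e hU'
    exact bijective_grMap_app H (i.ker ^ n) (i'.ker ^ n)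
      (compat_ker_pow i i' g gZ H.w.symm n) hW' hW e hU' hU
      (ideal_pow_eq_map H n hW' hW e hU' hsurj')
      (lTensor_injective_of_flat (g.appLE W' W e).hom (g.flat_appLE hW' hW e) _
        (idealιLin_injective (i'.ker ^ n) W'))

end Global

end Groth.Agent.Lib.Helper29.GrBC
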