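import Groth.Agent.Lib.Helper29.ZClosLib2
import Groth.Agent.Lib.Helper29.QCohStalk2

/-!
# Sections supported in `Z` die in the `Z`-closure
-/

set_option autoImplicit false
universe u
open CategoryTheory CategoryTheory.Limits AlgebraicGeometry TopologicalSpace Opposite

namespace Groth.Agent.Lib.Helper29.ZClosLib

open ZClos Groth.Agent.Lib.Helper28.QCohLoc Groth.Agent.Lib.Helper29.QCohStalk
  Groth.Agent.Lib.Helper29.FilColimSec

/-- a relatively closed subset of a Noetherian open, contained in a specialization-stable set `Z`, is contained in a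
closed subset of the whole space contained in `Z` -/
theorem exists_closed_of_relClosed {α : Type*} [TopologicalSpace α] [QuasiSober α] (U : Opens α)
    [NoetherianSpace U] (S : Set α) (hSU : S ⊆ U) (hS : IsClosed ((Subtype.val : U → α) ⁻¹' S))
    (Z : Set α) (hZ : StableUnderSpecialization Z) (hSZ : S ⊆ Z) :
    ∃ T : Set α, IsClosed T ∧ T ⊆ Z ∧ S ⊆ T := by
  haveI : QuasiSober U := U.isOpenEmbedding'.quasiSober
  obtain ⟨𝒮, hfin, hcl, hirr, hU⟩ := NoetherianSpace.exists_finite_set_isClosed_irreducible hS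
  have hgen : ∀ t : 𝒮, ∃ η : U, IsGenericPoint η t.1 := fun t => QuasiSober.sober (hirr t.1 t.2) (hcl t.1 t.2)
  choose η hη using hgen
  haveI : Finite 𝒮 := hfin.to_subtype
  refine ⟨⋃ t : 𝒮, closure {((η t : U) : α)}, isClosed_iUnion_of_finite fun t => isClosed_closure, ?_, ?_⟩
  · intro y hy
    obtain ⟨t, hyt⟩ := Set.mem_iUnion.1 hy
    have h1 : ((η t : U) : α) ∈ S := by
      have : η t ∈ (Subtype.val : U → α) ⁻¹' S := by
        rw [hU]; exact ⟨t.1, t.2, (hη t).mem⟩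
      exact this
    exact hZ (specializes_iff_mem_closure.2 hyt) (hSZ h1)
  · intro y hy
    have hy' : (⟨y, hSU hy⟩ : U) ∈ (Subtype.val : U → α) ⁻¹' S := hy
    rw [hU] at hy'
    obtain ⟨t, ht, hyt⟩ := hy'
    refine Set.mem_iUnion.2 ⟨⟨t, ht⟩, ?_⟩
    have hsp : η ⟨t, ht⟩ ⤳ (⟨y, hSU hy⟩ : U) := (hη ⟨t, ht⟩).specializes hyt
    exact specializes_iff_mem_closure.1 (hsp.map continuous_subtype_val)

variable {X : Scheme.{u}} {Z : Set X} (F : X.Modules)

theorem noetherianSpace_of_isCompact [IsLocallyNoetherian X] {V : X.Opens} (hV : IsCompact (V : Set X)) :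
    NoetherianSpace (V : Set X) := by
  haveI : CompactSpace (V : Scheme.{u}) := isCompact_iff_compactSpace.1 hV
  haveI : IsNoetherian (V : Scheme.{u}) := ⟨⟩
  exact (inferInstance : NoetherianSpace (V : Scheme.{u}))

/-- the vanishing locus of the germs of a section is open -/
theorem isOpen_setOf_gm_eq_zero (U : X.Opens) (s : Γ(F, U)) :
    IsOpen {y : X | ∃ hy : y ∈ U, gm F U y hy s = 0} := by
  rw [isOpen_iff_forall_mem_open]
  rintro y ⟨hy, h0⟩
  have h0' : gm F U y hy s = gm F U y hy 0 := by rw [h0, gm_zero]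
  obtain ⟨W, hyW, iU, iV, hres⟩ := TopCat.Presheaf.germ_eq F.presheaf y hy hy _ _ h0'
  have hres' : res F iU.le s = 0 := by
    have : F.presheaf.map iV.op (0 : Γ(F, U)) = 0 := map_zero _
    rw [this] at hres
    exact hres
  refine ⟨(W : Set X), ?_, W.isOpen, hyW⟩
  intro z hz
  refine ⟨iU.le hz, ?_⟩
  rw [← gm_res F iU.le z hz s, hres', gm_zero]

/-- a section over `T.U ∩ V` (`V` quasi-compact) whose germs vanish off `Z` dies in the `Z`-closure -/
theorem exists_res_eq_zero_of_gm_eq_zero [IsLocallyNoetherian X] (hZ : StableUnderSpecialization Z)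
    (V : X.Opens) (hV : IsCompact (V : Set X)) (T : Cl Z) (s : Γ(F, Op Z T V))
    (h : ∀ (y : X) (hy : y ∈ Op Z T V), y ∉ Z → gm F (Op Z T V) y hy s = 0) :
    ∃ (T' : Cl Z) (hT : T ≤ T'), res F (Op_anti hT V) s = 0 := by
  haveI hN : NoetherianSpace ↥(Op Z T V) := by
    have h1 : NoetherianSpace (((Op Z T V : X.Opens) : Set X)) :=
      (noetherianSpace_set_iff ((Op Z T V : X.Opens) : Set X)).2 fun t ht =>
        (noetherianSpace_set_iff (V : Set X)).1 (noetherianSpace_of_isCompact hV) t (ht.trans (Op_le T V))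
    exact h1
  let S : Set X := {y | ∃ hy : y ∈ Op Z T V, gm F (Op Z T V) y hy s ≠ 0}
  have hSU : S ⊆ (Op Z T V : X.Opens) := fun y hy => hy.1
  have hSZ : S ⊆ Z := fun y hy => by
    obtain ⟨hy1, hne⟩ := hy
    by_contra hyZ
    exact hne (h y hy1 hyZ)
  have hScl : IsClosed ((Subtype.val : ↥(Op Z T V) → X) ⁻¹' S) := by
    rw [← isOpen_compl_iff]
    have hc : ((Subtype.val : ↥(Op Z T V) → X) ⁻¹' S)ᶜ =
        (Subtype.val : ↥(Op Z T V) → X) ⁻¹' {y | ∃ hy : y ∈ Op Z T V, gm F (Op Z T V) y hy s = 0} := by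
      ext y
      constructor
      · intro hy
        refine ⟨y.2, ?_⟩
        by_contra hne
        exact hy ⟨y.2, hne⟩
      · rintro ⟨hy1, h0⟩ ⟨hy2, hne⟩
        exact hne h0
    rw [hc]
    exact (isOpen_setOf_gm_eq_zero F (Op Z T V) s).preimage continuous_subtype_val
  obtain ⟨T₀, hT₀cl, hT₀Z, hST₀⟩ := exists_closed_of_relClosed (Op Z T V) S hSU hScl Z hZ hSZ
  let T₁ : Cl Z := ⟨⟨T₀, hT₀cl⟩, hT₀Z⟩
  refine ⟨T ⊔ T₁, le_sup_left, ?_⟩
  apply eq_zero_of_forall_gm_eq_zero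
  intro y hy
  rw [gm_res]
  by_contra hne
  have hyS : y ∈ S := ⟨_, hne⟩
  have hyT₀ : y ∈ T₀ := hST₀ hyS
  have h1 := ((mem_Op_iff (T ⊔ T₁) V y).1 hy).1
  apply h1
  change y ∈ ((T.1 ⊔ T₁.1 : Closeds X) : Set X)
  rw [Closeds.coe_sup]
  exact Or.inr hyT₀

end Groth.Agent.Lib.Helper29.ZClosLib
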