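import Groth.Agent.Lib.Helper29.ZClosLib
import Groth.Agent.Lib.Helper29.QCohExact

/-!
# Criteria for the units `F ⟶ j_*(F|_{X∖T})` on quasi-compact opens
-/

set_option autoImplicit false
universe u
open CategoryTheory CategoryTheory.Limits AlgebraicGeometry TopologicalSpace Opposite

namespace Groth.Agent.Lib.Helper29.ZClosLib

open ZClos Groth.Agent.Lib.Helper28.QCohLoc Groth.Agent.Lib.Helper29.QCohStalk

variable {X : Scheme.{u}} {Z : Set X} (F : X.Modules)

theorem inf_le_Op (T : Cl Z) (V : X.Opens) : V ⊓ T.U ≤ Op Z T V := by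
  rw [Op_eq, inf_comm]

theorem Op_le_inf (T : Cl Z) (V : X.Opens) : Op Z T V ≤ V ⊓ T.U := by
  rw [Op_eq, inf_comm]

theorem res_injective_of_le_of_le {U V : X.Opens} (h : V ≤ U) (h' : U ≤ V) :
    Function.Injective (res F h) := by
  intro s t hst
  have := congrArg (res F h') hst
  rwa [res_res, res_res, res_self, res_self] at this

theorem res_inf_eq (T : Cl Z) (V : X.Opens) (s : Γ(F, V)) :
    res F (inf_le_left : V ⊓ T.U ≤ V) s = res F (inf_le_Op T V) (res F (Op_le T V) s) := by
  rw [res_res]

theorem res_Op_eq (T : Cl Z) (V : X.Opens) (s : Γ(F, V)) :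
    res F (Op_le T V) s = res F (Op_le_inf T V) (res F (inf_le_left : V ⊓ T.U ≤ V) s) := by
  rw [res_res]

/-- injectivity of the unit, tested on quasi-compact opens -/
theorem mono_toDiagram_iff (T : Cl Z) :
    Mono (toDiagram Z F T) ↔ ∀ V : X.Opens, IsCompact (V : Set X) →
      Function.Injective (res F (inf_le_left : V ⊓ T.U ≤ V)) := by
  constructor
  · intro h V _ s t hst
    apply injective_app_of_mono (toDiagram Z F T) h V
    rw [toDiagram_app, toDiagram_app, res_Op_eq, res_Op_eq, hst]
  · intro h
    refine mono_of_injective (toDiagram Z F T) fun W => ?_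
    refine (injective_iff_map_eq_zero (ConcreteCategory.hom ((toDiagram Z F T).app W))).2 fun s hs => ?_
    have hs' : res F (Op_le T W) s = 0 := hs
    refine eq_zero_of_locally F W s fun x hx => ?_
    obtain ⟨V, hVW, hxV, hVc⟩ := exists_compact_nhd hx
    refine ⟨V, hVW, hxV, ?_⟩
    apply h V hVc
    rw [res_res]
    have hle : V ⊓ T.U ≤ Op Z T W := (inf_le_Op T V).trans (Op_mono T hVW)
    have := congrArg (res F hle) hs'
    rw [res_res, res_zero] at this
    exact this.trans (res_zero _ _).symm

/-- bijectivity of the unit, tested on quasi-compact opens -/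
theorem isIso_toDiagram_iff (T : Cl Z) :
    IsIso (toDiagram Z F T) ↔ ∀ V : X.Opens, IsCompact (V : Set X) →
      Function.Bijective (res F (inf_le_left : V ⊓ T.U ≤ V)) := by
  constructor
  · intro h V _
    have hb : Function.Bijective ((toDiagram Z F T).app V) := by
      rw [← ConcreteCategory.isIso_iff_bijective]
      exact Scheme.Modules.Hom.isIso_iff_isIso_app.mp h V
    constructor
    · intro s t hst
      apply hb.1
      rw [toDiagram_app, toDiagram_app, res_Op_eq, res_Op_eq, hst]
    · intro t
      obtain ⟨s, hs⟩ := hb.2 (show Γ(((diagram Z).obj F).obj T, V) from res F (Op_le_inf T V) t)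
      refine ⟨s, ?_⟩
      rw [res_inf_eq]
      have hs' : res F (Op_le T V) s = res F (Op_le_inf T V) t := hs
      rw [hs', res_res, res_self]
  · intro h
    haveI : Mono (toDiagram Z F T) := (mono_toDiagram_iff F T).2 fun V hV => (h V hV).1
    haveI : Epi (toDiagram Z F T) := by
      refine epi_of_locally_in_range (toDiagram Z F T) fun W t0 pt hpt => ?_
      obtain ⟨t, rfl⟩ : ∃ t : Γ(F, Op Z T W), (show Γ(((diagram Z).obj F).obj T, W) from t) = t0 := ⟨t0, rfl⟩
      obtain ⟨V, hVW, hxV, hVc⟩ := exists_compact_nhd hpt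
      have hle : V ⊓ T.U ≤ Op Z T W := (inf_le_Op T V).trans (Op_mono T hVW)
      obtain ⟨y, hy⟩ := (h V hVc).2 (res F hle t)
      refine ⟨V, hVW, hxV, y, ?_⟩
      change res F (Op_le T V) y = res F (Op_mono T hVW) t
      rw [res_Op_eq, hy, res_res]
    exact isIso_of_mono_of_epi _

end Groth.Agent.Lib.Helper29.ZClosLib
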