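import Groth.Prelude.Def_BlowUp2
import Groth.Agent.Lib.Helper29.RelEffCart
import Groth.Agent.Lib.Helper29.IdealComap

set_option autoImplicit false
universe u
open CategoryTheory CategoryTheory.Limits AlgebraicGeometry Opposite TopologicalSpace

namespace Groth.Agent.Lib.Helper29.EffCart

open Groth.Agent.Lib.Helper29.FlatExt

variable {X Y : Scheme.{u}}

/-- A flat ring map sends nonzerodivisors to nonzerodivisors. -/
lemma map_mem_nonZeroDivisors_of_flat {A B : Type*} [CommRing A] [CommRing B] (φ : A →+* B)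
    (hφ : φ.Flat) (t : A) (ht : t ∈ nonZeroDivisors A) : φ t ∈ nonZeroDivisors B := by
  letI := φ.toAlgebra
  have : Module.Flat A B := hφ
  have h := Module.Flat.isSMulRegular_of_nonZeroDivisors (M := B) ht
  rw [mem_nonZeroDivisors_iff_right]
  intro z hz
  apply h
  change t • z = t • (0 : B)
  rw [smul_zero, Algebra.smul_def, mul_comm]
  exact hz

/-- The inverse image of an effective Cartier ideal under a flat morphism is effective Cartier. -/
theorem isEffCartierIdeal_comap_of_flat (g : Y ⟶ X) [Flat g] (𝓓 : X.IdealSheafData)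
    (h : BlowUp.IsEffCartierIdeal 𝓓) : BlowUp.IsEffCartierIdeal (𝓓.comap g) := by
  intro y
  obtain ⟨U, hU, t, ht, hI⟩ := h (g y)
  obtain ⟨_, ⟨W, hW, rfl⟩, hyW, hle⟩ := Y.isBasis_affineOpens.exists_subset_of_mem_open
    (show y ∈ g ⁻¹ᵁ U.1 from hU) (g ⁻¹ᵁ U.1).2
  refine ⟨⟨W, hW⟩, hyW, (g.appLE U.1 W hle).hom t, ?_, ?_⟩
  · exact map_mem_nonZeroDivisors_of_flat _
      (HasRingHomProperty.appLE (P := @Flat) _ inferInstance U ⟨W, hW⟩ hle) t ht
  · rw [ideal_comap_eq_map 𝓓 g U ⟨W, hW⟩ hle, hI, Ideal.map_span, Set.image_singleton]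

lemma isEffCartierIdeal_top : BlowUp.IsEffCartierIdeal (⊤ : X.IdealSheafData) := by
  intro x
  obtain ⟨_, ⟨U, hU, rfl⟩, hxU, -⟩ :=
    X.isBasis_affineOpens.exists_subset_of_mem_open (Set.mem_univ x) isOpen_univ
  refine ⟨⟨U, hU⟩, hxU, 1, one_mem _, ?_⟩
  rw [Ideal.span_singleton_one]
  rfl

/-- Uniqueness part of the universal property of a blow-up. -/
lemma IsBlowUp.hom_ext {X' : Scheme.{u}} {b : X' ⟶ X} {𝓘 : X.IdealSheafData}
    (hb : BlowUp.IsBlowUp b 𝓘) {T : Scheme.{u}} (m₁ m₂ : T ⟶ X')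
    (hT : BlowUp.IsEffCartierIdeal (𝓘.comap (m₁ ≫ b))) (h : m₁ ≫ b = m₂ ≫ b) : m₁ = m₂ :=
  (hb.2 T (m₁ ≫ b) hT).unique rfl h.symm

/-- A blow-up is an isomorphism over the complement of the centre. -/
theorem IsBlowUp.isIso_morphismRestrict {X' : Scheme.{u}} {b : X' ⟶ X} {𝓘 : X.IdealSheafData}
    (hb : BlowUp.IsBlowUp b 𝓘) : IsIso (b ∣_ 𝓘.support.compl) := by
  set U : X.Opens := 𝓘.support.compl with hU
  have htop : 𝓘.comap U.ι = ⊤ := by
    rw [← Scheme.IdealSheafData.support_eq_bot_iff, Scheme.IdealSheafData.support_comap]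
    ext x
    simp only [Closeds.coe_preimage, Set.mem_preimage, Closeds.coe_bot, Set.mem_empty_iff_false,
      iff_false]
    exact x.2
  obtain ⟨h, hh, -⟩ := hb.2 U U.ι (htop ▸ isEffCartierIdeal_top)
  have hrange : Set.range h ⊆ Set.range (b ⁻¹ᵁ U).ι := by
    rintro _ ⟨u, rfl⟩
    rw [Scheme.Opens.range_ι]
    change b (h u) ∈ U
    rw [← Scheme.Hom.comp_apply, hh]
    exact u.2
  let s : (U : Scheme) ⟶ (b ⁻¹ᵁ U : X'.Opens) := IsOpenImmersion.lift (b ⁻¹ᵁ U).ι h hrange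
  have hs : s ≫ (b ⁻¹ᵁ U).ι = h := IsOpenImmersion.lift_fac _ _ _
  refine ⟨s, ?_, ?_⟩
  · rw [← cancel_mono (b ⁻¹ᵁ U).ι, Category.assoc, hs, Category.id_comp]
    refine IsBlowUp.hom_ext hb _ _ ?_ ?_
    · rw [Category.assoc, hh, Scheme.IdealSheafData.comap_comp, htop,
        Scheme.IdealSheafData.comap_top]
      exact isEffCartierIdeal_top
    · rw [Category.assoc, hh, morphismRestrict_ι]
  · rw [← cancel_mono U.ι, Category.assoc, morphismRestrict_ι, ← Category.assoc, hs, hh,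
      Category.id_comp]

end Groth.Agent.Lib.Helper29.EffCart
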