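import Mathlib

import Groth.Prelude.Def_BlowUp2
import Groth.Agent.Lib.Helper29.AffBlowAlg
import Groth.Agent.Lib.Helper29.BlowUpUP

set_option autoImplicit false
universe u
open CategoryTheory CategoryTheory.Limits AlgebraicGeometry Opposite TopologicalSpace

namespace Groth.Agent.Lib.Helper29.AffBlow
open Groth.Agent.Lib.Helper29.EffCart

variable {A : Type u} [CommRing A]

/-- The ideal sheaf of `I` on `Spec A`. -/
noncomputable abbrev idealSheaf (I : Ideal A) : (Spec (CommRingCat.of A)).IdealSheafData :=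
  Scheme.IdealSheafData.ofIdealTop (I.map (Scheme.ΓSpecIso (CommRingCat.of A)).inv.hom)

/-- `A → Γ(T,O)` induced by `g : T ⟶ Spec A`. -/
noncomputable def secMap {T : Scheme.{u}} (g : T ⟶ Spec (CommRingCat.of A)) (O : T.Opens) :
    A →+* Γ(T, O) :=
  (g.appLE ⊤ O (show O ≤ g ⁻¹ᵁ ⊤ from le_top)).hom.comp (Scheme.ΓSpecIso (CommRingCat.of A)).inv.hom

lemma ideal_comap (I : Ideal A) {T : Scheme.{u}} (g : T ⟶ Spec (CommRingCat.of A))
    (O : T.affineOpens) :
    ((idealSheaf I).comap g).ideal O = I.map (secMap g O.1) := by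
  rw [ideal_comap_eq_map (idealSheaf I) g ⟨⊤, isAffineOpen_top _⟩ O le_top]
  rw [Scheme.IdealSheafData.ofIdealTop_ideal, Ideal.map_map, Ideal.map_map]
  congr 1

lemma secMap_res {T : Scheme.{u}} (g : T ⟶ Spec (CommRingCat.of A)) {O O' : T.Opens}
    (h : O' ≤ O) (x : A) :
    (T.presheaf.map (homOfLE h).op).hom (secMap g O x) = secMap g O' x := by
  simp only [secMap, RingHom.comp_apply]
  rw [← CommRingCat.comp_apply, Scheme.Hom.appLE_map]

lemma secMap_comp {T T' : Scheme.{u}} (k : T' ⟶ T) (g : T ⟶ Spec (CommRingCat.of A))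
    (O : T.Opens) (O' : T'.Opens) (h : O' ≤ k ⁻¹ᵁ O) (x : A) :
    (k.appLE O O' h).hom (secMap g O x) = secMap (k ≫ g) O' x := by
  simp only [secMap, RingHom.comp_apply]
  rw [← CommRingCat.comp_apply, Scheme.Hom.appLE_comp_appLE]

/-- `a` generates `I·O_T` on the open `O`, as a nonzerodivisor. -/
def Gen (I : Ideal A) (a : A) {T : Scheme.{u}} (g : T ⟶ Spec (CommRingCat.of A))
    (O : T.Opens) : Prop :=
  secMap g O a ∈ nonZeroDivisors Γ(T, O) ∧ I.map (secMap g O) = Ideal.span {secMap g O a}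

/-- `a` generates `I·O_T` locally on `T`, as a nonzerodivisor. -/
def LocGen (I : Ideal A) (a : A) {T : Scheme.{u}} (g : T ⟶ Spec (CommRingCat.of A)) : Prop :=
  ∀ t : T, ∃ O : T.affineOpens, t ∈ O.1 ∧ Gen I a g O.1

variable {I : Ideal A} {a : A}

lemma Gen.comp_of_flat {T T' : Scheme.{u}} {g : T ⟶ Spec (CommRingCat.of A)} {O : T.Opens}
    (hG : Gen I a g O) (k : T' ⟶ T) (O' : T'.Opens) (h : O' ≤ k ⁻¹ᵁ O)
    (hflat : (k.appLE O O' h).hom.Flat) : Gen I a (k ≫ g) O' := by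
  have hcomp : secMap (k ≫ g) O' = (k.appLE O O' h).hom.comp (secMap g O) := by
    ext x
    exact (secMap_comp k g O O' h x).symm
  refine ⟨?_, ?_⟩
  · rw [← secMap_comp k g O O' h a]
    exact map_mem_nonZeroDivisors_of_flat _ hflat _ hG.1
  · rw [hcomp, ← Ideal.map_map, hG.2, Ideal.map_span, Set.image_singleton]
    rfl

lemma locGen_comp_of_flat {T T' : Scheme.{u}} {g : T ⟶ Spec (CommRingCat.of A)}
    (k : T' ⟶ T) [Flat k] (hG : ∀ t' : T', ∃ O : T.affineOpens, k t' ∈ O.1 ∧ Gen I a g O.1) :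
    LocGen I a (k ≫ g) := by
  intro t'
  obtain ⟨O, hO, hGO⟩ := hG t'
  obtain ⟨_, ⟨W, hW, rfl⟩, hyW, hle⟩ := T'.isBasis_affineOpens.exists_subset_of_mem_open
    (show t' ∈ k ⁻¹ᵁ O.1 from hO) (k ⁻¹ᵁ O.1).2
  exact ⟨⟨W, hW⟩, hyW, hGO.comp_of_flat k W hle
    (HasRingHomProperty.appLE (P := @Flat) _ inferInstance O ⟨W, hW⟩ hle)⟩

lemma LocGen.isEffCartierIdeal {T : Scheme.{u}} {g : T ⟶ Spec (CommRingCat.of A)}
    (hG : LocGen I a g) : BlowUp.IsEffCartierIdeal ((idealSheaf I).comap g) := by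
  intro t
  obtain ⟨O, hO, hGO⟩ := hG t
  exact ⟨O, hO, secMap g O.1 a, hGO.1, (ideal_comap I g O).trans hGO.2⟩

/-- Lemma N: if `a` is locally a nonzerodivisor, it is a nonzerodivisor on every open. -/
lemma LocGen.nzd {T : Scheme.{u}} {g : T ⟶ Spec (CommRingCat.of A)}
    (hG : LocGen I a g) (W : T.Opens) : secMap g W a ∈ nonZeroDivisors Γ(T, W) := by
  rw [mem_nonZeroDivisors_iff_right]
  intro y hy
  refine TopCat.Presheaf.section_ext T.sheaf W y 0 ?_
  intro t ht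
  obtain ⟨O, hO, hGO⟩ := hG t
  have h1 : T.presheaf.germ W t ht (secMap g W a) = T.presheaf.germ O.1 t hO (secMap g O.1 a) := by
    rw [← T.presheaf.germ_res (homOfLE (inf_le_left : W ⊓ O.1 ≤ W)) t ⟨ht, hO⟩,
      ← T.presheaf.germ_res (homOfLE (inf_le_right : W ⊓ O.1 ≤ O.1)) t ⟨ht, hO⟩]
    exact congrArg _ ((secMap_res g inf_le_left a).trans (secMap_res g inf_le_right a).symm)
  have h2 := germ_mem_nonZeroDivisors O.2 t hO _ hGO.1
  have h3 : T.presheaf.germ W t ht y * T.presheaf.germ W t ht (secMap g W a) = 0 := by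
    rw [← map_mul, hy, map_zero]
  rw [h1] at h3
  rw [map_zero]
  exact (mem_nonZeroDivisors_iff_right.1 h2) _ h3

/-- Lemma G: if `a` locally generates `I·O_T` as a nonzerodivisor, then `a` divides `x ∈ I` on
every open. -/
lemma LocGen.exists_div {T : Scheme.{u}} {g : T ⟶ Spec (CommRingCat.of A)}
    (hG : LocGen I a g) (W : T.Opens) (x : A) (hx : x ∈ I) :
    ∃ s : Γ(T, W), secMap g W x = secMap g W a * s := by
  classical
  choose O hO hGO using fun t : W => hG t.1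
  have hloc : ∀ t : W, ∃ s : Γ(T, (O t).1), secMap g (O t).1 x = secMap g (O t).1 a * s := by
    intro t
    have : secMap g (O t).1 x ∈ I.map (secMap g (O t).1) := Ideal.mem_map_of_mem _ hx
    rw [(hGO t).2, Ideal.mem_span_singleton'] at this
    obtain ⟨s, hs⟩ := this
    exact ⟨s, by rw [← hs, mul_comm]⟩
  choose s hs using hloc
  let U : W → T.Opens := fun t => W ⊓ (O t).1
  let sf : ∀ t : W, Γ(T, U t) := fun t =>
    (T.presheaf.map (homOfLE (inf_le_right : U t ≤ (O t).1)).op).hom (s t)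
  have hsf : ∀ t, secMap g (U t) x = secMap g (U t) a * sf t := by
    intro t
    rw [← secMap_res g (inf_le_right : U t ≤ (O t).1), hs t, map_mul, secMap_res]
  have hcompat : TopCat.Presheaf.IsCompatible T.presheaf U sf := by
    intro t t'
    have hn := hG.nzd (U t ⊓ U t')
    have e1 : secMap g (U t ⊓ U t') a *
        (T.presheaf.map (Opens.infLELeft (U t) (U t')).op).hom (sf t) =
        secMap g (U t ⊓ U t') x := by
      rw [← secMap_res g (inf_le_left : U t ⊓ U t' ≤ U t) a,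
        ← secMap_res g (inf_le_left : U t ⊓ U t' ≤ U t) x, hsf t, map_mul]
      rfl
    have e2 : secMap g (U t ⊓ U t') a *
        (T.presheaf.map (Opens.infLERight (U t) (U t')).op).hom (sf t') =
        secMap g (U t ⊓ U t') x := by
      rw [← secMap_res g (inf_le_right : U t ⊓ U t' ≤ U t') a,
        ← secMap_res g (inf_le_right : U t ⊓ U t' ≤ U t') x, hsf t', map_mul]
      rfl
    exact (mul_cancel_left_mem_nonZeroDivisors hn).1 (e1.trans e2.symm)
  have hcover : W ≤ iSup U := by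
    intro p hp
    exact Opens.mem_iSup.2 ⟨⟨p, hp⟩, hp, hO ⟨p, hp⟩⟩
  obtain ⟨s'', hs', -⟩ := T.sheaf.existsUnique_gluing' U W
    (fun t => homOfLE (inf_le_left : U t ≤ W)) hcover sf hcompat
  let s' : Γ(T, W) := s''
  have hs' : ∀ t, (T.presheaf.map (homOfLE (inf_le_left : U t ≤ W)).op).hom s' = sf t := hs'
  refine ⟨s', ?_⟩
  apply T.sheaf.eq_of_locally_eq' U W (fun t => homOfLE (inf_le_left : U t ≤ W)) hcover
  intro t
  have h1 : (T.presheaf.map (homOfLE (inf_le_left : U t ≤ W)).op).hom (secMap g W x) =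
      secMap g (U t) x := secMap_res g _ x
  have h2 : (T.presheaf.map (homOfLE (inf_le_left : U t ≤ W)).op).hom (secMap g W a * s') =
      secMap g (U t) a * sf t := by
    rw [map_mul, secMap_res]
    congr 1
    exact hs' t
  exact h1.trans ((hsf t).trans h2.symm)

lemma appLE_top_top {T S : Scheme.{u}} (g : T ⟶ S) (h : (⊤ : T.Opens) ≤ g ⁻¹ᵁ ⊤) :
    g.appLE ⊤ ⊤ h = g.appTop :=
  (Scheme.Hom.app_eq_appLE (f := g) (U := ⊤)).symm

lemma secMap_top {T : Scheme.{u}} (g : T ⟶ Spec (CommRingCat.of A)) (r : A) :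
    secMap g ⊤ r = ((Scheme.ΓSpecIso (CommRingCat.of A)).inv ≫ g.appTop).hom r := by
  simp only [secMap, RingHom.comp_apply, CommRingCat.hom_comp]
  rw [appLE_top_top]

/-- The structure morphism `Spec A[I/a] ⟶ Spec A`. -/
noncomputable abbrev chartMap (I : Ideal A) (a : A) :
    Spec (CommRingCat.of (BlowUp.affineAlgebra A I a)) ⟶ Spec (CommRingCat.of A) :=
  Spec.map (CommRingCat.ofHom (algebraMap A (BlowUp.affineAlgebra A I a)))

lemma secMap_eq_of_comp {T : Scheme.{u}} {g : T ⟶ Spec (CommRingCat.of A)}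
    (k : T ⟶ Spec (CommRingCat.of (BlowUp.affineAlgebra A I a))) (hk : k ≫ chartMap I a = g)
    (r : A) :
    ((Scheme.ΓSpecIso (CommRingCat.of (BlowUp.affineAlgebra A I a))).inv ≫ k.appTop).hom
      (algebraMap A _ r) = secMap g ⊤ r := by
  subst hk
  rw [secMap_top, Scheme.Hom.comp_appTop]
  have h2 := Scheme.ΓSpecIso_inv_naturality
    (CommRingCat.ofHom (algebraMap A (BlowUp.affineAlgebra A I a)))
  have h3 := congrArg (fun φ => (φ ≫ k.appTop).hom r) h2
  simp only [Category.assoc] at h3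
  exact h3

/-- Lemma U (uniqueness). -/
lemma LocGen.hom_ext {T : Scheme.{u}} {g : T ⟶ Spec (CommRingCat.of A)} (hG : LocGen I a g)
    (k₁ k₂ : T ⟶ Spec (CommRingCat.of (BlowUp.affineAlgebra A I a)))
    (h₁ : k₁ ≫ chartMap I a = g) (h₂ : k₂ ≫ chartMap I a = g) : k₁ = k₂ := by
  apply ext_to_Spec
  apply CommRingCat.hom_ext
  apply ringHom_ext
  · intro r
    exact (secMap_eq_of_comp k₁ h₁ r).trans (secMap_eq_of_comp k₂ h₂ r).symm
  · have := secMap_eq_of_comp k₁ h₁ a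
    rw [show (CommRingCat.Hom.hom ((Scheme.ΓSpecIso
      (CommRingCat.of (BlowUp.affineAlgebra A I a))).inv ≫ Scheme.Γ.map k₁.op))
      ((algebraMap A (BlowUp.affineAlgebra A I a)) a) = secMap g ⊤ a from this]
    exact hG.nzd ⊤

/-- Lemma U (existence). -/
lemma LocGen.exists_hom {T : Scheme.{u}} {g : T ⟶ Spec (CommRingCat.of A)} (hG : LocGen I a g) :
    ∃ k : T ⟶ Spec (CommRingCat.of (BlowUp.affineAlgebra A I a)), k ≫ chartMap I a = g := by
  obtain ⟨θ, hθ⟩ := exists_lift (I := I) (secMap g ⊤) (hG.nzd ⊤) (fun x hx => hG.exists_div ⊤ x hx)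
  refine ⟨T.toSpecΓ ≫ Spec.map (CommRingCat.ofHom θ), ?_⟩
  apply ext_to_Spec
  apply CommRingCat.hom_ext
  ext r
  have h1 : ((T.toSpecΓ ≫ Spec.map (CommRingCat.ofHom θ)) ≫ chartMap I a) =
      T.toSpecΓ ≫ Spec.map (CommRingCat.ofHom (secMap g ⊤)) := by
    rw [Category.assoc, chartMap, ← Spec.map_comp]
    congr 2
    ext r
    exact hθ r
  rw [h1]
  change ((Scheme.ΓSpecIso (CommRingCat.of A)).inv ≫
    (T.toSpecΓ ≫ Spec.map (CommRingCat.ofHom (secMap g ⊤))).appTop).hom r =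
    ((Scheme.ΓSpecIso (CommRingCat.of A)).inv ≫ g.appTop).hom r
  rw [Scheme.Hom.comp_appTop, ← Scheme.ΓSpecIso_inv_naturality_assoc, Scheme.toSpecΓ_appTop,
    Iso.inv_hom_id, Category.comp_id]
  rw [CommRingCat.hom_ofHom, secMap_top]

lemma map_algebraMap_eq_span (ha : a ∈ I) :
    I.map (algebraMap A (BlowUp.affineAlgebra A I a)) = Ideal.span {algebraMap A _ a} := by
  apply le_antisymm
  · rw [Ideal.map_le_iff_le_comap]
    intro x hx
    rw [Ideal.mem_comap, algebraMap_eq_mul_frac A I a x hx]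
    exact Ideal.mul_mem_right _ _ (Ideal.subset_span rfl)
  · rw [Ideal.span_le, Set.singleton_subset_iff]
    exact Ideal.mem_map_of_mem _ ha

/-- Lemma R: on `Spec A[I/a]`, `a` generates `I` as a nonzerodivisor. -/
lemma locGen_chartMap (ha : a ∈ I) : LocGen I a (chartMap I a) := by
  intro t
  have hsec : ∀ r, secMap (chartMap I a) ⊤ r =
      (Scheme.ΓSpecIso (CommRingCat.of (BlowUp.affineAlgebra A I a))).inv.hom
        (algebraMap A _ r) := by
    intro r
    rw [secMap_top]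
    have h2 := Scheme.ΓSpecIso_inv_naturality
      (CommRingCat.ofHom (algebraMap A (BlowUp.affineAlgebra A I a)))
    exact (congrArg (fun φ => φ.hom r) h2).symm
  have hsec' : secMap (chartMap I a) ⊤ =
      (Scheme.ΓSpecIso (CommRingCat.of (BlowUp.affineAlgebra A I a))).inv.hom.comp
        (algebraMap A _) := RingHom.ext hsec
  have hbij : Function.Bijective
      (Scheme.ΓSpecIso (CommRingCat.of (BlowUp.affineAlgebra A I a))).inv.hom :=
    (ConcreteCategory.isIso_iff_bijective _).1 inferInstance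
  refine ⟨⟨⊤, isAffineOpen_top _⟩, trivial, ?_, ?_⟩
  · rw [hsec a]
    exact map_mem_nonZeroDivisors_of_flat _ (RingHom.Flat.of_bijective hbij) _
      (algebraMap_mem_nonZeroDivisors A I a)
  · rw [hsec', ← Ideal.map_map, map_algebraMap_eq_span ha, Ideal.map_span, Set.image_singleton]
    rfl

lemma flat_res {T : Scheme.{u}} {U O' : T.Opens} (hU : IsAffineOpen U) (hO' : IsAffineOpen O')
    (h : O' ≤ U) : (T.presheaf.map (homOfLE h).op).hom.Flat := by
  have h1 := HasRingHomProperty.appLE (P := @Flat) (𝟙 T) inferInstance ⟨U, hU⟩ ⟨O', hO'⟩ h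
  have h2 : (𝟙 T : T ⟶ T).appLE U O' h = T.presheaf.map (homOfLE h).op := by
    simp only [Scheme.Hom.appLE, Scheme.Hom.id_app]
    exact Category.id_comp _
  rw [h2] at h1
  exact h1

lemma Gen.res {T : Scheme.{u}} {g : T ⟶ Spec (CommRingCat.of A)} {U O' : T.Opens}
    (hG : Gen I a g U) (hU : IsAffineOpen U) (hO' : IsAffineOpen O') (h : O' ≤ U) :
    Gen I a g O' := by
  have hcomp : secMap g O' = (T.presheaf.map (homOfLE h).op).hom.comp (secMap g U) := by
    ext x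
    exact (secMap_res g h x).symm
  refine ⟨?_, ?_⟩
  · rw [← secMap_res g h a]
    exact map_mem_nonZeroDivisors_of_flat _ (flat_res hU hO' h) _ hG.1
  · rw [hcomp, ← Ideal.map_map, hG.2, Ideal.map_span, Set.image_singleton]
    rfl

/-- Lemma B: on the basic open of the cofactor `β` (where `a = β f`), `a` generates. -/
lemma gen_basicOpen {T : Scheme.{u}} {g : T ⟶ Spec (CommRingCat.of A)} (U : T.affineOpens)
    (f β : Γ(T, U.1)) (hf : f ∈ nonZeroDivisors Γ(T, U.1))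
    (hI : I.map (secMap g U.1) = Ideal.span {f}) (hβ : secMap g U.1 a = β * f) :
    Gen I a g (T.basicOpen β) := by
  have hle : T.basicOpen β ≤ U.1 := T.basicOpen_le β
  have haff : IsAffineOpen (T.basicOpen β) := U.2.basicOpen β
  set res := (T.presheaf.map (homOfLE hle).op).hom with hres
  have hcomp : secMap g (T.basicOpen β) = res.comp (secMap g U.1) := by
    ext x
    exact (secMap_res g hle x).symm
  have hunit : IsUnit (res β) := T.toRingedSpace.isUnit_res_basicOpen β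
  have hnzd : res f ∈ nonZeroDivisors Γ(T, T.basicOpen β) :=
    map_mem_nonZeroDivisors_of_flat _ (flat_res U.2 haff hle) _ hf
  have ha : secMap g (T.basicOpen β) a = res β * res f := by
    rw [← secMap_res g hle a, hβ, map_mul]
  refine ⟨?_, ?_⟩
  · rw [ha]
    exact mul_mem (IsUnit.mem_nonZeroDivisors hunit) hnzd
  · rw [hcomp, ← Ideal.map_map, hI, Ideal.map_span, Set.image_singleton, ← hcomp, ha]
    exact (Ideal.span_singleton_mul_left_unit hunit _).symm

/-- Lemma K: the cofactors `β` (with `φ a' = β f`, `a' ∈ I`) generate the unit ideal. -/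
lemma span_cofactors_eq_top {B : Type*} [CommRing B] (φ : A →+* B) (f : B)
    (hf : f ∈ nonZeroDivisors B) (hI : I.map φ = Ideal.span {f}) :
    Ideal.span {β : B | ∃ a' ∈ I, φ a' = β * f} = ⊤ := by
  set K := Ideal.span {β : B | ∃ a' ∈ I, φ a' = β * f} with hK
  have h1 : I.map φ ≤ K * Ideal.span {f} := by
    rw [Ideal.map_le_iff_le_comap]
    intro x hx
    rw [Ideal.mem_comap]
    have hx' : φ x ∈ Ideal.span {f} := hI ▸ Ideal.mem_map_of_mem φ hx
    obtain ⟨β, hβ⟩ := Ideal.mem_span_singleton'.1 hx'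
    rw [← hβ]
    exact Ideal.mul_mem_mul (Ideal.subset_span ⟨x, hx, hβ.symm⟩) (Ideal.subset_span rfl)
  have h2 : f ∈ K * Ideal.span {f} := h1 (hI ▸ Ideal.subset_span rfl)
  obtain ⟨k, hk, hkf⟩ := Ideal.mem_mul_span_singleton.1 h2
  have h3 : (k - 1) * f = 0 := by rw [sub_mul, hkf, one_mul, sub_self]
  have h4 : k = 1 := sub_eq_zero.1 ((mem_nonZeroDivisors_iff_right.1 hf) _ h3)
  rw [Ideal.eq_top_iff_one, ← h4]
  exact hk

/-- Step A: around a point of an affine open where `I·O` is generated by a nonzerodivisor, some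
`a ∈ I` generates on a basic open neighbourhood. -/
lemma exists_gen_basicOpen {T : Scheme.{u}} {g : T ⟶ Spec (CommRingCat.of A)} (U : T.affineOpens)
    (f : Γ(T, U.1)) (hf : f ∈ nonZeroDivisors Γ(T, U.1))
    (hI : I.map (secMap g U.1) = Ideal.span {f}) (t : T) (ht : t ∈ U.1) :
    ∃ a' ∈ I, ∃ β : Γ(T, U.1), secMap g U.1 a' = β * f ∧ t ∈ T.basicOpen β := by
  by_contra hcon
  push Not at hcon
  have hK := span_cofactors_eq_top (secMap g U.1) f hf hI
  let p : Ideal Γ(T, U.1) :=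
    (IsLocalRing.maximalIdeal (T.presheaf.stalk t)).comap (T.presheaf.germ U.1 t ht).hom
  have hle : Ideal.span {β : Γ(T, U.1) | ∃ a' ∈ I, secMap g U.1 a' = β * f} ≤ p := by
    rw [Ideal.span_le]
    rintro β ⟨a', ha', hβ⟩
    have := hcon a' ha' β hβ
    rw [Scheme.mem_basicOpen _ _ _ ht] at this
    exact this
  rw [hK] at hle
  have h1 : (1 : Γ(T, U.1)) ∈ p := hle trivial
  have h2 : (T.presheaf.germ U.1 t ht).hom 1 ∈ IsLocalRing.maximalIdeal (T.presheaf.stalk t) := h1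
  rw [map_one] at h2
  exact (Ideal.ne_top_iff_one _).1 (IsLocalRing.maximalIdeal.isMaximal _).ne_top h2

/-- Step D: a morphism `h : Z ⟶ T` such that `a` generates `I·O_Z` factors through the basic open
of the cofactor of `a`. -/
lemma mem_basicOpen_of_locGen {T Z : Scheme.{u}} {g : T ⟶ Spec (CommRingCat.of A)} (h : Z ⟶ T)
    (hG : LocGen I a (h ≫ g)) (U : T.affineOpens) (f β : Γ(T, U.1))
    (hI : I.map (secMap g U.1) = Ideal.span {f}) (hβ : secMap g U.1 a = β * f)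
    (z : Z) (hz : h z ∈ U.1) : h z ∈ T.basicOpen β := by
  obtain ⟨O, hzO, hGO⟩ := hG z
  obtain ⟨_, ⟨O', hO', rfl⟩, hzO', hle⟩ := Z.isBasis_affineOpens.exists_subset_of_mem_open
    (show z ∈ O.1 ⊓ h ⁻¹ᵁ U.1 from ⟨hzO, hz⟩) (O.1 ⊓ h ⁻¹ᵁ U.1).2
  have hGO' : Gen I a (h ≫ g) O' := hGO.res O.2 hO' (hle.trans inf_le_left)
  have hle' : O' ≤ h ⁻¹ᵁ U.1 := hle.trans inf_le_right
  set ψ := (h.appLE U.1 O' hle').hom with hψ
  have hcomp : ∀ x, ψ (secMap g U.1 x) = secMap (h ≫ g) O' x := secMap_comp h g U.1 O' hle'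
  have hcomp' : secMap (h ≫ g) O' = ψ.comp (secMap g U.1) := by
    ext x
    exact (hcomp x).symm
  have hψf : ψ f ∈ Ideal.span {secMap (h ≫ g) O' a} := by
    rw [← hGO'.2, hcomp', ← Ideal.map_map, hI]
    exact Ideal.mem_map_of_mem ψ (Ideal.subset_span rfl)
  obtain ⟨c, hc⟩ := Ideal.mem_span_singleton'.1 hψf
  have ha' : secMap (h ≫ g) O' a = ψ β * ψ f := by rw [← hcomp, hβ, map_mul]
  have hψf_nzd : ψ f ∈ nonZeroDivisors Γ(Z, O') := by
    rw [mem_nonZeroDivisors_iff_right]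
    intro y hy
    apply (mem_nonZeroDivisors_iff_right.1 hGO'.1)
    rw [ha', mul_comm (ψ β), ← mul_assoc, hy, zero_mul]
  have h1 : (c * ψ β - 1) * ψ f = 0 := by
    rw [sub_mul, one_mul, mul_assoc, ← ha', hc, sub_self]
  have h2 : c * ψ β = 1 := sub_eq_zero.1 ((mem_nonZeroDivisors_iff_right.1 hψf_nzd) _ h1)
  have hu : IsUnit (ψ β) := IsUnit.of_mul_eq_one_right c h2
  have h3 := Scheme.basicOpen_appLE h O' U.1 hle' β
  rw [Scheme.basicOpen_of_isUnit _ hu] at h3
  have h4 : z ∈ O' ⊓ h ⁻¹ᵁ T.basicOpen β := h3 ▸ hzO'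
  exact h4.2

/-- **The blow-up of `Spec A` in `I` is covered by the spectra of the affine blow-up algebras.** -/
theorem exists_chart (I : Ideal A) {X' : Scheme.{u}} (b : X' ⟶ Spec (CommRingCat.of A))
    (hb : BlowUp.IsBlowUp b (idealSheaf I)) (x' : X') :
    ∃ (a : A) (_ : a ∈ I) (V : X'.Opens)
      (e : (V : Scheme.{u}) ≅ Spec (CommRingCat.of (BlowUp.affineAlgebra A I a))),
      x' ∈ V ∧ e.hom ≫ chartMap I a = V.ι ≫ b := by
  obtain ⟨U, hxU, f, hf, hIU⟩ := hb.1 x'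
  rw [ideal_comap I b U] at hIU
  obtain ⟨a, ha, β, hβ, hxβ⟩ := exists_gen_basicOpen U f hf hIU x' hxU
  let V : X'.Opens := ⨆ W : {W : X'.affineOpens // Gen I a b W.1}, W.1.1
  have hxV : x' ∈ V := Opens.mem_iSup.2
    ⟨⟨⟨X'.basicOpen β, U.2.basicOpen β⟩, gen_basicOpen U f β hf hIU hβ⟩, hxβ⟩
  have hGV : LocGen I a (V.ι ≫ b) := by
    refine locGen_comp_of_flat V.ι ?_
    intro t
    obtain ⟨W, htW⟩ := Opens.mem_iSup.1 t.2
    exact ⟨W.1, htW, W.2⟩
  have hEff : BlowUp.IsEffCartierIdeal ((idealSheaf I).comap (chartMap I a)) :=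
    (locGen_chartMap ha).isEffCartierIdeal
  obtain ⟨h_a, hh_a, -⟩ := hb.2 _ (chartMap I a) hEff
  have hrange : Set.range h_a ⊆ Set.range V.ι := by
    rintro _ ⟨z, rfl⟩
    rw [Scheme.Opens.range_ι]
    obtain ⟨U₂, hzU₂, f₂, hf₂, hIU₂⟩ := hb.1 (h_a z)
    rw [ideal_comap I b U₂] at hIU₂
    have hmem : secMap b U₂.1 a ∈ Ideal.span {f₂} := hIU₂ ▸ Ideal.mem_map_of_mem _ ha
    obtain ⟨β₂, hβ₂⟩ := Ideal.mem_span_singleton'.1 hmem
    have hmem' := mem_basicOpen_of_locGen h_a (hh_a ▸ locGen_chartMap ha) U₂ f₂ β₂ hIU₂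
      hβ₂.symm z hzU₂
    exact Opens.mem_iSup.2 ⟨⟨⟨X'.basicOpen β₂, U₂.2.basicOpen β₂⟩,
      gen_basicOpen U₂ f₂ β₂ hf₂ hIU₂ hβ₂.symm⟩, hmem'⟩
  let h' := IsOpenImmersion.lift V.ι h_a hrange
  have hh' : h' ≫ V.ι = h_a := IsOpenImmersion.lift_fac _ _ _
  obtain ⟨k, hk⟩ := hGV.exists_hom
  refine ⟨a, ha, V, ⟨k, h', ?_, ?_⟩, hxV, hk⟩
  · rw [← cancel_mono V.ι, Category.assoc, hh', Category.id_comp]
    refine IsBlowUp.hom_ext hb _ _ ?_ ?_
    · rw [Category.assoc, hh_a, hk]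
      exact hGV.isEffCartierIdeal
    · rw [Category.assoc, hh_a, hk]
  · refine (locGen_chartMap ha).hom_ext _ _ ?_ (Category.id_comp _)
    rw [Category.assoc, hk, ← Category.assoc, hh', hh_a]

end Groth.Agent.Lib.Helper29.AffBlow
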