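import Groth.Agent.Lib.Helper28.ModChartGlue
import Groth.Agent.Lib.Helper28.QCohConv

/-!
# Morphisms out of a quasi-coherent module on an affine scheme from their global sections
-/

set_option autoImplicit false
universe u
open CategoryTheory CategoryTheory.Limits AlgebraicGeometry Opposite TopologicalSpace

namespace Groth.Agent.Lib.Helper29.AffHom

open Groth.Agent.Lib.Helper28.QCohLoc

variable {X : Scheme.{u}}

/-- the single-chart data. -/
noncomputable def chartData [IsAffine X] (P G : X.Modules) [P.IsQuasicoherent]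
    (ψ : Γ(P, (⊤ : X.Opens)) →+ Γ(G, (⊤ : X.Opens)))
    (hψ : ∀ (a : Γ(X, (⊤ : X.Opens))) (x : Γ(P, (⊤ : X.Opens))), ψ (a • x) = a • ψ x) :
    ChartHomData P G where
  ι := PUnit.{u + 1}
  U _ := ⊤
  hU _ := isAffineOpen_top X
  cov x := ⟨PUnit.unit, trivial⟩
  loc _ := isLocOn_of_isQuasicoherent P (isAffineOpen_top X)
  ψ _ := ψ
  smul _ := hψ
  compat _ _ m := by
    have h := ext_res (isLocOn_of_isQuasicoherent P (isAffineOpen_top X)) ψ hψ
      (isAffineOpen_top X) (le_rfl : (⊤ : X.Opens) ≤ ⊤)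
      (inf_le_right : (⊤ : X.Opens) ⊓ ⊤ ≤ ⊤) m
    rw [ext_top] at h
    exact h

/-- On an affine scheme, a `Γ(X, ⊤)`-linear map out of the global sections of a quasi-coherent module
is induced by a morphism of modules. -/
theorem exists_hom [IsAffine X] (P G : X.Modules) [P.IsQuasicoherent]
    (ψ : Γ(P, (⊤ : X.Opens)) →+ Γ(G, (⊤ : X.Opens)))
    (hψ : ∀ (a : Γ(X, (⊤ : X.Opens))) (x : Γ(P, (⊤ : X.Opens))), ψ (a • x) = a • ψ x) :
    ∃ u : P ⟶ G, ∀ x : Γ(P, (⊤ : X.Opens)), u.app ⊤ x = ψ x :=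
  ⟨(chartData P G ψ hψ).hom, fun x => (chartData P G ψ hψ).hom_app PUnit.unit x⟩

end Groth.Agent.Lib.Helper29.AffHom
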