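import Groth.Agent.Lib.Helper29.AffHom
import Groth.Agent.Lib.Helper28.ModIsoCover

/-!
# Morphisms out of a quasi-coherent module on an affine scheme are determined by global sections
-/

set_option autoImplicit false
universe u
open CategoryTheory CategoryTheory.Limits AlgebraicGeometry Opposite TopologicalSpace

namespace Groth.Agent.Lib.Helper29.AffHom

open Groth.Agent.Lib.Helper28.QCohLoc

variable {X : Scheme.{u}}

theorem isExt_app {P G : X.Modules} {U : X.Opens} (α : P ⟶ G) (W : X.Opens) (x : Γ(P, W)) :
    IsExt (α.app U).hom W x (α.app W x) := by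
  intro r hr k m h
  have h1 := congrArg (fun y => α.app (X.basicOpen r) y) h
  simp only at h1
  rw [Scheme.Modules.Hom.app_smul, app_res, app_res] at h1
  exact h1

/-- On an affine scheme, a morphism out of a quasi-coherent module is determined by its effect on global
sections. -/
theorem hom_ext_top [IsAffine X] {P G : X.Modules} [P.IsQuasicoherent] (α β : P ⟶ G)
    (h : ∀ x : Γ(P, (⊤ : X.Opens)), α.app ⊤ x = β.app ⊤ x) : α = β := by
  have key : ∀ (W : X.Opens) (x : Γ(P, W)), α.app W x = β.app W x := by
    intro W x
    have h1 := isExt_app (U := ⊤) α W x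
    have h2 := isExt_app (U := ⊤) β W x
    have hαβ : (α.app ⊤).hom = (β.app ⊤).hom := by
      ext y
      exact h y
    rw [← hαβ] at h2
    exact IsExt.unique (isLocOn_of_isQuasicoherent P (isAffineOpen_top X)) (α.app ⊤).hom
      (isAffineOpen_top X) le_top h1 h2
  ext W x
  exact key W x

end Groth.Agent.Lib.Helper29.AffHom
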