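import Groth.Agent.Lib.Helper29.BlowUpUP2

set_option autoImplicit false
universe u
open CategoryTheory CategoryTheory.Limits AlgebraicGeometry Opposite TopologicalSpace

namespace Groth.Agent.Lib.Helper29.EffCart

/-- In a pullback square, if `g` is an isomorphism over the open `U` of the base, then the
projection `p₁` is an isomorphism over `f⁻¹ U`. -/
theorem isIso_morphismRestrict_of_isPullback {X Y₁ Y₂ P : Scheme.{u}} {p₁ : P ⟶ Y₁} {p₂ : P ⟶ Y₂}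
    {f : Y₁ ⟶ X} {g : Y₂ ⟶ X}
    (H : IsPullback p₁ p₂ f g) (U : X.Opens) [IsIso (g ∣_ U)] : IsIso (p₁ ∣_ (f ⁻¹ᵁ U)) := by
  have s1 := isPullback_morphismRestrict p₁ (f ⁻¹ᵁ U)
  have s2 := (s1.paste_vert H).flip
  rw [← morphismRestrict_ι f U] at s2
  have t := (isPullback_morphismRestrict g U).flip
  exact (IsPullback.of_right' s2 t).isIso_snd_of_isIso

/-- Pulling back an effective Cartier ideal along a morphism which is an isomorphism over an open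
containing the support. -/
theorem isEffCartierIdeal_comap_of_isIso_morphismRestrict {Y P : Scheme.{u}} (p : P ⟶ Y)
    (A : Y.Opens) [IsIso (p ∣_ A)] (𝓓 : Y.IdealSheafData) (h𝓓 : BlowUp.IsEffCartierIdeal 𝓓)
    (hsupp : (𝓓.support : Set Y) ⊆ A) : BlowUp.IsEffCartierIdeal (𝓓.comap p) := by
  intro x
  by_cases hx : x ∈ (𝓓.comap p).support
  · have hpx : p x ∈ 𝓓.support := by
      rw [Scheme.IdealSheafData.support_comap] at hx
      exact hx
    have hxA : x ∈ p ⁻¹ᵁ A := hsupp hpx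
    obtain ⟨U', hU', t, ht, hI⟩ := h𝓓 (p x)
    obtain ⟨_, ⟨W, hW, rfl⟩, hxW, hle0⟩ := P.isBasis_affineOpens.exists_subset_of_mem_open
      (show x ∈ (p ⁻¹ᵁ U'.1 ⊓ p ⁻¹ᵁ A : P.Opens) from ⟨hU', hxA⟩) (p ⁻¹ᵁ U'.1 ⊓ p ⁻¹ᵁ A).2
    have hle : W ≤ p ⁻¹ᵁ U'.1 := fun y hy => (hle0 hy).1
    refine ⟨⟨W, hW⟩, hxW, (p.appLE U'.1 W hle).hom t, ?_, ?_⟩
    · refine map_mem_nonZeroDivisors_of_flat _ ?_ t ht
      refine flat_appLE_of_forall_stalkMap p U' ⟨W, hW⟩ hle fun y hy => ?_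
      have hyA : y ∈ p ⁻¹ᵁ A := (hle0 hy).2
      rw [← RingHom.Flat.respectsIso.arrow_mk_iso_iff (morphismRestrictStalkMap p A ⟨y, hyA⟩)]
      have h3 : ∀ z : (p ⁻¹ᵁ A : P.Opens).toScheme, IsIso ((p ∣_ A).stalkMap z) :=
        fun z => inferInstance
      have := h3 ⟨y, hyA⟩
      exact RingHom.Flat.of_bijective (ConcreteCategory.bijective_of_isIso _)
    · rw [ideal_comap_eq_map 𝓓 p U' ⟨W, hW⟩ hle, hI, Ideal.map_span, Set.image_singleton]
  · obtain ⟨W, hxW, htop⟩ := exists_affine_nhd_top_of_not_mem_support (𝓓.comap p) x hx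
    refine ⟨W, hxW, 1, one_mem _, ?_⟩
    rw [htop, Ideal.span_singleton_one]

/-- Two blow-ups of the same ideal are canonically isomorphic. -/
theorem isIso_of_isBlowUp {X B P : Scheme.{u}} {𝓘 : X.IdealSheafData} {σ : B ⟶ X} {π : P ⟶ X}
    (hσ : BlowUp.IsBlowUp σ 𝓘) (hπ : BlowUp.IsBlowUp π 𝓘) (ι : B ⟶ P) (hι : ι ≫ π = σ) :
    IsIso ι := by
  obtain ⟨κ, hκ, -⟩ := hσ.2 P π hπ.1
  refine ⟨κ, ?_, ?_⟩
  · refine IsBlowUp.hom_ext hσ _ _ ?_ ?_
    · rw [Category.assoc, hκ, hι]; exact hσ.1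
    · rw [Category.assoc, hκ, hι, Category.id_comp]
  · refine IsBlowUp.hom_ext hπ _ _ ?_ ?_
    · rw [Category.assoc, hι, hκ]; exact hπ.1
    · rw [Category.assoc, hι, hκ, Category.id_comp]

end Groth.Agent.Lib.Helper29.EffCart
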