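import Groth.Agent.Lib.Helper9.BlowSpec
import Groth.Agent.Lib.Helper9.BlowProper7
import Groth.Agent.Lib.Helper9.ABlow3
import Groth.Agent.Lib.Helper29.BlowUpUP3

set_option autoImplicit false
universe u
open CategoryTheory CategoryTheory.Limits AlgebraicGeometry TopologicalSpace Opposite

namespace Groth.Agent.Lib.Helper29.BlowLG

open Groth.Agent.Lib.Helper29.EffCart Groth.Agent.Lib.Helper29.AffBlow
open Groth.Agent.Lib.Helper9.BlowExist Groth.Agent.Lib.Helper9.BlowProper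
open Groth.Agent.Lib.Helper9.ABlow

variable {X Y : Scheme.{u}}

lemma isoSpec_hom_fromSpec {Z : Scheme.{u}} {U : Z.Opens} (hU : IsAffineOpen U) :
    hU.isoSpec.hom ≫ hU.fromSpec = U.ι := by
  rw [← hU.isoSpec_inv_ι, Iso.hom_inv_id_assoc]

lemma morphismRestrict_isoSpec (f : X ⟶ Y) [IsAffineHom f] {V : Y.Opens} (hV : IsAffineOpen V) :
    (f ∣_ V) ≫ hV.isoSpec.hom = (hV.preimage f).isoSpec.hom ≫ Spec.map (f.app V) := by
  have hW := hV.preimage f
  rw [← cancel_mono hV.fromSpec, Category.assoc, isoSpec_hom_fromSpec, morphismRestrict_ι,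
    Category.assoc]
  have h2 := IsAffineOpen.SpecMap_appLE_fromSpec f hV hW (le_refl _)
  rw [Scheme.Hom.appLE_eq_app] at h2
  rw [h2, ← Category.assoc, isoSpec_hom_fromSpec]

/-- from the affine chart to the restriction over an affine open -/
theorem isBlowUp_morphismRestrict_of_spec (f : X ⟶ Y) [IsAffineHom f] (I : Y.IdealSheafData)
    (V : Y.affineOpens)
    (h : BlowUp.IsBlowUp (Spec.map (f.app V.1)) (idealSheaf (A := Γ(Y, V.1)) (I.ideal V))) :
    BlowUp.IsBlowUp (f ∣_ V.1) (I.comap V.1.ι) := by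
  have hW := V.2.preimage f
  have h1 := isBlowUp_comp_iso h V.2.isoSpec.symm
  have h2 : (idealSheaf (A := Γ(Y, V.1)) (I.ideal V)).comap V.2.isoSpec.symm.inv =
      I.comap V.1.ι := by
    rw [← comap_fromSpec I V, ← Scheme.IdealSheafData.comap_comp]
    congr 1
    exact isoSpec_hom_fromSpec V.2
  rw [h2] at h1
  have h3 := isBlowUp_of_isIso_comp hW.isoSpec.hom h1
  have h4 : hW.isoSpec.hom ≫ Spec.map (f.app V.1) ≫ V.2.isoSpec.symm.hom = f ∣_ V.1 := by
    rw [← Category.assoc, ← morphismRestrict_isoSpec f V.2, Category.assoc]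
    change (f ∣_ V.1) ≫ V.2.isoSpec.hom ≫ V.2.isoSpec.inv = _
    rw [Iso.hom_inv_id, Category.comp_id]
  rwa [h4] at h3

/-- **Local-to-global for blow-ups**: an affine morphism which is a blow-up over the members of an
affine open cover of the base is a blow-up. -/
theorem isBlowUp_of_affine_cover (f : X ⟶ Y) [IsAffineHom f] (I : Y.IdealSheafData)
    (𝓑 : Set Y.affineOpens) (hcov : ∀ y : Y, ∃ V ∈ 𝓑, y ∈ V.1)
    (h : ∀ V ∈ 𝓑, BlowUp.IsBlowUp (Spec.map (f.app V.1))
      (idealSheaf (A := Γ(Y, V.1)) (I.ideal V))) :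
    BlowUp.IsBlowUp f I := by
  have hres : ∀ V ∈ 𝓑, BlowUp.IsBlowUp (f ∣_ V.1) (I.comap V.1.ι) :=
    fun V hV => isBlowUp_morphismRestrict_of_spec f I V (h V hV)
  -- step 1: the inverse image ideal is effective Cartier
  have hEC : BlowUp.IsEffCartierIdeal (I.comap f) := by
    apply P_local I f
    intro x
    obtain ⟨V, hV, hxV⟩ := hcov (f x)
    refine ⟨f ⁻¹ᵁ V.1, hxV, ?_⟩
    have := (hres V hV).1
    rwa [← Scheme.IdealSheafData.comap_comp, morphismRestrict_ι] at this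
  -- step 2: compare with an abstract blow-up
  obtain ⟨Y', b, hb⟩ := exists_isBlowUp I
  obtain ⟨k, hk, -⟩ := hb.2 X f hEC
  subst hk
  suffices IsIso k from isBlowUp_of_isIso_comp k hb
  have hsup : ⨆ V : 𝓑, b ⁻¹ᵁ V.1.1 = ⊤ := by
    rw [eq_top_iff]
    intro y' _
    obtain ⟨V, hV, hyV⟩ := hcov (b y')
    exact Opens.mem_iSup.2 ⟨⟨V, hV⟩, hyV⟩
  rw [← MorphismProperty.isomorphisms.iff,
    IsZariskiLocalAtTarget.iff_of_iSup_eq_top (P := MorphismProperty.isomorphisms Scheme.{u})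
      (fun V : 𝓑 => b ⁻¹ᵁ V.1.1) hsup]
  intro V
  rw [MorphismProperty.isomorphisms.iff]
  exact isIso_of_isBlowUp (hres V.1 V.2) (isBlowUp_morphismRestrict hb V.1.1)
    (k ∣_ b ⁻¹ᵁ V.1.1) (morphismRestrict_comp k b V.1.1).symm

end Groth.Agent.Lib.Helper29.BlowLG
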