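import Mathlib

set_option autoImplicit false
universe u
open CategoryTheory CategoryTheory.Limits TensorProduct

namespace Groth.Agent.Lib.Helper29.ComplDesc

/-- if `B = φ(A) + φ(s)^n B` and `φ(s)^n ∈ J` then `J` is extended from its contraction. -/
theorem map_comap_eq_of_decomp {A B : Type*} [CommRing A] [CommRing B] (φ : A →+* B) (s : A)
    (n : ℕ) (J : Ideal B) (hs : φ s ^ n ∈ J) (hdec : ∀ b : B, ∃ a b', b = φ a + φ s ^ n * b') :
    (J.comap φ).map φ = J := by
  apply le_antisymm Ideal.map_comap_le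
  intro x hx
  obtain ⟨a, b', rfl⟩ := hdec x
  have ha : φ a ∈ J := by
    have := J.sub_mem hx (J.mul_mem_right b' hs)
    simpa using this
  refine Ideal.add_mem _ (Ideal.mem_map_of_mem _ ha) ?_
  refine Ideal.mul_mem_right _ _ ?_
  rw [← map_pow]
  exact Ideal.mem_map_of_mem _ (by simpa using hs)

/-- decomposition in the adic completion for a principal ideal -/
theorem adic_decomp (R : Type*) [CommRing R] (ϖ : R) (n : ℕ)
    (x : AdicCompletion (Ideal.span {ϖ}) R) :
    ∃ (r : R) (y : AdicCompletion (Ideal.span {ϖ}) R),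
      x = algebraMap R _ r + (algebraMap R _ ϖ) ^ n * y := by
  obtain ⟨r, hr⟩ := Submodule.Quotient.mk_surjective _ (AdicCompletion.eval (Ideal.span {ϖ}) R n x)
  have hker : x - AdicCompletion.of (Ideal.span {ϖ}) R r ∈
      LinearMap.ker (AdicCompletion.eval (Ideal.span {ϖ}) R n) := by
    rw [LinearMap.mem_ker, map_sub, AdicCompletion.eval_of, ← hr]
    simp
  rw [← AdicCompletion.pow_smul_top_eq_ker_eval ⟨{ϖ}, by simp⟩, Ideal.span_singleton_pow,
    Submodule.ideal_span_singleton_smul, Submodule.mem_smul_pointwise_iff_exists] at hker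
  obtain ⟨y, -, hy⟩ := hker
  refine ⟨r, y, ?_⟩
  rw [← map_pow, ← Algebra.smul_def, hy]
  have : algebraMap R (AdicCompletion (Ideal.span {ϖ}) R) r =
      AdicCompletion.of (Ideal.span {ϖ}) R r := rfl
  rw [this]
  ring

/-- decomposition passes to a pushout -/
theorem decomp_of_isPushout {R A B P : CommRingCat.{u}} {φ : R ⟶ A} {ψ : R ⟶ B}
    {a : A ⟶ P} {b : B ⟶ P} (H : IsPushout φ ψ a b) (t : R) (n : ℕ)
    (hdec : ∀ x : B, ∃ (r : R) (y : B), x = ψ.hom r + ψ.hom t ^ n * y) (z : P) :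
    ∃ (x : A) (z' : P), z = a.hom x + a.hom (φ.hom t) ^ n * z' := by
  algebraize [φ.hom, ψ.hom]
  let e : A ⊗[R] B ≃+* P :=
    ((CommRingCat.isPushout_tensorProduct R A B).isoIsPushout A B H).commRingCatIsoToRingEquiv
  have he : ∀ x : A, e (x ⊗ₜ 1) = a.hom x := by
    intro x
    have := congr($((CommRingCat.isPushout_tensorProduct R A B).inl_isoIsPushout_hom A B H).hom x)
    exact this
  have he' : ∀ y : B, e (1 ⊗ₜ y) = b.hom y := by
    intro y
    have := congr($((CommRingCat.isPushout_tensorProduct R A B).inr_isoIsPushout_hom A B H).hom y)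
    exact this
  have hw : ∀ r : R, a.hom (φ.hom r) = b.hom (ψ.hom r) := fun r => congr($(H.w).hom r)
  obtain ⟨y, rfl⟩ := e.surjective z
  induction y using TensorProduct.induction_on with
  | zero => exact ⟨0, 0, by simp⟩
  | tmul x y =>
    obtain ⟨r, y', rfl⟩ := hdec y
    refine ⟨x * φ.hom r, a.hom x * b.hom y', ?_⟩
    have h1 : (x ⊗ₜ[R] (ψ.hom r + ψ.hom t ^ n * y') : A ⊗[R] B) =
        (x ⊗ₜ 1) * ((1 : A) ⊗ₜ (ψ.hom r + ψ.hom t ^ n * y')) := by
      simp
    rw [h1, map_mul, he, he', map_add, map_mul, map_pow, ← hw, ← hw, map_mul]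
    ring
  | add x y hx hy =>
    obtain ⟨x1, z1, h1⟩ := hx
    obtain ⟨x2, z2, h2⟩ := hy
    refine ⟨x1 + x2, z1 + z2, ?_⟩
    rw [map_add, h1, h2, map_add]
    ring

end Groth.Agent.Lib.Helper29.ComplDesc
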