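import Mathlib
import Groth.Agent.Lib.Helper29.IdealComap
import Groth.Agent.Lib.Helper29.BlowUpUP
import Groth.Prelude.Def_BlowUp2
import Groth.Agent.Lib.Helper29.ComplDescAlg

set_option autoImplicit false
universe u
open CategoryTheory CategoryTheory.Limits TensorProduct AlgebraicGeometry

namespace Groth.Agent.Lib.Helper29.ComplDesc

/-- a section over an affine open vanishing at all points of the support of `I` lies in the
radical of `I`. -/
theorem mem_radical_ideal_of_support {P : Scheme.{u}} (I : P.IdealSheafData) (W : P.affineOpens)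
    (σ : Γ(P, W.1)) (h : (I.support : Set P) ∩ W.1 ⊆ (↑(P.basicOpen σ))ᶜ) :
    σ ∈ (I.ideal W).radical := by
  rw [← PrimeSpectrum.vanishingIdeal_zeroLocus_eq_radical, PrimeSpectrum.mem_vanishingIdeal]
  intro p hp
  have h1 : W.2.fromSpec p ∈ P.zeroLocus (U := W.1) (I.ideal W) ∩ W.1 := by
    rw [← W.2.fromSpec_image_zeroLocus]
    exact ⟨p, hp, rfl⟩
  rw [← I.coe_support_inter] at h1
  have h2 := h h1
  rw [← Scheme.zeroLocus_singleton] at h2
  have h3 : p ∈ W.2.fromSpec ⁻¹' P.zeroLocus {σ} := h2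
  rw [W.2.fromSpec_preimage_zeroLocus] at h3
  exact h3 (Set.mem_singleton σ)

/-- pulled-back functions vanish on the preimage of their zero locus -/
theorem mem_radical_ideal_of_support_le {P : Scheme.{u}} {R : CommRingCat.{u}} (h : P ⟶ Spec R)
    (t : R) (I : P.IdealSheafData)
    (hI : (I.support : Set P) ⊆ h ⁻¹' (PrimeSpectrum.zeroLocus {t})) (W : P.affineOpens) :
    (h.appLE ⊤ W.1 le_top).hom ((Scheme.ΓSpecIso R).inv.hom t) ∈ (I.ideal W).radical := by
  apply mem_radical_ideal_of_support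
  rintro x ⟨hx, hxW⟩ hx'
  have h1 := hI hx
  have h2 : x ∈ h ⁻¹ᵁ ((Spec R).basicOpen ((Scheme.ΓSpecIso R).inv.hom t)) := by
    rw [Scheme.preimage_basicOpen]
    have h3 := Scheme.basicOpen_res P ((h.app ⊤).hom ((Scheme.ΓSpecIso R).inv.hom t))
      (homOfLE (le_top : W.1 ≤ h ⁻¹ᵁ ⊤)).op
    exact (h3.le hx').2
  have h4 := basicOpen_eq_of_affine t
  rw [h4] at h2
  exact h2 (h1 (Set.mem_singleton t))

section Main

variable {R R' : CommRingCat.{u}} (ρ : R ⟶ R') {Y : Scheme.{u}} (q : Y ⟶ Spec R)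

theorem isPushout_sections {U : Y.Opens} (hU : IsAffineOpen U) :
    IsPushout (q.appLE ⊤ U le_top) ((Spec.map ρ).appLE ⊤ ⊤ le_top)
      ((pullback.fst q (Spec.map ρ)).appLE U (pullback.fst q (Spec.map ρ) ⁻¹ᵁ U) le_rfl)
      ((pullback.snd q (Spec.map ρ)).appLE ⊤ (pullback.fst q (Spec.map ρ) ⁻¹ᵁ U) le_top) :=
  (isIso_pushoutSection_iff (IsPullback.of_hasPullback q (Spec.map ρ)) le_top le_top
    (by simp)).1
    (isIso_pushoutSection_of_isAffineOpen _ le_top le_top (by simp) (isAffineOpen_top _)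
      (isAffineOpen_top _) hU)

theorem specMap_appLE_top (r : R) :
    ((Spec.map ρ).appLE ⊤ ⊤ le_top).hom ((Scheme.ΓSpecIso R).inv.hom r) =
      (Scheme.ΓSpecIso R').inv.hom (ρ.hom r) := by
  have h := congr($(Scheme.ΓSpecIso_inv_naturality ρ).hom r)
  have h2 : (Spec.map ρ).appLE ⊤ ⊤ le_top = (Spec.map ρ).app ⊤ := by
    simp only [Scheme.Hom.appLE]
    exact Category.comp_id _
  rw [h2]
  exact h.symm

instance : IsAffineHom (pullback.fst q (Spec.map ρ)) :=
  MorphismProperty.of_isPullback (P := @IsAffineHom)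
    (IsPullback.of_hasPullback q (Spec.map ρ)).flip (inferInstanceAs (IsAffineHom (Spec.map ρ)))

/-- the affine open `π⁻¹U` of the base change -/
noncomputable abbrev preim (U : Y.affineOpens) : (pullback q (Spec.map ρ)).affineOpens :=
  ⟨pullback.fst q (Spec.map ρ) ⁻¹ᵁ U.1, U.2.preimage (pullback.fst q (Spec.map ρ))⟩

theorem map_comap_ideal (t : R)
    (hdec : ∀ (n : ℕ) (x : R'), ∃ (r : R) (y : R'), x = ρ.hom r + ρ.hom t ^ n * y)
    (I : (pullback q (Spec.map ρ)).IdealSheafData)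
    (hI : (I.support : Set _) ⊆
      (pullback.fst q (Spec.map ρ) ≫ q) ⁻¹' (PrimeSpectrum.zeroLocus {t}))
    (U : Y.affineOpens) :
    ((I.ideal (preim ρ q U)).comap
      ((pullback.fst q (Spec.map ρ)).appLE U.1 (preim ρ q U).1 le_rfl).hom).map
      ((pullback.fst q (Spec.map ρ)).appLE U.1 (preim ρ q U).1 le_rfl).hom =
      I.ideal (preim ρ q U) := by
  have hrad := mem_radical_ideal_of_support_le (pullback.fst q (Spec.map ρ) ≫ q) t I hI
    (preim ρ q U)
  obtain ⟨n, hn⟩ := hrad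
  have hσ : ((pullback.fst q (Spec.map ρ) ≫ q).appLE ⊤ (preim ρ q U).1 le_top).hom
      ((Scheme.ΓSpecIso R).inv.hom t) =
      ((pullback.fst q (Spec.map ρ)).appLE U.1 (preim ρ q U).1 le_rfl).hom
        ((q.appLE ⊤ U.1 le_top).hom ((Scheme.ΓSpecIso R).inv.hom t)) := by
    have := Scheme.Hom.appLE_comp_appLE (pullback.fst q (Spec.map ρ)) q ⊤ U.1 (preim ρ q U).1
      le_top le_rfl
    exact congr($(this.symm).hom ((Scheme.ΓSpecIso R).inv.hom t))
  rw [hσ] at hn
  refine map_comap_eq_of_decomp _ ((q.appLE ⊤ U.1 le_top).hom ((Scheme.ΓSpecIso R).inv.hom t)) n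
    _ hn ?_
  intro z
  refine decomp_of_isPushout (isPushout_sections ρ q U.2) ((Scheme.ΓSpecIso R).inv.hom t) n ?_ z
  intro x
  obtain ⟨r, y, hxy⟩ := hdec n ((Scheme.ΓSpecIso R').hom.hom x)
  refine ⟨(Scheme.ΓSpecIso R).inv.hom r, (Scheme.ΓSpecIso R').inv.hom y, ?_⟩
  rw [specMap_appLE_top, specMap_appLE_top, ← map_pow, ← map_mul, ← map_add, ← hxy]
  exact (congr($((Scheme.ΓSpecIso R').hom_inv_id).hom x)).symm

theorem comap_map_eq (t : R)
    (hdec : ∀ (n : ℕ) (x : R'), ∃ (r : R) (y : R'), x = ρ.hom r + ρ.hom t ^ n * y)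
    (I : (pullback q (Spec.map ρ)).IdealSheafData)
    (hI : (I.support : Set _) ⊆
      (pullback.fst q (Spec.map ρ) ≫ q) ⁻¹' (PrimeSpectrum.zeroLocus {t})) :
    (I.map (pullback.fst q (Spec.map ρ))).comap (pullback.fst q (Spec.map ρ)) = I := by
  refine Scheme.IdealSheafData.ext_of_iSup_eq_top (fun U : Y.affineOpens => preim ρ q U) ?_ ?_
  · change ⨆ U : Y.affineOpens, pullback.fst q (Spec.map ρ) ⁻¹ᵁ U.1 = ⊤
    rw [← Scheme.Hom.preimage_iSup, iSup_affineOpens_eq_top Y, Scheme.Hom.preimage_top]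
  · intro U
    rw [EffCart.ideal_comap_eq_map (I.map (pullback.fst q (Spec.map ρ)))
      (pullback.fst q (Spec.map ρ)) U (preim ρ q U) le_rfl,
      Scheme.IdealSheafData.ideal_map_of_isAffineHom, Scheme.Hom.app_eq_appLE]
    exact map_comap_ideal ρ q t hdec I hI U

end Main

/-- **Blowing up commutes with flat base change.** -/
theorem isBlowUp_baseChange_of_flat {X X' Y' P : Scheme.{u}} {𝓘 : X.IdealSheafData} {b : X' ⟶ X}
    (hb : BlowUp.IsBlowUp b 𝓘) (π : Y' ⟶ X) [Flat π] (p₁ : P ⟶ X') (p₂ : P ⟶ Y')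
    (H : IsPullback p₁ p₂ b π) : BlowUp.IsBlowUp p₂ (𝓘.comap π) := by
  haveI : Flat p₁ := MorphismProperty.of_isPullback (P := @Flat) H.flip inferInstance
  refine ⟨?_, ?_⟩
  · rw [← Scheme.IdealSheafData.comap_comp, ← H.w, Scheme.IdealSheafData.comap_comp]
    exact EffCart.isEffCartierIdeal_comap_of_flat p₁ _ hb.1
  · intro T h hh
    rw [← Scheme.IdealSheafData.comap_comp] at hh
    obtain ⟨k, hk, hku⟩ := hb.2 T (h ≫ π) hh
    refine ⟨H.lift k h hk, H.lift_snd k h hk, ?_⟩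
    intro k' hk'
    apply H.hom_ext
    · rw [H.lift_fst]
      apply hku
      change (k' ≫ p₁) ≫ b = h ≫ π
      rw [Category.assoc, H.w, ← Category.assoc, hk']
    · rw [H.lift_snd]
      exact hk'

end Groth.Agent.Lib.Helper29.ComplDesc
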