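import Groth.Agent.Lib.Helper17.PullbackBC

set_option autoImplicit false
universe u
open CategoryTheory CategoryTheory.Limits TensorProduct

namespace Groth.Agent.Lib.Helper29.ConormalAlg

open Groth.Agent.Lib.Helper17.PullbackBC

/-- composition of base change maps. -/
theorem isBC_comp {R S S₂ : Type u} [CommRing R] [CommRing S] [CommRing S₂] (ρ₁ : R →+* S) (ρ₂ : S →+* S₂)
    {P T₁ T₂ : Type u} [AddCommGroup P] [Module R P] [AddCommGroup T₁] [Module S T₁]
    [AddCommGroup T₂] [Module S₂ T₂] (c₁ : P → T₁) (c₂ : T₁ → T₂)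
    (h₁ : IsBC ρ₁ c₁) (h₂ : IsBC ρ₂ c₂) : IsBC (ρ₂.comp ρ₁) (c₂ ∘ c₁) := by
  letI := ρ₁.toAlgebra
  letI := ρ₂.toAlgebra
  letI : Algebra R S₂ := (ρ₂.comp ρ₁).toAlgebra
  haveI : IsScalarTower R S S₂ := .of_algebraMap_eq' rfl
  obtain ⟨e₁, he₁⟩ := (isBC_iff ρ₁ c₁).mp h₁
  obtain ⟨e₂, he₂⟩ := (isBC_iff ρ₂ c₂).mp h₂
  rw [isBC_iff]
  let E : S₂ ⊗[S] T₁ ≃ₗ[S₂] S₂ ⊗[S] (S ⊗[R] P) :=
    TensorProduct.AlgebraTensorModule.congr (LinearEquiv.refl S₂ S₂) e₁
  refine ⟨e₂ ≪≫ₗ E ≪≫ₗ TensorProduct.AlgebraTensorModule.cancelBaseChange R S S₂ S₂ P, ?_⟩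
  intro p
  change TensorProduct.AlgebraTensorModule.cancelBaseChange R S S₂ S₂ P (E (e₂ (c₂ (c₁ p)))) = _
  rw [he₂]
  change TensorProduct.AlgebraTensorModule.cancelBaseChange R S S₂ S₂ P ((1 : S₂) ⊗ₜ[S] e₁ (c₁ p)) = _
  rw [he₁, TensorProduct.AlgebraTensorModule.cancelBaseChange_tmul, one_smul]

/-- two base changes of the same module along the same ring map are canonically isomorphic. -/
theorem bijective_of_isBC_of_isBC {R S : Type u} [CommRing R] [CommRing S] (ρ : R →+* S)
    {P T₁ T₂ : Type u} [AddCommGroup P] [Module R P] [AddCommGroup T₁] [Module S T₁]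
    [AddCommGroup T₂] [Module S T₂] (c₁ : P → T₁) (c₂ : P → T₂) (h₁ : IsBC ρ c₁) (h₂ : IsBC ρ c₂)
    (u : T₁ →+ T₂) (hu : ∀ (s : S) (t : T₁), u (s • t) = s • u t) (huc : ∀ p, u (c₁ p) = c₂ p) :
    Function.Bijective u := by
  letI := ρ.toAlgebra
  obtain ⟨e₁, he₁⟩ := (isBC_iff ρ c₁).mp h₁
  obtain ⟨e₂, he₂⟩ := (isBC_iff ρ c₂).mp h₂
  have key : ∀ z : S ⊗[R] P, u (e₁.symm z) = e₂.symm z := by
    intro z
    induction z using TensorProduct.induction_on with
    | zero => simp
    | add x y hx hy => rw [map_add, map_add, map_add, hx, hy]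
    | tmul s p =>
      have h1 : (s ⊗ₜ[R] p : S ⊗[R] P) = s • ((1 : S) ⊗ₜ[R] p) := by
        rw [TensorProduct.smul_tmul', smul_eq_mul, mul_one]
      rw [h1, LinearEquiv.map_smul e₁.symm, LinearEquiv.map_smul e₂.symm, ← he₁,
        LinearEquiv.symm_apply_apply, hu, huc, he₁, ← he₂, LinearEquiv.symm_apply_apply]
  have hu' : ⇑u = e₂.symm ∘ e₁ := by
    funext t
    have := key (e₁ t)
    rwa [LinearEquiv.symm_apply_apply] at this
  rw [hu']
  exact e₂.symm.bijective.comp e₁.bijective

/-- the images `c p` span a base change. -/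
theorem span_of_isBC {R S : Type u} [CommRing R] [CommRing S] (ρ : R →+* S)
    {P T : Type u} [AddCommGroup P] [Module R P] [AddCommGroup T] [Module S T]
    (c : P → T) (h : IsBC ρ c) (t : T) : t ∈ Submodule.span S (Set.range c) := by
  letI := ρ.toAlgebra
  obtain ⟨e, he⟩ := (isBC_iff ρ c).mp h
  have key : ∀ z : S ⊗[R] P, e.symm z ∈ Submodule.span S (Set.range c) := by
    intro z
    induction z using TensorProduct.induction_on with
    | zero => rw [map_zero]; exact zero_mem _
    | add x y hx hy => rw [map_add]; exact add_mem hx hy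
    | tmul s p =>
      have h1 : (s ⊗ₜ[R] p : S ⊗[R] P) = s • ((1 : S) ⊗ₜ[R] p) := by
        rw [TensorProduct.smul_tmul', smul_eq_mul, mul_one]
      rw [h1, map_smul, ← he, LinearEquiv.symm_apply_apply]
      exact Submodule.smul_mem _ s (Submodule.subset_span ⟨p, rfl⟩)
  have := key (e t)
  rwa [LinearEquiv.symm_apply_apply] at this

/-- an ideal module is the base change of an ideal module along a Tor-independent ring map. -/
theorem isBC_ideal {C' C : Type u} [CommRing C'] [CommRing C] (φ : C' →+* C)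
    {N' N : Type u} [AddCommGroup N'] [Module C' N'] [AddCommGroup N] [Module C N]
    (ι' : N' →ₗ[C'] C') (ι : N →ₗ[C] C) (hι : Function.Injective ι)
    (t : N' → N) (ht : ∀ n', ι (t n') = φ (ι' n'))
    (hrange : ∀ n : N, ι n ∈ Ideal.map φ (LinearMap.range ι' : Ideal C'))
    (htor : letI := φ.toAlgebra; Function.Injective (LinearMap.lTensor C ι')) :
    IsBC φ t := by
  letI := φ.toAlgebra
  letI : Module C' N := Module.compHom N φ
  haveI : IsScalarTower C' C N := ⟨fun c' c n => by
    change (φ c' * c) • n = φ c' • (c • n)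
    rw [mul_smul]⟩
  let tl : N' →ₗ[C'] N :=
    { toFun := t
      map_add' := fun a b => by
        apply hι
        rw [map_add, ht, ht, ht, map_add, map_add]
      map_smul' := fun c' a => by
        apply hι
        change ι (t (c' • a)) = ι (φ c' • t a)
        rw [map_smul, ht, ht, map_smul, smul_eq_mul, smul_eq_mul, map_mul] }
  let L : C ⊗[C'] N' →ₗ[C] N := LinearMap.liftBaseChange C tl
  have hL : ∀ (c : C) (n' : N'), L (c ⊗ₜ[C'] n') = c • t n' := fun c n' =>
    LinearMap.liftBaseChange_tmul _ _ _ _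
  have hcomp : ∀ x : C ⊗[C'] N', ι (L x) = TensorProduct.rid C' C (LinearMap.lTensor C ι' x) := by
    intro x
    induction x using TensorProduct.induction_on with
    | zero => simp
    | add x y hx hy => rw [map_add, map_add, map_add, map_add, hx, hy]
    | tmul c n' =>
      rw [hL, map_smul, ht, LinearMap.lTensor_tmul, TensorProduct.rid_tmul, smul_eq_mul,
        Algebra.smul_def, mul_comm]
      rfl
  have hinj : Function.Injective L := by
    intro x y hxy
    have h1 := congrArg ι hxy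
    rw [hcomp, hcomp] at h1
    exact htor ((TensorProduct.rid C' C).injective h1)
  have hsurj : Function.Surjective L := by
    intro n
    have key : ∀ y ∈ Ideal.map φ (LinearMap.range ι' : Ideal C'), ∃ x, ι (L x) = y := by
      intro y hy
      refine Submodule.span_induction ?_ ?_ ?_ ?_ hy
      · rintro _ ⟨x', ⟨n', rfl⟩, rfl⟩
        refine ⟨(1 : C) ⊗ₜ[C'] n', ?_⟩
        rw [hL, one_smul, ht]
      · exact ⟨0, by simp⟩
      · rintro y z _ _ ⟨a, rfl⟩ ⟨b, rfl⟩
        exact ⟨a + b, by rw [map_add, map_add]⟩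
      · rintro c y _ ⟨a, rfl⟩
        exact ⟨c • a, by rw [map_smul, map_smul]⟩
    obtain ⟨x, hx⟩ := key (ι n) (hrange n)
    exact ⟨x, hι hx⟩
  rw [isBC_iff]
  refine ⟨(LinearEquiv.ofBijective L ⟨hinj, hsurj⟩).symm, fun n' => ?_⟩
  rw [LinearEquiv.symm_apply_eq]
  change t n' = L ((1 : C) ⊗ₜ[C'] n')
  rw [hL, one_smul]

/-- flatness gives the Tor-independence hypothesis of `isBC_ideal`. -/
theorem lTensor_injective_of_flat {C' C : Type u} [CommRing C'] [CommRing C] (φ : C' →+* C)
    (hflat : φ.Flat) {N' : Type u} [AddCommGroup N'] [Module C' N'] (ι' : N' →ₗ[C'] C')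
    (hι' : Function.Injective ι') :
    letI := φ.toAlgebra
    Function.Injective (LinearMap.lTensor C ι') := by
  letI := φ.toAlgebra
  haveI : Module.Flat C' C := hflat
  exact Module.Flat.lTensor_preserves_injective_linearMap ι' hι'

/-- in a pushout square of commutative rings, the map opposite to a surjection is surjective, and its kernel
is the extension of the kernel of the surjection. -/
theorem pushout_surjective_ker {C' C B' P : CommRingCat.{u}} (φ : C' ⟶ C) (π' : C' ⟶ B') (inl : C ⟶ P)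
    (inr : B' ⟶ P) (h : IsPushout φ π' inl inr) (hπ' : Function.Surjective π'.hom) :
    Function.Surjective inl.hom ∧ RingHom.ker inl.hom = (RingHom.ker π'.hom).map φ.hom := by
  let J : Ideal C := (RingHom.ker π'.hom).map φ.hom
  let Q : CommRingCat.{u} := CommRingCat.of (C ⧸ J)
  let q : C ⟶ Q := CommRingCat.ofHom (Ideal.Quotient.mk J)
  -- the map `B' → Q`
  have hker : ∀ a ∈ RingHom.ker π'.hom, ((Ideal.Quotient.mk J).comp φ.hom) a = 0 := by
    intro a ha
    rw [RingHom.comp_apply, Ideal.Quotient.eq_zero_iff_mem]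
    exact Ideal.mem_map_of_mem _ ha
  let r : B' ⟶ Q := CommRingCat.ofHom (RingHom.liftOfSurjective π'.hom hπ'
    ⟨(Ideal.Quotient.mk J).comp φ.hom, hker⟩)
  have hr : π' ≫ r = φ ≫ q := by
    ext a
    exact RingHom.liftOfSurjective_comp_apply π'.hom hπ'
      ⟨(Ideal.Quotient.mk J).comp φ.hom, hker⟩ a
  let u : P ⟶ Q := h.desc q r hr.symm
  have hu1 : inl ≫ u = q := h.inl_desc _ _ _
  have hJ : J ≤ RingHom.ker inl.hom := by
    refine Ideal.map_le_iff_le_comap.2 ?_
    intro a ha
    rw [Ideal.mem_comap, RingHom.mem_ker]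
    have h1 := congr($(h.w) a)
    rw [ConcreteCategory.comp_apply, ConcreteCategory.comp_apply] at h1
    change inl.hom (φ.hom a) = 0
    rw [h1]
    change inr.hom (π'.hom a) = 0
    rw [(RingHom.mem_ker).1 ha, map_zero]
  have hkereq : RingHom.ker inl.hom = J := by
    apply le_antisymm _ hJ
    intro c hc
    have h2 := congr($hu1 c)
    rw [ConcreteCategory.comp_apply] at h2
    have h3 : u.hom (inl.hom c) = 0 := by rw [(RingHom.mem_ker).1 hc, map_zero]
    have h4 : (Ideal.Quotient.mk J) c = 0 := h2.symm.trans h3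
    exact Ideal.Quotient.eq_zero_iff_mem.1 h4
  refine ⟨?_, hkereq⟩
  -- surjectivity: `v : Q → P` inverse to `u`
  let v : Q ⟶ P := CommRingCat.ofHom (Ideal.Quotient.lift J inl.hom (fun a ha => hJ ha))
  have hqv : q ≫ v = inl := by
    ext a
    rfl
  have hrv : r ≫ v = inr := by
    ext b
    obtain ⟨a, rfl⟩ := hπ' b
    have h5 := congr($hr a)
    rw [ConcreteCategory.comp_apply, ConcreteCategory.comp_apply] at h5
    change v.hom (r.hom (π'.hom a)) = inr.hom (π'.hom a)
    rw [h5]
    have h6 := congr($(h.w) a)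
    rw [ConcreteCategory.comp_apply, ConcreteCategory.comp_apply] at h6
    exact h6
  have huv : u ≫ v = 𝟙 P := by
    apply h.hom_ext
    · rw [← Category.assoc, hu1, hqv, Category.comp_id]
    · rw [← Category.assoc, h.inr_desc, hrv, Category.comp_id]
  intro p
  have h7 := congr($huv p)
  rw [ConcreteCategory.comp_apply] at h7
  obtain ⟨c, hc⟩ := Ideal.Quotient.mk_surjective (u.hom p)
  refine ⟨c, ?_⟩
  have h8 : v.hom (u.hom p) = p := h7
  rw [← h8, ← hc]
  rfl

end Groth.Agent.Lib.Helper29.ConormalAlg
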