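import Groth.Agent.Lib.Helper29.ConormalMap
import Groth.Agent.Lib.Helper29.ConormalAlg
import Groth.Agent.Lib.Helper28.TensorIso
import Groth.Agent.Lib.Helper28.QCohGen

set_option autoImplicit false
universe u
open CategoryTheory CategoryTheory.Limits AlgebraicGeometry TensorProduct Opposite

namespace Groth.Agent.Lib.Helper29.ConormalBC

open Groth.Agent.Lib.Helper28.QCohLoc Groth.Agent.Lib.Helper29.ConormalMap
  Groth.Agent.Lib.Helper29.ConormalAlg Groth.Agent.Lib.Helper17.PullbackBC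
  Groth.Agent.Lib.Helper28.PullbackInv

section LemmaA

variable {Z X : Scheme.{u}} (i : Z ⟶ X) [IsImmersion i]

/-- over an affine open inside the coborder, an immersion is a closed immersion of affine schemes. -/
theorem affine_surjective_of_le_coborder {W : X.Opens} (hW : IsAffineOpen W) (hle : W ≤ i.coborderRange) :
    IsAffineOpen (i ⁻¹ᵁ W) ∧ Function.Surjective (i.app W) := by
  let ι := i.coborderRange.ι
  let l := i.liftCoborder
  let W₀ : i.coborderRange.toScheme.Opens := ι ⁻¹ᵁ W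
  have himg : ι ''ᵁ W₀ = W := by
    rw [Scheme.Hom.image_preimage_eq_opensRange_inf, Scheme.Opens.opensRange_ι]
    exact inf_eq_right.2 hle
  have hW₀ : IsAffineOpen W₀ :=
    hW.preimage_of_isOpenImmersion ι (by rw [Scheme.Opens.opensRange_ι]; exact hle)
  have hpre : l ⁻¹ᵁ W₀ = i ⁻¹ᵁ W := by
    rw [i.liftCoborder_preimage, himg]
  constructor
  · rw [← hpre]
    exact hW₀.preimage l
  · have hs := l.app_surjective W₀ hW₀
    have key := AlgebraicGeometry.liftCoborder_app i W₀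
    have hinj : Function.Injective (Z.presheaf.map (eqToHom (i.liftCoborder_preimage W₀)).op) := by
      have : IsIso (Z.presheaf.map (eqToHom (i.liftCoborder_preimage W₀)).op) := inferInstance
      exact ((ConcreteCategory.isIso_iff_bijective _).1 this).1
    have hs2 : Function.Surjective (i.app (ι ''ᵁ W₀)) := by
      intro y
      obtain ⟨x, hx⟩ := hs (Z.presheaf.map (eqToHom (i.liftCoborder_preimage W₀)).op y)
      refine ⟨x, hinj ?_⟩
      rw [← hx]
      exact (congr($key x)).symm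
    revert hs2
    generalize ι ''ᵁ W₀ = W₁ at himg
    subst himg
    exact id

end LemmaA

section IdealLin

variable {P : Scheme.{u}} (K : P.IdealSheafData)

/-- the inclusion of the sections of the ideal module, as a linear map. -/
noncomputable def idealιLin (W : P.Opens) : Γ(ClSub.idealMod K, W) →ₗ[Γ(P, W)] Γ(P, W) where
  toFun := OmegaSh.idealSect K W
  map_add' := map_add _
  map_smul' := fun r s => idealSect_smul K W r s

theorem idealιLin_apply (W : P.Opens) (s : Γ(ClSub.idealMod K, W)) :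
    idealιLin K W s = OmegaSh.idealSect K W s := rfl

theorem idealιLin_injective (W : P.Opens) : Function.Injective (idealιLin K W) :=
  idealSect_injective K W

open Groth.Agent.Lib.Helper17.Serre in
theorem range_idealιLin {W : P.Opens} (hW : IsAffineOpen W) :
    (LinearMap.range (idealιLin K W) : Ideal Γ(P, W)) = K.ideal ⟨W, hW⟩ := by
  have hker : ∀ y : Γ(P, W), K.subschemeι.app W y = 0 ↔ y ∈ K.ideal ⟨W, hW⟩ := by
    intro y
    have h1 : K.subschemeι.ker.ideal ⟨W, hW⟩ = K.ideal ⟨W, hW⟩ := by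
      rw [Scheme.IdealSheafData.ker_subschemeι]
    rw [← h1, Scheme.Hom.ker_apply, RingHom.mem_ker]
  ext y
  constructor
  · rintro ⟨s, rfl⟩
    exact (hker _).1 (subschemeι_app_idealSect K W s)
  · intro hy
    exact ⟨idealLiftOf K W y ((hker y).2 hy), idealSect_idealLiftOf K W y _⟩

end IdealLin

section Local

variable {Z X Z' X' : Scheme.{u}} {i : Z ⟶ X} {i' : Z' ⟶ X'} {g : X ⟶ X'} {gZ : Z ⟶ Z'}
  (H : IsPullback i gZ g i')
  {W' : X'.Opens} (hW' : IsAffineOpen W')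
  {W : X.Opens} (hW : IsAffineOpen W) (e : W ≤ g ⁻¹ᵁ W')

include H e in
theorem preimage_le : i ⁻¹ᵁ W ≤ gZ ⁻¹ᵁ (i' ⁻¹ᵁ W') := by
  rw [preimage_eq i i' g gZ H.w.symm W']
  exact i.preimage_mono e

include H e in
theorem preimage_eq_inf : i ⁻¹ᵁ W = i ⁻¹ᵁ W ⊓ gZ ⁻¹ᵁ (i' ⁻¹ᵁ W') :=
  (inf_eq_left.2 (preimage_le H e)).symm

include H hW' hW e in
theorem isPushout_sections (hU' : IsAffineOpen (i' ⁻¹ᵁ W')) :
    IsPushout (g.appLE W' W e) (i'.appLE W' (i' ⁻¹ᵁ W') le_rfl)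
      (i.appLE W (i ⁻¹ᵁ W) le_rfl) (gZ.appLE (i' ⁻¹ᵁ W') (i ⁻¹ᵁ W) (preimage_le H e)) := by
  have h1 := (isIso_pushoutSection_iff H (le_refl (i' ⁻¹ᵁ W')) e (preimage_eq_inf H e)).1
    (isIso_pushoutSection_of_isAffineOpen H (le_refl (i' ⁻¹ᵁ W')) e (preimage_eq_inf H e) hW' hU' hW)
  exact h1

include H hW' hW e in
theorem isAffineOpen_preimage (hU' : IsAffineOpen (i' ⁻¹ᵁ W')) : IsAffineOpen (i ⁻¹ᵁ W) := by
  have : IsAffine W' := hW'
  have : IsAffine (i' ⁻¹ᵁ W') := hU'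
  have : IsAffine W := hW
  exact .of_isIso (Scheme.Hom.isPullback_resLE H (le_refl (i' ⁻¹ᵁ W')) e
    (preimage_eq_inf H e)).isoPullback.hom

end Local

section Local2

variable {Z X Z' X' : Scheme.{u}} {i : Z ⟶ X} {i' : Z' ⟶ X'} {g : X ⟶ X'} {gZ : Z ⟶ Z'}
  (H : IsPullback i gZ g i') [QuasiCompact i] [QuasiCompact i']
  {W' : X'.Opens} (hW' : IsAffineOpen W')
  {W : X.Opens} (hW : IsAffineOpen W) (e : W ≤ g ⁻¹ᵁ W')

/-- `g♯` on sections of the ideals, from `W'` to `W ≤ g⁻¹ W'`. -/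
noncomputable def tmap (s' : Γ(ClSub.idealMod i'.ker, W')) : Γ(ClSub.idealMod i.ker, W) :=
  res (ClSub.idealMod i.ker) e (pushSect i i' g gZ H.w.symm W' s')

theorem idealSect_tmap (s' : Γ(ClSub.idealMod i'.ker, W')) :
    OmegaSh.idealSect i.ker W (tmap H e s') = g.appLE W' W e (OmegaSh.idealSect i'.ker W' s') := by
  unfold tmap
  rw [idealSect_res, idealSect_pushSect]
  rfl

include H hW' hW e in
theorem ideal_eq_map (hU' : IsAffineOpen (i' ⁻¹ᵁ W')) (hsurj : Function.Surjective (i'.app W')) :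
    i.ker.ideal ⟨W, hW⟩ = (i'.ker.ideal ⟨W', hW'⟩).map (g.appLE W' W e).hom := by
  have hpo := isPushout_sections H hW' hW e hU'
  have hs : Function.Surjective (i'.appLE W' (i' ⁻¹ᵁ W') le_rfl).hom := by
    rw [← Scheme.Hom.app_eq_appLE]
    exact hsurj
  have h1 := (pushout_surjective_ker _ _ _ _ hpo hs).2
  rw [Scheme.Hom.ker_apply, Scheme.Hom.ker_apply, Scheme.Hom.app_eq_appLE, Scheme.Hom.app_eq_appLE]
  exact h1

include H hW' hW e in
theorem app_surjective (hU' : IsAffineOpen (i' ⁻¹ᵁ W')) (hsurj : Function.Surjective (i'.app W')) :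
    Function.Surjective (i.app W) := by
  have hpo := isPushout_sections H hW' hW e hU'
  have hs : Function.Surjective (i'.appLE W' (i' ⁻¹ᵁ W') le_rfl).hom := by
    rw [← Scheme.Hom.app_eq_appLE]
    exact hsurj
  have h1 := (pushout_surjective_ker _ _ _ _ hpo hs).1
  rw [Scheme.Hom.app_eq_appLE]
  exact h1

end Local2

section Core

open Groth.Agent.Lib.Helper17.ModPullback Groth.Agent.Lib.Helper17.CohKer
  Groth.Agent.Lib.Helper17.Serre

instance isQuasicoherent_conormal {Z X : Scheme.{u}} (i : Z ⟶ X) :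
    (Omega.conormal i).IsQuasicoherent := by
  change ((Scheme.Modules.pullback i).obj (ClSub.idealMod i.ker)).IsQuasicoherent
  infer_instance

variable {Z X Z' X' : Scheme.{u}} {i : Z ⟶ X} {i' : Z' ⟶ X'} {g : X ⟶ X'} {gZ : Z ⟶ Z'}
  (H : IsPullback i gZ g i') [QuasiCompact i] [QuasiCompact i']
  {W' : X'.Opens} (hW' : IsAffineOpen W')
  {W : X.Opens} (hW : IsAffineOpen W) (e : W ≤ g ⁻¹ᵁ W')

/-- `s' ↦ i'^* s'`. -/
noncomputable def c₁ (s' : Γ(ClSub.idealMod i'.ker, W')) : Γ(Omega.conormal i', i' ⁻¹ᵁ W') :=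
  res ((Scheme.Modules.pullback i').obj (ClSub.idealMod i'.ker)) (le_refl (i' ⁻¹ᵁ W'))
    (pbs i' (ClSub.idealMod i'.ker) W' s')

/-- `m ↦ (gZ^* m)|_{i⁻¹ W}`. -/
noncomputable def c₂ (m : Γ(Omega.conormal i', i' ⁻¹ᵁ W')) :
    Γ((Scheme.Modules.pullback gZ).obj (Omega.conormal i'), i ⁻¹ᵁ W) :=
  res ((Scheme.Modules.pullback gZ).obj (Omega.conormal i')) (preimage_le H e)
    (pbs gZ (Omega.conormal i') (i' ⁻¹ᵁ W') m)

/-- `s ↦ i^* s`. -/
noncomputable def c₃ (s : Γ(ClSub.idealMod i.ker, W)) : Γ(Omega.conormal i, i ⁻¹ᵁ W) :=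
  res ((Scheme.Modules.pullback i).obj (ClSub.idealMod i.ker)) (le_refl (i ⁻¹ᵁ W))
    (pbs i (ClSub.idealMod i.ker) W s)

theorem conormalMap_app_c (s' : Γ(ClSub.idealMod i'.ker, W')) :
    (conormalMap i i' g gZ H.w.symm).app (i ⁻¹ᵁ W) (c₂ H e (c₁ s')) = c₃ (tmap H e s') := by
  unfold c₂ c₁ c₃ tmap
  rw [res_self, res_self, app_res]
  have h1 := conormalMap_pullSect i i' g gZ H.w.symm W' s'
  have h2 : (conormalMap i i' g gZ H.w.symm).app (gZ ⁻¹ᵁ (i' ⁻¹ᵁ W'))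
      (pbs gZ (Omega.conormal i') (i' ⁻¹ᵁ W') (pbs i' (ClSub.idealMod i'.ker) W' s')) =
      (Omega.conormal i).presheaf.map (eqToHom (preimage_eq i i' g gZ H.w.symm W')).op
        (OmegaSh.conormalSect i (g ⁻¹ᵁ W') (pushSect i i' g gZ H.w.symm W' s')) := h1
  rw [h2]
  have h3 := pbs_res i (ClSub.idealMod i.ker) e (pushSect i i' g gZ H.w.symm W' s')
  rw [h3]
  exact map_map_eq _ _ _ _ _

end Core

section Core2

open Groth.Agent.Lib.Helper17.ModPullback Groth.Agent.Lib.Helper17.CohKer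
  Groth.Agent.Lib.Helper17.Serre

variable {Z X Z' X' : Scheme.{u}} {i : Z ⟶ X} {i' : Z' ⟶ X'} {g : X ⟶ X'} {gZ : Z ⟶ Z'}
  (H : IsPullback i gZ g i') [QuasiCompact i] [QuasiCompact i'] [IsImmersion i']
  {W' : X'.Opens} (hW' : IsAffineOpen W') (hc : W' ≤ i'.coborderRange)
  {W : X.Opens} (hW : IsAffineOpen W) (e : W ≤ g ⁻¹ᵁ W')

theorem c₃_add (a b : Γ(ClSub.idealMod i.ker, W)) : c₃ (a + b) = c₃ a + c₃ b := by
  unfold c₃
  rw [pbs_add]
  exact map_add _ _ _

theorem c₃_zero : c₃ (0 : Γ(ClSub.idealMod i.ker, W)) = 0 := by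
  have h := c₃_add (0 : Γ(ClSub.idealMod i.ker, W)) 0
  rw [add_zero] at h
  exact left_eq_add.1 h

theorem c₃_smul (c : Γ(X, W)) (a : Γ(ClSub.idealMod i.ker, W)) :
    c₃ (c • a) = i.app W c • c₃ a := by
  unfold c₃
  rw [pbs_smul, res_self, res_self]
  rfl

include hW' hc hW e in
theorem surjective_conormalMap_app :
    Function.Surjective ((conormalMap i i' g gZ H.w.symm).app (i ⁻¹ᵁ W)) := by
  obtain ⟨hU', hsurj'⟩ := affine_surjective_of_le_coborder i' hW' hc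
  have hU := isAffineOpen_preimage H hW' hW e hU'
  have h₃ : IsBC (i.appLE W (i ⁻¹ᵁ W) le_rfl).hom (c₃ (i := i) (W := W)) :=
    isBC_pullback i hW hU le_rfl (ClSub.idealMod i.ker)
  have hideal := ideal_eq_map H hW' hW e hU' hsurj'
  let Φ := (conormalMap i i' g gZ H.w.symm).app (i ⁻¹ᵁ W)
  have claim : ∀ x ∈ (i'.ker.ideal ⟨W', hW'⟩).map (g.appLE W' W e).hom,
      ∃ (s : Γ(ClSub.idealMod i.ker, W)) (m : Γ((Scheme.Modules.pullback gZ).obj (Omega.conormal i'), i ⁻¹ᵁ W)),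
        OmegaSh.idealSect i.ker W s = x ∧ Φ m = c₃ s := by
    intro x hx
    refine Submodule.span_induction ?_ ?_ ?_ ?_ hx
    · rintro _ ⟨x', hx', rfl⟩
      rw [← range_idealιLin i'.ker hW'] at hx'
      obtain ⟨s', rfl⟩ := hx'
      exact ⟨tmap H e s', c₂ H e (c₁ s'), idealSect_tmap H e s', conormalMap_app_c H e s'⟩
    · exact ⟨0, 0, map_zero _, by rw [map_zero, c₃_zero]⟩
    · rintro y z _ _ ⟨s₁, m₁, rfl, h₁⟩ ⟨s₂, m₂, rfl, h₂⟩
      exact ⟨s₁ + s₂, m₁ + m₂, map_add _ _ _, by rw [map_add, h₁, h₂, c₃_add]⟩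
    · rintro c y _ ⟨s₁, m₁, rfl, h₁⟩
      refine ⟨c • s₁, i.app W c • m₁, idealSect_smul _ _ _ _, ?_⟩
      rw [c₃_smul, ← h₁]
      exact Scheme.Modules.Hom.app_smul _ _ _
  intro y
  have hy := span_of_isBC _ _ h₃ y
  induction hy using Submodule.span_induction with
  | mem z hz =>
    obtain ⟨s, rfl⟩ := hz
    have hs : OmegaSh.idealSect i.ker W s ∈ (i'.ker.ideal ⟨W', hW'⟩).map (g.appLE W' W e).hom := by
      rw [← hideal, ← range_idealιLin i.ker hW]
      exact ⟨s, rfl⟩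
    obtain ⟨s₀, m, hs₀, hm⟩ := claim _ hs
    have : s₀ = s := idealSect_injective _ _ hs₀
    subst this
    exact ⟨m, hm⟩
  | zero => exact ⟨0, map_zero _⟩
  | add a b _ _ ha hb =>
    obtain ⟨ma, rfl⟩ := ha
    obtain ⟨mb, rfl⟩ := hb
    exact ⟨ma + mb, map_add _ _ _⟩
  | smul r a _ ha =>
    obtain ⟨ma, rfl⟩ := ha
    exact ⟨r • ma, Scheme.Modules.Hom.app_smul _ _ _⟩

include hW' hc hW e in
theorem bijective_conormalMap_app
    (htor : letI := (g.appLE W' W e).hom.toAlgebra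
      Function.Injective (LinearMap.lTensor Γ(X, W) (idealιLin i'.ker W'))) :
    Function.Bijective ((conormalMap i i' g gZ H.w.symm).app (i ⁻¹ᵁ W)) := by
  obtain ⟨hU', hsurj'⟩ := affine_surjective_of_le_coborder i' hW' hc
  have hU := isAffineOpen_preimage H hW' hW e hU'
  have h₁ : IsBC (i'.appLE W' (i' ⁻¹ᵁ W') le_rfl).hom (c₁ (i' := i') (W' := W')) :=
    isBC_pullback i' hW' hU' le_rfl (ClSub.idealMod i'.ker)
  have h₂ : IsBC (gZ.appLE (i' ⁻¹ᵁ W') (i ⁻¹ᵁ W) (preimage_le H e)).hom (c₂ H e) :=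
    isBC_pullback gZ hU' hU (preimage_le H e) (Omega.conormal i')
  have h₃ : IsBC (i.appLE W (i ⁻¹ᵁ W) le_rfl).hom (c₃ (i := i) (W := W)) :=
    isBC_pullback i hW hU le_rfl (ClSub.idealMod i.ker)
  have hideal := ideal_eq_map H hW' hW e hU' hsurj'
  have hrange : ∀ n : Γ(ClSub.idealMod i.ker, W), idealιLin i.ker W n ∈
      Ideal.map (g.appLE W' W e).hom (LinearMap.range (idealιLin i'.ker W') : Ideal Γ(X', W')) := by
    intro n
    rw [range_idealιLin i'.ker hW', ← hideal, ← range_idealιLin i.ker hW]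
    exact ⟨n, rfl⟩
  have h₄ : IsBC (g.appLE W' W e).hom (tmap H e) :=
    isBC_ideal (g.appLE W' W e).hom (idealιLin i'.ker W') (idealιLin i.ker W)
      (idealιLin_injective i.ker W) (tmap H e) (idealSect_tmap H e) hrange htor
  have h₁₂ := isBC_comp _ _ _ _ h₁ h₂
  have h₄₃ := isBC_comp _ _ _ _ h₄ h₃
  have hring : (i.appLE W (i ⁻¹ᵁ W) le_rfl).hom.comp (g.appLE W' W e).hom =
      (gZ.appLE (i' ⁻¹ᵁ W') (i ⁻¹ᵁ W) (preimage_le H e)).hom.comp
        (i'.appLE W' (i' ⁻¹ᵁ W') le_rfl).hom := by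
    rw [← CommRingCat.hom_comp, ← CommRingCat.hom_comp, Scheme.Hom.appLE_comp_appLE,
      Scheme.Hom.appLE_comp_appLE]
    exact congrArg CommRingCat.Hom.hom (OmegaSh.appLE_congr_hom H.w _ _)
  rw [hring] at h₄₃
  refine bijective_of_isBC_of_isBC _ _ _ h₁₂ h₄₃
    ((conormalMap i i' g gZ H.w.symm).app (i ⁻¹ᵁ W)).hom ?_ ?_
  · intro r m
    exact Scheme.Modules.Hom.app_smul _ _ _
  · intro s'
    exact conormalMap_app_c H e s'

end Core2

section Global

variable {Z X Z' X' : Scheme.{u}} {i : Z ⟶ X} {i' : Z' ⟶ X'} {g : X ⟶ X'} {gZ : Z ⟶ Z'}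
  (H : IsPullback i gZ g i') [IsImmersion i] [IsImmersion i']

include H in
theorem exists_chart (O : Z.Opens) (z : Z) (hz : z ∈ O) :
    ∃ (W' : X'.Opens) (W : X.Opens), IsAffineOpen W' ∧ W' ≤ i'.coborderRange ∧ IsAffineOpen W ∧
      W ≤ g ⁻¹ᵁ W' ∧ z ∈ i ⁻¹ᵁ W ∧ i ⁻¹ᵁ W ≤ O := by
  obtain ⟨O₁, hO₁, hO₁eq⟩ := (i.isEmbedding.isInducing.isOpen_iff).1 O.isOpen
  have hx' : g (i z) ∈ i'.coborderRange := by
    have h1 : g (i z) = i' (gZ z) := by
      rw [← Scheme.Hom.comp_apply, ← Scheme.Hom.comp_apply, H.w]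
    rw [h1]
    exact subset_coborder ⟨gZ z, rfl⟩
  obtain ⟨W', hW', hxW', hW'c⟩ := TopologicalSpace.Opens.isBasis_iff_nbhd.mp X'.isBasis_affineOpens hx'
  have hzO₁ : i z ∈ (⟨O₁, hO₁⟩ : X.Opens) := by
    have : z ∈ (i ⁻¹' O₁ : Set Z) := by rw [hO₁eq]; exact hz
    exact this
  obtain ⟨W, hW, hzW, hWle⟩ := TopologicalSpace.Opens.isBasis_iff_nbhd.mp X.isBasis_affineOpens
    (show i z ∈ g ⁻¹ᵁ W' ⊓ (⟨O₁, hO₁⟩ : X.Opens) from ⟨hxW', hzO₁⟩)
  refine ⟨W', W, hW', hW'c, hW, hWle.trans inf_le_left, hzW, ?_⟩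
  intro y hy
  have h2 : i y ∈ O₁ := (hWle hy).2
  have : y ∈ (i ⁻¹' O₁ : Set Z) := h2
  rw [hO₁eq] at this
  exact this

variable [QuasiCompact i] [QuasiCompact i']

include H in
/-- **the canonical map of conormal sheaves of a cartesian square is an epimorphism.** -/
theorem epi_conormalMap : Epi (conormalMap i i' g gZ H.w.symm) := by
  refine epi_of_locally_in_range _ ?_
  intro O x z hz
  obtain ⟨W', W, hW', hc, hW, e, hzW, hle⟩ := exists_chart H O z hz
  obtain ⟨y, hy⟩ := surjective_conormalMap_app H hW' hc hW e (res (Omega.conormal i) hle x)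
  exact ⟨i ⁻¹ᵁ W, hle, hzW, y, hy⟩

include H in
/-- the canonical map of conormal sheaves of a cartesian square is an isomorphism as soon as
there are enough Tor-independent charts. -/
theorem isIso_conormalMap_of_charts
    (hT : ∀ (O : Z.Opens) (z : Z), z ∈ O → ∃ (W' : X'.Opens) (W : X.Opens) (_ : IsAffineOpen W')
      (_ : IsAffineOpen W) (e : W ≤ g ⁻¹ᵁ W'), W' ≤ i'.coborderRange ∧ z ∈ i ⁻¹ᵁ W ∧ i ⁻¹ᵁ W ≤ O ∧
      (letI := (g.appLE W' W e).hom.toAlgebra
       Function.Injective (LinearMap.lTensor Γ(X, W) (idealιLin i'.ker W')))) :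
    IsIso (conormalMap i i' g gZ H.w.symm) := by
  refine Groth.Agent.Lib.Helper28.TensorIso.isIso_of_bijective_on_basis _
    (fun U => ∃ (W' : X'.Opens) (W : X.Opens) (_ : IsAffineOpen W')
      (_ : IsAffineOpen W) (e : W ≤ g ⁻¹ᵁ W'), W' ≤ i'.coborderRange ∧ U = i ⁻¹ᵁ W ∧
      (letI := (g.appLE W' W e).hom.toAlgebra
       Function.Injective (LinearMap.lTensor Γ(X, W) (idealιLin i'.ker W')))) ?_ ?_
  · intro O z hz
    obtain ⟨W', W, hW', hW, e, hc, hzW, hle, htor⟩ := hT O z hz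
    exact ⟨i ⁻¹ᵁ W, ⟨W', W, hW', hW, e, hc, rfl, htor⟩, hzW, hle⟩
  · rintro U ⟨W', W, hW', hW, e, hc, rfl, htor⟩
    exact bijective_conormalMap_app H hW' hc hW e htor

include H in
/-- **the canonical map of conormal sheaves of a cartesian square is an isomorphism when `g` is flat.** -/
theorem isIso_conormalMap_of_flat [Flat g] : IsIso (conormalMap i i' g gZ H.w.symm) := by
  refine isIso_conormalMap_of_charts H ?_
  intro O z hz
  obtain ⟨W', W, hW', hc, hW, e, hzW, hle⟩ := exists_chart H O z hz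
  refine ⟨W', W, hW', hW, e, hc, hzW, hle, ?_⟩
  exact lTensor_injective_of_flat (g.appLE W' W e).hom (g.flat_appLE hW' hW e) _
    (idealιLin_injective i'.ker W')

end Global

end Groth.Agent.Lib.Helper29.ConormalBC
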