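import Mathlib
import Groth.Agent.Lib.Helper29.ConormalBC

set_option autoImplicit false
universe u
open CategoryTheory CategoryTheory.Limits AlgebraicGeometry TensorProduct Opposite

namespace Groth.Agent.Lib.Helper29.ConormalChart

open Groth.Agent.Lib.Helper28.QCohLoc Groth.Agent.Lib.Helper29.ConormalMap
  Groth.Agent.Lib.Helper29.ConormalAlg Groth.Agent.Lib.Helper17.PullbackBC
  Groth.Agent.Lib.Helper28.PullbackInv Groth.Agent.Lib.Helper29.ConormalBC

section Alg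

/-- base change along a surjective ring map: the structure map `c` is surjective. -/
theorem surjective_of_isBC_of_surjective {R S : Type u} [CommRing R] [CommRing S] (ρ : R →+* S)
    (hρ : Function.Surjective ρ)
    {P T : Type u} [AddCommGroup P] [Module R P] [AddCommGroup T] [Module S T]
    (c : P → T) (h : IsBC ρ c) : Function.Surjective c := by
  letI := ρ.toAlgebra
  obtain ⟨e, he⟩ := (isBC_iff ρ c).mp h
  have key : ∀ z : S ⊗[R] P, ∃ p : P, z = (1 : S) ⊗ₜ[R] p := by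
    intro z
    induction z using TensorProduct.induction_on with
    | zero => exact ⟨0, by rw [TensorProduct.tmul_zero]⟩
    | add x y hx hy =>
      obtain ⟨p, rfl⟩ := hx
      obtain ⟨q, rfl⟩ := hy
      exact ⟨p + q, by rw [TensorProduct.tmul_add]⟩
    | tmul s p =>
      obtain ⟨r, rfl⟩ := hρ s
      refine ⟨r • p, ?_⟩
      rw [← TensorProduct.smul_tmul, Algebra.smul_def, mul_one]
      rfl
  intro t
  obtain ⟨p, hp⟩ := key (e t)
  refine ⟨p, e.injective ?_⟩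
  rw [he, hp]

/-- base change along a surjective ring map: the kernel of the structure map is `ker ρ • ⊤`. -/
theorem eq_zero_iff_of_isBC_of_surjective {R S : Type u} [CommRing R] [CommRing S] (ρ : R →+* S)
    (hρ : Function.Surjective ρ)
    {P T : Type u} [AddCommGroup P] [Module R P] [AddCommGroup T] [Module S T]
    (c : P → T) (h : IsBC ρ c) (p : P) :
    c p = 0 ↔ p ∈ (RingHom.ker ρ • (⊤ : Submodule R P)) := by
  letI := ρ.toAlgebra
  obtain ⟨e, he⟩ := (isBC_iff ρ c).mp h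
  have h0 : c p = 0 ↔ (1 : S) ⊗ₜ[R] p = 0 := by
    rw [← he, LinearEquiv.map_eq_zero_iff]
  rw [h0]
  -- right exactness
  let I : Ideal R := RingHom.ker ρ
  let f : I →ₗ[R] R := Submodule.subtype I
  let g : R →ₗ[R] S := Algebra.linearMap R S
  have hfg : Function.Exact f g := by
    intro r
    constructor
    · intro hr
      exact ⟨⟨r, hr⟩, rfl⟩
    · rintro ⟨⟨x, hx⟩, rfl⟩
      exact hx
  have hg : Function.Surjective g := hρ
  have hex := rTensor_exact P hfg hg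
  have h1 : (1 : S) ⊗ₜ[R] p = LinearMap.rTensor P g ((1 : R) ⊗ₜ[R] p) := by
    rw [LinearMap.rTensor_tmul]
    congr 1
    exact (map_one ρ).symm
  rw [h1, hex ((1 : R) ⊗ₜ[R] p)]
  constructor
  · rintro ⟨z, hz⟩
    have h2 := congrArg (TensorProduct.lid R P) hz
    rw [TensorProduct.lid_tmul, one_smul] at h2
    rw [← h2]
    clear hz h2 h1
    induction z using TensorProduct.induction_on with
    | zero => simp
    | add x y hx hy => rw [map_add, map_add]; exact add_mem hx hy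
    | tmul a q =>
      rw [LinearMap.rTensor_tmul, TensorProduct.lid_tmul]
      exact Submodule.smul_mem_smul a.2 trivial
  · intro hp
    refine Submodule.smul_induction_on hp ?_ ?_
    · intro a ha q _
      refine ⟨(⟨a, ha⟩ : I) ⊗ₜ[R] q, ?_⟩
      rw [LinearMap.rTensor_tmul]
      change (a ⊗ₜ[R] q : R ⊗[R] P) = 1 ⊗ₜ[R] (a • q)
      rw [← TensorProduct.smul_tmul, smul_eq_mul, mul_one]
    · rintro x y ⟨zx, hzx⟩ ⟨zy, hzy⟩
      exact ⟨zx + zy, by rw [map_add, hzx, hzy, TensorProduct.tmul_add]⟩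

end Alg

section PullbackId

variable {X : Scheme.{u}} (M : X.Modules)

theorem pullbackId_hom_pullSect (U : X.Opens) (m : Γ(M, U)) :
    ((Scheme.Modules.pullbackId X).hom.app M).app U (OmegaSh.pullSect (𝟙 X) M U m) = m := by
  have h1 := Scheme.Modules.conjugateEquiv_pullbackId_hom X
  have h2 := congrArg (fun α => ((α.app M).app U) m) h1
  simp only [conjugateEquiv_apply_app] at h2
  exact h2

theorem pullbackId_inv_app (U : X.Opens) (m : Γ(M, U)) :
    ((Scheme.Modules.pullbackId X).inv.app M).app U m = OmegaSh.pullSect (𝟙 X) M U m := by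
  have h1 := pullbackId_hom_pullSect M U m
  have h2 : ((Scheme.Modules.pullbackId X).hom.app M).app U
      (((Scheme.Modules.pullbackId X).inv.app M).app U m) = m := by
    have := congrArg (fun α => Scheme.Modules.Hom.app α U m)
      ((Scheme.Modules.pullbackId X).inv_hom_id_app M)
    exact this
  have hinj : Function.Injective (((Scheme.Modules.pullbackId X).hom.app M).app U) :=
    injective_of_mono _ inferInstance U
  exact hinj (h2.trans h1.symm)

end PullbackId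

section Cls

open Groth.Agent.Lib.Helper17.ModPullback Groth.Agent.Lib.Helper17.CohKer
  Groth.Agent.Lib.Helper17.Serre

variable {Z X : Scheme.{u}} (i : Z ⟶ X) [IsImmersion i] [QuasiCompact i]
  {W : X.Opens} (hW : IsAffineOpen W) (hc : W ≤ i.coborderRange)

omit [IsImmersion i] [QuasiCompact i] in
theorem conormalSect_eq_c₃ (s : Γ(ClSub.idealMod i.ker, W)) :
    OmegaSh.conormalSect i W s = c₃ (i := i) (W := W) s := by
  unfold c₃
  rw [res_self]
  rfl

include hW hc in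
theorem isBC_conormalSect :
    IsBC (i.app W).hom (fun s : Γ(ClSub.idealMod i.ker, W) => (OmegaSh.conormalSect i W s :
      Γ(Omega.conormal i, i ⁻¹ᵁ W))) := by
  obtain ⟨hU, -⟩ := affine_surjective_of_le_coborder i hW hc
  have h₃ : IsBC (i.appLE W (i ⁻¹ᵁ W) le_rfl).hom (c₃ (i := i) (W := W)) :=
    isBC_pullback i hW hU le_rfl (ClSub.idealMod i.ker)
  have e1 : (fun s : Γ(ClSub.idealMod i.ker, W) => (OmegaSh.conormalSect i W s :
      Γ(Omega.conormal i, i ⁻¹ᵁ W))) = c₃ (i := i) (W := W) := funext (conormalSect_eq_c₃ i)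
  rw [e1, Scheme.Hom.app_eq_appLE]
  exact h₃

include hW hc in
theorem conormalSect_surjective (x : Γ(Omega.conormal i, i ⁻¹ᵁ W)) :
    ∃ s : Γ(ClSub.idealMod i.ker, W), OmegaSh.conormalSect i W s = x := by
  obtain ⟨-, hs⟩ := affine_surjective_of_le_coborder i hW hc
  exact surjective_of_isBC_of_surjective (i.app W).hom hs _ (isBC_conormalSect i hW hc) x

include hW hc in
theorem conormalSect_eq_zero_iff (s : Γ(ClSub.idealMod i.ker, W)) :
    OmegaSh.conormalSect i W s = 0 ↔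
      OmegaSh.idealSect i.ker W s ∈ (i.ker.ideal ⟨W, hW⟩) * (i.ker.ideal ⟨W, hW⟩) := by
  obtain ⟨-, hs⟩ := affine_surjective_of_le_coborder i hW hc
  have h1 := eq_zero_iff_of_isBC_of_surjective (i.app W).hom hs _ (isBC_conormalSect i hW hc) s
  refine h1.trans ?_
  have hker : RingHom.ker (i.app W).hom = i.ker.ideal ⟨W, hW⟩ := (Scheme.Hom.ker_apply i ⟨W, hW⟩).symm
  rw [hker]
  set I := i.ker.ideal ⟨W, hW⟩ with hI
  have hrange : (LinearMap.range (idealιLin i.ker W) : Ideal Γ(X, W)) = I := range_idealιLin i.ker hW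
  have hmap : (I • (⊤ : Submodule Γ(X, W) Γ(ClSub.idealMod i.ker, W))).map (idealιLin i.ker W) = I * I := by
    rw [Submodule.map_smul'', Submodule.map_top, hrange]
    rfl
  rw [← hmap]
  constructor
  · intro h
    exact ⟨s, h, rfl⟩
  · rintro ⟨t, ht, hts⟩
    have : t = s := idealιLin_injective i.ker W hts
    rwa [this] at ht

end Cls

section MapApp

variable {Z X Z' X' : Scheme.{u}} (i : Z ⟶ X) (i' : Z' ⟶ X') (g : X ⟶ X') (gZ : Z ⟶ Z')
  [QuasiCompact i]

/-- the value of a conormal map on a pulled back class. -/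
theorem isConormalMap_app (φ : (Scheme.Modules.pullback gZ).obj (Omega.conormal i') ⟶ Omega.conormal i)
    (hφ : OmegaSh.IsConormalMap i i' g gZ φ) (hsq : gZ ≫ i' = i ≫ g)
    (U' : X'.Opens) (s' : Γ(ClSub.idealMod i'.ker, U')) :
    φ.app (gZ ⁻¹ᵁ (i' ⁻¹ᵁ U'))
        (OmegaSh.pullSect gZ (Omega.conormal i') (i' ⁻¹ᵁ U') (OmegaSh.conormalSect i' U' s')) =
      (Omega.conormal i).presheaf.map (eqToHom (preimage_eq i i' g gZ hsq U')).op
        (OmegaSh.conormalSect i (g ⁻¹ᵁ U') (pushSect i i' g gZ hsq U' s')) := by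
  rw [conormalMap_unique i i' g gZ hsq φ hφ]
  exact conormalMap_pullSect i i' g gZ hsq U' s'

end MapApp

section MapAppId

variable {Z X X' : Scheme.{u}} (i : Z ⟶ X) (i' : Z ⟶ X') (g : X ⟶ X') [QuasiCompact i]

/-- the value of a conormal map over the identity, precomposed with `pullbackId`, on a class. -/
theorem isConormalMap_id_app (φ : (Scheme.Modules.pullback (𝟙 Z)).obj (Omega.conormal i') ⟶ Omega.conormal i)
    (hφ : OmegaSh.IsConormalMap i i' g (𝟙 Z) φ) (hsq : 𝟙 Z ≫ i' = i ≫ g)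
    (U' : X'.Opens) (s' : Γ(ClSub.idealMod i'.ker, U')) :
    ((Scheme.Modules.pullbackId Z).inv.app (Omega.conormal i') ≫ φ).app (i' ⁻¹ᵁ U')
        (OmegaSh.conormalSect i' U' s') =
      (Omega.conormal i).presheaf.map (eqToHom (preimage_eq i i' g (𝟙 Z) hsq U')).op
        (OmegaSh.conormalSect i (g ⁻¹ᵁ U') (pushSect i i' g (𝟙 Z) hsq U' s')) := by
  have h1 := isConormalMap_app i i' g (𝟙 Z) φ hφ hsq U' s'
  rw [← h1, ← pullbackId_inv_app]
  rfl

end MapAppId

section HomExt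

variable {Z Z' X' : Scheme.{u}} (i' : Z' ⟶ X') (gZ : Z ⟶ Z') {N : Z.Modules}

/-- maps out of a pulled back conormal sheaf are determined by the pulled back classes. -/
theorem conormal_pullback_hom_ext (α β : (Scheme.Modules.pullback gZ).obj (Omega.conormal i') ⟶ N)
    (H : ∀ (U' : X'.Opens) (s' : Γ(ClSub.idealMod i'.ker, U')),
      α.app (gZ ⁻¹ᵁ (i' ⁻¹ᵁ U'))
        (OmegaSh.pullSect gZ (Omega.conormal i') (i' ⁻¹ᵁ U') (OmegaSh.conormalSect i' U' s')) =
      β.app (gZ ⁻¹ᵁ (i' ⁻¹ᵁ U'))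
        (OmegaSh.pullSect gZ (Omega.conormal i') (i' ⁻¹ᵁ U') (OmegaSh.conormalSect i' U' s'))) :
    α = β := by
  apply ((Scheme.Modules.pullbackPushforwardAdjunction gZ).homEquiv _ _).injective
  refine pullback_hom_ext i' (M := ClSub.idealMod i'.ker) _ _ ?_
  intro U' s'
  have e1 := homEquiv_app gZ (M := Omega.conormal i') α (i' ⁻¹ᵁ U') (OmegaSh.conormalSect i' U' s')
  have e2 := homEquiv_app gZ (M := Omega.conormal i') β (i' ⁻¹ᵁ U') (OmegaSh.conormalSect i' U' s')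
  exact e1.trans ((H U' s').trans e2.symm)

end HomExt

section Res

variable {T : Scheme.{u}} (N : T.Modules)

theorem map_eqToHom_eq_res {A B : T.Opens} (h : B = A) (x : Γ(N, A)) :
    N.presheaf.map (eqToHom h).op x = res N h.le x := by
  subst h
  rw [res_self]
  exact congr($(N.presheaf.map_id _) x)

theorem res_injective_of_eq {A B : T.Opens} (h : B = A) :
    Function.Injective (res N h.le : Γ(N, A) → Γ(N, B)) := by
  subst h
  intro x y hxy
  rwa [res_self, res_self] at hxy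

theorem res_res' {A B C : T.Opens} (h₁ : B ≤ A) (h₂ : C ≤ B) (x : Γ(N, A)) :
    res N h₂ (res N h₁ x) = res N (h₂.trans h₁) x :=
  map_map_eq N _ _ _ x

end Res

section ChartComp

variable {Y' Y X : Scheme.{u}} (f : Y ⟶ X) [IsImmersion f] (j : Y' ⟶ Y) [IsImmersion j]

theorem exists_chart_comp (O : Y'.Opens) (z : Y') (hz : z ∈ O) :
    ∃ W : X.Opens, IsAffineOpen W ∧ W ≤ (j ≫ f).coborderRange ∧ W ≤ f.coborderRange ∧
      f ⁻¹ᵁ W ≤ j.coborderRange ∧ z ∈ j ⁻¹ᵁ (f ⁻¹ᵁ W) ∧ j ⁻¹ᵁ (f ⁻¹ᵁ W) ≤ O := by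
  obtain ⟨O₁, hO₁, hO₁eq⟩ := ((j ≫ f).isEmbedding.isInducing.isOpen_iff).1 O.isOpen
  obtain ⟨O₂, hO₂, hO₂eq⟩ := (f.isEmbedding.isInducing.isOpen_iff).1 j.coborderRange.isOpen
  have hcomp : ∀ y : Y', (j ≫ f) y = f (j y) := fun y => Scheme.Hom.comp_apply j f y
  have h1 : f (j z) ∈ (⟨O₁, hO₁⟩ : X.Opens) := by
    have : z ∈ ((j ≫ f) ⁻¹' O₁ : Set Y') := by rw [hO₁eq]; exact hz
    have h2 : (j ≫ f) z ∈ O₁ := this
    rwa [hcomp] at h2
  have h2 : f (j z) ∈ (⟨O₂, hO₂⟩ : X.Opens) := by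
    have : j z ∈ (f ⁻¹' O₂ : Set Y) := by
      rw [hO₂eq]
      exact subset_coborder ⟨z, rfl⟩
    exact this
  have h3 : f (j z) ∈ (j ≫ f).coborderRange := by
    rw [← hcomp]
    exact subset_coborder ⟨z, rfl⟩
  have h4 : f (j z) ∈ f.coborderRange := subset_coborder ⟨j z, rfl⟩
  obtain ⟨W, hW, hzW, hWle⟩ := TopologicalSpace.Opens.isBasis_iff_nbhd.mp X.isBasis_affineOpens
    (show f (j z) ∈ ((⟨O₁, hO₁⟩ : X.Opens) ⊓ ⟨O₂, hO₂⟩) ⊓ ((j ≫ f).coborderRange ⊓ f.coborderRange) from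
      ⟨⟨h1, h2⟩, ⟨h3, h4⟩⟩)
  refine ⟨W, hW, hWle.trans (inf_le_right.trans inf_le_left), hWle.trans (inf_le_right.trans inf_le_right),
    ?_, hzW, ?_⟩
  · intro y hy
    have h5 : f y ∈ O₂ := (hWle hy).1.2
    have : y ∈ (f ⁻¹' O₂ : Set Y) := h5
    rw [hO₂eq] at this
    exact this
  · intro y hy
    have h5 : f (j y) ∈ O₁ := (hWle hy).1.1
    have : y ∈ ((j ≫ f) ⁻¹' O₁ : Set Y') := by
      change (j ≫ f) y ∈ O₁
      rw [hcomp]; exact h5
    rw [hO₁eq] at this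
    exact this

end ChartComp

section TMap

variable {Z X Z' X' : Scheme.{u}} {i : Z ⟶ X} {i' : Z' ⟶ X'} {g : X ⟶ X'} {gZ : Z ⟶ Z'}
  (hsq : gZ ≫ i' = i ≫ g) {W' : X'.Opens} {W : X.Opens} (e : W ≤ g ⁻¹ᵁ W')

include hsq e in
theorem preimage_le' : i ⁻¹ᵁ W ≤ gZ ⁻¹ᵁ (i' ⁻¹ᵁ W') := by
  rw [preimage_eq i i' g gZ hsq W']
  exact i.preimage_mono e

variable [QuasiCompact i]

/-- `g♯` on sections of the ideals, from `W'` to `W ≤ g⁻¹ W'` (commutative square version). -/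
noncomputable def tmap' (s' : Γ(ClSub.idealMod i'.ker, W')) : Γ(ClSub.idealMod i.ker, W) :=
  res (ClSub.idealMod i.ker) e (pushSect i i' g gZ hsq W' s')

theorem idealSect_tmap' (s' : Γ(ClSub.idealMod i'.ker, W')) :
    OmegaSh.idealSect i.ker W (tmap' hsq e s') = g.appLE W' W e (OmegaSh.idealSect i'.ker W' s') := by
  unfold tmap'
  rw [idealSect_res, idealSect_pushSect]
  rfl

theorem isConormalMap_app_chart
    (φ : (Scheme.Modules.pullback gZ).obj (Omega.conormal i') ⟶ Omega.conormal i)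
    (hφ : OmegaSh.IsConormalMap i i' g gZ φ) (s' : Γ(ClSub.idealMod i'.ker, W')) :
    φ.app (i ⁻¹ᵁ W) (res ((Scheme.Modules.pullback gZ).obj (Omega.conormal i')) (preimage_le' hsq e)
        (OmegaSh.pullSect gZ (Omega.conormal i') (i' ⁻¹ᵁ W') (OmegaSh.conormalSect i' W' s'))) =
      OmegaSh.conormalSect i W (tmap' hsq e s') := by
  rw [app_res, isConormalMap_app i i' g gZ φ hφ hsq W' s', map_eqToHom_eq_res, res_res]
  unfold tmap'
  have h3 := pbs_res i (ClSub.idealMod i.ker) e (pushSect i i' g gZ hsq W' s')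
  exact h3.symm

end TMap

section ChartOver

variable {Z X Y : Scheme.{u}} (p : X ⟶ Y) (i : Z ⟶ X) (j : Z ⟶ Y) [IsImmersion i] [IsImmersion j]
  (hij : i ≫ p = j)

include hij in
theorem exists_chart_over (O : Z.Opens) (z : Z) (hz : z ∈ O) :
    ∃ (WY : Y.Opens) (WX : X.Opens), IsAffineOpen WY ∧ IsAffineOpen WX ∧ WX ≤ p ⁻¹ᵁ WY ∧
      WX ≤ i.coborderRange ∧ WY ≤ j.coborderRange ∧ i ⁻¹ᵁ WX = j ⁻¹ᵁ WY ∧ z ∈ i ⁻¹ᵁ WX ∧
      i ⁻¹ᵁ WX ≤ O := by
  have hpt : ∀ y : Z, p (i y) = j y := fun y => by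
    rw [← Scheme.Hom.comp_apply, hij]
  obtain ⟨O₁, hO₁, hO₁eq⟩ := (j.isEmbedding.isInducing.isOpen_iff).1 O.isOpen
  have hjz : j z ∈ j.coborderRange ⊓ (⟨O₁, hO₁⟩ : Y.Opens) := by
    refine ⟨subset_coborder ⟨z, rfl⟩, ?_⟩
    have : z ∈ (j ⁻¹' O₁ : Set Z) := by rw [hO₁eq]; exact hz
    exact this
  obtain ⟨WY₀, hWY₀, hzWY₀, hWY₀le⟩ :=
    TopologicalSpace.Opens.isBasis_iff_nbhd.mp Y.isBasis_affineOpens hjz
  have hiz : i z ∈ p ⁻¹ᵁ WY₀ ⊓ i.coborderRange := by
    refine ⟨?_, subset_coborder ⟨z, rfl⟩⟩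
    change p (i z) ∈ WY₀
    rw [hpt]; exact hzWY₀
  obtain ⟨WX₀, hWX₀, hzWX₀, hWX₀le⟩ :=
    TopologicalSpace.Opens.isBasis_iff_nbhd.mp X.isBasis_affineOpens hiz
  have hWX₀Y : WX₀ ≤ p ⁻¹ᵁ WY₀ := hWX₀le.trans inf_le_left
  obtain ⟨O₂, hO₂, hO₂eq⟩ := (j.isEmbedding.isInducing.isOpen_iff).1 (i ⁻¹ᵁ WX₀).isOpen
  have hjz₂ : j z ∈ (⟨O₂, hO₂⟩ : Y.Opens) := by
    have : z ∈ (j ⁻¹' O₂ : Set Z) := by rw [hO₂eq]; exact hzWX₀
    exact this
  obtain ⟨a, ha1, ha2⟩ := hWY₀.exists_basicOpen_le (V := (⟨O₂, hO₂⟩ : Y.Opens)) ⟨j z, hjz₂⟩ hzWY₀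
  have hbY : Y.basicOpen a ≤ WY₀ := Y.basicOpen_le a
  have hWXeq := Scheme.basicOpen_appLE p WX₀ WY₀ hWX₀Y a
  refine ⟨Y.basicOpen a, X.basicOpen (p.appLE WY₀ WX₀ hWX₀Y a), hWY₀.basicOpen a, hWX₀.basicOpen _,
    ?_, ?_, ?_, ?_, ?_, ?_⟩
  · rw [hWXeq]; exact inf_le_right
  · rw [hWXeq]; exact inf_le_left.trans (hWX₀le.trans inf_le_right)
  · exact hbY.trans (hWY₀le.trans inf_le_left)
  · rw [hWXeq]
    ext y
    constructor
    · rintro ⟨-, h2⟩
      have : p (i y) ∈ Y.basicOpen a := h2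
      rwa [hpt] at this
    · intro hy
      have hy' : j y ∈ Y.basicOpen a := hy
      refine ⟨?_, ?_⟩
      · have h3 : j y ∈ O₂ := ha1 hy'
        have : y ∈ (j ⁻¹' O₂ : Set Z) := h3
        rw [hO₂eq] at this
        exact this
      · change p (i y) ∈ Y.basicOpen a
        rw [hpt]; exact hy'
  · rw [hWXeq]
    refine ⟨hzWX₀, ?_⟩
    change p (i z) ∈ Y.basicOpen a
    rw [hpt]; exact ha2
  · rw [hWXeq]
    intro y hy
    have h2 : p (i y) ∈ Y.basicOpen a := hy.2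
    rw [hpt] at h2
    have h3 : j y ∈ O₁ := (hWY₀le (hbY h2)).2
    have : y ∈ (j ⁻¹' O₁ : Set Z) := h3
    rw [hO₁eq] at this
    exact this

end ChartOver

end Groth.Agent.Lib.Helper29.ConormalChart
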