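import Groth.Agent.Lib.Helper29.OmegaCan

set_option autoImplicit false
universe u
open CategoryTheory CategoryTheory.Limits AlgebraicGeometry TensorProduct Opposite

namespace Groth.Agent.Lib.Helper29.ConormalMap

open Groth.Agent.Lib.Helper28.QCohLoc

section Transpose

variable {X Y : Scheme.{u}} (h : X ⟶ Y) {M : Y.Modules} {N : X.Modules}

/-- the transpose of a map `M ⟶ h_* N`. -/
noncomputable def transp (ψ : M ⟶ (Scheme.Modules.pushforward h).obj N) :
    (Scheme.Modules.pullback h).obj M ⟶ N :=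
  ((Scheme.Modules.pullbackPushforwardAdjunction h).homEquiv M N).symm ψ

theorem homEquiv_app (α : (Scheme.Modules.pullback h).obj M ⟶ N) (U : Y.Opens) (m : Γ(M, U)) :
    (((Scheme.Modules.pullbackPushforwardAdjunction h).homEquiv M N) α).app U m =
      α.app (h ⁻¹ᵁ U) (OmegaSh.pullSect h M U m) := by
  rw [Adjunction.homEquiv_unit]
  rfl

theorem transp_pullSect (ψ : M ⟶ (Scheme.Modules.pushforward h).obj N) (U : Y.Opens) (m : Γ(M, U)) :
    (transp h ψ).app (h ⁻¹ᵁ U) (OmegaSh.pullSect h M U m) = ψ.app U m := by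
  rw [← homEquiv_app]
  unfold transp
  rw [Equiv.apply_symm_apply]

theorem pullback_hom_ext (α β : (Scheme.Modules.pullback h).obj M ⟶ N)
    (H : ∀ (U : Y.Opens) (m : Γ(M, U)),
      α.app (h ⁻¹ᵁ U) (OmegaSh.pullSect h M U m) = β.app (h ⁻¹ᵁ U) (OmegaSh.pullSect h M U m)) :
    α = β := by
  apply ((Scheme.Modules.pullbackPushforwardAdjunction h).homEquiv M N).injective
  apply Scheme.Modules.hom_ext
  intro U
  ext m
  rw [homEquiv_app, homEquiv_app]
  exact H U m

end Transpose

section Kernel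

variable {X Y : Scheme.{u}} (f : X ⟶ Y)

/-- a function killed by the closed subscheme defined by `ker f` is killed by `f`. -/
theorem app_eq_zero_of_subschemeι (U : Y.Opens) (x : Γ(Y, U))
    (hx : f.ker.subschemeι.app U x = 0) : f.app U x = 0 := by
  have h1 := Scheme.Hom.congr_app f.toImage_imageι.symm U
  rw [Scheme.Hom.comp_app] at h1
  rw [h1]
  change X.presheaf.map _ (f.toImage.app _ (f.ker.subschemeι.app U x)) = 0
  rw [hx, map_zero, map_zero]

/-- for quasi-compact `f`, a function killed by `f` is killed by the closed subscheme defined by `ker f`. -/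
theorem subschemeι_app_eq_zero [QuasiCompact f] (W : Y.Opens) (x : Γ(Y, W)) (hx : f.app W x = 0) :
    f.ker.subschemeι.app W x = 0 := by
  let ι := f.ker.subschemeι
  refine f.ker.subscheme.sheaf.eq_of_locally_eq'
    (fun V : {V : Y.affineOpens // (V : Y.Opens) ≤ W} => ι ⁻¹ᵁ (V.1 : Y.Opens))
    (ι ⁻¹ᵁ W) (fun V => (TopologicalSpace.Opens.map ι.base).map (homOfLE V.2)) ?_ _ _ ?_
  · intro z hz
    obtain ⟨_, ⟨V, hV, rfl⟩, hzV, hVW⟩ := Y.isBasis_affineOpens.exists_subset_of_mem_open hz W.isOpen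
    exact TopologicalSpace.Opens.mem_iSup.mpr ⟨⟨⟨V, hV⟩, hVW⟩, hzV⟩
  · intro V
    change f.ker.subscheme.presheaf.map ((TopologicalSpace.Opens.map ι.base).map (homOfLE V.2)).op
        (ι.app W x) =
      f.ker.subscheme.presheaf.map ((TopologicalSpace.Opens.map ι.base).map (homOfLE V.2)).op 0
    rw [map_zero, ← ConcreteCategory.comp_apply]
    erw [← Scheme.Hom.naturality ι (homOfLE V.2).op]
    rw [ConcreteCategory.comp_apply]
    have hmem : Y.presheaf.map (homOfLE V.2).op x ∈ f.ker.ideal V.1 := by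
      rw [Scheme.Hom.ker_apply, RingHom.mem_ker]
      have h2 := congr($(f.naturality (homOfLE V.2).op) x)
      rw [ConcreteCategory.comp_apply, ConcreteCategory.comp_apply, hx, map_zero] at h2
      exact h2
    rw [← Scheme.IdealSheafData.ker_subschemeι_app, RingHom.mem_ker] at hmem
    exact hmem

end Kernel

section IdealSections

variable {P : Scheme.{u}} (K : P.IdealSheafData)

theorem idealSect_injective (W : P.Opens) : Function.Injective (OmegaSh.idealSect K W) := by
  intro a b hab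
  exact OmegaSh.idealModι_app_injective W K hab

theorem subschemeι_app_idealSect (W : P.Opens) (s : Γ(ClSub.idealMod K, W)) :
    K.subschemeι.app W (OmegaSh.idealSect K W s) = 0 := by
  exact Groth.Agent.Lib.Helper17.CohKer.app_kernel_ι_app (ClSub.toSubscheme K) W s

theorem idealSect_smul (W : P.Opens) (r : Γ(P, W)) (s : Γ(ClSub.idealMod K, W)) :
    OmegaSh.idealSect K W (r • s) = r * OmegaSh.idealSect K W s := by
  change OmegaSh.fnSect P W ((ClSub.idealModι K).app W (r • s)) = _
  rw [Scheme.Modules.Hom.app_smul]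
  rfl

theorem idealSect_res {W W' : P.Opens} (h : W' ≤ W) (s : Γ(ClSub.idealMod K, W)) :
    OmegaSh.idealSect K W' (res (ClSub.idealMod K) h s) = resO h (OmegaSh.idealSect K W s) := by
  change OmegaSh.fnSect P W' ((ClSub.idealModι K).app W' _) = _
  rw [OmegaSh.idealModι_app_map]
  rfl

/-- a function killed by the closed subscheme lifts to a section of the ideal module. -/
noncomputable def idealLiftOf (W : P.Opens) (x : Γ(P, W)) (hx : K.subschemeι.app W x = 0) :
    Γ(ClSub.idealMod K, W) :=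
  OmegaSh.kerLift (ClSub.toSubscheme K) W (OmegaSh.strSect P W x) hx

theorem idealSect_idealLiftOf (W : P.Opens) (x : Γ(P, W)) (hx : K.subschemeι.app W x = 0) :
    OmegaSh.idealSect K W (idealLiftOf K W x hx) = x := by
  change OmegaSh.fnSect P W ((ClSub.idealModι K).app W (idealLiftOf K W x hx)) = x
  unfold idealLiftOf
  erw [OmegaSh.ι_kerLift]
  rfl

end IdealSections

section Push

variable {Z X Z' X' : Scheme.{u}} (i : Z ⟶ X) (i' : Z' ⟶ X') (g : X ⟶ X') (gZ : Z ⟶ Z')
  (hsq : gZ ≫ i' = i ≫ g)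

include hsq in
theorem app_app_eq_zero (U' : X'.Opens) (y : Γ(X', U')) (hy : i'.app U' y = 0) :
    i.app (g ⁻¹ᵁ U') (g.app U' y) = 0 := by
  have h1 := Scheme.Hom.congr_app hsq.symm U'
  rw [Scheme.Hom.comp_app, Scheme.Hom.comp_app] at h1
  have h2 := congr($h1 y)
  rw [ConcreteCategory.comp_apply] at h2
  rw [h2]
  change Z.presheaf.map _ (gZ.app (i' ⁻¹ᵁ U') (i'.app U' y)) = 0
  rw [hy, map_zero, map_zero]

variable [QuasiCompact i]

include hsq in
theorem subschemeι_app_push (U' : X'.Opens) (s' : Γ(ClSub.idealMod i'.ker, U')) :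
    i.ker.subschemeι.app (g ⁻¹ᵁ U') (g.app U' (OmegaSh.idealSect i'.ker U' s')) = 0 :=
  subschemeι_app_eq_zero i _ _ (app_app_eq_zero i i' g gZ hsq U' _
    (app_eq_zero_of_subschemeι i' U' _ (subschemeι_app_idealSect i'.ker U' s')))

/-- `g♯` on sections of the ideals. -/
noncomputable def pushSect (U' : X'.Opens) (s' : Γ(ClSub.idealMod i'.ker, U')) :
    Γ(ClSub.idealMod i.ker, g ⁻¹ᵁ U') :=
  idealLiftOf i.ker (g ⁻¹ᵁ U') (g.app U' (OmegaSh.idealSect i'.ker U' s'))
    (subschemeι_app_push i i' g gZ hsq U' s')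

theorem idealSect_pushSect (U' : X'.Opens) (s' : Γ(ClSub.idealMod i'.ker, U')) :
    OmegaSh.idealSect i.ker (g ⁻¹ᵁ U') (pushSect i i' g gZ hsq U' s') =
      g.app U' (OmegaSh.idealSect i'.ker U' s') :=
  idealSect_idealLiftOf _ _ _ _

theorem pushSect_add (U' : X'.Opens) (a b : Γ(ClSub.idealMod i'.ker, U')) :
    pushSect i i' g gZ hsq U' (a + b) = pushSect i i' g gZ hsq U' a + pushSect i i' g gZ hsq U' b := by
  apply idealSect_injective
  rw [map_add, idealSect_pushSect, idealSect_pushSect, idealSect_pushSect, map_add, map_add]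

theorem pushSect_smul (U' : X'.Opens) (r : Γ(X', U')) (a : Γ(ClSub.idealMod i'.ker, U')) :
    pushSect i i' g gZ hsq U' (r • a) = g.app U' r • pushSect i i' g gZ hsq U' a := by
  apply idealSect_injective
  rw [idealSect_smul, idealSect_pushSect, idealSect_pushSect, idealSect_smul, map_mul]

theorem pushSect_res {U' V' : X'.Opens} (h : V' ≤ U') (a : Γ(ClSub.idealMod i'.ker, U')) :
    pushSect i i' g gZ hsq V' (res (ClSub.idealMod i'.ker) h a) =
      res (ClSub.idealMod i.ker) (g.preimage_mono h) (pushSect i i' g gZ hsq U' a) := by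
  apply idealSect_injective
  rw [idealSect_pushSect, idealSect_res, idealSect_res, idealSect_pushSect]
  exact congr($(g.naturality (homOfLE h).op) (OmegaSh.idealSect i'.ker U' a))

/-- `g♯ : I_{i'} ⟶ g_* I_i` as a morphism of modules. -/
noncomputable def idealPush :
    ClSub.idealMod i'.ker ⟶ (Scheme.Modules.pushforward g).obj (ClSub.idealMod i.ker) :=
  ⟨PresheafOfModules.homMk
    { app := fun U => AddCommGrpCat.ofHom
        (AddMonoidHom.mk' (pushSect i i' g gZ hsq U.unop) (pushSect_add i i' g gZ hsq U.unop))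
      naturality := fun U V j => by
        ext a
        exact pushSect_res i i' g gZ hsq j.unop.le a }
    (fun U r a => pushSect_smul i i' g gZ hsq U.unop r a)⟩

theorem idealPush_app (U' : X'.Opens) (s' : Γ(ClSub.idealMod i'.ker, U')) :
    (idealPush i i' g gZ hsq).app U' s' = pushSect i i' g gZ hsq U' s' := rfl

end Push

section Map

variable {Z X Z' X' : Scheme.{u}} (i : Z ⟶ X) (i' : Z' ⟶ X') (g : X ⟶ X') (gZ : Z ⟶ Z')
  (hsq : gZ ≫ i' = i ≫ g)

include hsq in
theorem preimage_eq (U' : X'.Opens) : gZ ⁻¹ᵁ (i' ⁻¹ᵁ U') = i ⁻¹ᵁ (g ⁻¹ᵁ U') := by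
  rw [← Scheme.Hom.comp_preimage, ← Scheme.Hom.comp_preimage, hsq]

/-- `g_* i_* N ≅ i'_* gZ_* N`, the identity on sections up to the equality of opens. -/
noncomputable def pushTransport (N : Z.Modules) :
    (Scheme.Modules.pushforward g).obj ((Scheme.Modules.pushforward i).obj N) ⟶
      (Scheme.Modules.pushforward i').obj ((Scheme.Modules.pushforward gZ).obj N) :=
  (Scheme.Modules.pushforwardComp i g).hom.app N ≫
    (Scheme.Modules.pushforwardCongr hsq.symm).hom.app N ≫
      (Scheme.Modules.pushforwardComp gZ i').inv.app N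

theorem pushTransport_app (N : Z.Modules) (U' : X'.Opens) (x : Γ(N, i ⁻¹ᵁ (g ⁻¹ᵁ U'))) :
    (pushTransport i i' g gZ hsq N).app U' x =
      N.presheaf.map (eqToHom (preimage_eq i i' g gZ hsq U')).op x := by
  rfl

end Map

section ConormalMap

variable {Z X Z' X' : Scheme.{u}} (i : Z ⟶ X) (i' : Z' ⟶ X') (g : X ⟶ X') (gZ : Z ⟶ Z')
  (hsq : gZ ≫ i' = i ≫ g) [QuasiCompact i]

/-- `I_{i'} ⟶ i'_* gZ_* C_i`, `s' ↦ class of g♯ s'`. -/
noncomputable def conormalPre :
    ClSub.idealMod i'.ker ⟶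
      (Scheme.Modules.pushforward i').obj ((Scheme.Modules.pushforward gZ).obj (Omega.conormal i)) :=
  idealPush i i' g gZ hsq ≫
    (Scheme.Modules.pushforward g).map
      ((Scheme.Modules.pullbackPushforwardAdjunction i).unit.app (ClSub.idealMod i.ker)) ≫
    pushTransport i i' g gZ hsq (Omega.conormal i)

theorem conormalPre_app (U' : X'.Opens) (s' : Γ(ClSub.idealMod i'.ker, U')) :
    (conormalPre i i' g gZ hsq).app U' s' =
      (Omega.conormal i).presheaf.map (eqToHom (preimage_eq i i' g gZ hsq U')).op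
        (OmegaSh.conormalSect i (g ⁻¹ᵁ U') (pushSect i i' g gZ hsq U' s')) := by
  rfl

/-- **the canonical map of conormal sheaves** `gZ^* C_{Z'/X'} ⟶ C_{Z/X}`. -/
noncomputable def conormalMap :
    (Scheme.Modules.pullback gZ).obj (Omega.conormal i') ⟶ Omega.conormal i :=
  transp gZ (transp i' (conormalPre i i' g gZ hsq))

theorem conormalMap_pullSect (U' : X'.Opens) (s' : Γ(ClSub.idealMod i'.ker, U')) :
    (conormalMap i i' g gZ hsq).app (gZ ⁻¹ᵁ (i' ⁻¹ᵁ U'))
        (OmegaSh.pullSect gZ (Omega.conormal i') (i' ⁻¹ᵁ U') (OmegaSh.conormalSect i' U' s')) =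
      (Omega.conormal i).presheaf.map (eqToHom (preimage_eq i i' g gZ hsq U')).op
        (OmegaSh.conormalSect i (g ⁻¹ᵁ U') (pushSect i i' g gZ hsq U' s')) := by
  unfold conormalMap
  rw [transp_pullSect]
  erw [transp_pullSect]
  exact conormalPre_app i i' g gZ hsq U' s'

end ConormalMap

section IsConormalMap

variable {Z X Z' X' : Scheme.{u}} (i : Z ⟶ X) (i' : Z' ⟶ X') (g : X ⟶ X') (gZ : Z ⟶ Z')
  (hsq : gZ ≫ i' = i ≫ g) [QuasiCompact i]

theorem map_map_eq {T : Scheme.{u}} (N : T.Modules) {A B C : T.Opens} (a : B ⟶ A) (b : C ⟶ B)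
    (c : C ⟶ A) (x : Γ(N, A)) :
    N.presheaf.map b.op (N.presheaf.map a.op x) = N.presheaf.map c.op x := by
  rw [← ConcreteCategory.comp_apply, ← Functor.map_comp]
  congr 2

theorem isConormalMap_conormalMap :
    OmegaSh.IsConormalMap i i' g gZ (conormalMap i i' g gZ hsq) := by
  refine ⟨hsq, ?_⟩
  intro U' s' s hs V h₁ h₂
  have hs' : s = pushSect i i' g gZ hsq U' s' := by
    apply idealSect_injective
    rw [hs, idealSect_pushSect]
  rw [conormalMap_pullSect, hs']
  exact map_map_eq _ _ _ _ _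

theorem conormalMap_unique (φ : (Scheme.Modules.pullback gZ).obj (Omega.conormal i') ⟶ Omega.conormal i)
    (hφ : OmegaSh.IsConormalMap i i' g gZ φ) : φ = conormalMap i i' g gZ hsq := by
  apply ((Scheme.Modules.pullbackPushforwardAdjunction gZ).homEquiv _ _).injective
  refine pullback_hom_ext i' (M := ClSub.idealMod i'.ker) _ _ ?_
  intro U' s'
  have e1 := homEquiv_app gZ (M := Omega.conormal i') φ (i' ⁻¹ᵁ U') (OmegaSh.conormalSect i' U' s')
  have e2 := homEquiv_app gZ (M := Omega.conormal i') (conormalMap i i' g gZ hsq) (i' ⁻¹ᵁ U')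
    (OmegaSh.conormalSect i' U' s')
  refine e1.trans (Eq.trans ?_ e2.symm)
  have h1 := hφ.2 U' s' (pushSect i i' g gZ hsq U' s') (idealSect_pushSect i i' g gZ hsq U' s')
    (gZ ⁻¹ᵁ (i' ⁻¹ᵁ U')) le_rfl (preimage_eq i i' g gZ hsq U').le
  have h2 := conormalMap_pullSect i i' g gZ hsq U' s'
  have h3 : ∀ y : Γ(Omega.conormal i, gZ ⁻¹ᵁ (i' ⁻¹ᵁ U')),
      (Omega.conormal i).presheaf.map (homOfLE (le_refl (gZ ⁻¹ᵁ (i' ⁻¹ᵁ U')))).op y = y := by
    intro y
    exact res_self (Omega.conormal i) y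
  rw [h3] at h1
  exact h1.trans h2.symm

end IsConormalMap

end Groth.Agent.Lib.Helper29.ConormalMap
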