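import Groth.Agent.Lib.Helper29.OmegaLoc
import Groth.Agent.Lib.Helper17.FinTypeConv

set_option autoImplicit false
universe u
open CategoryTheory CategoryTheory.Limits AlgebraicGeometry TensorProduct Opposite

namespace Groth.Agent.Lib.Helper29.OmegaLoc

variable {X S : Scheme.{u}} (f : X ⟶ S)
  {U : X.Opens} (hU : IsAffineOpen U) {V : S.Opens} (hV : IsAffineOpen V) (e : U ≤ f ⁻¹ᵁ V)

theorem isIso_ι_appLE (U : X.Opens) (h : (⊤ : (U : Scheme.{u}).Opens) ≤ U.ι ⁻¹ᵁ U) :
    IsIso (U.ι.appLE U ⊤ h) := by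
  rw [Scheme.Opens.ι_appLE]
  have h2 : (homOfLE (Set.image_subset_iff.mpr h) : U.ι ''ᵁ ⊤ ⟶ U).op = eqToHom
      (congrArg op U.ι_image_top.symm) := Subsingleton.elim _ _
  rw [h2]
  exact Functor.map_isIso _ _

include hU hV in
/-- formally unramified on an affine open, in terms of the ring map. -/
theorem formallyUnramified_iff :
    FormallyUnramified (U.ι ≫ f) ↔ (f.appLE V U e).hom.FormallyUnramified := by
  have hle : (⊤ : (U : Scheme.{u}).Opens) ≤ U.ι ⁻¹ᵁ U := fun x _ => x.2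
  have hle2 : (⊤ : (U : Scheme.{u}).Opens) ≤ (U.ι ≫ f) ⁻¹ᵁ V := fun x _ => e x.2
  have hcomp : (U.ι ≫ f).appLE V ⊤ hle2 = f.appLE V U e ≫ U.ι.appLE U ⊤ hle :=
    (Scheme.Hom.appLE_comp_appLE U.ι f V U ⊤ e hle).symm
  have hiso := isIso_ι_appLE U hle
  have key : ((U.ι ≫ f).appLE V ⊤ hle2).hom.FormallyUnramified ↔
      (f.appLE V U e).hom.FormallyUnramified := by
    rw [hcomp]
    exact RingHom.FormallyUnramified.respectsIso.cancel_right_isIso _ _
  haveI : IsAffine U := hU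
  constructor
  · intro h
    exact key.1 (h.formallyUnramified_appLE hV (isAffineOpen_top _) hle2)
  · intro h
    rw [HasRingHomProperty.iff_exists_appLE (P := @FormallyUnramified)
      (RingHom.FormallyUnramified.stableUnderComposition.stableUnderCompositionWithLocalizationAway
        RingHom.FormallyUnramified.holdsForLocalizationAway).left]
    intro x
    exact ⟨⟨V, hV⟩, ⟨⊤, isAffineOpen_top _⟩, trivial, hle2, key.2 h⟩

include hU hV in
theorem subsingleton_iff [QuasiSeparated f] :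
    Subsingleton Γ(Omega.sheaf f, U) ↔ (f.appLE V U e).hom.FormallyUnramified := by
  letI := alg f e
  obtain ⟨Φ, -⟩ := exists_sections_equiv f hU hV e
  have h1 : (f.appLE V U e).hom.FormallyUnramified ↔ Algebra.FormallyUnramified Γ(S, V) Γ(X, U) :=
    Iff.rfl
  rw [h1, Algebra.formallyUnramified_iff]
  exact Φ.toEquiv.subsingleton_congr

include hU hV e in
theorem finite_sections [QuasiSeparated f] [LocallyOfFiniteType f] :
    Module.Finite Γ(X, U) Γ(Omega.sheaf f, U) := by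
  letI := alg f e
  obtain ⟨Φ, hΦ⟩ := exists_sections_equiv f hU hV e
  haveI : Algebra.FiniteType Γ(S, V) Γ(X, U) := by
    have := LocallyOfFiniteType.finiteType_appLE f hV hU e
    exact this
  let L : Γ(Omega.sheaf f, U) ≃ₗ[Γ(X, U)] Ω[Γ(X, U)⁄Γ(S, V)] :=
    { Φ with map_smul' := hΦ }
  exact Module.Finite.equiv L.symm

theorem exists_affine_pair (x : X) : ∃ (U : X.Opens) (V : S.Opens), IsAffineOpen U ∧ IsAffineOpen V ∧
    x ∈ U ∧ U ≤ f ⁻¹ᵁ V := by
  obtain ⟨V, hV, hfx, -⟩ := TopologicalSpace.Opens.isBasis_iff_nbhd.mp S.isBasis_affineOpens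
    (TopologicalSpace.Opens.mem_top (f x))
  obtain ⟨U, hU, hx, hUV⟩ := TopologicalSpace.Opens.isBasis_iff_nbhd.mp X.isBasis_affineOpens
    (show x ∈ f ⁻¹ᵁ V from hfx)
  exact ⟨U, V, hU, hV, hx, hUV⟩

instance isFiniteType_omega [QuasiSeparated f] [LocallyOfFiniteType f] :
    SheafOfModules.IsFiniteType.{u} (R := X.ringCatSheaf) (Omega.sheaf f) := by
  let ι : Type u := {p : X.affineOpens × S.affineOpens // p.1.1 ≤ f ⁻¹ᵁ p.2.1}
  refine Groth.Agent.Lib.Helper17.FinTypeConv.isFiniteType_of_finite_sections (Omega.sheaf f)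
    (fun i : ι => i.1.1.1) ?_ (fun i => i.1.1.2) (fun i => finite_sections f i.1.1.2 i.1.2.2 i.2)
  refine TopologicalSpace.IsOpenCover.mk (eq_top_iff.2 ?_)
  intro x _
  obtain ⟨U, V, hU, hV, hx, hUV⟩ := exists_affine_pair f x
  exact TopologicalSpace.Opens.mem_iSup.2 ⟨⟨(⟨U, hU⟩, ⟨V, hV⟩), hUV⟩, hx⟩

end Groth.Agent.Lib.Helper29.OmegaLoc
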