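import Mathlib
import Groth.Agent.Lib.Helper29.ConormalChart
import Groth.Agent.Lib.helper19.RestrUniv

set_option autoImplicit false
universe u
open CategoryTheory CategoryTheory.Limits AlgebraicGeometry TensorProduct Opposite

namespace Groth.Agent.Lib.Helper29.OmegaChart

open Groth.Agent.Lib.Helper28.QCohLoc Groth.Agent.Lib.Helper29.ConormalMap
  Groth.Agent.Lib.Helper29.ConormalAlg Groth.Agent.Lib.Helper17.PullbackBC
  Groth.Agent.Lib.Helper28.PullbackInv Groth.Agent.Lib.Helper29.ConormalBC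
  Groth.Agent.Lib.Helper29.ConormalChart Groth.Agent.Lib.Helper29.OmegaLoc

section Alg

variable {A B : Type u} [CommRing A] [CommRing B] [Algebra A B] (I : Ideal B) (J : Ideal A)

/-- If `A → B/I` is bijective modulo `J` (i.e. `A/J ≅ B/I`), then a `b ∈ I` with
`D b ∈ I Ω_{B/A}` lies in `J B + I²`. -/
theorem mem_of_D_mem (h1 : J.map (algebraMap A B) ≤ I)
    (h2 : ∀ b : B, ∃ a : A, b - algebraMap A B a ∈ I) (h3 : I.comap (algebraMap A B) ≤ J)
    (b : B) (hb : b ∈ I)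
    (hD : KaehlerDifferential.D A B b ∈ I • (⊤ : Submodule B Ω[B⁄A])) :
    b ∈ J.map (algebraMap A B) ⊔ I * I := by
  set K : Ideal B := J.map (algebraMap A B) ⊔ I * I with hK
  have hKI : K ≤ I := sup_le h1 Ideal.mul_le_right
  have hII : I * I ≤ K := le_sup_right
  have hJK : J.map (algebraMap A B) ≤ K := le_sup_left
  choose σ hσ using h2
  -- well-definedness
  have hwd : ∀ (b : B) (a : A), b - algebraMap A B a ∈ I →
      Ideal.Quotient.mk K (b - algebraMap A B (σ b)) = Ideal.Quotient.mk K (b - algebraMap A B a) := by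
    intro b a ha
    rw [Ideal.Quotient.eq]
    have h4 : algebraMap A B (a - σ b) ∈ I := by
      have : algebraMap A B (a - σ b) = (b - algebraMap A B (σ b)) - (b - algebraMap A B a) := by
        rw [map_sub]; ring
      rw [this]
      exact I.sub_mem (hσ b) ha
    have h5 : a - σ b ∈ J := h3 h4
    have h6 : (b - algebraMap A B (σ b)) - (b - algebraMap A B a) = algebraMap A B (a - σ b) := by
      rw [map_sub]; ring
    rw [h6]
    exact hJK (Ideal.mem_map_of_mem _ h5)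
  let δ₀ : B → B ⧸ K := fun b => Ideal.Quotient.mk K (b - algebraMap A B (σ b))
  have hδ₀ : ∀ (b : B) (a : A), b - algebraMap A B a ∈ I →
      δ₀ b = Ideal.Quotient.mk K (b - algebraMap A B a) := hwd
  have hsmul : ∀ (x : B) (y : B), x • (Ideal.Quotient.mk K y) = Ideal.Quotient.mk K (x * y) := by
    intro x y
    rfl
  let δl : B →ₗ[A] B ⧸ K :=
    { toFun := δ₀
      map_add' := fun x y => by
        have h4 : (x + y) - algebraMap A B (σ x + σ y) ∈ I := by
          have : (x + y) - algebraMap A B (σ x + σ y) =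
              (x - algebraMap A B (σ x)) + (y - algebraMap A B (σ y)) := by rw [map_add]; ring
          rw [this]
          exact I.add_mem (hσ x) (hσ y)
        rw [hδ₀ _ _ h4]
        change _ = Ideal.Quotient.mk K _ + Ideal.Quotient.mk K _
        rw [← map_add]
        congr 1
        rw [map_add]; ring
      map_smul' := fun a x => by
        have h5 : a • x - algebraMap A B (a * σ x) = algebraMap A B a * (x - algebraMap A B (σ x)) := by
          rw [Algebra.smul_def, map_mul]; ring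
        have h4 : a • x - algebraMap A B (a * σ x) ∈ I := by
          rw [h5]
          exact I.mul_mem_left _ (hσ x)
        rw [hδ₀ _ _ h4, RingHom.id_apply, h5]
        change _ = a • Ideal.Quotient.mk K _
        rw [Algebra.smul_def, IsScalarTower.algebraMap_apply A B (B ⧸ K), map_mul]
        rfl }
  have hleib : ∀ x y : B, δl (x * y) = x • δl y + y • δl x := by
    intro x y
    have h4 : x * y - algebraMap A B (σ x * σ y) ∈ I := by
      have : x * y - algebraMap A B (σ x * σ y) =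
          x * (y - algebraMap A B (σ y)) + algebraMap A B (σ y) * (x - algebraMap A B (σ x)) := by
        rw [map_mul]; ring
      rw [this]
      exact I.add_mem (I.mul_mem_left _ (hσ y)) (I.mul_mem_left _ (hσ x))
    change δ₀ (x * y) = x • δ₀ y + y • δ₀ x
    rw [hδ₀ _ _ h4]
    change _ = x • Ideal.Quotient.mk K _ + y • Ideal.Quotient.mk K _
    rw [hsmul, hsmul, ← map_add, Ideal.Quotient.eq]
    have : x * y - algebraMap A B (σ x * σ y) -
        (x * (y - algebraMap A B (σ y)) + y * (x - algebraMap A B (σ x))) =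
        - ((x - algebraMap A B (σ x)) * (y - algebraMap A B (σ y))) := by
      rw [map_mul]; ring
    rw [this]
    exact K.neg_mem (hII (Ideal.mul_mem_mul (hσ x) (hσ y)))
  let δ : Derivation A B (B ⧸ K) := Derivation.mk' δl hleib
  let l : Ω[B⁄A] →ₗ[B] B ⧸ K := δ.liftKaehlerDifferential
  have hl : ∀ x : B, l (KaehlerDifferential.D A B x) = δ₀ x := fun x =>
    Derivation.liftKaehlerDifferential_comp_D δ x
  -- the image of `l` lies in `I/K`
  have hrange : ∀ ω : Ω[B⁄A], ∃ y ∈ I, l ω = Ideal.Quotient.mk K y := by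
    intro ω
    have hω : ω ∈ Submodule.span B (Set.range (KaehlerDifferential.D A B)) := by
      rw [KaehlerDifferential.span_range_derivation]; trivial
    refine Submodule.span_induction ?_ ?_ ?_ ?_ hω
    · rintro _ ⟨x, rfl⟩
      exact ⟨_, hσ x, hl x⟩
    · exact ⟨0, I.zero_mem, by rw [map_zero, map_zero]⟩
    · rintro x y _ _ ⟨yx, hyx, hx⟩ ⟨yy, hyy, hy⟩
      exact ⟨yx + yy, I.add_mem hyx hyy, by rw [map_add, hx, hy, map_add]⟩
    · rintro c x _ ⟨yx, hyx, hx⟩
      exact ⟨c * yx, I.mul_mem_left _ hyx, by rw [map_smul, hx, hsmul]⟩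
  -- `l` kills `I Ω`
  have hkill : ∀ ω ∈ I • (⊤ : Submodule B Ω[B⁄A]), l ω = 0 := by
    intro ω hω
    refine Submodule.smul_induction_on hω ?_ ?_
    · intro x hx ω' _
      obtain ⟨y, hy, hly⟩ := hrange ω'
      rw [map_smul, hly, hsmul, Ideal.Quotient.eq_zero_iff_mem]
      exact hII (Ideal.mul_mem_mul hx hy)
    · intro x y hx hy
      rw [map_add, hx, hy, add_zero]
  have h7 := hkill _ hD
  rw [hl] at h7
  have h8 : b - algebraMap A B 0 ∈ I := by rw [map_zero, sub_zero]; exact hb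
  rw [hδ₀ b 0 h8, map_zero, sub_zero, Ideal.Quotient.eq_zero_iff_mem] at h7
  exact h7

end Alg

section Pull

open Groth.Agent.Lib.Helper17.ModPullback Groth.Agent.Lib.Helper17.CohKer
  Groth.Agent.Lib.Helper17.Serre

variable {X S Z : Scheme.{u}} (f : X ⟶ S) {Ω : X.Modules} (d : OmegaSh.Der f Ω)
  (hd : OmegaSh.IsUniversal d) (i : Z ⟶ X)
  {W : X.Opens} (hW : IsAffineOpen W) {V : S.Opens} (hV : IsAffineOpen V) (e : W ≤ f ⁻¹ᵁ V)
  (hU : IsAffineOpen (i ⁻¹ᵁ W))

include hd hW hU in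
theorem isBC_pullSect :
    IsBC (i.app W).hom (fun ω : Γ(Ω, W) => (OmegaSh.pullSect i Ω W ω :
      Γ((Scheme.Modules.pullback i).obj Ω, i ⁻¹ᵁ W))) := by
  haveI : Ω.IsQuasicoherent := Groth.Agent.Lib.Helper19.RestrUniv.isQuasicoherent f d hd
  have h := isBC_pullback i hW hU le_rfl Ω
  have e1 : (fun ω : Γ(Ω, W) => (OmegaSh.pullSect i Ω W ω :
      Γ((Scheme.Modules.pullback i).obj Ω, i ⁻¹ᵁ W))) =
      (fun m => res ((Scheme.Modules.pullback i).obj Ω) (le_refl (i ⁻¹ᵁ W)) (pbs i Ω W m)) := by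
    funext m
    rw [res_self]
    rfl
  rw [e1, Scheme.Hom.app_eq_appLE]
  exact h

include hd hW hV e in
/-- the sections of a receptacle over an affine pair are spanned by the differentials. -/
theorem span_d (ω : Γ(Ω, W)) :
    ω ∈ Submodule.span Γ(X, W) (Set.range (d.app W)) := by
  letI := alg f e
  obtain ⟨Φ, hΦ₁, hΦ₂⟩ := Groth.Agent.Lib.Helper19.RestrUniv.exists_sections_equiv f d hd hW hV e
  have key : ∀ y : Ω[Γ(X, W)⁄Γ(S, V)], Φ.symm y ∈ Submodule.span Γ(X, W) (Set.range (d.app W)) := by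
    intro y
    have hy : y ∈ Submodule.span Γ(X, W) (Set.range (KaehlerDifferential.D Γ(S, V) Γ(X, W))) := by
      rw [KaehlerDifferential.span_range_derivation]; trivial
    refine Submodule.span_induction ?_ ?_ ?_ ?_ hy
    · rintro _ ⟨b, rfl⟩
      rw [← hΦ₂, AddEquiv.symm_apply_apply]
      exact Submodule.subset_span ⟨b, rfl⟩
    · rw [map_zero]; exact zero_mem _
    · intro x y _ _ hx hy
      rw [map_add]; exact add_mem hx hy
    · intro c x _ hx
      have : Φ.symm (c • x) = c • Φ.symm x := by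
        apply Φ.injective
        rw [hΦ₁, AddEquiv.apply_symm_apply, AddEquiv.apply_symm_apply]
      rw [this]
      exact Submodule.smul_mem _ c hx
  have := key (Φ ω)
  rwa [AddEquiv.symm_apply_apply] at this

include hd hW hV hU in
theorem D_mem_of_pullSect_eq_zero (hsurj : Function.Surjective (i.app W)) (b : Γ(X, W))
    (h : OmegaSh.pullSect i Ω W (d.app W b) = 0) :
    letI := alg f e
    KaehlerDifferential.D Γ(S, V) Γ(X, W) b ∈
      RingHom.ker (i.app W).hom • (⊤ : Submodule Γ(X, W) Ω[Γ(X, W)⁄Γ(S, V)]) := by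
  letI := alg f e
  obtain ⟨Φ, hΦ₁, hΦ₂⟩ := Groth.Agent.Lib.Helper19.RestrUniv.exists_sections_equiv f d hd hW hV e
  have h1 := (eq_zero_iff_of_isBC_of_surjective (i.app W).hom hsurj _
    (isBC_pullSect f d hd i hW hU) (d.app W b)).1 h
  rw [← hΦ₂]
  refine Submodule.smul_induction_on h1 ?_ ?_
  · intro r hr n _
    rw [hΦ₁]
    exact Submodule.smul_mem_smul hr trivial
  · intro x y hx hy
    rw [map_add]
    exact add_mem hx hy

end Pull

section Triple

variable {Z X Y : Scheme.{u}} {p : X ⟶ Y} {i : Z ⟶ X} {j : Z ⟶ Y}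
  (hij : i ≫ p = j)
  {WY : Y.Opens} {WX : X.Opens} (hWY : IsAffineOpen WY) (hWX : IsAffineOpen WX) (e : WX ≤ p ⁻¹ᵁ WY)
  (heq : i ⁻¹ᵁ WX = j ⁻¹ᵁ WY)

theorem presheaf_map_map_self {T : Scheme.{u}} {A B : T.Opens} (h₁ : B ≤ A) (h₂ : A ≤ B) (x : Γ(T, A)) :
    T.presheaf.map (homOfLE h₂).op (T.presheaf.map (homOfLE h₁).op x) = x := by
  rw [← ConcreteCategory.comp_apply, ← Functor.map_comp]
  have : (homOfLE h₁).op ≫ (homOfLE h₂).op = 𝟙 (op A) := Subsingleton.elim _ _
  rw [this, T.presheaf.map_id]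
  rfl

include hij in
theorem app_appLE_eq (a : Γ(Y, WY)) :
    i.app WX (p.appLE WY WX e a) = Z.presheaf.map (homOfLE heq.le).op (j.app WY a) := by
  have h1 : p.appLE WY WX e ≫ i.app WX = j.app WY ≫ Z.presheaf.map (homOfLE heq.le).op := by
    rw [Scheme.Hom.app_eq_appLE, Scheme.Hom.appLE_comp_appLE]
    rw [OmegaSh.appLE_congr_hom hij _ (heq.le)]
    rfl
  exact congr($h1 a)

variable [IsImmersion i] [IsImmersion j] [QuasiCompact i] [QuasiCompact j]
  (hcY : WY ≤ j.coborderRange)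

include hij heq in
theorem map_le : (j.ker.ideal ⟨WY, hWY⟩).map (p.appLE WY WX e).hom ≤ i.ker.ideal ⟨WX, hWX⟩ := by
  rw [Ideal.map_le_iff_le_comap]
  intro a ha
  rw [Scheme.Hom.ker_apply, RingHom.mem_ker] at ha
  rw [Ideal.mem_comap, Scheme.Hom.ker_apply, RingHom.mem_ker]
  change i.app WX (p.appLE WY WX e a) = 0
  rw [app_appLE_eq hij e heq]
  have : j.app WY a = 0 := ha
  rw [this, map_zero]

include hij heq in
theorem comap_le : (i.ker.ideal ⟨WX, hWX⟩).comap (p.appLE WY WX e).hom ≤ j.ker.ideal ⟨WY, hWY⟩ := by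
  intro a ha
  rw [Ideal.mem_comap, Scheme.Hom.ker_apply, RingHom.mem_ker] at ha
  rw [Scheme.Hom.ker_apply, RingHom.mem_ker]
  have h1 : i.app WX (p.appLE WY WX e a) = 0 := ha
  rw [app_appLE_eq hij e heq] at h1
  have h2 := congrArg (Z.presheaf.map (homOfLE heq.ge).op) h1
  rw [presheaf_map_map_self, map_zero] at h2
  exact h2

include hij heq hcY hWY in
theorem exists_sub_mem (b : Γ(X, WX)) :
    ∃ a : Γ(Y, WY), b - p.appLE WY WX e a ∈ i.ker.ideal ⟨WX, hWX⟩ := by
  obtain ⟨-, hsurj⟩ := affine_surjective_of_le_coborder j hWY hcY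
  obtain ⟨a, ha⟩ := hsurj (Z.presheaf.map (homOfLE heq.ge).op (i.app WX b))
  refine ⟨a, ?_⟩
  rw [Scheme.Hom.ker_apply, RingHom.mem_ker, map_sub]
  change i.app WX b - i.app WX (p.appLE WY WX e a) = 0
  rw [app_appLE_eq hij e heq, ha, presheaf_map_map_self, sub_self]

end Triple

section Alg2

/-- for a surjective algebra map `R → S`, `1 ⊗ p = 0` in `S ⊗[R] P` iff `p ∈ ker • ⊤`. -/
theorem one_tmul_eq_zero_iff {R S : Type u} [CommRing R] [CommRing S] [Algebra R S]
    (hρ : Function.Surjective (algebraMap R S))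
    {P : Type u} [AddCommGroup P] [Module R P] (p : P) :
    ((1 : S) ⊗ₜ[R] p = 0) ↔ p ∈ (RingHom.ker (algebraMap R S) • (⊤ : Submodule R P)) := by
  let I : Ideal R := RingHom.ker (algebraMap R S)
  let f : I →ₗ[R] R := Submodule.subtype I
  let g : R →ₗ[R] S := Algebra.linearMap R S
  have hfg : Function.Exact f g := by
    intro r
    constructor
    · intro hr
      exact ⟨⟨r, hr⟩, rfl⟩
    · rintro ⟨⟨x, hx⟩, rfl⟩
      exact hx
  have hg : Function.Surjective g := hρ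
  have hex := rTensor_exact P hfg hg
  have h1 : (1 : S) ⊗ₜ[R] p = LinearMap.rTensor P g ((1 : R) ⊗ₜ[R] p) := by
    rw [LinearMap.rTensor_tmul]
    congr 1
    exact (map_one (algebraMap R S)).symm
  rw [h1, hex ((1 : R) ⊗ₜ[R] p)]
  constructor
  · rintro ⟨z, hz⟩
    have h2 := congrArg (TensorProduct.lid R P) hz
    rw [TensorProduct.lid_tmul, one_smul] at h2
    rw [← h2]
    clear hz h2 h1
    induction z using TensorProduct.induction_on with
    | zero => simp
    | add x y hx hy => rw [map_add, map_add]; exact add_mem hx hy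
    | tmul a q =>
      rw [LinearMap.rTensor_tmul, TensorProduct.lid_tmul]
      exact Submodule.smul_mem_smul a.2 trivial
  · intro hp
    refine Submodule.smul_induction_on hp ?_ ?_
    · intro a ha q _
      refine ⟨(⟨a, ha⟩ : I) ⊗ₜ[R] q, ?_⟩
      rw [LinearMap.rTensor_tmul]
      change (a ⊗ₜ[R] q : R ⊗[R] P) = 1 ⊗ₜ[R] (a • q)
      rw [← TensorProduct.smul_tmul, smul_eq_mul, mul_one]
    · rintro x y ⟨zx, hzx⟩ ⟨zy, hzy⟩
      exact ⟨zx + zy, by rw [map_add, hzx, hzy, TensorProduct.tmul_add]⟩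

variable {A B C : Type u} [CommRing A] [CommRing B] [CommRing C] [Algebra A B] [Algebra A C]
  [Algebra B C] [IsScalarTower A B C]

/-- second fundamental sequence, elementwise: a differential of `B/A` dying in `Ω_{C/A}`
(`C = B/I`) is `D x` for an `x ∈ I`, modulo `I Ω_{B/A}`. -/
theorem exists_sub_D_mem (hs : Function.Surjective (algebraMap B C)) (ω : Ω[B⁄A])
    (h : KaehlerDifferential.map A A B C ω = 0) :
    ∃ x ∈ RingHom.ker (algebraMap B C), ω - KaehlerDifferential.D A B x ∈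
      (RingHom.ker (algebraMap B C)) • (⊤ : Submodule B Ω[B⁄A]) := by
  have h1 : KaehlerDifferential.mapBaseChange A B C ((1 : C) ⊗ₜ[B] ω) = 0 := by
    rw [KaehlerDifferential.mapBaseChange_tmul, h, smul_zero]
  have hex := KaehlerDifferential.exact_kerCotangentToTensor_mapBaseChange A B C hs
  obtain ⟨y, hy⟩ := (hex _).1 h1
  obtain ⟨x, rfl⟩ := Ideal.toCotangent_surjective _ y
  rw [KaehlerDifferential.kerCotangentToTensor_toCotangent] at hy
  refine ⟨x.1, x.2, ?_⟩
  have h2 : (1 : C) ⊗ₜ[B] (ω - KaehlerDifferential.D A B x.1) = 0 := by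
    rw [TensorProduct.tmul_sub, hy, sub_self]
  exact (one_tmul_eq_zero_iff hs _).1 h2

theorem mem_smul_top_iff {R : Type u} [CommRing R] {M N : Type u} [AddCommGroup M] [AddCommGroup N]
    [Module R M] [Module R N] (Φ : M ≃+ N) (hΦ : ∀ (b : R) (x : M), Φ (b • x) = b • Φ x)
    (I : Ideal R) (x : M) :
    x ∈ I • (⊤ : Submodule R M) ↔ Φ x ∈ I • (⊤ : Submodule R N) := by
  constructor
  · intro hx
    refine Submodule.smul_induction_on hx ?_ ?_
    · intro r hr n _
      rw [hΦ]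
      exact Submodule.smul_mem_smul hr trivial
    · intro a b ha hb
      rw [map_add]
      exact add_mem ha hb
  · intro hx
    have key : ∀ y ∈ I • (⊤ : Submodule R N), Φ.symm y ∈ I • (⊤ : Submodule R M) := by
      intro y hy
      refine Submodule.smul_induction_on hy ?_ ?_
      · intro r hr n _
        have : Φ.symm (r • n) = r • Φ.symm n := by
          apply Φ.injective
          rw [hΦ, AddEquiv.apply_symm_apply, AddEquiv.apply_symm_apply]
        rw [this]
        exact Submodule.smul_mem_smul hr trivial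
      · intro a b ha hb
        rw [map_add]
        exact add_mem ha hb
    have := key _ hx
    rwa [AddEquiv.symm_apply_apply] at this

end Alg2

section Compat

open Groth.Agent.Lib.Helper17.ModPullback Groth.Agent.Lib.Helper17.CohKer
  Groth.Agent.Lib.Helper17.Serre

variable {X Y Z : Scheme.{u}} (f : Y ⟶ Z) (j : X ⟶ Y)
  {ΩY : Y.Modules} (dY : OmegaSh.Der f ΩY) (hY : OmegaSh.IsUniversal dY)
  {ΩX : X.Modules} (dX : OmegaSh.Der (j ≫ f) ΩX) (hX : OmegaSh.IsUniversal dX)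
  (c : (Scheme.Modules.pullback j).obj ΩY ⟶ ΩX) (hc : OmegaSh.IsDiffCompat j dY dX c)
  {V : Z.Opens} {W : Y.Opens} (hV : IsAffineOpen V) (hW : IsAffineOpen W) (e : W ≤ f ⁻¹ᵁ V)
  (hU : IsAffineOpen (j ⁻¹ᵁ W))

include hY hX hc hV hW hU e in
/-- on a chart, a pulled back differential killed by `c` is the pull back of `d x` with `x` in
the ideal. -/
theorem exists_of_c_eq_zero (hsurj : Function.Surjective (j.app W)) (ω : Γ(ΩY, W))
    (h : c.app (j ⁻¹ᵁ W) (OmegaSh.pullSect j ΩY W ω) = 0) :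
    ∃ x : Γ(Y, W), j.app W x = 0 ∧
      OmegaSh.pullSect j ΩY W ω = OmegaSh.pullSect j ΩY W (dY.app W x) := by
  have e' : j ⁻¹ᵁ W ≤ (j ≫ f) ⁻¹ᵁ V := j.preimage_mono e
  letI algAB : Algebra Γ(Z, V) Γ(Y, W) := alg f e
  letI algAC : Algebra Γ(Z, V) Γ(X, j ⁻¹ᵁ W) := alg (j ≫ f) e'
  letI algBC : Algebra Γ(Y, W) Γ(X, j ⁻¹ᵁ W) := (j.app W).hom.toAlgebra
  haveI : IsScalarTower Γ(Z, V) Γ(Y, W) Γ(X, j ⁻¹ᵁ W) := IsScalarTower.of_algebraMap_eq' (by
    change ((j ≫ f).appLE V (j ⁻¹ᵁ W) e').hom = (j.app W).hom.comp (f.appLE V W e).hom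
    rw [← CommRingCat.hom_comp, Scheme.Hom.app_eq_appLE, Scheme.Hom.appLE_comp_appLE])
  obtain ⟨ΦY, hΦY₁, hΦY₂⟩ := Groth.Agent.Lib.Helper19.RestrUniv.exists_sections_equiv f dY hY hW hV e
  obtain ⟨ΦX, hΦX₁, hΦX₂⟩ :=
    Groth.Agent.Lib.Helper19.RestrUniv.exists_sections_equiv (j ≫ f) dX hX hU hV e'
  have compat : ∀ ω' : Γ(ΩY, W), ΦX (c.app (j ⁻¹ᵁ W) (OmegaSh.pullSect j ΩY W ω')) =
      KaehlerDifferential.map Γ(Z, V) Γ(Z, V) Γ(Y, W) Γ(X, j ⁻¹ᵁ W) (ΦY ω') := by
    intro ω'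
    have hspan := span_d f dY hY hW hV e ω'
    refine Submodule.span_induction ?_ ?_ ?_ ?_ hspan
    · rintro _ ⟨b, rfl⟩
      rw [hc W b, hΦX₂, hΦY₂, KaehlerDifferential.map_D]
      rfl
    · simp only [map_zero]
    · intro a b _ _ ha hb
      simp only [map_add, ha, hb]
    · intro b a _ ha
      have h2 : OmegaSh.pullSect j ΩY W (b • a) = j.app W b • OmegaSh.pullSect j ΩY W a :=
        pbs_smul j ΩY W b a
      have h3 : c.app (j ⁻¹ᵁ W) (j.app W b • OmegaSh.pullSect j ΩY W a) =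
          j.app W b • c.app (j ⁻¹ᵁ W) (OmegaSh.pullSect j ΩY W a) :=
        Scheme.Modules.Hom.app_smul _ _ _
      rw [h2, h3, hΦX₁, ha, hΦY₁, LinearMap.map_smul]
      rfl
  have h1 : KaehlerDifferential.map Γ(Z, V) Γ(Z, V) Γ(Y, W) Γ(X, j ⁻¹ᵁ W) (ΦY ω) = 0 := by
    rw [← compat, h, map_zero]
  obtain ⟨x, hx, hmem⟩ := exists_sub_D_mem (A := Γ(Z, V)) (B := Γ(Y, W)) (C := Γ(X, j ⁻¹ᵁ W))
    hsurj (ΦY ω) h1
  refine ⟨x, hx, ?_⟩
  rw [← hΦY₂, ← map_sub, ← mem_smul_top_iff ΦY hΦY₁] at hmem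
  have h4 := (eq_zero_iff_of_isBC_of_surjective (j.app W).hom hsurj _
    (isBC_pullSect f dY hY j hW hU) (ω - dY.app W x)).2 hmem
  rw [map_sub, sub_eq_zero] at h4
  exact h4

include hX hc hV hU e in
/-- on a chart, every section of `Ω_X` is `c` of a pulled back section. -/
theorem exists_of_sections (hsurj : Function.Surjective (j.app W)) (y : Γ(ΩX, j ⁻¹ᵁ W)) :
    ∃ ω : Γ(ΩY, W), c.app (j ⁻¹ᵁ W) (OmegaSh.pullSect j ΩY W ω) = y := by
  have e' : j ⁻¹ᵁ W ≤ (j ≫ f) ⁻¹ᵁ V := j.preimage_mono e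
  have hspan := span_d (j ≫ f) dX hX hU hV e' y
  refine Submodule.span_induction ?_ ?_ ?_ ?_ hspan
  · rintro _ ⟨c', rfl⟩
    obtain ⟨b, rfl⟩ := hsurj c'
    exact ⟨dY.app W b, hc W b⟩
  · exact ⟨0, by rw [map_zero, map_zero]⟩
  · rintro a b _ _ ⟨ωa, ha⟩ ⟨ωb, hb⟩
    exact ⟨ωa + ωb, by rw [map_add, map_add, ha, hb]⟩
  · rintro c' a _ ⟨ωa, ha⟩
    obtain ⟨b, rfl⟩ := hsurj c'
    refine ⟨b • ωa, ?_⟩
    have h2 : OmegaSh.pullSect j ΩY W (b • ωa) = j.app W b • OmegaSh.pullSect j ΩY W ωa :=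
      pbs_smul j ΩY W b ωa
    rw [h2, ← ha]
    exact Scheme.Modules.Hom.app_smul _ _ _

end Compat

section ChartImm

variable {X Y Z : Scheme.{u}} (f : Y ⟶ Z) (j : X ⟶ Y) [IsImmersion j]

theorem exists_chart_imm (O : X.Opens) (pt : X) (hpt : pt ∈ O) :
    ∃ (V : Z.Opens) (W : Y.Opens), IsAffineOpen V ∧ IsAffineOpen W ∧ W ≤ f ⁻¹ᵁ V ∧
      W ≤ j.coborderRange ∧ pt ∈ j ⁻¹ᵁ W ∧ j ⁻¹ᵁ W ≤ O := by
  obtain ⟨O₁, hO₁, hO₁eq⟩ := (j.isEmbedding.isInducing.isOpen_iff).1 O.isOpen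
  obtain ⟨V, hV, hptV, -⟩ := TopologicalSpace.Opens.isBasis_iff_nbhd.mp Z.isBasis_affineOpens
    (show f (j pt) ∈ (⊤ : Z.Opens) from trivial)
  have h1 : j pt ∈ (f ⁻¹ᵁ V ⊓ j.coborderRange) ⊓ (⟨O₁, hO₁⟩ : Y.Opens) := by
    refine ⟨⟨hptV, subset_coborder ⟨pt, rfl⟩⟩, ?_⟩
    have : pt ∈ (j ⁻¹' O₁ : Set X) := by rw [hO₁eq]; exact hpt
    exact this
  obtain ⟨W, hW, hptW, hWle⟩ := TopologicalSpace.Opens.isBasis_iff_nbhd.mp Y.isBasis_affineOpens h1
  refine ⟨V, W, hV, hW, hWle.trans (inf_le_left.trans inf_le_left),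
    hWle.trans (inf_le_left.trans inf_le_right), hptW, ?_⟩
  intro y hy
  have h2 : j y ∈ O₁ := (hWle hy).2
  have : y ∈ (j ⁻¹' O₁ : Set X) := h2
  rw [hO₁eq] at this
  exact this

end ChartImm

end Groth.Agent.Lib.Helper29.OmegaChart
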