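import Mathlib
import Groth.Agent.Lib.Helper29.OmegaChart

set_option autoImplicit false
universe u
open CategoryTheory CategoryTheory.Limits AlgebraicGeometry TopologicalSpace Opposite

namespace Groth.Agent.Lib.Helper29.ConormalStalk

open Groth.Agent.Lib.Helper28.QCohLoc Groth.Agent.Lib.Helper29.ConormalMap
  Groth.Agent.Lib.Helper29.ConormalBC Groth.Agent.Lib.Helper29.ConormalChart
  Groth.Agent.Lib.Helper29.OmegaChart Groth.Agent.Lib.Helper28.PullbackInv




section Stalk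
variable {Y : Scheme.{u}} (M : Y.Modules) (y : Y)

theorem subsingleton_stalk_iff : Subsingleton (M.presheaf.stalk y) ↔
    ∀ (U : Y.Opens) (_ : y ∈ U) (x : Γ(M, U)), ∃ (V : Y.Opens) (hV : V ≤ U), y ∈ V ∧ res M hV x = 0 := by
  constructor
  · intro h U hy x
    have h1 : M.presheaf.germ U y hy x = M.presheaf.germ U y hy 0 := Subsingleton.elim _ _
    obtain ⟨W, hyW, iU, iV, h2⟩ := TopCat.Presheaf.germ_eq M.presheaf y hy hy x 0 h1
    refine ⟨W, iU.le, hyW, ?_⟩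
    rw [map_zero] at h2
    exact h2
  · intro h
    refine ⟨fun a b => ?_⟩
    have h0 : ∀ t : M.presheaf.stalk y, t = 0 := by
      intro t
      obtain ⟨U, hy, s, rfl⟩ := TopCat.Presheaf.germ_exist M.presheaf t
      obtain ⟨V, hV, hyV, hs⟩ := h U hy s
      have h3 := TopCat.Presheaf.germ_res_apply M.presheaf (homOfLE hV) y hyV s
      rw [← h3]
      change M.presheaf.germ V y hyV (res M hV s) = 0
      rw [hs, map_zero]
    rw [h0 a, h0 b]

end Stalk




theorem app_injective_of_isOpenImmersion {U X : Scheme.{u}} (k : U ⟶ X) [IsOpenImmersion k]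
    (W : X.Opens) (hW : W ≤ k.opensRange) : Function.Injective (k.app W) := by
  have h1 : k ''ᵁ (k ⁻¹ᵁ W) = W := by
    rw [Scheme.Hom.image_preimage_eq_opensRange_inf]
    exact inf_eq_right.2 hW
  suffices h : ∀ (U' : U.Opens) (W : X.Opens), W = k ''ᵁ U' → Function.Injective (k.app W) from
    h _ _ h1.symm
  intro U' W h
  subst h
  have h2 : IsIso (k.app (k ''ᵁ U')) := inferInstance
  exact ((ConcreteCategory.isIso_iff_bijective _).1 h2).1

theorem exists_chart_imm_in {X Y : Scheme.{u}} (j : X ⟶ Y) [IsImmersion j] (O : X.Opens) (O' : Y.Opens)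
    (pt : X) (hpt : pt ∈ O) (hpt' : j pt ∈ O') :
    ∃ (W : Y.Opens), IsAffineOpen W ∧ W ≤ O' ∧ W ≤ j.coborderRange ∧ pt ∈ j ⁻¹ᵁ W ∧ j ⁻¹ᵁ W ≤ O := by
  obtain ⟨O₁, hO₁, hO₁eq⟩ := (j.isEmbedding.isInducing.isOpen_iff).1 O.isOpen
  have h1 : j pt ∈ (O' ⊓ j.coborderRange) ⊓ (⟨O₁, hO₁⟩ : Y.Opens) := by
    refine ⟨⟨hpt', subset_coborder ⟨pt, rfl⟩⟩, ?_⟩
    have : pt ∈ (j ⁻¹' O₁ : Set X) := by rw [hO₁eq]; exact hpt
    exact this
  obtain ⟨W, hW, hptW, hWle⟩ := TopologicalSpace.Opens.isBasis_iff_nbhd.mp Y.isBasis_affineOpens h1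
  refine ⟨W, hW, hWle.trans (inf_le_left.trans inf_le_left),
    hWle.trans (inf_le_left.trans inf_le_right), hptW, ?_⟩
  intro y hy
  have h2 : j y ∈ O₁ := (hWle hy).2
  have : y ∈ (j ⁻¹' O₁ : Set X) := h2
  rw [hO₁eq] at this
  exact this

theorem subsingleton_stalk_of_isOpenImmersion {Y X : Scheme.{u}} (j : Y ⟶ X) [IsImmersion j]
    [QuasiCompact j] (y : Y) (U : Y.Opens) (hyU : y ∈ U) [IsOpenImmersion (U.ι ≫ j)] :
    Subsingleton ((Omega.conormal j).presheaf.stalk y) := by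
  rw [subsingleton_stalk_iff]
  intro O hyO x
  have hy' : j y ∈ (U.ι ≫ j).opensRange := by
    refine ⟨⟨y, hyU⟩, ?_⟩
    rw [Scheme.Hom.comp_apply]
    rfl
  obtain ⟨W, hW, hWr, hcW, hyW, hWO⟩ := exists_chart_imm_in j O _ y hyO hy'
  refine ⟨j ⁻¹ᵁ W, hWO, hyW, ?_⟩
  obtain ⟨s, hs⟩ := conormalSect_surjective j hW hcW (res (Omega.conormal j) hWO x)
  rw [← hs, conormalSect_eq_zero_iff j hW hcW]
  have h1 : j.app W (OmegaSh.idealSect j.ker W s) = 0 :=
    app_eq_zero_of_subschemeι j W _ (subschemeι_app_idealSect j.ker W s)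
  have hinj : Function.Injective (j.app W) := by
    have h2 := app_injective_of_isOpenImmersion (U.ι ≫ j) W hWr
    rw [Scheme.Hom.comp_app] at h2
    exact Function.Injective.of_comp (f := U.ι.app (j ⁻¹ᵁ W)) h2
  have h3 : OmegaSh.idealSect j.ker W s = 0 := hinj (by rw [h1, map_zero])
  rw [h3]
  exact zero_mem _




section Alg

theorem ker_fg_of_finitePresentation {B C : Type u} [CommRing B] [CommRing C] (π : B →+* C)
    (hπ : Function.Surjective π) (hfp : π.FinitePresentation) : (RingHom.ker π).FG := by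
  letI := π.toAlgebra
  haveI : Algebra.FinitePresentation B C := hfp
  exact Algebra.FinitePresentation.ker_fG_of_surjective (Algebra.ofId B C) hπ

theorem exists_unit_kill {B B' : Type u} [CommRing B] [CommRing B'] (I : Ideal B) (G : Finset B)
    (hG : Ideal.span (G : Set B) = I) (ρ : B →+* B')
    (h : ∀ a ∈ G, ρ a ∈ I.map ρ * I.map ρ) :
    ∃ r : B', r - 1 ∈ I.map ρ ∧ ∀ n ∈ I.map ρ, r * n = 0 := by
  have h1 : I.map ρ ≤ I.map ρ * I.map ρ := by
    conv_lhs => rw [← hG, Ideal.map_span]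
    rw [Ideal.span_le]
    rintro _ ⟨a, ha, rfl⟩
    exact h a ha
  have hfg : (I.map ρ).FG := Ideal.FG.map ⟨G, hG⟩ ρ
  obtain ⟨r, hr1, hr2⟩ := Submodule.exists_sub_one_mem_and_smul_eq_zero_of_fg_of_le_smul
    (I.map ρ) (I.map ρ) hfg (by rw [Ideal.smul_eq_mul]; exact h1)
  exact ⟨r, hr1, fun n hn => hr2 n hn⟩

theorem map_eq_bot_of_kill {B' B'' : Type u} [CommRing B'] [CommRing B''] (I' : Ideal B') (r : B')
    (hr : ∀ n ∈ I', r * n = 0) (ρ' : B' →+* B'') (hu : IsUnit (ρ' r)) : I'.map ρ' = ⊥ := by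
  rw [eq_bot_iff, Ideal.map_le_iff_le_comap]
  intro n hn
  rw [Ideal.mem_comap, Ideal.mem_bot]
  have h1 : ρ' r * ρ' n = 0 := by rw [← map_mul, hr n hn, map_zero]
  exact (hu.mul_right_eq_zero).1 h1

end Alg

theorem exists_common_nbhd {Y : Scheme.{u}} (y : Y) {α : Type u} (G : Finset α) (P : α → Y.Opens → Prop)
    (hmono : ∀ a V V', V' ≤ V → P a V → P a V') (h : ∀ a ∈ G, ∃ V, y ∈ V ∧ P a V) :
    ∃ V : Y.Opens, y ∈ V ∧ ∀ a ∈ G, P a V := by
  classical
  induction G using Finset.induction_on with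
  | empty => exact ⟨⊤, trivial, fun a ha => absurd ha (Finset.notMem_empty a)⟩
  | insert a G' ha ih =>
    obtain ⟨V₁, hy₁, hV₁⟩ := ih (fun b hb => h b (Finset.mem_insert_of_mem hb))
    obtain ⟨V₂, hy₂, hV₂⟩ := h a (Finset.mem_insert_self a G')
    refine ⟨V₁ ⊓ V₂, ⟨hy₁, hy₂⟩, ?_⟩
    intro b hb
    rcases Finset.mem_insert.1 hb with rfl | hb'
    · exact hmono _ _ _ inf_le_right hV₂
    · exact hmono _ _ _ inf_le_left (hV₁ b hb')

/-- a chart on which the ideal of the immersion vanishes gives an open immersion. -/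
theorem isOpenImmersion_of_ideal_eq_bot {Y X : Scheme.{u}} (j : Y ⟶ X) [IsImmersion j] [QuasiCompact j]
    {W : X.Opens} (hW : IsAffineOpen W) (hcW : W ≤ j.coborderRange)
    (hbot : j.ker.ideal ⟨W, hW⟩ = ⊥) : IsOpenImmersion ((j ⁻¹ᵁ W).ι ≫ j) := by
  obtain ⟨hU, hsurj⟩ := affine_surjective_of_le_coborder j hW hcW
  have hinj : Function.Injective (j.app W) := by
    rw [Scheme.Hom.ker_apply] at hbot
    exact (RingHom.injective_iff_ker_eq_bot _).2 hbot
  have h1 : IsIso (j.appLE W (j ⁻¹ᵁ W) le_rfl) := by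
    rw [← Scheme.Hom.app_eq_appLE]
    exact (ConcreteCategory.isIso_iff_bijective _).2 ⟨hinj, hsurj⟩
  have h2 : IsIso (j.resLE W (j ⁻¹ᵁ W) le_rfl).appTop :=
    ((MorphismProperty.isomorphisms CommRingCat).arrow_mk_iso_iff
      (arrowResLEAppIso j W (j ⁻¹ᵁ W) le_rfl)).2 h1
  haveI : IsAffine (W : Scheme) := hW
  haveI : IsAffine ((j ⁻¹ᵁ W : Y.Opens) : Scheme) := hU
  have h3 : IsIso (j.resLE W (j ⁻¹ᵁ W) le_rfl) := by
    have h4 : IsIso (Spec.map (j.resLE W (j ⁻¹ᵁ W) le_rfl).appTop) := inferInstance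
    exact ((MorphismProperty.isomorphisms Scheme).arrow_mk_iso_iff
      (arrowIsoSpecΓOfIsAffine (j.resLE W (j ⁻¹ᵁ W) le_rfl))).2 h4
  rw [← Scheme.Hom.resLE_comp_ι j (le_refl (j ⁻¹ᵁ W))]
  infer_instance

theorem exists_isOpenImmersion_of_subsingleton_stalk {Y X : Scheme.{u}} (j : Y ⟶ X) [IsImmersion j]
    [QuasiCompact j] [LocallyOfFinitePresentation j] (y : Y)
    (h : Subsingleton ((Omega.conormal j).presheaf.stalk y)) :
    ∃ U : Y.Opens, y ∈ U ∧ IsOpenImmersion (U.ι ≫ j) := by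
  rw [subsingleton_stalk_iff] at h
  obtain ⟨W, hW, -, hcW, hyW, -⟩ := exists_chart_imm_in j ⊤ ⊤ y trivial trivial
  obtain ⟨hU, hsurj⟩ := affine_surjective_of_le_coborder j hW hcW
  -- finite generation
  have hfp : (j.appLE W (j ⁻¹ᵁ W) le_rfl).hom.FinitePresentation :=
    HasRingHomProperty.appLE @LocallyOfFinitePresentation j inferInstance ⟨W, hW⟩ ⟨j ⁻¹ᵁ W, hU⟩ le_rfl
  have hfg : (j.ker.ideal ⟨W, hW⟩).FG := by
    rw [Scheme.Hom.ker_apply]
    have := ker_fg_of_finitePresentation (j.appLE W (j ⁻¹ᵁ W) le_rfl).hom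
      (by rw [← Scheme.Hom.app_eq_appLE]; exact hsurj) hfp
    rw [← Scheme.Hom.app_eq_appLE] at this
    exact this
  obtain ⟨G, hG⟩ := hfg
  -- sections of the ideal module for the generators
  have hsec : ∀ a : Γ(X, W), a ∈ j.ker.ideal ⟨W, hW⟩ →
      ∃ s : Γ(ClSub.idealMod j.ker, W), OmegaSh.idealSect j.ker W s = a := by
    intro a ha
    rw [← range_idealιLin j.ker hW] at ha
    obtain ⟨s, hs⟩ := ha
    exact ⟨s, hs⟩
  have hGI : ∀ a ∈ G, a ∈ j.ker.ideal ⟨W, hW⟩ := by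
    intro a ha
    rw [← hG]
    exact Ideal.subset_span ha
  -- common neighbourhood where all generator classes vanish
  obtain ⟨V, hyV, hV⟩ := exists_common_nbhd y G
    (fun a V => ∃ hV : V ≤ j ⁻¹ᵁ W, ∀ s : Γ(ClSub.idealMod j.ker, W), OmegaSh.idealSect j.ker W s = a →
      res (Omega.conormal j) hV (OmegaSh.conormalSect j W s) = 0)
    (by
      rintro a V V' hle ⟨hV, hs⟩
      refine ⟨hle.trans hV, fun s hsa => ?_⟩
      rw [← res_res (M := Omega.conormal j) hV hle, hs s hsa, res_zero])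
    (by
      intro a ha
      obtain ⟨s, hs⟩ := hsec a (hGI a ha)
      obtain ⟨V, hV, hyV, h0⟩ := h (j ⁻¹ᵁ W) hyW (OmegaSh.conormalSect j W s)
      refine ⟨V, hyV, hV, fun s' hs' => ?_⟩
      have : s' = s := idealSect_injective _ _ (hs'.trans hs.symm)
      rw [this]
      exact h0)
  -- shrink to a basic open chart inside V
  obtain ⟨c, hc1, hc2⟩ := hU.exists_basicOpen_le (V := V) ⟨y, hyV⟩ hyW
  obtain ⟨b, hb⟩ := hsurj c
  have hpre : j ⁻¹ᵁ X.basicOpen b = Y.basicOpen c := by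
    rw [Scheme.preimage_basicOpen, hb]
  have hW' : IsAffineOpen (X.basicOpen b) := hW.basicOpen b
  have hle' : X.basicOpen b ≤ W := X.basicOpen_le b
  have hcW' : X.basicOpen b ≤ j.coborderRange := hle'.trans hcW
  have hyW' : y ∈ j ⁻¹ᵁ X.basicOpen b := by rw [hpre]; exact hc2
  have hW'V : j ⁻¹ᵁ X.basicOpen b ≤ V := by rw [hpre]; exact hc1
  let ρ : Γ(X, W) →+* Γ(X, X.basicOpen b) := (X.presheaf.map (homOfLE hle').op).hom
  have hmap : (j.ker.ideal ⟨W, hW⟩).map ρ = j.ker.ideal ⟨X.basicOpen b, hW'⟩ :=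
    j.ker.map_ideal_basicOpen ⟨W, hW⟩ b
  have hgen : ∀ a ∈ G, ρ a ∈ (j.ker.ideal ⟨W, hW⟩).map ρ * (j.ker.ideal ⟨W, hW⟩).map ρ := by
    intro a ha
    obtain ⟨s, hs⟩ := hsec a (hGI a ha)
    obtain ⟨hV', hvan⟩ := hV a ha
    have h1 : OmegaSh.conormalSect j (X.basicOpen b) (res (ClSub.idealMod j.ker) hle' s) = 0 := by
      have h2 := pbs_res j (ClSub.idealMod j.ker) hle' s
      have h3 : res (Omega.conormal j) (j.preimage_mono hle') (OmegaSh.conormalSect j W s) = 0 := by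
        rw [← res_res (M := Omega.conormal j) hV' hW'V, hvan s hs, res_zero]
      exact h2.trans h3
    rw [conormalSect_eq_zero_iff j hW' hcW', idealSect_res, hs, ← hmap] at h1
    exact h1
  obtain ⟨r, hr1, hr2⟩ := exists_unit_kill (j.ker.ideal ⟨W, hW⟩) G hG ρ hgen
  rw [hmap] at hr1 hr2
  -- the second basic open
  have hW'' : IsAffineOpen (X.basicOpen r) := hW'.basicOpen r
  have hle'' : X.basicOpen r ≤ X.basicOpen b := X.basicOpen_le r
  have hcW'' : X.basicOpen r ≤ j.coborderRange := hle''.trans hcW'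
  have hjr : j.app (X.basicOpen b) r = 1 := by
    have h1 : j.app (X.basicOpen b) (r - 1) = 0 := by
      rw [Scheme.Hom.ker_apply, RingHom.mem_ker] at hr1
      exact hr1
    rw [map_sub, map_one, sub_eq_zero] at h1
    exact h1
  have hpre'' : j ⁻¹ᵁ X.basicOpen r = j ⁻¹ᵁ X.basicOpen b := by
    rw [Scheme.preimage_basicOpen j r, hjr]
    exact Scheme.basicOpen_of_isUnit _ isUnit_one
  have hbot : j.ker.ideal ⟨X.basicOpen r, hW''⟩ = ⊥ := by
    have h1 := j.ker.map_ideal_basicOpen ⟨X.basicOpen b, hW'⟩ r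
    have h2 : j.ker.ideal ⟨X.basicOpen r, hW''⟩ = j.ker.ideal (X.affineBasicOpen (U := ⟨X.basicOpen b, hW'⟩) r) := rfl
    rw [h2, ← h1]
    exact map_eq_bot_of_kill _ r hr2 _ (X.toRingedSpace.isUnit_res_basicOpen r)
  refine ⟨j ⁻¹ᵁ X.basicOpen r, ?_, isOpenImmersion_of_ideal_eq_bot j hW'' hcW'' hbot⟩
  rw [hpre'']
  exact hyW'


end Groth.Agent.Lib.Helper29.ConormalStalk
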