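import Groth.Agent.Lib.Helper29.CycDet1
import Mathlib

set_option autoImplicit false
set_option linter.unusedSectionVars false
universe u v

namespace Groth.Agent.Lib.Helper29.CycDetLib

open CycDet IsLocalRing

variable {R : Type u} [CommRing R] [IsLocalRing R] {M : Type v} [AddCommGroup M] [Module R M]
  [Module (ResidueField R) M] [IsScalarTower R (ResidueField R) M]

lemma residue_smul (r : R) (x : M) : (IsLocalRing.residue R r) • x = r • x := by
  rw [← IsLocalRing.ResidueField.algebraMap_eq]
  exact algebraMap_smul (ResidueField R) r x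

lemma maximalIdeal_smul_eq_zero (r : R) (hr : r ∈ maximalIdeal R) (x : M) : r • x = 0 := by
  rw [← residue_smul]
  have : IsLocalRing.residue R r = 0 := (IsLocalRing.residue_eq_zero_iff r).mpr hr
  rw [this, zero_smul]

lemma isAdmissible_of_vectorSpace {l : ℕ} (v : Fin l → M) : IsAdmissible R M v := by
  intro i r hr
  rw [maximalIdeal_smul_eq_zero r hr]
  exact Submodule.zero_mem _

/-- wedge vanishes if an entry is in the span of the earlier ones -/
lemma ιMulti_eq_zero_of_mem {l : ℕ} (v : Fin l → M) (a : Fin l)
    (h : v a ∈ spanBefore R M v a) :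
    exteriorPower.ιMulti (ResidueField R) l v = 0 := by
  apply AlternatingMap.map_linearDependent
  intro hli
  have h1 : v a ∉ Submodule.span (ResidueField R) (v '' {j : Fin l | (j : ℕ) < (a : ℕ)}) :=
    hli.notMem_span_image (by simp)
  apply h1
  have h2 : Submodule.span R (v '' {j : Fin l | (j : ℕ) < (a : ℕ)}) ≤
      (Submodule.span (ResidueField R) (v '' {j : Fin l | (j : ℕ) < (a : ℕ)})).restrictScalars R :=
    Submodule.span_le_restrictScalars R (ResidueField R) _
  exact h2 h

/-- the wedge map on the free module on admissible tuples -/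
noncomputable def wedge₀ (l : ℕ) : Free R M l →ₗ[ResidueField R] ⋀[ResidueField R]^l M :=
  Finsupp.linearCombination (ResidueField R)
    (fun e : Adm R M l => exteriorPower.ιMulti (ResidueField R) l e.1)

lemma wedge₀_sym {l : ℕ} (e : Adm R M l) :
    wedge₀ l (sym R M e) = exteriorPower.ιMulti (ResidueField R) l e.1 := by
  unfold wedge₀ sym
  rw [Finsupp.linearCombination_single, one_smul]

lemma wedge₀_relSet {l : ℕ} :
    Submodule.span (ResidueField R) (relSet R M l) ≤ LinearMap.ker (wedge₀ (R := R) (M := M) l) := by
  rw [Submodule.span_le]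
  rintro x ((⟨e, a, ha, rfl⟩ | ⟨e, e', a, c, h1, h2, rfl⟩) | ⟨e, e', a, b, hab, _, he', rfl⟩)
  · rw [SetLike.mem_coe, LinearMap.mem_ker, wedge₀_sym]
    exact ιMulti_eq_zero_of_mem e.1 a ha
  · rw [SetLike.mem_coe, LinearMap.mem_ker, map_sub, map_smul, wedge₀_sym, wedge₀_sym]
    classical
    obtain ⟨z, hz⟩ : ∃ z : M, z = e.1 a - (c : R) • e'.1 a := ⟨_, rfl⟩
    have he : e.1 = Function.update e'.1 a ((IsLocalRing.residue R (c : R)) • e'.1 a + z) := by
      funext j
      by_cases hj : j = a
      · subst hj
        rw [Function.update_self, hz, residue_smul]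
        abel
      · rw [Function.update_of_ne hj]
        exact h1 j hj
    rw [he, AlternatingMap.map_update_add, AlternatingMap.map_update_smul, Function.update_eq_self]
    have h0 : exteriorPower.ιMulti (ResidueField R) l (Function.update e'.1 a z) = 0 := by
      apply ιMulti_eq_zero_of_mem (R := R) _ a
      rw [Function.update_self]
      have : spanBefore R M (Function.update e'.1 a z) a = spanBefore R M e.1 a := by
        apply spanBefore_congr
        intro k hk
        have hka : k ≠ a := by
          intro hEq; rw [hEq] at hk; exact lt_irrefl _ hk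
        rw [Function.update_of_ne hka]
        exact (h1 k hka).symm
      rw [this, hz]
      exact h2
    rw [h0, add_zero, sub_self]
  · rw [SetLike.mem_coe, LinearMap.mem_ker, map_add, wedge₀_sym, wedge₀_sym, he']
    have hne : a ≠ b := by
      intro hEq
      rw [hEq] at hab
      omega
    rw [AlternatingMap.map_swap _ _ hne, add_neg_cancel]

/-- the wedge map on `DetOfLen` -/
noncomputable def wedge (l : ℕ) : DetOfLen R M l →ₗ[ResidueField R] ⋀[ResidueField R]^l M :=
  Submodule.liftQ _ (wedge₀ l) wedge₀_relSet

lemma wedge_cls {l : ℕ} (e : Adm R M l) :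
    wedge l (cls e) = exteriorPower.ιMulti (ResidueField R) l e.1 := by
  unfold wedge cls
  rw [Submodule.liftQ_apply, wedge₀_sym]

lemma wedge_surjective (l : ℕ) : Function.Surjective (wedge (R := R) (M := M) l) := by
  rw [← LinearMap.range_eq_top, eq_top_iff, ← exteriorPower.ιMulti_span, Submodule.span_le]
  rintro _ ⟨v, rfl⟩
  exact ⟨cls ⟨v, isAdmissible_of_vectorSpace v⟩, wedge_cls _⟩

theorem exists_det_equiv [Module.Finite (ResidueField R) M] :
    ∃ Φ : Det R M ≃ₗ[ResidueField R] (⋀[ResidueField R]^((Module.length R M).toNat) M),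
      ∀ e : Adm R M (Module.length R M).toNat,
        Φ (symbol R M e) = exteriorPower.ιMulti (ResidueField R) (Module.length R M).toNat e.1 := by
  have hlen : Module.length R M = Module.length (ResidueField R) M :=
    Module.length_eq_of_surjective (S := R) (R := ResidueField R) (M := M)
      (by rw [ResidueField.algebraMap_eq]; exact residue_surjective)
  have hfin : Module.length R M = (Module.finrank (ResidueField R) M : ℕ∞) := by
    rw [hlen, Module.length_eq_finrank]
  have hM : IsFiniteLength R M := Module.length_ne_top_iff.mp (by rw [hfin]; exact ENat.natCast_ne_top _)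
  have hl : (Module.length R M).toNat = Module.finrank (ResidueField R) M := by
    rw [hfin]; simp
  have hrank := rank_le_one (R := R) (M := M) hM
  have hW : Module.finrank (ResidueField R) (⋀[ResidueField R]^((Module.length R M).toNat) M) = 1 := by
    rw [exteriorPower.finrank_eq, hl, Nat.choose_self]
  have hsurj := wedge_surjective (R := R) (M := M) (Module.length R M).toNat
  have hinj : Function.Injective (wedge (R := R) (M := M) (Module.length R M).toNat) := by
    rw [injective_iff_map_eq_zero]
    intro v hv
    rw [rank_le_one_iff] at hrank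
    obtain ⟨v₀, hv₀⟩ := hrank
    obtain ⟨r, rfl⟩ := hv₀ v
    rw [map_smul, smul_eq_zero] at hv
    rcases hv with hr | hw
    · rw [hr, zero_smul]
    · exfalso
      have hzero : ∀ w : ⋀[ResidueField R]^((Module.length R M).toNat) M, w = 0 := by
        intro w
        obtain ⟨u, rfl⟩ := hsurj w
        obtain ⟨s, rfl⟩ := hv₀ u
        rw [map_smul, hw, smul_zero]
      have : Subsingleton (⋀[ResidueField R]^((Module.length R M).toNat) M) :=
        ⟨fun a b => by rw [hzero a, hzero b]⟩
      rw [Module.finrank_zero_of_subsingleton] at hW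
      exact zero_ne_one hW
  exact ⟨LinearEquiv.ofBijective _ ⟨hinj, hsurj⟩, fun e => wedge_cls e⟩

end Groth.Agent.Lib.Helper29.CycDetLib
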