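import Groth.Agent.Lib.Helper29.DPWeyl

set_option autoImplicit false

namespace Groth.Agent.Lib.Helper29.DPLat

open W4c3severiratdp

def tab_con2_0 : List (DP 2 × List (DP 2 × DP 2) × DP 2) := [
  (![1, 1, 0], [], ![1, 1, 0])]

theorem rep_con2_0 (x : DP 2) (hx : IsConic x) : ∃ e ∈ tab_con2_0, Rel ([] : List (DP 2)) x e.2.2 :=
  exists_rep 1 (by norm_num) (by norm_num) [] (0) (-2) 11 tab_con2_0
    (by decide +kernel) (by decide +kernel) (by decide +kernel) x hx.1 hx.2 (conic_bounds' (by norm_num) x hx)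
def tab_con2_1 : List (DP 2 × List (DP 2 × DP 2) × DP 2) := [
  (![1, 0, 1], [], ![1, 0, 1]),
  (![1, 1, 0], [], ![1, 1, 0])]

theorem rep_con2_1 (x : DP 2) (hx : IsConic x) : ∃ e ∈ tab_con2_1, Rel ([![1, 1, 0]] : List (DP 2)) x e.2.2 :=
  exists_rep 2 (by norm_num) (by norm_num) [![1, 1, 0]] (0) (-2) 11 tab_con2_1
    (by decide +kernel) (by decide +kernel) (by decide +kernel) x hx.1 hx.2 (conic_bounds' (by norm_num) x hx)

end Groth.Agent.Lib.Helper29.DPLat
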