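import Groth.Agent.Lib.Helper29.DPWeyl

set_option autoImplicit false

namespace Groth.Agent.Lib.Helper29.DPLat

open W4c3severiratdp

def tab_con8_0 : List (DP 8 × List (DP 8 × DP 8) × DP 8) := [
  (![1, 1, 0, 0, 0, 0, 0, 0, 0], [], ![1, 1, 0, 0, 0, 0, 0, 0, 0]),
  (![2, 1, 1, 1, 1, 0, 0, 0, 0], [(![-1, 0, -1, -1, -1, 0, 0, 0, 0], ![1, 1, 0, 0, 0, 0, 0, 0, 0])], ![1, 1, 0, 0, 0, 0, 0, 0, 0]),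
  (![3, 2, 1, 1, 1, 1, 1, 0, 0], [(![-2, -1, -1, -1, -1, -1, -1, 0, 0], ![1, 1, 0, 0, 0, 0, 0, 0, 0])], ![1, 1, 0, 0, 0, 0, 0, 0, 0]),
  (![4, 2, 2, 2, 1, 1, 1, 1, 0], [(![-1, 0, -1, -1, 0, 0, 0, -1, 0], ![3, 2, 1, 1, 1, 1, 1, 0, 0]), (![-2, -1, -1, -1, -1, -1, -1, 0, 0], ![1, 1, 0, 0, 0, 0, 0, 0, 0])], ![1, 1, 0, 0, 0, 0, 0, 0, 0]),
  (![4, 3, 1, 1, 1, 1, 1, 1, 1], [(![-3, -2, -1, -1, -1, -1, -1, -1, -1], ![1, 1, 0, 0, 0, 0, 0, 0, 0])], ![1, 1, 0, 0, 0, 0, 0, 0, 0]),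
  (![5, 2, 2, 2, 2, 2, 2, 1, 0], [(![-2, 0, -1, -1, -1, -1, -1, -1, 0], ![3, 2, 1, 1, 1, 1, 1, 0, 0]), (![-2, -1, -1, -1, -1, -1, -1, 0, 0], ![1, 1, 0, 0, 0, 0, 0, 0, 0])], ![1, 1, 0, 0, 0, 0, 0, 0, 0]),
  (![5, 3, 2, 2, 2, 1, 1, 1, 1], [(![-1, 0, -1, -1, -1, 0, 0, 0, 0], ![4, 3, 1, 1, 1, 1, 1, 1, 1]), (![-3, -2, -1, -1, -1, -1, -1, -1, -1], ![1, 1, 0, 0, 0, 0, 0, 0, 0])], ![1, 1, 0, 0, 0, 0, 0, 0, 0]),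
  (![6, 3, 3, 2, 2, 2, 2, 1, 1], [(![-1, 0, -1, 0, 0, 0, 0, -1, -1], ![7, 3, 4, 2, 2, 2, 2, 2, 2]), (![-3, -1, -2, -1, -1, -1, -1, -1, -1], ![1, 1, 0, 0, 0, 0, 0, 0, 0])], ![1, 1, 0, 0, 0, 0, 0, 0, 0]),
  (![7, 3, 3, 3, 3, 2, 2, 2, 1], [(![-1, 0, 0, 0, 0, -1, -1, -1, 0], ![8, 3, 3, 3, 3, 3, 3, 3, 1]), (![-2, 0, -1, -1, -1, -1, -1, -1, 0], ![4, 3, 1, 1, 1, 1, 1, 1, 1]), (![-3, -2, -1, -1, -1, -1, -1, -1, -1], ![1, 1, 0, 0, 0, 0, 0, 0, 0])], ![1, 1, 0, 0, 0, 0, 0, 0, 0]),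
  (![7, 4, 3, 2, 2, 2, 2, 2, 2], [(![-3, -1, -2, -1, -1, -1, -1, -1, -1], ![4, 3, 1, 1, 1, 1, 1, 1, 1]), (![-3, -2, -1, -1, -1, -1, -1, -1, -1], ![1, 1, 0, 0, 0, 0, 0, 0, 0])], ![1, 1, 0, 0, 0, 0, 0, 0, 0]),
  (![8, 3, 3, 3, 3, 3, 3, 3, 1], [(![-2, 0, -1, -1, -1, -1, -1, -1, 0], ![4, 3, 1, 1, 1, 1, 1, 1, 1]), (![-3, -2, -1, -1, -1, -1, -1, -1, -1], ![1, 1, 0, 0, 0, 0, 0, 0, 0])], ![1, 1, 0, 0, 0, 0, 0, 0, 0]),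
  (![8, 4, 3, 3, 3, 3, 2, 2, 2], [(![-1, 0, 0, -1, -1, -1, 0, 0, 0], ![7, 4, 3, 2, 2, 2, 2, 2, 2]), (![-3, -1, -2, -1, -1, -1, -1, -1, -1], ![4, 3, 1, 1, 1, 1, 1, 1, 1]), (![-3, -2, -1, -1, -1, -1, -1, -1, -1], ![1, 1, 0, 0, 0, 0, 0, 0, 0])], ![1, 1, 0, 0, 0, 0, 0, 0, 0]),
  (![9, 4, 4, 3, 3, 3, 3, 3, 2], [(![-2, -1, 0, -1, -1, -1, -1, -1, 0], ![7, 3, 4, 2, 2, 2, 2, 2, 2]), (![-3, -1, -2, -1, -1, -1, -1, -1, -1], ![1, 1, 0, 0, 0, 0, 0, 0, 0])], ![1, 1, 0, 0, 0, 0, 0, 0, 0]),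
  (![10, 4, 4, 4, 4, 3, 3, 3, 3], [(![-1, 0, 0, -1, -1, 0, 0, 0, -1], ![9, 4, 4, 3, 3, 3, 3, 3, 2]), (![-2, -1, 0, -1, -1, -1, -1, -1, 0], ![7, 3, 4, 2, 2, 2, 2, 2, 2]), (![-3, -1, -2, -1, -1, -1, -1, -1, -1], ![1, 1, 0, 0, 0, 0, 0, 0, 0])], ![1, 1, 0, 0, 0, 0, 0, 0, 0]),
  (![11, 4, 4, 4, 4, 4, 4, 4, 3], [(![-2, 0, -1, -1, -1, -1, -1, -1, 0], ![7, 4, 2, 2, 2, 2, 2, 2, 3]), (![-3, -1, -1, -1, -1, -1, -1, -1, -2], ![4, 3, 1, 1, 1, 1, 1, 1, 1]), (![-3, -2, -1, -1, -1, -1, -1, -1, -1], ![1, 1, 0, 0, 0, 0, 0, 0, 0])], ![1, 1, 0, 0, 0, 0, 0, 0, 0])]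

theorem rep_con8_0 (x : DP 8) (hx : IsConic x) : ∃ e ∈ tab_con8_0, Rel ([] : List (DP 8)) x e.2.2 :=
  exists_rep 1 (by norm_num) (by norm_num) [] (0) (-2) 11 tab_con8_0
    (by decide +kernel) (by decide +kernel) (by decide +kernel) x hx.1 hx.2 (conic_bounds' (by norm_num) x hx)
def tab_con8_1 : List (DP 8 × List (DP 8 × DP 8) × DP 8) := [
  (![1, 0, 1, 0, 0, 0, 0, 0, 0], [], ![1, 0, 1, 0, 0, 0, 0, 0, 0]),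
  (![1, 1, 0, 0, 0, 0, 0, 0, 0], [], ![1, 1, 0, 0, 0, 0, 0, 0, 0]),
  (![2, 0, 1, 1, 1, 1, 0, 0, 0], [], ![2, 0, 1, 1, 1, 1, 0, 0, 0]),
  (![2, 1, 1, 1, 1, 0, 0, 0, 0], [(![-1, -1, 0, -1, -1, 0, 0, 0, 0], ![1, 0, 1, 0, 0, 0, 0, 0, 0])], ![1, 0, 1, 0, 0, 0, 0, 0, 0]),
  (![3, 0, 2, 1, 1, 1, 1, 1, 0], [], ![3, 0, 2, 1, 1, 1, 1, 1, 0]),
  (![3, 1, 2, 1, 1, 1, 1, 0, 0], [(![-1, -1, -1, 0, 0, 0, -1, 0, 0], ![2, 0, 1, 1, 1, 1, 0, 0, 0])], ![2, 0, 1, 1, 1, 1, 0, 0, 0]),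
  (![3, 2, 1, 1, 1, 1, 1, 0, 0], [(![-1, -1, 0, 0, 0, -1, -1, 0, 0], ![2, 1, 1, 1, 1, 0, 0, 0, 0]), (![-1, -1, 0, -1, -1, 0, 0, 0, 0], ![1, 0, 1, 0, 0, 0, 0, 0, 0])], ![1, 0, 1, 0, 0, 0, 0, 0, 0]),
  (![4, 0, 2, 2, 2, 1, 1, 1, 1], [], ![4, 0, 2, 2, 2, 1, 1, 1, 1]),
  (![4, 1, 2, 2, 2, 1, 1, 1, 0], [(![-1, -1, 0, -1, -1, 0, 0, 0, 0], ![3, 0, 2, 1, 1, 1, 1, 1, 0])], ![3, 0, 2, 1, 1, 1, 1, 1, 0]),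
  (![4, 1, 3, 1, 1, 1, 1, 1, 1], [(![-1, -1, -1, 0, 0, 0, 0, 0, -1], ![3, 0, 2, 1, 1, 1, 1, 1, 0])], ![3, 0, 2, 1, 1, 1, 1, 1, 0]),
  (![4, 2, 2, 2, 1, 1, 1, 1, 0], [(![-1, -1, 0, -1, 0, 0, 0, -1, 0], ![3, 1, 2, 1, 1, 1, 1, 0, 0]), (![-1, -1, -1, 0, 0, 0, -1, 0, 0], ![2, 0, 1, 1, 1, 1, 0, 0, 0])], ![2, 0, 1, 1, 1, 1, 0, 0, 0]),
  (![4, 3, 1, 1, 1, 1, 1, 1, 1], [(![-1, -1, 0, 0, 0, 0, 0, -1, -1], ![3, 2, 1, 1, 1, 1, 1, 0, 0]), (![-1, -1, 0, 0, 0, -1, -1, 0, 0], ![2, 1, 1, 1, 1, 0, 0, 0, 0]), (![-1, -1, 0, -1, -1, 0, 0, 0, 0], ![1, 0, 1, 0, 0, 0, 0, 0, 0])], ![1, 0, 1, 0, 0, 0, 0, 0, 0]),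
  (![5, 0, 2, 2, 2, 2, 2, 2, 1], [], ![5, 0, 2, 2, 2, 2, 2, 2, 1]),
  (![5, 1, 2, 2, 2, 2, 2, 2, 0], [], ![5, 1, 2, 2, 2, 2, 2, 2, 0]),
  (![5, 1, 3, 2, 2, 2, 1, 1, 1], [(![-1, -1, -1, 0, 0, -1, 0, 0, 0], ![4, 0, 2, 2, 2, 1, 1, 1, 1])], ![4, 0, 2, 2, 2, 1, 1, 1, 1]),
  (![5, 2, 2, 2, 2, 2, 2, 1, 0], [(![-1, -1, 0, 0, 0, -1, -1, 0, 0], ![4, 1, 2, 2, 2, 1, 1, 1, 0]), (![-1, -1, 0, -1, -1, 0, 0, 0, 0], ![3, 0, 2, 1, 1, 1, 1, 1, 0])], ![3, 0, 2, 1, 1, 1, 1, 1, 0]),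
  (![5, 2, 3, 2, 2, 1, 1, 1, 1], [(![-1, -1, 0, -1, -1, 0, 0, 0, 0], ![4, 1, 3, 1, 1, 1, 1, 1, 1]), (![-1, -1, -1, 0, 0, 0, 0, 0, -1], ![3, 0, 2, 1, 1, 1, 1, 1, 0])], ![3, 0, 2, 1, 1, 1, 1, 1, 0]),
  (![5, 3, 2, 2, 2, 1, 1, 1, 1], [(![-1, -1, 0, 0, -1, 0, 0, 0, -1], ![4, 2, 2, 2, 1, 1, 1, 1, 0]), (![-1, -1, 0, -1, 0, 0, 0, -1, 0], ![3, 1, 2, 1, 1, 1, 1, 0, 0]), (![-1, -1, -1, 0, 0, 0, -1, 0, 0], ![2, 0, 1, 1, 1, 1, 0, 0, 0])], ![2, 0, 1, 1, 1, 1, 0, 0, 0]),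
  (![6, 1, 3, 3, 2, 2, 2, 2, 1], [(![-1, -1, -1, -1, 0, 0, 0, 0, 0], ![5, 0, 2, 2, 2, 2, 2, 2, 1])], ![5, 0, 2, 2, 2, 2, 2, 2, 1]),
  (![6, 2, 3, 3, 2, 2, 2, 1, 1], [(![-1, -1, 0, -1, 0, 0, -1, 0, 0], ![5, 1, 3, 2, 2, 2, 1, 1, 1]), (![-1, -1, -1, 0, 0, -1, 0, 0, 0], ![4, 0, 2, 2, 2, 1, 1, 1, 1])], ![4, 0, 2, 2, 2, 1, 1, 1, 1]),
  (![6, 3, 3, 2, 2, 2, 2, 1, 1], [(![-1, -1, 0, 0, 0, -1, -1, 0, 0], ![5, 2, 3, 2, 2, 1, 1, 1, 1]), (![-1, -1, 0, -1, -1, 0, 0, 0, 0], ![4, 1, 3, 1, 1, 1, 1, 1, 1]), (![-1, -1, -1, 0, 0, 0, 0, 0, -1], ![3, 0, 2, 1, 1, 1, 1, 1, 0])], ![3, 0, 2, 1, 1, 1, 1, 1, 0]),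
  (![7, 1, 3, 3, 3, 3, 2, 2, 2], [], ![7, 1, 3, 3, 3, 3, 2, 2, 2]),
  (![7, 2, 3, 3, 3, 3, 2, 2, 1], [(![-1, -1, 0, 0, -1, -1, 0, 0, 0], ![6, 1, 3, 3, 2, 2, 2, 2, 1]), (![-1, -1, -1, -1, 0, 0, 0, 0, 0], ![5, 0, 2, 2, 2, 2, 2, 2, 1])], ![5, 0, 2, 2, 2, 2, 2, 2, 1]),
  (![7, 2, 4, 3, 2, 2, 2, 2, 2], [(![-1, -1, -1, 0, 0, 0, 0, 0, -1], ![6, 1, 3, 3, 2, 2, 2, 2, 1]), (![-1, -1, -1, -1, 0, 0, 0, 0, 0], ![5, 0, 2, 2, 2, 2, 2, 2, 1])], ![5, 0, 2, 2, 2, 2, 2, 2, 1]),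
  (![7, 3, 3, 3, 3, 2, 2, 2, 1], [(![-1, -1, 0, 0, -1, 0, 0, -1, 0], ![6, 2, 3, 3, 2, 2, 2, 1, 1]), (![-1, -1, 0, -1, 0, 0, -1, 0, 0], ![5, 1, 3, 2, 2, 2, 1, 1, 1]), (![-1, -1, -1, 0, 0, -1, 0, 0, 0], ![4, 0, 2, 2, 2, 1, 1, 1, 1])], ![4, 0, 2, 2, 2, 1, 1, 1, 1]),
  (![7, 3, 4, 2, 2, 2, 2, 2, 2], [(![-1, -1, -1, 0, 0, 0, 0, 0, -1], ![5, 1, 2, 2, 2, 2, 2, 2, 0])], ![5, 1, 2, 2, 2, 2, 2, 2, 0]),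
  (![7, 4, 3, 2, 2, 2, 2, 2, 2], [(![-1, -1, 0, 0, 0, 0, 0, -1, -1], ![6, 3, 3, 2, 2, 2, 2, 1, 1]), (![-1, -1, 0, 0, 0, -1, -1, 0, 0], ![5, 2, 3, 2, 2, 1, 1, 1, 1]), (![-1, -1, 0, -1, -1, 0, 0, 0, 0], ![4, 1, 3, 1, 1, 1, 1, 1, 1]), (![-1, -1, -1, 0, 0, 0, 0, 0, -1], ![3, 0, 2, 1, 1, 1, 1, 1, 0])], ![3, 0, 2, 1, 1, 1, 1, 1, 0]),
  (![8, 1, 3, 3, 3, 3, 3, 3, 3], [], ![8, 1, 3, 3, 3, 3, 3, 3, 3]),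
  (![8, 2, 4, 3, 3, 3, 3, 2, 2], [(![-1, -1, -1, 0, 0, 0, -1, 0, 0], ![7, 1, 3, 3, 3, 3, 2, 2, 2])], ![7, 1, 3, 3, 3, 3, 2, 2, 2]),
  (![8, 3, 3, 3, 3, 3, 3, 3, 1], [(![-1, -1, 0, 0, 0, 0, -1, -1, 0], ![7, 2, 3, 3, 3, 3, 2, 2, 1]), (![-1, -1, 0, 0, -1, -1, 0, 0, 0], ![6, 1, 3, 3, 2, 2, 2, 2, 1]), (![-1, -1, -1, -1, 0, 0, 0, 0, 0], ![5, 0, 2, 2, 2, 2, 2, 2, 1])], ![5, 0, 2, 2, 2, 2, 2, 2, 1]),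
  (![8, 3, 4, 3, 3, 3, 2, 2, 2], [(![-1, -1, 0, 0, -1, -1, 0, 0, 0], ![7, 2, 4, 3, 2, 2, 2, 2, 2]), (![-1, -1, -1, 0, 0, 0, 0, 0, -1], ![6, 1, 3, 3, 2, 2, 2, 2, 1]), (![-1, -1, -1, -1, 0, 0, 0, 0, 0], ![5, 0, 2, 2, 2, 2, 2, 2, 1])], ![5, 0, 2, 2, 2, 2, 2, 2, 1]),
  (![8, 4, 3, 3, 3, 3, 2, 2, 2], [(![-1, -1, 0, 0, 0, -1, 0, 0, -1], ![7, 3, 3, 3, 3, 2, 2, 2, 1]), (![-1, -1, 0, 0, -1, 0, 0, -1, 0], ![6, 2, 3, 3, 2, 2, 2, 1, 1]), (![-1, -1, 0, -1, 0, 0, -1, 0, 0], ![5, 1, 3, 2, 2, 2, 1, 1, 1]), (![-1, -1, -1, 0, 0, -1, 0, 0, 0], ![4, 0, 2, 2, 2, 1, 1, 1, 1])], ![4, 0, 2, 2, 2, 1, 1, 1, 1]),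
  (![9, 2, 4, 4, 3, 3, 3, 3, 3], [(![-1, -1, -1, -1, 0, 0, 0, 0, 0], ![8, 1, 3, 3, 3, 3, 3, 3, 3])], ![8, 1, 3, 3, 3, 3, 3, 3, 3]),
  (![9, 3, 4, 4, 3, 3, 3, 3, 2], [(![-1, -1, 0, -1, 0, 0, 0, -1, 0], ![8, 2, 4, 3, 3, 3, 3, 2, 2]), (![-1, -1, -1, 0, 0, 0, -1, 0, 0], ![7, 1, 3, 3, 3, 3, 2, 2, 2])], ![7, 1, 3, 3, 3, 3, 2, 2, 2]),
  (![9, 4, 4, 3, 3, 3, 3, 3, 2], [(![-1, -1, 0, 0, 0, 0, -1, -1, 0], ![8, 3, 4, 3, 3, 3, 2, 2, 2]), (![-1, -1, 0, 0, -1, -1, 0, 0, 0], ![7, 2, 4, 3, 2, 2, 2, 2, 2]), (![-1, -1, -1, 0, 0, 0, 0, 0, -1], ![6, 1, 3, 3, 2, 2, 2, 2, 1]), (![-1, -1, -1, -1, 0, 0, 0, 0, 0], ![5, 0, 2, 2, 2, 2, 2, 2, 1])], ![5, 0, 2, 2, 2, 2, 2, 2, 1]),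
  (![10, 3, 4, 4, 4, 4, 3, 3, 3], [(![-1, -1, 0, 0, -1, -1, 0, 0, 0], ![9, 2, 4, 4, 3, 3, 3, 3, 3]), (![-1, -1, -1, -1, 0, 0, 0, 0, 0], ![8, 1, 3, 3, 3, 3, 3, 3, 3])], ![8, 1, 3, 3, 3, 3, 3, 3, 3]),
  (![10, 4, 4, 4, 4, 3, 3, 3, 3], [(![-1, -1, 0, 0, -1, 0, 0, 0, -1], ![9, 3, 4, 4, 3, 3, 3, 3, 2]), (![-1, -1, 0, -1, 0, 0, 0, -1, 0], ![8, 2, 4, 3, 3, 3, 3, 2, 2]), (![-1, -1, -1, 0, 0, 0, -1, 0, 0], ![7, 1, 3, 3, 3, 3, 2, 2, 2])], ![7, 1, 3, 3, 3, 3, 2, 2, 2]),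
  (![11, 3, 4, 4, 4, 4, 4, 4, 4], [], ![11, 3, 4, 4, 4, 4, 4, 4, 4]),
  (![11, 4, 4, 4, 4, 4, 4, 4, 3], [(![-1, -1, 0, 0, 0, 0, -1, -1, 0], ![10, 3, 4, 4, 4, 4, 3, 3, 3]), (![-1, -1, 0, 0, -1, -1, 0, 0, 0], ![9, 2, 4, 4, 3, 3, 3, 3, 3]), (![-1, -1, -1, -1, 0, 0, 0, 0, 0], ![8, 1, 3, 3, 3, 3, 3, 3, 3])], ![8, 1, 3, 3, 3, 3, 3, 3, 3])]

theorem rep_con8_1 (x : DP 8) (hx : IsConic x) : ∃ e ∈ tab_con8_1, Rel ([![1, 1, 0, 0, 0, 0, 0, 0, 0]] : List (DP 8)) x e.2.2 :=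
  exists_rep 2 (by norm_num) (by norm_num) [![1, 1, 0, 0, 0, 0, 0, 0, 0]] (0) (-2) 11 tab_con8_1
    (by decide +kernel) (by decide +kernel) (by decide +kernel) x hx.1 hx.2 (conic_bounds' (by norm_num) x hx)

end Groth.Agent.Lib.Helper29.DPLat
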