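import Groth.Agent.Lib.Helper29.DPWeyl

set_option autoImplicit false

namespace Groth.Agent.Lib.Helper29.DPLat

open W4c3severiratdp

def tab_exc8_0 : List (DP 8 × List (DP 8 × DP 8) × DP 8) := [
  (![0, 0, 0, 0, 0, 0, 0, 0, -1], [(![0, -1, 0, 0, 0, 0, 0, 0, 1], ![0, -1, 0, 0, 0, 0, 0, 0, 0])], ![0, -1, 0, 0, 0, 0, 0, 0, 0]),
  (![1, 1, 1, 0, 0, 0, 0, 0, 0], [(![0, -1, 0, 1, 0, 0, 0, 0, 0], ![1, 0, 1, 1, 0, 0, 0, 0, 0]), (![-1, -1, -1, -1, 0, 0, 0, 0, 0], ![0, -1, 0, 0, 0, 0, 0, 0, 0])], ![0, -1, 0, 0, 0, 0, 0, 0, 0]),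
  (![2, 1, 1, 1, 1, 1, 0, 0, 0], [(![0, -1, 0, 0, 0, 0, 1, 0, 0], ![2, 0, 1, 1, 1, 1, 1, 0, 0]), (![-2, -1, -1, -1, -1, -1, -1, 0, 0], ![0, -1, 0, 0, 0, 0, 0, 0, 0])], ![0, -1, 0, 0, 0, 0, 0, 0, 0]),
  (![3, 2, 1, 1, 1, 1, 1, 1, 0], [(![-3, -1, -1, -1, -1, -1, -1, -1, -2], ![6, 3, 2, 2, 2, 2, 2, 2, 2]), (![-3, -2, -1, -1, -1, -1, -1, -1, -1], ![0, -1, 0, 0, 0, 0, 0, 0, 0])], ![0, -1, 0, 0, 0, 0, 0, 0, 0]),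
  (![4, 2, 2, 2, 1, 1, 1, 1, 1], [(![-2, -1, 0, 0, -1, -1, -1, -1, -1], ![6, 3, 2, 2, 2, 2, 2, 2, 2]), (![-3, -2, -1, -1, -1, -1, -1, -1, -1], ![0, -1, 0, 0, 0, 0, 0, 0, 0])], ![0, -1, 0, 0, 0, 0, 0, 0, 0]),
  (![5, 2, 2, 2, 2, 2, 2, 1, 1], [(![-1, -1, 0, 0, 0, 0, 0, -1, -1], ![6, 3, 2, 2, 2, 2, 2, 2, 2]), (![-3, -2, -1, -1, -1, -1, -1, -1, -1], ![0, -1, 0, 0, 0, 0, 0, 0, 0])], ![0, -1, 0, 0, 0, 0, 0, 0, 0]),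
  (![6, 3, 2, 2, 2, 2, 2, 2, 2], [(![-3, -2, -1, -1, -1, -1, -1, -1, -1], ![0, -1, 0, 0, 0, 0, 0, 0, 0])], ![0, -1, 0, 0, 0, 0, 0, 0, 0])]

theorem rep_exc8_0 (x : DP 8) (hx : IsExc x) : ∃ e ∈ tab_exc8_0, Rel ([] : List (DP 8)) x e.2.2 :=
  exists_rep 1 (by norm_num) (by norm_num) [] (-1) (-1) 7 tab_exc8_0
    (by decide +kernel) (by decide +kernel) (by decide +kernel) x hx.1 hx.2 (exc_bounds' (by norm_num) x hx)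
def tab_exc8_1 : List (DP 8 × List (DP 8 × DP 8) × DP 8) := [
  (![0, -1, 0, 0, 0, 0, 0, 0, 0], [], ![0, -1, 0, 0, 0, 0, 0, 0, 0]),
  (![0, 0, 0, 0, 0, 0, 0, 0, -1], [(![0, 0, -1, 0, 0, 0, 0, 0, 1], ![0, 0, -1, 0, 0, 0, 0, 0, 0])], ![0, 0, -1, 0, 0, 0, 0, 0, 0]),
  (![1, 0, 1, 1, 0, 0, 0, 0, 0], [(![0, 0, -1, 0, 1, 0, 0, 0, 0], ![1, 0, 0, 1, 1, 0, 0, 0, 0]), (![-1, 0, -1, -1, -1, 0, 0, 0, 0], ![0, 0, -1, 0, 0, 0, 0, 0, 0])], ![0, 0, -1, 0, 0, 0, 0, 0, 0]),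
  (![1, 1, 1, 0, 0, 0, 0, 0, 0], [], ![1, 1, 1, 0, 0, 0, 0, 0, 0]),
  (![2, 0, 1, 1, 1, 1, 1, 0, 0], [(![0, 0, -1, 0, 0, 0, 0, 1, 0], ![2, 0, 0, 1, 1, 1, 1, 1, 0]), (![-2, 0, -1, -1, -1, -1, -1, -1, 0], ![0, 0, -1, 0, 0, 0, 0, 0, 0])], ![0, 0, -1, 0, 0, 0, 0, 0, 0]),
  (![2, 1, 1, 1, 1, 1, 0, 0, 0], [(![-1, 0, 0, -1, -1, -1, 0, 0, 0], ![1, 1, 1, 0, 0, 0, 0, 0, 0])], ![1, 1, 1, 0, 0, 0, 0, 0, 0]),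
  (![3, 0, 2, 1, 1, 1, 1, 1, 1], [(![0, 0, -1, 1, 0, 0, 0, 0, 0], ![3, 0, 1, 2, 1, 1, 1, 1, 1]), (![-1, 0, -1, -1, 0, 0, 0, 0, -1], ![2, 0, 0, 1, 1, 1, 1, 1, 0]), (![-2, 0, -1, -1, -1, -1, -1, -1, 0], ![0, 0, -1, 0, 0, 0, 0, 0, 0])], ![0, 0, -1, 0, 0, 0, 0, 0, 0]),
  (![3, 1, 2, 1, 1, 1, 1, 1, 0], [(![-2, 0, -1, -1, -1, -1, -1, -1, 0], ![1, 1, 1, 0, 0, 0, 0, 0, 0])], ![1, 1, 1, 0, 0, 0, 0, 0, 0]),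
  (![3, 2, 1, 1, 1, 1, 1, 1, 0], [], ![3, 2, 1, 1, 1, 1, 1, 1, 0]),
  (![4, 1, 2, 2, 2, 1, 1, 1, 1], [(![-1, 0, 0, -1, -1, 0, 0, 0, -1], ![3, 1, 2, 1, 1, 1, 1, 1, 0]), (![-2, 0, -1, -1, -1, -1, -1, -1, 0], ![1, 1, 1, 0, 0, 0, 0, 0, 0])], ![1, 1, 1, 0, 0, 0, 0, 0, 0]),
  (![4, 2, 2, 2, 1, 1, 1, 1, 1], [(![-1, 0, -1, -1, 0, 0, 0, 0, -1], ![3, 2, 1, 1, 1, 1, 1, 1, 0])], ![3, 2, 1, 1, 1, 1, 1, 1, 0]),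
  (![5, 1, 2, 2, 2, 2, 2, 2, 1], [(![-2, 0, 0, -1, -1, -1, -1, -1, -1], ![3, 1, 2, 1, 1, 1, 1, 1, 0]), (![-2, 0, -1, -1, -1, -1, -1, -1, 0], ![1, 1, 1, 0, 0, 0, 0, 0, 0])], ![1, 1, 1, 0, 0, 0, 0, 0, 0]),
  (![5, 2, 2, 2, 2, 2, 2, 1, 1], [(![-2, 0, -1, -1, -1, -1, -1, 0, -1], ![3, 2, 1, 1, 1, 1, 1, 1, 0])], ![3, 2, 1, 1, 1, 1, 1, 1, 0]),
  (![6, 2, 3, 2, 2, 2, 2, 2, 2], [(![-1, 0, -1, 0, 0, 0, 0, -1, -1], ![5, 2, 2, 2, 2, 2, 2, 1, 1]), (![-2, 0, -1, -1, -1, -1, -1, 0, -1], ![3, 2, 1, 1, 1, 1, 1, 1, 0])], ![3, 2, 1, 1, 1, 1, 1, 1, 0]),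
  (![6, 3, 2, 2, 2, 2, 2, 2, 2], [], ![6, 3, 2, 2, 2, 2, 2, 2, 2])]

theorem rep_exc8_1 (x : DP 8) (hx : IsExc x) : ∃ e ∈ tab_exc8_1, Rel ([![0, -1, 0, 0, 0, 0, 0, 0, 0]] : List (DP 8)) x e.2.2 :=
  exists_rep 2 (by norm_num) (by norm_num) [![0, -1, 0, 0, 0, 0, 0, 0, 0]] (-1) (-1) 7 tab_exc8_1
    (by decide +kernel) (by decide +kernel) (by decide +kernel) x hx.1 hx.2 (exc_bounds' (by norm_num) x hx)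
def tab_exc8_2 : List (DP 8 × List (DP 8 × DP 8) × DP 8) := [
  (![0, -1, 0, 0, 0, 0, 0, 0, 0], [], ![0, -1, 0, 0, 0, 0, 0, 0, 0]),
  (![0, 0, -1, 0, 0, 0, 0, 0, 0], [], ![0, 0, -1, 0, 0, 0, 0, 0, 0]),
  (![0, 0, 0, 0, 0, 0, 0, 0, -1], [], ![0, 0, 0, 0, 0, 0, 0, 0, -1]),
  (![1, 0, 0, 1, 1, 0, 0, 0, 0], [(![-1, 0, -1, -1, -1, 0, 0, 0, 0], ![0, 0, -1, 0, 0, 0, 0, 0, 0])], ![0, 0, -1, 0, 0, 0, 0, 0, 0]),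
  (![1, 0, 1, 1, 0, 0, 0, 0, 0], [(![-1, 0, -1, -1, 0, 0, 0, 0, -1], ![0, 0, 0, 0, 0, 0, 0, 0, -1])], ![0, 0, 0, 0, 0, 0, 0, 0, -1]),
  (![1, 1, 0, 1, 0, 0, 0, 0, 0], [], ![1, 1, 0, 1, 0, 0, 0, 0, 0]),
  (![1, 1, 1, 0, 0, 0, 0, 0, 0], [], ![1, 1, 1, 0, 0, 0, 0, 0, 0]),
  (![2, 0, 0, 1, 1, 1, 1, 1, 0], [], ![2, 0, 0, 1, 1, 1, 1, 1, 0]),
  (![2, 0, 1, 1, 1, 1, 1, 0, 0], [(![-1, 0, -1, 0, 0, -1, -1, 0, 0], ![1, 0, 0, 1, 1, 0, 0, 0, 0]), (![-1, 0, -1, -1, -1, 0, 0, 0, 0], ![0, 0, -1, 0, 0, 0, 0, 0, 0])], ![0, 0, -1, 0, 0, 0, 0, 0, 0]),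
  (![2, 1, 0, 1, 1, 1, 1, 0, 0], [], ![2, 1, 0, 1, 1, 1, 1, 0, 0]),
  (![2, 1, 1, 1, 1, 1, 0, 0, 0], [(![-1, 0, -1, 0, -1, -1, 0, 0, 0], ![1, 1, 0, 1, 0, 0, 0, 0, 0])], ![1, 1, 0, 1, 0, 0, 0, 0, 0]),
  (![3, 0, 1, 2, 1, 1, 1, 1, 1], [(![-1, 0, -1, -1, 0, 0, 0, 0, -1], ![2, 0, 0, 1, 1, 1, 1, 1, 0])], ![2, 0, 0, 1, 1, 1, 1, 1, 0]),
  (![3, 0, 2, 1, 1, 1, 1, 1, 1], [(![-1, 0, -1, 0, 0, 0, 0, -1, -1], ![2, 0, 1, 1, 1, 1, 1, 0, 0]), (![-1, 0, -1, 0, 0, -1, -1, 0, 0], ![1, 0, 0, 1, 1, 0, 0, 0, 0]), (![-1, 0, -1, -1, -1, 0, 0, 0, 0], ![0, 0, -1, 0, 0, 0, 0, 0, 0])], ![0, 0, -1, 0, 0, 0, 0, 0, 0]),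
  (![3, 1, 0, 2, 1, 1, 1, 1, 1], [], ![3, 1, 0, 2, 1, 1, 1, 1, 1]),
  (![3, 1, 1, 2, 1, 1, 1, 1, 0], [(![-1, 0, -1, -1, 0, 0, 0, -1, 0], ![2, 1, 0, 1, 1, 1, 1, 0, 0])], ![2, 1, 0, 1, 1, 1, 1, 0, 0]),
  (![3, 1, 2, 1, 1, 1, 1, 1, 0], [(![-1, 0, -1, 0, 0, 0, -1, -1, 0], ![2, 1, 1, 1, 1, 1, 0, 0, 0]), (![-1, 0, -1, 0, -1, -1, 0, 0, 0], ![1, 1, 0, 1, 0, 0, 0, 0, 0])], ![1, 1, 0, 1, 0, 0, 0, 0, 0]),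
  (![3, 2, 0, 1, 1, 1, 1, 1, 1], [], ![3, 2, 0, 1, 1, 1, 1, 1, 1]),
  (![3, 2, 1, 1, 1, 1, 1, 1, 0], [], ![3, 2, 1, 1, 1, 1, 1, 1, 0]),
  (![4, 1, 1, 2, 2, 2, 1, 1, 1], [(![-1, 0, -1, 0, -1, -1, 0, 0, 0], ![3, 1, 0, 2, 1, 1, 1, 1, 1])], ![3, 1, 0, 2, 1, 1, 1, 1, 1]),
  (![4, 1, 2, 2, 2, 1, 1, 1, 1], [(![-1, 0, -1, 0, -1, 0, 0, 0, -1], ![3, 1, 1, 2, 1, 1, 1, 1, 0]), (![-1, 0, -1, -1, 0, 0, 0, -1, 0], ![2, 1, 0, 1, 1, 1, 1, 0, 0])], ![2, 1, 0, 1, 1, 1, 1, 0, 0]),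
  (![4, 2, 1, 2, 2, 1, 1, 1, 1], [(![-1, 0, -1, -1, -1, 0, 0, 0, 0], ![3, 2, 0, 1, 1, 1, 1, 1, 1])], ![3, 2, 0, 1, 1, 1, 1, 1, 1]),
  (![4, 2, 2, 2, 1, 1, 1, 1, 1], [(![-1, 0, -1, -1, 0, 0, 0, 0, -1], ![3, 2, 1, 1, 1, 1, 1, 1, 0])], ![3, 2, 1, 1, 1, 1, 1, 1, 0]),
  (![5, 1, 1, 2, 2, 2, 2, 2, 2], [], ![5, 1, 1, 2, 2, 2, 2, 2, 2]),
  (![5, 1, 2, 2, 2, 2, 2, 2, 1], [(![-1, 0, -1, 0, 0, 0, -1, -1, 0], ![4, 1, 1, 2, 2, 2, 1, 1, 1]), (![-1, 0, -1, 0, -1, -1, 0, 0, 0], ![3, 1, 0, 2, 1, 1, 1, 1, 1])], ![3, 1, 0, 2, 1, 1, 1, 1, 1]),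
  (![5, 2, 1, 2, 2, 2, 2, 2, 1], [], ![5, 2, 1, 2, 2, 2, 2, 2, 1]),
  (![5, 2, 2, 2, 2, 2, 2, 1, 1], [(![-1, 0, -1, 0, 0, -1, -1, 0, 0], ![4, 2, 1, 2, 2, 1, 1, 1, 1]), (![-1, 0, -1, -1, -1, 0, 0, 0, 0], ![3, 2, 0, 1, 1, 1, 1, 1, 1])], ![3, 2, 0, 1, 1, 1, 1, 1, 1]),
  (![6, 2, 2, 3, 2, 2, 2, 2, 2], [(![-1, 0, -1, -1, 0, 0, 0, 0, -1], ![5, 2, 1, 2, 2, 2, 2, 2, 1])], ![5, 2, 1, 2, 2, 2, 2, 2, 1]),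
  (![6, 2, 3, 2, 2, 2, 2, 2, 2], [(![-1, 0, -1, 0, 0, 0, 0, -1, -1], ![5, 2, 2, 2, 2, 2, 2, 1, 1]), (![-1, 0, -1, 0, 0, -1, -1, 0, 0], ![4, 2, 1, 2, 2, 1, 1, 1, 1]), (![-1, 0, -1, -1, -1, 0, 0, 0, 0], ![3, 2, 0, 1, 1, 1, 1, 1, 1])], ![3, 2, 0, 1, 1, 1, 1, 1, 1]),
  (![6, 3, 2, 2, 2, 2, 2, 2, 2], [], ![6, 3, 2, 2, 2, 2, 2, 2, 2])]

theorem rep_exc8_2 (x : DP 8) (hx : IsExc x) : ∃ e ∈ tab_exc8_2, Rel ([![0, -1, 0, 0, 0, 0, 0, 0, 0], ![1, 1, 1, 0, 0, 0, 0, 0, 0]] : List (DP 8)) x e.2.2 :=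
  exists_rep 3 (by norm_num) (by norm_num) [![0, -1, 0, 0, 0, 0, 0, 0, 0], ![1, 1, 1, 0, 0, 0, 0, 0, 0]] (-1) (-1) 7 tab_exc8_2
    (by decide +kernel) (by decide +kernel) (by decide +kernel) x hx.1 hx.2 (exc_bounds' (by norm_num) x hx)

end Groth.Agent.Lib.Helper29.DPLat
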