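import Groth.Prelude.Def_W4c3severiratdpLat
import Mathlib.Algebra.Order.Chebyshev
import Mathlib.Data.Fin.Tuple.Sort
import Mathlib.Tactic

/-!
# Counting and sorted enumeration of integer vectors with prescribed sum and sum of squares
-/

set_option autoImplicit false
open Finset

namespace Groth.Agent.Lib.Helper29.DPLat

/-- elementary bounded sum -/
def sumTo (f : ℕ → ℕ) : ℕ → ℕ
  | 0 => 0
  | m+1 => sumTo f m + f m

lemma sumTo_eq (f : ℕ → ℕ) (m : ℕ) : sumTo f m = ∑ k ∈ Finset.range m, f k := by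
  induction m with
  | zero => simp [sumTo]
  | succ m ih => rw [sumTo, ih, Finset.sum_range_succ]

/-- number of vectors in `[-B,B]^n` with sum `s` and sum of squares `q` -/
def cnt (B : ℕ) : ℕ → ℤ → ℤ → ℕ
  | 0, s, q => if s = 0 ∧ q = 0 then 1 else 0
  | n+1, s, q => if ((n:ℤ)+1) * q < s^2 then 0 else
      sumTo (fun k => cnt B n (s - ((k:ℤ) - B)) (q - ((k:ℤ) - B)^2)) (2*B+1)

noncomputable def box (B : ℕ) (n : ℕ) : Finset (Fin n → ℤ) :=
  Fintype.piFinset fun _ => Finset.Icc (-(B:ℤ)) B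

lemma mem_box {B n : ℕ} {b : Fin n → ℤ} : b ∈ box B n ↔ ∀ i, -(B:ℤ) ≤ b i ∧ b i ≤ B := by
  simp [box, Fintype.mem_piFinset]

noncomputable def Sf (B : ℕ) (n : ℕ) (s q : ℤ) : Finset (Fin n → ℤ) :=
  (box B n).filter (fun b => ∑ i, b i = s ∧ ∑ i, b i ^ 2 = q)

lemma mem_Sf {B n : ℕ} {s q : ℤ} {b : Fin n → ℤ} :
    b ∈ Sf B n s q ↔ (∀ i, -(B:ℤ) ≤ b i ∧ b i ≤ B) ∧ ∑ i, b i = s ∧ ∑ i, b i ^ 2 = q := by
  simp [Sf, mem_box]

lemma cs (n : ℕ) (b : Fin n → ℤ) : (∑ i, b i) ^ 2 ≤ (n:ℤ) * ∑ i, b i ^ 2 := by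
  have := sq_sum_le_card_mul_sum_sq (s := (Finset.univ : Finset (Fin n))) (f := b)
  simpa using this

lemma sum_Icc_shift (B : ℕ) (g : ℤ → ℕ) :
    ∑ c ∈ Finset.Icc (-(B:ℤ)) B, g c = ∑ k ∈ Finset.range (2*B+1), g ((k:ℤ) - B) := by
  refine Finset.sum_nbij' (fun c => (c + B).toNat) (fun k => (k:ℤ) - B) ?_ ?_ ?_ ?_ ?_
  · intro c hc
    simp only [Finset.mem_Icc] at hc
    simp only [Finset.mem_range]
    omega
  · intro k hk
    simp only [Finset.mem_range] at hk
    simp only [Finset.mem_Icc]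
    omega
  · intro c hc
    simp only [Finset.mem_Icc] at hc
    show (((c + B).toNat : ℕ) : ℤ) - B = c
    omega
  · intro k hk
    show (((k:ℤ) - B) + B).toNat = k
    omega
  · intro c hc
    simp only [Finset.mem_Icc] at hc
    have : (((c + B).toNat : ℕ) : ℤ) - B = c := by omega
    rw [this]

theorem card_Sf (B : ℕ) : ∀ (n : ℕ) (s q : ℤ), (Sf B n s q).card = cnt B n s q := by
  intro n
  induction n with
  | zero =>
    intro s q
    unfold cnt
    by_cases h : s = 0 ∧ q = 0
    · rw [if_pos h]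
      obtain ⟨rfl, rfl⟩ := h
      have : Sf B 0 0 0 = Finset.univ := by
        ext b; simp [mem_Sf]; exact Subsingleton.elim _ _
      rw [this]; simp
    · rw [if_neg h]
      rw [Finset.card_eq_zero, Finset.eq_empty_iff_forall_notMem]
      intro b hb
      rw [mem_Sf] at hb
      apply h
      simpa [eq_comm] using hb.2
  | succ n ih =>
    intro s q
    unfold cnt
    by_cases h : ((n:ℤ)+1) * q < s^2
    · rw [if_pos h, Finset.card_eq_zero, Finset.eq_empty_iff_forall_notMem]
      intro b hb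
      rw [mem_Sf] at hb
      have := cs (n+1) b
      rw [hb.2.1, hb.2.2] at this
      push_cast at this
      omega
    · rw [if_neg h, sumTo_eq]
      have hmaps : ((Sf B (n+1) s q : Finset (Fin (n+1) → ℤ)) : Set (Fin (n+1) → ℤ)).MapsTo
          (fun b => b 0) (Finset.Icc (-(B:ℤ)) B) := by
        intro b hb
        have hb' := mem_Sf.1 hb
        simp only [Finset.coe_Icc, Set.mem_Icc]
        exact hb'.1 0
      rw [Finset.card_eq_sum_card_fiberwise hmaps, sum_Icc_shift]
      refine Finset.sum_congr rfl ?_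
      intro k _
      rw [← ih]
      refine Finset.card_nbij' (fun b => Fin.tail b) (fun t => Fin.cons ((k:ℤ) - B) t) ?_ ?_ ?_ ?_
      · intro b hb
        simp only [Finset.coe_filter, Set.mem_ofPred_eq] at hb
        obtain ⟨hb, h0⟩ := hb
        rw [mem_Sf] at hb
        simp only [Finset.mem_coe]
        rw [mem_Sf]
        refine ⟨fun i => hb.1 i.succ, ?_, ?_⟩
        · have := hb.2.1
          rw [Fin.sum_univ_succ] at this
          simp only [Fin.tail]
          linarith
        · have := hb.2.2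
          rw [Fin.sum_univ_succ] at this
          simp only [Fin.tail]
          rw [h0] at this
          linarith
      · intro t ht
        simp only [Finset.mem_coe] at ht
        rw [mem_Sf] at ht
        simp only [Finset.coe_filter, Set.mem_ofPred_eq]
        refine ⟨?_, by simp⟩
        rw [mem_Sf]
        refine ⟨?_, ?_, ?_⟩
        · intro i
          refine Fin.cases ?_ (fun j => ?_) i
          · simp only [Fin.cons_zero]
            have := Finset.mem_range.1 ‹_›
            omega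
          · simp only [Fin.cons_succ]
            exact ht.1 j
        · rw [Fin.sum_univ_succ]
          simp only [Fin.cons_zero, Fin.cons_succ]
          linarith [ht.2.1]
        · rw [Fin.sum_univ_succ]
          simp only [Fin.cons_zero, Fin.cons_succ]
          linarith [ht.2.2]
      · intro b hb
        simp only [Finset.coe_filter, Set.mem_ofPred_eq] at hb
        simp only
        rw [← hb.2]
        exact Fin.cons_self_tail b
      · intro t _
        simp

open W4c3severiratdp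

lemma isConic_iff {δ : ℕ} (v : DP δ) : IsConic v ↔
    (∑ i : Fin δ, v i.succ = 3 * v 0 - 2 ∧ ∑ i : Fin δ, v i.succ ^ 2 = v 0 ^ 2) := by
  unfold IsConic form canon
  simp only [Fin.cases_zero, Fin.cases_succ, neg_mul, one_mul, Finset.sum_neg_distrib, sub_neg_eq_add]
  have e : ∑ i : Fin δ, v i.succ * v i.succ = ∑ i : Fin δ, v i.succ ^ 2 :=
    Finset.sum_congr rfl (fun i _ => (sq _).symm)
  rw [e]
  constructor
  · rintro ⟨h1, h2⟩; constructor <;> nlinarith
  · rintro ⟨h1, h2⟩; constructor <;> nlinarith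

lemma conic_bounds {δ : ℕ} (hδ : δ ≤ 8) (v : DP δ) (h : IsConic v) :
    1 ≤ v 0 ∧ v 0 ≤ 11 ∧ ∀ i : Fin δ, -11 ≤ v i.succ ∧ v i.succ ≤ 11 := by
  rw [isConic_iff] at h
  obtain ⟨h1, h2⟩ := h
  have hc := cs δ (fun i => v i.succ)
  simp only [h1, h2] at hc
  have hδ' : (δ:ℤ) ≤ 8 := by exact_mod_cast hδ
  have hsq : 0 ≤ v 0 ^ 2 := sq_nonneg _
  have hc' : (3 * v 0 - 2) ^ 2 ≤ 8 * v 0 ^ 2 := le_trans hc (mul_le_mul_of_nonneg_right hδ' hsq)
  have ha1 : 1 ≤ v 0 := by nlinarith
  have ha2 : v 0 ≤ 11 := by nlinarith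
  refine ⟨ha1, ha2, fun i => ?_⟩
  have hi : v i.succ ^ 2 ≤ ∑ j : Fin δ, v j.succ ^ 2 :=
    Finset.single_le_sum (f := fun j : Fin δ => v j.succ ^ 2) (fun j _ => sq_nonneg _) (Finset.mem_univ i)
  rw [h2] at hi
  constructor <;> nlinarith

noncomputable def conicF (δ : ℕ) : Finset (DP δ) :=
  (box 11 (δ+1)).filter (fun v => ∑ i : Fin δ, v i.succ = 3 * v 0 - 2 ∧ ∑ i : Fin δ, v i.succ ^ 2 = v 0 ^ 2)

lemma conic_set_eq {δ : ℕ} (hδ : δ ≤ 8) : {v : DP δ | IsConic v} = ↑(conicF δ) := by
  ext v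
  simp only [Set.mem_ofPred_eq, conicF, Finset.coe_filter, mem_box]
  constructor
  · intro h
    refine ⟨?_, (isConic_iff v).1 h⟩
    obtain ⟨h1, h2, h3⟩ := conic_bounds hδ v h
    intro i
    refine Fin.cases ?_ (fun j => ?_) i
    · constructor <;> push_cast <;> linarith
    · exact_mod_cast h3 j
  · intro h
    exact (isConic_iff v).2 h.2

theorem conic_ncard {δ : ℕ} (hδ : δ ≤ 8) : {v : DP δ | IsConic v}.ncard =
    sumTo (fun k => cnt 11 δ (3 * ((k:ℤ) - (11:ℕ)) - 2) (((k:ℤ) - (11:ℕ))^2)) (2*11+1) := by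
  rw [conic_set_eq hδ, Set.ncard_coe_finset, sumTo_eq]
  have hmaps : ((conicF δ : Finset (DP δ)) : Set (DP δ)).MapsTo
      (fun b => b 0) (Finset.Icc (-((11:ℕ):ℤ)) (11:ℕ)) := by
    intro b hb
    simp only [conicF, Finset.coe_filter, Set.mem_ofPred_eq, mem_box] at hb
    simp only [Finset.coe_Icc, Set.mem_Icc]
    exact hb.1 0
  rw [Finset.card_eq_sum_card_fiberwise hmaps, sum_Icc_shift]
  refine Finset.sum_congr rfl ?_
  intro k hk
  rw [← card_Sf]
  refine Finset.card_nbij' (fun b => Fin.tail b) (fun t => Fin.cons ((k:ℤ) - (11:ℕ)) t) ?_ ?_ ?_ ?_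
  · intro b hb
    simp only [conicF, Finset.coe_filter, Set.mem_ofPred_eq, mem_box, Finset.mem_filter] at hb
    obtain ⟨⟨hb1, hb2, hb3⟩, h0⟩ := hb
    simp only [Finset.mem_coe]
    rw [mem_Sf]
    refine ⟨fun i => hb1 i.succ, ?_, ?_⟩
    · simp only [Fin.tail]; rw [hb2, h0]
    · simp only [Fin.tail]; rw [hb3, h0]
  · intro t ht
    simp only [Finset.mem_coe] at ht
    rw [mem_Sf] at ht
    simp only [conicF, Finset.coe_filter, Set.mem_ofPred_eq, mem_box, Finset.mem_filter]
    refine ⟨⟨?_, ?_, ?_⟩, by simp⟩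
    · intro i
      refine Fin.cases ?_ (fun j => ?_) i
      · simp only [Fin.cons_zero]
        have := Finset.mem_range.1 hk
        push_cast
        omega
      · simp only [Fin.cons_succ]
        exact ht.1 j
    · simp only [Fin.cons_zero, Fin.cons_succ]
      exact ht.2.1
    · simp only [Fin.cons_zero, Fin.cons_succ]
      exact ht.2.2
  · intro b hb
    simp only [Finset.coe_filter, Set.mem_ofPred_eq] at hb
    show Fin.cons _ (Fin.tail b) = b
    rw [← hb.2]
    exact Fin.cons_self_tail b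
  · intro t _
    simp

end Groth.Agent.Lib.Helper29.DPLat
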