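import Groth.Agent.Lib.Helper29.DPWeyl

/-!
# Generic lemmas on Weyl-group orbits in `DP δ`
-/

set_option autoImplicit false

namespace Groth.Agent.Lib.Helper29.DPLat

open W4c3severiratdp

variable {δ : ℕ}

lemma form_canon_weyl {g : DP δ ≃ₗ[ℤ] DP δ} (hg : IsWeyl g) (v : DP δ) :
    form (canon δ) (g v) = form (canon δ) v := by
  have := hg.1 (canon δ) v
  rwa [hg.2] at this

lemma isExc_weyl {g : DP δ ≃ₗ[ℤ] DP δ} (hg : IsWeyl g) {v : DP δ} (hv : IsExc v) : IsExc (g v) :=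
  ⟨by rw [hg.1]; exact hv.1, by rw [form_canon_weyl hg]; exact hv.2⟩

lemma isConic_weyl {g : DP δ ≃ₗ[ℤ] DP δ} (hg : IsWeyl g) {v : DP δ} (hv : IsConic v) : IsConic (g v) :=
  ⟨by rw [hg.1]; exact hv.1, by rw [form_canon_weyl hg]; exact hv.2⟩

lemma Rel.form_eq {F : List (DP δ)} {x y : DP δ} (h : Rel F x y) {f : DP δ} (hf : f ∈ F) :
    form y f = form x f := by
  obtain ⟨g, hg, hF, rfl⟩ := h
  have := hg.1 x f
  rwa [hF f hf] at this

lemma Rel.isExc {F : List (DP δ)} {x y : DP δ} (h : Rel F x y) (hx : IsExc x) : IsExc y := by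
  obtain ⟨g, hg, _, rfl⟩ := h
  exact isExc_weyl hg hx

lemma Rel.isConic {F : List (DP δ)} {x y : DP δ} (h : Rel F x y) (hx : IsConic x) : IsConic y := by
  obtain ⟨g, hg, _, rfl⟩ := h
  exact isConic_weyl hg hx

/-- conjugation: from a stabilizer-equivalence after moving `L` to `E` -/
lemma conj_rel {L E x y : DP δ} {g0 : DP δ ≃ₗ[ℤ] DP δ} (hg0 : IsWeyl g0) (hL : g0 L = E)
    (h : Rel [E] (g0 x) (g0 y)) : ∃ g : DP δ ≃ₗ[ℤ] DP δ, IsWeyl g ∧ g L = L ∧ g x = y := by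
  obtain ⟨k, hk, hkE, hkx⟩ := h
  refine ⟨(g0.trans k).trans g0.symm, IsWeyl_trans (IsWeyl_trans hg0 hk) (IsWeyl_symm hg0), ?_, ?_⟩
  · simp only [LinearEquiv.trans_apply]
    rw [hL, hkE E (List.mem_singleton.2 rfl), ← hL, LinearEquiv.symm_apply_apply]
  · simp only [LinearEquiv.trans_apply]
    rw [hkx, LinearEquiv.symm_apply_apply]

end Groth.Agent.Lib.Helper29.DPLat
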