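import Groth.Agent.Lib.Helper29.DPOrbit

/-!
# Orbits of ordered pairs from stabilizer data
-/

set_option autoImplicit false

namespace Groth.Agent.Lib.Helper29.DPLat

open W4c3severiratdp

variable {δ : ℕ}

/-- from transitivity on a class of vectors and the classification of stabilizer orbits by the
product with the base vector: the product determines the orbit of an ordered pair -/
theorem pairs_of_data (P : DP δ → Prop) (hP : ∀ (g : DP δ ≃ₗ[ℤ] DP δ), IsWeyl g → ∀ v, P v → P (g v))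
    (Q0 : DP δ)
    (tab0 tab1 : List (DP δ × List (DP δ × DP δ) × DP δ))
    (hA : ∀ x, P x → ∃ e ∈ tab0, Rel ([] : List (DP δ)) x e.2.2) (h0 : ∀ e ∈ tab0, e.2.2 = Q0)
    (hB : ∀ x, P x → ∃ e ∈ tab1, Rel [Q0] x e.2.2) (bad : ℤ → Prop)
    (hinj : ∀ e1 ∈ tab1, ∀ e2 ∈ tab1, form e1.2.2 Q0 = form e2.2.2 Q0 →
      bad (form e1.2.2 Q0) ∨ e1.2.2 = e2.2.2)
    (v₁ v₂ w₁ w₂ : DP δ) (hv₁ : P v₁) (hv₂ : P v₂) (hw₁ : P w₁) (hw₂ : P w₂)
    (heq : form v₁ v₂ = form w₁ w₂) (hnb : ¬ bad (form v₁ v₂)) :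
    ∃ g : DP δ ≃ₗ[ℤ] DP δ, IsWeyl g ∧ g v₁ = w₁ ∧ g v₂ = w₂ := by
  obtain ⟨ev, hev, gv, hgv, -, hgv1⟩ := hA v₁ hv₁
  obtain ⟨ew, hew, gw, hgw, -, hgw1⟩ := hA w₁ hw₁
  rw [h0 ev hev] at hgv1
  rw [h0 ew hew] at hgw1
  obtain ⟨e1, he1, hr1⟩ := hB (gv v₂) (hP gv hgv v₂ hv₂)
  obtain ⟨e2, he2, hr2⟩ := hB (gw w₂) (hP gw hgw w₂ hw₂)
  have f1 := hr1.form_eq (List.mem_singleton.2 rfl)
  have f2 := hr2.form_eq (List.mem_singleton.2 rfl)
  have f1' : form e1.2.2 Q0 = form v₁ v₂ := by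
    rw [f1, ← hgv1, hgv.1, form_comm]
  have f2' : form e2.2.2 Q0 = form w₁ w₂ := by
    rw [f2, ← hgw1, hgw.1, form_comm]
  have hee : e1.2.2 = e2.2.2 := by
    rcases hinj e1 he1 e2 he2 (by rw [f1', f2', heq]) with hb | hb
    · rw [f1'] at hb; exact absurd hb hnb
    · exact hb
  rw [hee] at hr1
  obtain ⟨k, hk, hkQ, hkx⟩ := Rel.trans' hr1 (Rel.symm' hr2)
  refine ⟨(gv.trans k).trans gw.symm, IsWeyl_trans (IsWeyl_trans hgv hk) (IsWeyl_symm hgw), ?_, ?_⟩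
  · simp only [LinearEquiv.trans_apply]
    rw [hgv1, hkQ Q0 (List.mem_singleton.2 rfl), ← hgw1, LinearEquiv.symm_apply_apply]
  · simp only [LinearEquiv.trans_apply]
    rw [hkx, LinearEquiv.symm_apply_apply]

end Groth.Agent.Lib.Helper29.DPLat
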