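import Groth.Agent.Lib.Helper29.DPLat

/-!
# Sorted enumeration of integer vectors with prescribed sum and sum of squares
-/

set_option autoImplicit false
open Finset

namespace Groth.Agent.Lib.Helper29.DPLat

def cands (B : ℕ) : List ℤ := (List.range (2*B+1)).map (fun k : ℕ => (k:ℤ) - (B:ℤ))

lemma mem_cands {B : ℕ} {c : ℤ} (h1 : -(B:ℤ) ≤ c) (h2 : c ≤ B) : c ∈ cands B := by
  unfold cands
  have hk : (c + B).toNat < 2*B+1 := by omega
  have h := List.mem_map_of_mem (f := fun k : ℕ => (k:ℤ) - (B:ℤ)) (List.mem_range.2 hk)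
  have e : (((c + B).toNat : ℕ) : ℤ) - (B:ℤ) = c := by omega
  simp only [e] at h
  exact h

/-- antitone lists of length `n` with entries in `[-B, min B hi]`, sum `s`, sum of squares `q` -/
def srch (B : ℕ) : ℕ → ℤ → ℤ → ℤ → List (List ℤ)
  | 0, _, s, q => if s = 0 ∧ q = 0 then [[]] else []
  | n+1, hi, s, q => if ((n:ℤ)+1) * q < s^2 then [] else
      (cands B).flatMap (fun c => if c ≤ hi then (srch B n c (s - c) (q - c^2)).map (fun l => c :: l) else [])

theorem srch_complete (B : ℕ) : ∀ (n : ℕ) (hi s q : ℤ) (b : Fin n → ℤ), Antitone b →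
    (∀ i, b i ≤ hi) → (∀ i, -(B:ℤ) ≤ b i ∧ b i ≤ B) → ∑ i, b i = s → ∑ i, b i ^ 2 = q →
    List.ofFn b ∈ srch B n hi s q := by
  intro n
  induction n with
  | zero =>
    intro hi s q b _ _ _ hs hq
    simp only [Finset.univ_eq_empty, Finset.sum_empty] at hs hq
    subst hs; subst hq
    simp [srch]
  | succ n ih =>
    intro hi s q b hanti hhi hB hs hq
    unfold srch
    have hcs := cs (n+1) b
    rw [hs, hq] at hcs
    push_cast at hcs
    rw [if_neg (by omega)]
    rw [List.mem_flatMap]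
    refine ⟨b 0, mem_cands (hB 0).1 (hB 0).2, ?_⟩
    rw [if_pos (hhi 0), List.ofFn_succ, List.mem_map]
    refine ⟨List.ofFn (fun i => b i.succ), ?_, rfl⟩
    apply ih
    · intro i j hij
      exact hanti (Fin.succ_le_succ_iff.2 hij)
    · intro i
      exact hanti (Fin.zero_le _)
    · intro i
      exact hB i.succ
    · rw [Fin.sum_univ_succ] at hs; linarith
    · rw [Fin.sum_univ_succ] at hq; linarith

end Groth.Agent.Lib.Helper29.DPLat
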