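import Groth.Agent.Lib.Helper29.DPSort

/-!
# Weyl group elements of the lattices `DP δ`: reflections, coordinate permutations, orbit certificates
-/

set_option autoImplicit false
open Finset

namespace Groth.Agent.Lib.Helper29.DPLat

open W4c3severiratdp

variable {δ : ℕ}

lemma form_comm (v w : DP δ) : form v w = form w v := by
  unfold form
  rw [mul_comm]
  congr 1
  exact Finset.sum_congr rfl (fun i _ => mul_comm _ _)

lemma form_add_left (u v w : DP δ) : form (u + v) w = form u w + form v w := by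
  unfold form
  simp only [Pi.add_apply, add_mul, Finset.sum_add_distrib]
  ring

lemma form_smul_left (c : ℤ) (v w : DP δ) : form (c • v) w = c * form v w := by
  unfold form
  simp only [Pi.smul_apply, smul_eq_mul, mul_assoc, ← Finset.mul_sum]
  ring

lemma form_add_right (u v w : DP δ) : form u (v + w) = form u v + form u w := by
  rw [form_comm, form_add_left, form_comm v, form_comm w]

lemma form_smul_right (c : ℤ) (v w : DP δ) : form v (c • w) = c * form v w := by
  rw [form_comm, form_smul_left, form_comm]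

lemma form_self_eq (v : DP δ) : form v v = v 0 ^ 2 - ∑ i : Fin δ, v i.succ ^ 2 := by
  unfold form
  rw [sq]
  congr 1
  exact Finset.sum_congr rfl (fun i _ => (sq _).symm)

lemma form_canon_eq (v : DP δ) : form (canon δ) v = -3 * v 0 + ∑ i : Fin δ, v i.succ := by
  unfold form canon
  simp only [Fin.cases_zero, Fin.cases_succ, neg_mul, one_mul, Finset.sum_neg_distrib, sub_neg_eq_add]

/-- the reflection in `r` as a linear map -/
def reflLin (r : DP δ) : DP δ →ₗ[ℤ] DP δ where
  toFun v := v + form v r • r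
  map_add' u v := by
    rw [form_add_left, add_smul]; abel
  map_smul' c v := by
    rw [form_smul_left, RingHom.id_apply, smul_add, smul_smul]

lemma reflLin_apply (r v : DP δ) : reflLin r v = v + form v r • r := rfl

lemma reflLin_invol {r : DP δ} (hr : form r r = -2) : Function.Involutive (reflLin r) := by
  intro v
  rw [reflLin_apply, reflLin_apply, form_add_left, form_smul_left, hr]
  rw [add_assoc, ← add_smul]
  have : form v r + (form v r + form v r * -2) = 0 := by ring
  rw [this, zero_smul, add_zero]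

/-- the reflection in a root -/
def reflEquiv (r : DP δ) (hr : form r r = -2) : DP δ ≃ₗ[ℤ] DP δ :=
  LinearEquiv.ofInvolutive (reflLin r) (reflLin_invol hr)

lemma reflEquiv_apply (r : DP δ) (hr : form r r = -2) (v : DP δ) :
    reflEquiv r hr v = v + form v r • r := rfl

lemma isWeyl_reflEquiv (r : DP δ) (hr : form r r = -2) (hK : form (canon δ) r = 0) :
    IsWeyl (reflEquiv r hr) := by
  constructor
  · intro v w
    rw [reflEquiv_apply, reflEquiv_apply, form_add_left, form_add_right, form_add_right,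
      form_smul_left, form_smul_left, form_smul_right, form_smul_right, hr, form_comm r w]
    ring
  · rw [reflEquiv_apply, hK, zero_smul, add_zero]

lemma isWeyl_refl : IsWeyl (LinearEquiv.refl ℤ (DP δ)) :=
  ⟨fun _ _ => rfl, rfl⟩

lemma IsWeyl_symm {g : DP δ ≃ₗ[ℤ] DP δ} (h : IsWeyl g) : IsWeyl g.symm := by
  constructor
  · intro v w
    have := h.1 (g.symm v) (g.symm w)
    simpa using this.symm
  · rw [LinearEquiv.symm_apply_eq]; exact h.2.symm

lemma IsWeyl_trans {g h : DP δ ≃ₗ[ℤ] DP δ} (hg : IsWeyl g) (hh : IsWeyl h) : IsWeyl (g.trans h) := by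
  constructor
  · intro v w
    simp only [LinearEquiv.trans_apply]
    rw [hh.1, hg.1]
  · simp only [LinearEquiv.trans_apply]
    rw [hg.2, hh.2]

/-- equivalence under the stabilizer of the vectors in `F` inside the Weyl group -/
def Rel (F : List (DP δ)) (x y : DP δ) : Prop :=
  ∃ g : DP δ ≃ₗ[ℤ] DP δ, IsWeyl g ∧ (∀ f ∈ F, g f = f) ∧ g x = y

lemma Rel.rfl' (F : List (DP δ)) (x : DP δ) : Rel F x x :=
  ⟨LinearEquiv.refl ℤ _, isWeyl_refl, fun _ _ => rfl, rfl⟩

lemma Rel.symm' {F : List (DP δ)} {x y : DP δ} (h : Rel F x y) : Rel F y x := by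
  obtain ⟨g, hg, hF, hx⟩ := h
  refine ⟨g.symm, IsWeyl_symm hg, fun f hf => ?_, ?_⟩
  · rw [LinearEquiv.symm_apply_eq]; exact (hF f hf).symm
  · rw [LinearEquiv.symm_apply_eq]; exact hx.symm

lemma Rel.trans' {F : List (DP δ)} {x y z : DP δ} (h1 : Rel F x y) (h2 : Rel F y z) : Rel F x z := by
  obtain ⟨g, hg, hF, hx⟩ := h1
  obtain ⟨g', hg', hF', hy⟩ := h2
  refine ⟨g.trans g', IsWeyl_trans hg hg', fun f hf => ?_, ?_⟩
  · simp only [LinearEquiv.trans_apply]; rw [hF f hf, hF' f hf]
  · simp only [LinearEquiv.trans_apply]; rw [hx, hy]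

/-- coordinate permutation -/
def permW (π : Equiv.Perm (Fin (δ+1))) : DP δ ≃ₗ[ℤ] DP δ := LinearEquiv.funCongrLeft ℤ ℤ π

lemma permW_apply (π : Equiv.Perm (Fin (δ+1))) (v : DP δ) (i : Fin (δ+1)) : permW π v i = v (π i) := rfl

lemma sum_succ_perm (π : Equiv.Perm (Fin (δ+1))) (h0 : π 0 = 0) (g : Fin (δ+1) → ℤ) :
    ∑ i : Fin δ, g (π i.succ) = ∑ i : Fin δ, g i.succ := by
  have h := Equiv.sum_comp π g
  rw [Fin.sum_univ_succ, Fin.sum_univ_succ (f := g), h0] at h
  linarith

lemma canon_perm (π : Equiv.Perm (Fin (δ+1))) (h0 : π 0 = 0) (j : Fin (δ+1)) :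
    canon δ (π j) = canon δ j := by
  refine Fin.cases ?_ (fun i => ?_) j
  · rw [h0]
  · have hne : π i.succ ≠ 0 := by
      intro h
      rw [← h0] at h
      exact Fin.succ_ne_zero i (π.injective h)
    obtain ⟨k, hk⟩ := Fin.exists_succ_eq.2 hne
    rw [← hk]
    simp [canon]

lemma isWeyl_permW (π : Equiv.Perm (Fin (δ+1))) (h0 : π 0 = 0) : IsWeyl (permW π) := by
  constructor
  · intro v w
    unfold form
    simp only [permW_apply, h0]
    congr 1
    exact sum_succ_perm π h0 (fun j => v j * w j)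
  · funext j
    rw [permW_apply, canon_perm π h0]

/-- validity of a root for the stabilizer of `F` -/
def validRoot (F : List (DP δ)) (r : DP δ) : Prop :=
  form r r = -2 ∧ form (canon δ) r = 0 ∧ ∀ f ∈ F, form f r = 0

instance (F : List (DP δ)) (r : DP δ) : Decidable (validRoot F r) := by
  unfold validRoot; infer_instance

lemma rel_refl_step {F : List (DP δ)} {r : DP δ} (h : validRoot F r) (x : DP δ) :
    Rel F x (x + form x r • r) := by
  refine ⟨reflEquiv r h.1, isWeyl_reflEquiv r h.1 h.2.1, fun f hf => ?_, rfl⟩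
  rw [reflEquiv_apply, h.2.2 f hf, zero_smul, add_zero]

/-- certificate checker: a chain of reflections with explicit intermediate vectors -/
def checkChain (F : List (DP δ)) : DP δ → List (DP δ × DP δ) → DP δ → Bool
  | x, [], y => decide (x = y)
  | x, (r, x') :: rest, y =>
      decide (validRoot F r) && decide (x' = x + form x r • r) && checkChain F x' rest y

lemma rel_of_checkChain (F : List (DP δ)) : ∀ (steps : List (DP δ × DP δ)) (x y : DP δ),
    checkChain F x steps y = true → Rel F x y := by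
  intro steps
  induction steps with
  | nil =>
    intro x y h
    simp only [checkChain, decide_eq_true_eq] at h
    subst h
    exact Rel.rfl' F x
  | cons s rest ih =>
    intro x y h
    obtain ⟨r, x'⟩ := s
    simp only [checkChain, Bool.and_eq_true, decide_eq_true_eq] at h
    obtain ⟨⟨h1, h2⟩, h3⟩ := h
    have := rel_refl_step h1 x
    rw [← h2] at this
    exact Rel.trans' this (ih x' y h3)

/-- sorting permutation fixing the first `p` indices and making the rest antitone -/
theorem exists_sort_perm : ∀ (p N : ℕ) (x : Fin N → ℤ), p ≤ N →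
    ∃ π : Equiv.Perm (Fin N), (∀ i : Fin N, i.val < p → π i = i) ∧
      (∀ i : Fin N, p ≤ i.val → p ≤ (π i).val) ∧
      (∀ i j : Fin N, p ≤ i.val → i ≤ j → x (π j) ≤ x (π i)) := by
  intro p
  induction p with
  | zero =>
    intro N x _
    refine ⟨Fin.revPerm.trans (Tuple.sort x), fun i hi => absurd hi (Nat.not_lt_zero _),
      fun i _ => Nat.zero_le _, fun i j _ hij => ?_⟩
    have hmono := Tuple.monotone_sort x
    have : Fin.rev j ≤ Fin.rev i := Fin.rev_le_rev.2 hij
    exact hmono this
  | succ p ih =>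
    intro N x hN
    obtain ⟨M, rfl⟩ : ∃ M, N = M + 1 := ⟨N - 1, by omega⟩
    obtain ⟨π', h1, h2, h3⟩ := ih M (fun i => x i.succ) (by omega)
    let π : Equiv.Perm (Fin (M+1)) := Equiv.Perm.decomposeFin.symm (0, π')
    have hz : π 0 = 0 := by simp [π]
    have hs : ∀ i : Fin M, π i.succ = (π' i).succ := by
      intro i; simp [π]
    refine ⟨π, ?_, ?_, ?_⟩
    · intro i
      refine Fin.cases ?_ (fun k => ?_) i
      · intro _; exact hz
      · intro hk
        rw [hs, h1 k (by simpa using hk)]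
    · intro i
      refine Fin.cases ?_ (fun k => ?_) i
      · intro h; simp at h
      · intro hk
        rw [hs]
        have := h2 k (by simpa using hk)
        simpa using this
    · intro i j
      refine Fin.cases ?_ (fun k => ?_) i
      · intro h; simp at h
      · intro hk
        refine Fin.cases ?_ (fun l => ?_) j
        · intro h; simp at h
        · intro hkl
          rw [hs, hs]
          exact h3 k l (by simpa using hk) (Fin.succ_le_succ_iff.1 hkl)

/-- sorted search with `free` unconstrained leading positions -/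
def srchF (B : ℕ) : ℕ → ℕ → ℤ → ℤ → ℤ → List (List ℤ)
  | _, 0, _, s, q => if s = 0 ∧ q = 0 then [[]] else []
  | free, n+1, hi, s, q => if ((n:ℤ)+1) * q < s^2 then [] else
      (cands B).flatMap (fun c => if c ≤ hi then
        (srchF B (free-1) n (if free = 0 then c else (B:ℤ)) (s - c) (q - c^2)).map (fun l => c :: l) else [])

theorem srchF_complete (B : ℕ) : ∀ (n free : ℕ) (hi s q : ℤ) (b : Fin n → ℤ),
    (∀ i j : Fin n, free ≤ i.val → i ≤ j → b j ≤ b i) →
    (∀ i, b i ≤ hi) → (∀ i, -(B:ℤ) ≤ b i ∧ b i ≤ B) → ∑ i, b i = s → ∑ i, b i ^ 2 = q →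
    List.ofFn b ∈ srchF B free n hi s q := by
  intro n
  induction n with
  | zero =>
    intro free hi s q b _ _ _ hs hq
    simp only [Finset.univ_eq_empty, Finset.sum_empty] at hs hq
    subst hs; subst hq
    simp [srchF]
  | succ n ih =>
    intro free hi s q b hanti hhi hB hs hq
    unfold srchF
    have hcs := cs (n+1) b
    rw [hs, hq] at hcs
    push_cast at hcs
    rw [if_neg (by omega)]
    rw [List.mem_flatMap]
    refine ⟨b 0, mem_cands (hB 0).1 (hB 0).2, ?_⟩
    rw [if_pos (hhi 0), List.ofFn_succ, List.mem_map]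
    refine ⟨List.ofFn (fun i => b i.succ), ?_, rfl⟩
    apply ih
    · intro i j hi' hij
      exact hanti i.succ j.succ (by simp only [Fin.val_succ]; omega) (Fin.succ_le_succ_iff.2 hij)
    · intro i
      by_cases hf : free = 0
      · rw [if_pos hf]
        exact hanti 0 i.succ (by simp [hf]) (Fin.zero_le _)
      · rw [if_neg hf]
        exact (hB i.succ).2
    · intro i
      exact hB i.succ
    · rw [Fin.sum_univ_succ] at hs; linarith
    · rw [Fin.sum_univ_succ] at hq; linarith

/-- all vectors `(a; b)` with `form = N`, `canon-form = κ`, first `free` of the `b`'s unconstrained, rest antitone -/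
def allTypesF (B free δ : ℕ) (N κ : ℤ) : List (List ℤ) :=
  (cands B).flatMap (fun a => (srchF B free δ (B:ℤ) (κ + 3 * a) (a ^ 2 - N)).map (fun l => a :: l))

theorem exists_rep (p : ℕ) (hp : 1 ≤ p) (hpδ : p ≤ δ + 1) (F : List (DP δ)) (N κ : ℤ) (B : ℕ)
    (table : List (DP δ × List (DP δ × DP δ) × DP δ))
    (hF : ∀ f ∈ F, ∀ i : Fin (δ+1), p ≤ i.val → f i = 0)
    (htab : ∀ e ∈ table, checkChain F e.1 e.2.1 e.2.2 = true)
    (htypes : ∀ l ∈ allTypesF B (p-1) δ N κ, l ∈ table.map (fun e => List.ofFn e.1))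
    (x : DP δ) (hx1 : form x x = N) (hx2 : form (canon δ) x = κ)
    (hB : ∀ i, -(B:ℤ) ≤ x i ∧ x i ≤ B) :
    ∃ e ∈ table, Rel F x e.2.2 := by
  obtain ⟨π, hπ1, hπ2, hπ3⟩ := exists_sort_perm p (δ+1) x hpδ
  have h0 : π 0 = 0 := hπ1 0 (by simp only [Fin.val_zero]; omega)
  have hW := isWeyl_permW π h0
  have hrel : Rel F x (permW π x) := by
    refine ⟨permW π, hW, fun f hf => ?_, rfl⟩
    funext i
    rw [permW_apply]
    by_cases hi : i.val < p
    · rw [hπ1 i hi]
    · push_neg at hi
      rw [hF f hf i hi, hF f hf (π i) (hπ2 i hi)]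
  set w := permW π x with hw
  have hw1 : form w w = N := by rw [hw, hW.1]; exact hx1
  have hw2 : form (canon δ) w = κ := by
    have := hW.1 (canon δ) x
    rw [hW.2] at this
    rw [hw, this]; exact hx2
  have hwB : ∀ i, -(B:ℤ) ≤ w i ∧ w i ≤ B := fun i => hB (π i)
  rw [form_self_eq] at hw1
  rw [form_canon_eq] at hw2
  have hmem : List.ofFn w ∈ allTypesF B (p-1) δ N κ := by
    unfold allTypesF
    rw [List.mem_flatMap]
    refine ⟨w 0, mem_cands (hwB 0).1 (hwB 0).2, ?_⟩
    rw [List.ofFn_succ, List.mem_map]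
    refine ⟨List.ofFn (fun i => w i.succ), ?_, rfl⟩
    apply srchF_complete
    · intro i j hi hij
      exact hπ3 i.succ j.succ (by simp only [Fin.val_succ]; omega) (Fin.succ_le_succ_iff.2 hij)
    · intro i; exact (hwB i.succ).2
    · intro i; exact hwB i.succ
    · linarith
    · linarith
  have := htypes _ hmem
  rw [List.mem_map] at this
  obtain ⟨e, he, heq⟩ := this
  have hew : e.1 = w := List.ofFn_injective heq
  refine ⟨e, he, Rel.trans' hrel ?_⟩
  have := rel_of_checkChain F e.2.1 e.1 e.2.2 (htab e he)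
  rwa [hew] at this

lemma conic_bounds' {δ : ℕ} (hδ : δ ≤ 8) (v : DP δ) (h : IsConic v) :
    ∀ i, -((11:ℕ):ℤ) ≤ v i ∧ v i ≤ ((11:ℕ):ℤ) := by
  obtain ⟨h1, h2, h3⟩ := conic_bounds hδ v h
  intro i
  refine Fin.cases ?_ (fun j => ?_) i
  · constructor <;> push_cast <;> linarith
  · exact_mod_cast h3 j

lemma exc_bounds' {δ : ℕ} (hδ : δ ≤ 8) (v : DP δ) (h : IsExc v) :
    ∀ i, -((7:ℕ):ℤ) ≤ v i ∧ v i ≤ ((7:ℕ):ℤ) := by
  obtain ⟨h1, h2⟩ := h
  rw [form_self_eq] at h1
  rw [form_canon_eq] at h2
  have e1 : ∑ i : Fin δ, v i.succ = 3 * v 0 - 1 := by linarith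
  have e2 : ∑ i : Fin δ, v i.succ ^ 2 = v 0 ^ 2 + 1 := by linarith
  have hc := cs δ (fun i => v i.succ)
  simp only [e1, e2] at hc
  have hδ' : (δ:ℤ) ≤ 8 := by exact_mod_cast hδ
  have hsq : 0 ≤ v 0 ^ 2 + 1 := by positivity
  have hc' : (3 * v 0 - 1) ^ 2 ≤ 8 * (v 0 ^ 2 + 1) := le_trans hc (mul_le_mul_of_nonneg_right hδ' hsq)
  have ha1 : -1 ≤ v 0 := by nlinarith
  have ha2 : v 0 ≤ 7 := by nlinarith
  intro i
  refine Fin.cases ?_ (fun j => ?_) i
  · constructor <;> push_cast <;> linarith
  · have hi : v j.succ ^ 2 ≤ ∑ k : Fin δ, v k.succ ^ 2 :=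
      Finset.single_le_sum (f := fun k : Fin δ => v k.succ ^ 2) (fun k _ => sq_nonneg _) (Finset.mem_univ j)
    rw [e2] at hi
    constructor <;> push_cast <;> nlinarith

end Groth.Agent.Lib.Helper29.DPLat
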