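import Mathlib

set_option autoImplicit false
universe u

namespace Groth.Agent.Lib.Helper29.DblCov

open Matrix

variable {A B : Type u} [CommRing A] [CommRing B] [Algebra A B]

/-- for `2 × 2` matrices the adjugate is `tr - id` -/
lemma adjugate_fin_two_eq (M : Matrix (Fin 2) (Fin 2) A) :
    M.adjugate = Matrix.scalar (Fin 2) M.trace - M := by
  rw [Matrix.adjugate_fin_two]
  ext i j
  fin_cases i <;> fin_cases j <;> simp [Matrix.trace_fin_two]

/-- the conjugation of a free rank-2 algebra, as a map -/
noncomputable def conjFun (b : B) : B := algebraMap A B (Algebra.trace A B b) - b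

variable (bas : Module.Basis (Fin 2) A B)

include bas in
lemma leftMulMatrix_conjFun (b : B) :
    Algebra.leftMulMatrix bas (conjFun (A := A) b) = (Algebra.leftMulMatrix bas b).adjugate := by
  rw [adjugate_fin_two_eq, conjFun, map_sub, Algebra.trace_eq_matrix_trace bas]
  congr 1
  rw [AlgHom.commutes]
  rfl

include bas in
lemma conjFun_mul (b c : B) : conjFun (A := A) (b * c) = conjFun (A := A) b * conjFun (A := A) c := by
  apply Algebra.leftMulMatrix_injective bas
  rw [map_mul, leftMulMatrix_conjFun bas, leftMulMatrix_conjFun bas, leftMulMatrix_conjFun bas,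
    map_mul, Matrix.adjugate_mul_distrib, ← leftMulMatrix_conjFun bas,
    ← leftMulMatrix_conjFun bas, ← map_mul, ← map_mul, mul_comm]

include bas in
lemma trace_one : Algebra.trace A B 1 = 2 := by
  have := Algebra.trace_algebraMap_of_basis (S := B) bas (1 : A)
  rw [map_one] at this
  rw [this]
  simp

include bas in
lemma trace_algebraMap (a : A) : Algebra.trace A B (algebraMap A B a) = 2 * a := by
  have := Algebra.trace_algebraMap_of_basis (S := B) bas a
  rw [this]
  simp [two_mul]

include bas in
lemma conjFun_one : conjFun (A := A) (1 : B) = 1 := by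
  rw [conjFun, trace_one bas, map_ofNat]
  ring

lemma conjFun_add (b c : B) : conjFun (A := A) (b + c) = conjFun (A := A) b + conjFun (A := A) c := by
  simp only [conjFun, map_add]
  ring

include bas in
lemma conjFun_algebraMap (a : A) : conjFun (A := A) (algebraMap A B a) = algebraMap A B a := by
  rw [conjFun, trace_algebraMap bas, map_mul, map_ofNat]
  ring

include bas in
lemma conjFun_conjFun (b : B) : conjFun (A := A) (conjFun (A := A) b) = b := by
  rw [conjFun, conjFun, map_sub, trace_algebraMap bas, map_sub, map_mul, map_ofNat]
  ring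

/-- the conjugation as an algebra endomorphism -/
noncomputable def conj : B →ₐ[A] B where
  toFun := conjFun (A := A)
  map_one' := conjFun_one bas
  map_mul' := conjFun_mul bas
  map_zero' := by simp [conjFun]
  map_add' := conjFun_add
  commutes' := conjFun_algebraMap bas

lemma conj_apply (b : B) : conj bas b = algebraMap A B (Algebra.trace A B b) - b := rfl

lemma conj_conj (b : B) : conj bas (conj bas b) = b := conjFun_conjFun bas b

lemma conj_eq_self_iff (h2 : IsUnit (2 : A)) (b : B) :
    conj bas b = b ↔ b ∈ Set.range (algebraMap A B) := by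
  constructor
  · intro h
    obtain ⟨u, hu⟩ := h2
    refine ⟨↑u⁻¹ * Algebra.trace A B b, ?_⟩
    rw [conj_apply, sub_eq_iff_eq_add] at h
    have h3 : algebraMap A B (2 : A) * b = algebraMap A B (Algebra.trace A B b) := by
      rw [h, map_ofNat]; ring
    rw [map_mul, ← h3, ← mul_assoc, ← map_mul, ← hu, Units.inv_mul, map_one, one_mul]
  · rintro ⟨a, rfl⟩
    exact conjFun_algebraMap bas a


section Pushout

open TensorProduct

variable (A A' B B' : Type u) [CommRing A] [CommRing A'] [CommRing B] [CommRing B']
  [Algebra A A'] [Algebra A B] [Algebra A' B'] [Algebra B B'] [Algebra A B']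
  [IsScalarTower A A' B'] [IsScalarTower A B B'] [Algebra.IsPushout A A' B B']

lemma trace_isPushout [Module.Free A B] [Module.Finite A B] (b : B) :
    Algebra.trace A' B' (algebraMap B B' b) = algebraMap A A' (Algebra.trace A B b) := by
  have h1 : algebraMap B B' b = Algebra.IsPushout.equiv A A' B B' ((1 : A') ⊗ₜ[A] b) := by
    rw [Algebra.IsPushout.equiv_tmul, map_one, one_mul]
  rw [h1, Algebra.trace_eq_of_algEquiv, Algebra.trace_apply, ← Algebra.baseChange_lmul,
    LinearMap.trace_baseChange, Algebra.trace_apply]

/-- transport of a basis along a pushout square -/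
noncomputable def basisOfIsPushout {ι : Type*} (bas : Module.Basis ι A B) : Module.Basis ι A' B' :=
  (Algebra.TensorProduct.basis A' bas).map (Algebra.IsPushout.equiv A A' B B').toLinearEquiv

lemma conj_isPushout (bas : Module.Basis (Fin 2) A B) (bas' : Module.Basis (Fin 2) A' B') (b : B) :
    conj bas' (algebraMap B B' b) = algebraMap B B' (conj bas b) := by
  haveI : Module.Free A B := Module.Free.of_basis bas
  haveI : Module.Finite A B := Module.Finite.of_basis bas
  rw [conj_apply, conj_apply, trace_isPushout A A' B B', map_sub,
    ← IsScalarTower.algebraMap_apply A A' B', ← IsScalarTower.algebraMap_apply A B B']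

end Pushout

lemma algebraMap_injective_of_basis (bas : Module.Basis (Fin 2) A B) :
    Function.Injective (algebraMap A B) := by
  rw [injective_iff_map_eq_zero]
  intro a ha
  have h1 : a • bas 0 = 0 := by rw [Algebra.smul_def, ha, zero_mul]
  have h2 := congrArg (fun x => bas.repr x 0) h1
  simpa using h2

end Groth.Agent.Lib.Helper29.DblCov
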