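import Mathlib

set_option autoImplicit false
universe u

namespace Groth.Agent.Lib.Helper29.DblCov

open Module

/-- transport a basis along a semilinear equivalence -/
noncomputable def basisTransport {ι : Type*} {R R' M M' : Type*} [CommRing R] [CommRing R']
    [AddCommGroup M] [AddCommGroup M'] [Module R M] [Module R' M']
    (e : R ≃+* R') (φ : M ≃+ M') (h : ∀ (c : R) (x : M), φ (c • x) = e c • φ x)
    (b : Basis ι R M) : Basis ι R' M' :=
  letI : Module R M' := Module.compHom M' e.toRingHom
  let φl : M ≃ₗ[R] M' := { φ with map_smul' := fun c x => h c x }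
  (b.map φl).mapCoeffs e (fun c x => rfl)

lemma exists_basis_of_rankAtStalk_eq_two {A B : Type u} [CommRing A] [CommRing B] [Algebra A B]
    [Module.FinitePresentation A B] [Module.Flat A B] (p : PrimeSpectrum A)
    (hp : Module.rankAtStalk B p = 2) :
    ∃ r : A, r ∉ p.asIdeal ∧ ∀ (A' B' : Type u) [CommRing A'] [CommRing B'] [Algebra A A']
      [Algebra A' B'] [Algebra B B'] [Algebra A B'] [IsScalarTower A A' B'] [IsScalarTower A B B']
      [IsLocalization.Away r A'] [Algebra.IsPushout A A' B B'],
      Nonempty (Module.Basis (Fin 2) A' B') := by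
  haveI : Module.Free (Localization.AtPrime p.asIdeal) (LocalizedModule.AtPrime p.asIdeal B) :=
    Module.free_of_flat_of_isLocalRing
  obtain ⟨r, hr, hfree, hrank⟩ := Module.FinitePresentation.exists_free_localizedModule_powers
    p.asIdeal.primeCompl (LocalizedModule.mkLinearMap p.asIdeal.primeCompl B)
    (Localization.AtPrime p.asIdeal)
  refine ⟨r, hr, ?_⟩
  intro A' B' _ _ _ _ _ _ _ _ _ _
  haveI : Nontrivial (Localization (.powers r)) :=
    (show Localization (.powers r) →+* Localization.AtPrime p.asIdeal from
      IsLocalization.map (M := .powers r) (T := p.asIdeal.primeCompl) _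
        (RingHom.id _) (Submonoid.powers_le.mpr hr)).domain_nontrivial
  have hrank2 : Module.finrank (Localization (.powers r)) (LocalizedModule.Away r B) = 2 := by
    rw [hrank]; exact hp
  let b0 : Basis (Fin 2) (Localization (.powers r)) (LocalizedModule.Away r B) :=
    Module.finBasisOfFinrankEq _ _ hrank2
  have hbc : IsBaseChange A' (IsScalarTower.toAlgHom A B B').toLinearMap :=
    Algebra.IsPushout.out
  haveI : IsLocalization (Submonoid.powers r) A' := ‹IsLocalization.Away r A'›
  haveI hloc : IsLocalizedModule (Submonoid.powers r) (IsScalarTower.toAlgHom A B B').toLinearMap :=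
    (isLocalizedModule_iff_isBaseChange (Submonoid.powers r) A' _).2 hbc
  let e1 : Localization (.powers r) ≃ₐ[A] A' := IsLocalization.algEquiv (.powers r) _ _
  let e2 : LocalizedModule.Away r B ≃ₗ[A] B' :=
    IsLocalizedModule.iso (.powers r) (IsScalarTower.toAlgHom A B B').toLinearMap
  refine ⟨basisTransport e1.toRingEquiv e2.toAddEquiv ?_ b0⟩
  intro c x
  letI : Module (Localization (.powers r)) B' := Module.compHom B' e1.toRingEquiv.toRingHom
  haveI : IsScalarTower A (Localization (.powers r)) B' := by
    refine ⟨fun a c y => ?_⟩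
    change e1 (a • c) • y = a • (e1 c • y)
    rw [map_smul, smul_assoc]
  exact (e2.toLinearMap.extendScalarsOfIsLocalization (.powers r)
    (Localization (.powers r))).map_smul c x

end Groth.Agent.Lib.Helper29.DblCov
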