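import Mathlib
import Groth.Agent.Lib.Helper29.DblCovAlg
import Groth.Agent.Lib.Helper29.IdealComap

set_option autoImplicit false
universe u
open CategoryTheory CategoryTheory.Limits AlgebraicGeometry TopologicalSpace Opposite

namespace Groth.Agent.Lib.Helper29.DblCov

variable {X Y : Scheme.{u}} (f : X ⟶ Y)

/-- the algebra of sections over `f⁻¹ V` over sections over `V` -/
@[reducible] noncomputable def algV (V : Y.Opens) : Algebra Γ(Y, V) Γ(X, f ⁻¹ᵁ V) :=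
  (f.app V).hom.toAlgebra

/-- `V` is affine and `Γ(X, f⁻¹V)` has a two-element basis over `Γ(Y, V)`. -/
def Good (V : Y.Opens) : Prop :=
  IsAffineOpen V ∧ (letI := algV f V; Nonempty (Module.Basis (Fin 2) Γ(Y, V) Γ(X, f ⁻¹ᵁ V)))

variable {f}

/-- the conjugation on sections over a good open -/
noncomputable def sig {V : Y.Opens} (hV : Good f V) : Γ(X, f ⁻¹ᵁ V) →+* Γ(X, f ⁻¹ᵁ V) :=
  letI := algV f V
  (conj hV.2.some).toRingHom

lemma sig_apply {V : Y.Opens} (hV : Good f V) (b : Γ(X, f ⁻¹ᵁ V)) :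
    letI := algV f V
    sig hV b = (f.app V).hom (Algebra.trace Γ(Y, V) Γ(X, f ⁻¹ᵁ V) b) - b := rfl

lemma sig_sig {V : Y.Opens} (hV : Good f V) (b : Γ(X, f ⁻¹ᵁ V)) : sig hV (sig hV b) = b := by
  letI := algV f V
  exact conj_conj hV.2.some b

lemma sig_app {V : Y.Opens} (hV : Good f V) (a : Γ(Y, V)) :
    sig hV ((f.app V).hom a) = (f.app V).hom a := by
  letI := algV f V
  exact (conj hV.2.some).commutes a

lemma sig_eq_self_iff {V : Y.Opens} (hV : Good f V) (h2 : IsUnit (2 : Γ(Y, V)))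
    (b : Γ(X, f ⁻¹ᵁ V)) : sig hV b = b ↔ b ∈ Set.range (f.app V).hom := by
  letI := algV f V
  exact conj_eq_self_iff hV.2.some h2 b

lemma app_injective_of_good {V : Y.Opens} (hV : Good f V) : Function.Injective (f.app V).hom := by
  letI := algV f V
  exact algebraMap_injective_of_basis hV.2.some


section Res

variable [IsAffineHom f]

lemma id_appLE {Z : Scheme.{u}} {U U' : Z.Opens} (h : U' ≤ U) (e : U' ≤ (𝟙 Z : Z ⟶ Z) ⁻¹ᵁ U) :
    (𝟙 Z : Z ⟶ Z).appLE U U' e = Z.presheaf.map (homOfLE h).op := by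
  rw [Scheme.Hom.appLE, Scheme.Hom.id_app]
  exact Category.id_comp _

variable (f) in
theorem isPushout_res {V V'' : Y.Opens} (hV : IsAffineOpen V) (hV'' : IsAffineOpen V'')
    (h : V'' ≤ V) :
    IsPushout (Y.presheaf.map (homOfLE h).op) (f.app V) (f.app V'')
      (X.presheaf.map (homOfLE (f.preimage_mono h)).op) := by
  have H : IsPullback (𝟙 X) f f (𝟙 Y) := IsPullback.of_horiz_isIso ⟨by simp⟩
  have hUY : f ⁻¹ᵁ V'' = (𝟙 X : X ⟶ X) ⁻¹ᵁ (f ⁻¹ᵁ V) ⊓ f ⁻¹ᵁ V'' :=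
    (inf_eq_right.2 (f.preimage_mono h)).symm
  have h1 := isIso_pushoutSection_of_isAffineOpen H (US := V) (UT := V'') (UX := f ⁻¹ᵁ V)
    (show V'' ≤ (𝟙 Y : Y ⟶ Y) ⁻¹ᵁ V from h) (le_refl _) hUY hV hV'' (hV.preimage f)
  have h2 := ((isIso_pushoutSection_iff H (show V'' ≤ (𝟙 Y : Y ⟶ Y) ⁻¹ᵁ V from h) (le_refl _)
    hUY).1 h1).flip
  rw [id_appLE h, id_appLE (f.preimage_mono h), Scheme.Hom.appLE_eq_app] at h2
  have h3 : f.appLE V'' (f ⁻¹ᵁ V'') (le_refl _) = f.app V'' :=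
    Scheme.Hom.appLE_eq_app f
  rw [← h3]
  exact h2

end Res


section Pair

variable [IsAffineHom f] {V V'' : Y.Opens}

lemma good_and_sig_res (hV : Good f V) (hV'' : IsAffineOpen V'') (h : V'' ≤ V) :
    ∃ hG : Good f V'', ∀ b : Γ(X, f ⁻¹ᵁ V),
      sig hG ((X.presheaf.map (homOfLE (f.preimage_mono h)).op).hom b) =
        (X.presheaf.map (homOfLE (f.preimage_mono h)).op).hom (sig hV b) := by
  letI i1 := algV f V
  letI i2 := algV f V''
  letI i3 : Algebra Γ(Y, V) Γ(Y, V'') := (Y.presheaf.map (homOfLE h).op).hom.toAlgebra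
  letI i4 : Algebra Γ(X, f ⁻¹ᵁ V) Γ(X, f ⁻¹ᵁ V'') :=
    (X.presheaf.map (homOfLE (f.preimage_mono h)).op).hom.toAlgebra
  letI i5 : Algebra Γ(Y, V) Γ(X, f ⁻¹ᵁ V'') :=
    ((algebraMap Γ(X, f ⁻¹ᵁ V) Γ(X, f ⁻¹ᵁ V'')).comp
      (algebraMap Γ(Y, V) Γ(X, f ⁻¹ᵁ V))).toAlgebra
  haveI t1 : IsScalarTower Γ(Y, V) Γ(X, f ⁻¹ᵁ V) Γ(X, f ⁻¹ᵁ V'') :=
    IsScalarTower.of_algebraMap_eq' rfl
  haveI t2 : IsScalarTower Γ(Y, V) Γ(Y, V'') Γ(X, f ⁻¹ᵁ V'') := by
    apply IsScalarTower.of_algebraMap_eq'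
    have := (isPushout_res f hV.1 hV'' h).w
    exact (congrArg CommRingCat.Hom.hom this).symm
  haveI t3 : Algebra.IsPushout Γ(Y, V) Γ(Y, V'') Γ(X, f ⁻¹ᵁ V) Γ(X, f ⁻¹ᵁ V'') :=
    CommRingCat.isPushout_iff_isPushout.1 (isPushout_res f hV.1 hV'' h)
  have hG : Good f V'' := ⟨hV'', ⟨basisOfIsPushout Γ(Y, V) Γ(Y, V'') Γ(X, f ⁻¹ᵁ V) Γ(X, f ⁻¹ᵁ V'')
    hV.2.some⟩⟩
  exact ⟨hG, fun b => conj_isPushout Γ(Y, V) Γ(Y, V'') Γ(X, f ⁻¹ᵁ V) Γ(X, f ⁻¹ᵁ V'')
    hV.2.some hG.2.some b⟩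

lemma good_of_le (hV : Good f V) (hV'' : IsAffineOpen V'') (h : V'' ≤ V) : Good f V'' :=
  (good_and_sig_res hV hV'' h).choose

lemma sig_res (hV : Good f V) (hV'' : Good f V'') (h : V'' ≤ V) (b : Γ(X, f ⁻¹ᵁ V)) :
    sig hV'' ((X.presheaf.map (homOfLE (f.preimage_mono h)).op).hom b) =
      (X.presheaf.map (homOfLE (f.preimage_mono h)).op).hom (sig hV b) :=
  (good_and_sig_res hV hV''.1 h).choose_spec b

end Pair


section Local

variable [IsAffineHom f] {V V'' : Y.Opens}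

/-- the local involution, as a morphism into `X` -/
noncomputable def gV (hV : Good f V) : (f ⁻¹ᵁ V : Scheme.{u}) ⟶ X :=
  (hV.1.preimage f).isoSpec.hom ≫ Spec.map (CommRingCat.ofHom (sig hV)) ≫
    (hV.1.preimage f).fromSpec

lemma isoSpec_hom_fromSpec {Z : Scheme.{u}} {U : Z.Opens} (hU : IsAffineOpen U) :
    hU.isoSpec.hom ≫ hU.fromSpec = U.ι := by
  rw [← hU.isoSpec_inv_ι, Iso.hom_inv_id_assoc]

lemma homOfLE_isoSpec_hom {Z : Scheme.{u}} {U U' : Z.Opens} (hU : IsAffineOpen U)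
    (hU' : IsAffineOpen U') (h : U' ≤ U) :
    Z.homOfLE h ≫ hU.isoSpec.hom = hU'.isoSpec.hom ≫ Spec.map (Z.presheaf.map (homOfLE h).op) := by
  rw [← cancel_mono hU.fromSpec, Category.assoc, Category.assoc, isoSpec_hom_fromSpec,
    Scheme.homOfLE_ι, hU.map_fromSpec hU' (homOfLE h).op, isoSpec_hom_fromSpec]

lemma gV_res (hV : Good f V) (hV'' : Good f V'') (h : V'' ≤ V) :
    X.homOfLE (f.preimage_mono h) ≫ gV hV = gV hV'' := by
  have hW := hV.1.preimage f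
  have hW'' := hV''.1.preimage f
  have hsig : CommRingCat.ofHom (sig hV) ≫ X.presheaf.map (homOfLE (f.preimage_mono h)).op =
      X.presheaf.map (homOfLE (f.preimage_mono h)).op ≫ CommRingCat.ofHom (sig hV'') := by
    apply CommRingCat.hom_ext
    apply RingHom.ext
    intro b
    exact (sig_res hV hV'' h b).symm
  rw [gV, gV, ← Category.assoc, homOfLE_isoSpec_hom hW hW'' (f.preimage_mono h), Category.assoc,
    ← Spec.map_comp_assoc, hsig, Spec.map_comp_assoc,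
    hW.map_fromSpec hW'' (homOfLE (f.preimage_mono h)).op]

lemma gV_comp (hV : Good f V) : gV hV ≫ f = (f ⁻¹ᵁ V).ι ≫ f := by
  have hW := hV.1.preimage f
  have h1 : f.app V ≫ CommRingCat.ofHom (sig hV) = f.app V := by
    apply CommRingCat.hom_ext
    apply RingHom.ext
    intro a
    exact sig_app hV a
  have h2 := IsAffineOpen.SpecMap_appLE_fromSpec f hV.1 hW (le_refl _)
  rw [Scheme.Hom.appLE_eq_app] at h2
  rw [gV, Category.assoc, Category.assoc, ← h2, ← Spec.map_comp_assoc, h1, h2,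
    ← Category.assoc, isoSpec_hom_fromSpec]

/-- the local involution as an endomorphism of `f⁻¹V` -/
noncomputable def tauV (hV : Good f V) : (f ⁻¹ᵁ V : Scheme.{u}) ⟶ (f ⁻¹ᵁ V : Scheme.{u}) :=
  (hV.1.preimage f).isoSpec.hom ≫ Spec.map (CommRingCat.ofHom (sig hV)) ≫
    (hV.1.preimage f).isoSpec.inv

lemma tauV_ι (hV : Good f V) : tauV hV ≫ (f ⁻¹ᵁ V).ι = gV hV := by
  rw [tauV, gV, Category.assoc, Category.assoc, IsAffineOpen.isoSpec_inv_ι]

lemma tauV_tauV (hV : Good f V) : tauV hV ≫ tauV hV = 𝟙 _ := by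
  have h1 : CommRingCat.ofHom (sig hV) ≫ CommRingCat.ofHom (sig hV) = 𝟙 _ := by
    apply CommRingCat.hom_ext
    apply RingHom.ext
    intro b
    exact sig_sig hV b
  rw [tauV]
  simp only [Category.assoc, Iso.inv_hom_id_assoc]
  rw [← Spec.map_comp_assoc, h1, Spec.map_id]
  erw [Category.id_comp]
  exact Iso.hom_inv_id _

end Local


section Glue

variable [IsAffineHom f] (hcov : ∀ y : Y, ∃ V : Y.Opens, Good f V ∧ y ∈ V)

/-- the cover of `X` by preimages of good opens -/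
noncomputable def cov : X.OpenCover where
  I₀ := {V : Y.Opens // Good f V}
  X V := (f ⁻¹ᵁ V.1 : X.Opens)
  f V := (f ⁻¹ᵁ V.1).ι
  mem₀ := by
    rw [Scheme.presieve₀_mem_precoverage_iff]
    refine ⟨fun x => ?_, inferInstance⟩
    obtain ⟨V, hV, hx⟩ := hcov (f x)
    exact ⟨⟨V, hV⟩, ⟨⟨x, hx⟩, rfl⟩⟩

noncomputable instance : Preorder (cov hcov).I₀ :=
  inferInstanceAs (Preorder {V : Y.Opens // Good f V})

noncomputable instance covDirected : (cov hcov).LocallyDirected where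
  trans {i j} hij := X.homOfLE (f.preimage_mono (show i.1 ≤ j.1 from leOfHom hij))
  trans_id i := Scheme.homOfLE_rfl _ _
  trans_comp hij hjk := (Scheme.homOfLE_homOfLE _ _ _).symm
  w hij := Scheme.homOfLE_ι _ _
  directed {i j} x := by
    set z : X := (pullback.fst ((cov hcov).f i) ((cov hcov).f j) ≫ (cov hcov).f i) x with hz
    have hzi : z ∈ f ⁻¹ᵁ i.1 := by
      rw [hz, Scheme.Hom.comp_apply]
      exact (pullback.fst ((cov hcov).f i) ((cov hcov).f j) x).2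
    have hzj : z ∈ f ⁻¹ᵁ j.1 := by
      rw [hz, pullback.condition, Scheme.Hom.comp_apply]
      exact (pullback.snd ((cov hcov).f i) ((cov hcov).f j) x).2
    obtain ⟨_, ⟨Vk, hVk, rfl⟩, hzk, hle⟩ := Y.isBasis_affineOpens.exists_subset_of_mem_open
      (show f z ∈ (i.1 ⊓ j.1 : Y.Opens) from ⟨hzi, hzj⟩) (i.1 ⊓ j.1).2
    have hki : Vk ≤ i.1 := fun a ha => (hle ha).1
    have hkj : Vk ≤ j.1 := fun a ha => (hle ha).2
    refine ⟨⟨Vk, good_of_le i.2 hVk hki⟩, homOfLE hki, homOfLE hkj, ⟨z, hzk⟩, ?_⟩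
    apply (pullback.fst ((cov hcov).f i) ((cov hcov).f j) ≫ (cov hcov).f i).isOpenEmbedding.injective
    have key : ∀ (a : (f ⁻¹ᵁ Vk : Scheme.{u}) ⟶ (cov hcov).X i) (b : (f ⁻¹ᵁ Vk : Scheme.{u}) ⟶ (cov hcov).X j)
        (hab : a ≫ (cov hcov).f i = b ≫ (cov hcov).f j) (y : (f ⁻¹ᵁ Vk : Scheme.{u})),
        (pullback.fst ((cov hcov).f i) ((cov hcov).f j) ≫ (cov hcov).f i)
          (pullback.lift a b hab y) = (a ≫ (cov hcov).f i) y := by
      intro a b hab y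
      rw [← Scheme.Hom.comp_apply, pullback.lift_fst_assoc]
    refine (key _ _ _ _).trans ?_
    change (X.homOfLE (f.preimage_mono hki) ≫ (f ⁻¹ᵁ i.1).ι) _ = z
    rw [Scheme.homOfLE_ι]
    rfl
  property_trans {i j} hij :=
    inferInstanceAs (IsOpenImmersion (X.homOfLE (f.preimage_mono (show i.1 ≤ j.1 from leOfHom hij))))

/-- the global involution -/
noncomputable def sigma : X ⟶ X :=
  (cov hcov).glueMorphismsOfLocallyDirected (fun V => gV V.2)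
    (fun {i j} hij => gV_res j.2 i.2 (leOfHom hij))

lemma ι_sigma {V : Y.Opens} (hV : Good f V) : (f ⁻¹ᵁ V).ι ≫ sigma hcov = gV hV :=
  (cov hcov).map_glueMorphismsOfLocallyDirected (fun V => gV V.2)
    (fun {i j} hij => gV_res j.2 i.2 (leOfHom hij)) ⟨V, hV⟩

lemma sigma_comp : sigma hcov ≫ f = f := by
  apply (cov hcov).hom_ext
  intro V
  change (f ⁻¹ᵁ V.1).ι ≫ sigma hcov ≫ f = (f ⁻¹ᵁ V.1).ι ≫ f
  rw [← Category.assoc, ι_sigma hcov V.2, gV_comp]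

lemma sigma_sigma : sigma hcov ≫ sigma hcov = 𝟙 X := by
  apply (cov hcov).hom_ext
  intro V
  change (f ⁻¹ᵁ V.1).ι ≫ sigma hcov ≫ sigma hcov = (f ⁻¹ᵁ V.1).ι ≫ 𝟙 X
  rw [← Category.assoc, ι_sigma hcov V.2, ← tauV_ι, Category.assoc, ι_sigma hcov V.2, ← tauV_ι,
    ← Category.assoc, tauV_tauV, Category.id_comp, Category.comp_id]

end Glue


section General

open Groth.Agent.Lib.Helper29.EffCart

lemma appLE_eq_of_fromSpec {X : Scheme.{u}} {W : X.Opens} (hW : IsAffineOpen W) (σ : X ⟶ X)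
    (e : W ≤ σ ⁻¹ᵁ W) (s : Γ(X, W) ⟶ Γ(X, W))
    (h : hW.fromSpec ≫ σ = Spec.map s ≫ hW.fromSpec) : σ.appLE W W e = s := by
  have e0 : (⊤ : (Spec Γ(X, W)).Opens) ≤ hW.fromSpec ⁻¹ᵁ W := by
    rw [hW.fromSpec_preimage_self]
  have h3 : (Spec.map s).appLE ⊤ ⊤ le_top = (Spec.map s).appTop :=
    (Scheme.Hom.app_eq_appLE (f := Spec.map s) (U := ⊤)).symm
  have h4 : hW.fromSpec.appLE W ⊤ e0 = (Scheme.ΓSpecIso Γ(X, W)).inv :=
    fromSpec_appLE_top ⟨W, hW⟩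
  have s1 : σ.appLE W W e ≫ hW.fromSpec.appLE W ⊤ e0 = (hW.fromSpec ≫ σ).appLE W ⊤ _ :=
    Scheme.Hom.appLE_comp_appLE hW.fromSpec σ W W ⊤ e e0
  have s2 := appLE_congr_hom h W ⊤ (e0.trans (hW.fromSpec.preimage_mono e))
  have s3 := Scheme.Hom.appLE_comp_appLE (Spec.map s) hW.fromSpec W ⊤ ⊤ e0 le_top
  rw [← cancel_mono (Scheme.ΓSpecIso Γ(X, W)).inv, ← h4, s1, s2, ← s3, h4, h3]
  exact (Scheme.ΓSpecIso_inv_naturality s).symm

end General

section Sections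

open Groth.Agent.Lib.Helper29.EffCart

variable [IsAffineHom f] (hcov : ∀ y : Y, ∃ V : Y.Opens, Good f V ∧ y ∈ V)

lemma le_sigma_preimage (U : Y.Opens) : f ⁻¹ᵁ U ≤ sigma hcov ⁻¹ᵁ (f ⁻¹ᵁ U) := by
  rw [← Scheme.Hom.comp_preimage, sigma_comp]

lemma fromSpec_sigma {V : Y.Opens} (hV : Good f V) :
    (hV.1.preimage f).fromSpec ≫ sigma hcov =
      Spec.map (CommRingCat.ofHom (sig hV)) ≫ (hV.1.preimage f).fromSpec := by
  conv_lhs => rw [← (hV.1.preimage f).isoSpec_inv_ι, Category.assoc, ι_sigma hcov hV, gV,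
    Iso.inv_hom_id_assoc]

/-- on good opens, `σ` acts on sections by the conjugation -/
lemma sigma_appLE {V : Y.Opens} (hV : Good f V) :
    (sigma hcov).appLE (f ⁻¹ᵁ V) (f ⁻¹ᵁ V) (le_sigma_preimage hcov V) =
      CommRingCat.ofHom (sig hV) :=
  appLE_eq_of_fromSpec (hV.1.preimage f) (sigma hcov) (le_sigma_preimage hcov V) _
    (fromSpec_sigma hcov hV)

end Sections

end Groth.Agent.Lib.Helper29.DblCov
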