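import Mathlib
import Groth.Agent.Lib.Helper29.DblCovSch
import Groth.Agent.Lib.Helper29.DblCovLoc

set_option autoImplicit false
universe u
open CategoryTheory CategoryTheory.Limits AlgebraicGeometry TopologicalSpace Opposite

namespace Groth.Agent.Lib.Helper29.DblCov

variable {X Y : Scheme.{u}} (f : X ⟶ Y)

lemma isPullback_fromSpec [IsAffineHom f] {V : Y.Opens} (hV : IsAffineOpen V) :
    IsPullback (hV.preimage f).fromSpec (Spec.map (f.app V)) f hV.fromSpec := by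
  have hW := hV.preimage f
  refine IsPullback.of_iso (isPullback_morphismRestrict f V).flip hW.isoSpec (Iso.refl _)
    hV.isoSpec (Iso.refl _) ?_ ?_ ?_ ?_
  · rw [Iso.refl_hom, Category.comp_id, isoSpec_hom_fromSpec]
  · rw [← cancel_mono hV.fromSpec, Category.assoc, isoSpec_hom_fromSpec, morphismRestrict_ι,
      Category.assoc]
    have h2 := IsAffineOpen.SpecMap_appLE_fromSpec f hV hW (le_refl _)
    rw [Scheme.Hom.appLE_eq_app] at h2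
    rw [h2, ← Category.assoc, isoSpec_hom_fromSpec]
  · simp
  · rw [Iso.refl_hom, Category.comp_id, isoSpec_hom_fromSpec]

lemma rankAtStalk_eq_finrank [IsFinite f] [Flat f] {V : Y.Opens} (hV : IsAffineOpen V)
    (y : Y) (hy : y ∈ V) :
    letI := algV f V
    Module.rankAtStalk (R := Γ(Y, V)) Γ(X, f ⁻¹ᵁ V) (hV.primeIdealOf ⟨y, hy⟩) = f.finrank y := by
  have hW := hV.preimage f
  have h1 := Scheme.Hom.finrank_of_isPullback _ _ f _ (isPullback_fromSpec f hV)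
    (hV.primeIdealOf ⟨y, hy⟩)
  rw [hV.fromSpec_primeIdealOf ⟨y, hy⟩] at h1
  have hfin : (f.app V).hom.Finite := f.finite_app V hV
  have hflat : (f.app V).hom.Flat := by
    have := HasRingHomProperty.appLE (P := @Flat) f inferInstance ⟨V, hV⟩ ⟨f ⁻¹ᵁ V, hW⟩ le_rfl
    rwa [Scheme.Hom.appLE_eq_app] at this
  rw [Scheme.Hom.finrank_SpecMap_eq_finrank hfin hflat] at h1
  exact h1


theorem exists_good [IsFinite f] [Flat f] [LocallyOfFinitePresentation f]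
    (hrk : ∀ y : Y, f.finrank y = 2) (y : Y) : ∃ V : Y.Opens, Good f V ∧ y ∈ V := by
  obtain ⟨_, ⟨V₀, hV₀, rfl⟩, hy, -⟩ := Y.isBasis_affineOpens.exists_subset_of_mem_open
    (Set.mem_univ y) isOpen_univ
  have hW := hV₀.preimage f
  letI i1 := algV f V₀
  haveI : Module.Finite Γ(Y, V₀) Γ(X, f ⁻¹ᵁ V₀) := f.finite_app V₀ hV₀
  haveI : Module.Flat Γ(Y, V₀) Γ(X, f ⁻¹ᵁ V₀) := by
    have := HasRingHomProperty.appLE (P := @Flat) f inferInstance ⟨V₀, hV₀⟩ ⟨f ⁻¹ᵁ V₀, hW⟩ le_rfl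
    rwa [Scheme.Hom.appLE_eq_app] at this
  haveI : Algebra.FinitePresentation Γ(Y, V₀) Γ(X, f ⁻¹ᵁ V₀) := by
    have := f.finitePresentation_appLE hV₀ hW le_rfl
    rwa [Scheme.Hom.appLE_eq_app] at this
  haveI : Module.FinitePresentation Γ(Y, V₀) Γ(X, f ⁻¹ᵁ V₀) :=
    Module.FinitePresentation.of_finite_of_finitePresentation _ _
  obtain ⟨r, hr, H⟩ := exists_basis_of_rankAtStalk_eq_two (A := Γ(Y, V₀)) (B := Γ(X, f ⁻¹ᵁ V₀))
    (hV₀.primeIdealOf ⟨y, hy⟩) (by rw [rankAtStalk_eq_finrank f hV₀ y hy, hrk])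
  have hle : Y.basicOpen r ≤ V₀ := Y.basicOpen_le r
  have hV : IsAffineOpen (Y.basicOpen r) := hV₀.basicOpen r
  have hyr : y ∈ Y.basicOpen r := by
    have h1 : hV₀.primeIdealOf ⟨y, hy⟩ ∈ hV₀.fromSpec ⁻¹ᵁ Y.basicOpen r := by
      rw [hV₀.fromSpec_preimage_basicOpen]
      exact hr
    have h2 : hV₀.fromSpec (hV₀.primeIdealOf ⟨y, hy⟩) ∈ Y.basicOpen r := h1
    rwa [hV₀.fromSpec_primeIdealOf ⟨y, hy⟩] at h2
  refine ⟨Y.basicOpen r, ⟨hV, ?_⟩, hyr⟩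
  letI i2 := algV f (Y.basicOpen r)
  letI i3 : Algebra Γ(Y, V₀) Γ(Y, Y.basicOpen r) := (Y.presheaf.map (homOfLE hle).op).hom.toAlgebra
  letI i4 : Algebra Γ(X, f ⁻¹ᵁ V₀) Γ(X, f ⁻¹ᵁ Y.basicOpen r) :=
    (X.presheaf.map (homOfLE (f.preimage_mono hle)).op).hom.toAlgebra
  letI i5 : Algebra Γ(Y, V₀) Γ(X, f ⁻¹ᵁ Y.basicOpen r) :=
    ((algebraMap Γ(X, f ⁻¹ᵁ V₀) Γ(X, f ⁻¹ᵁ Y.basicOpen r)).comp
      (algebraMap Γ(Y, V₀) Γ(X, f ⁻¹ᵁ V₀))).toAlgebra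
  haveI t1 : IsScalarTower Γ(Y, V₀) Γ(X, f ⁻¹ᵁ V₀) Γ(X, f ⁻¹ᵁ Y.basicOpen r) :=
    IsScalarTower.of_algebraMap_eq' rfl
  haveI t2 : IsScalarTower Γ(Y, V₀) Γ(Y, Y.basicOpen r) Γ(X, f ⁻¹ᵁ Y.basicOpen r) := by
    apply IsScalarTower.of_algebraMap_eq'
    have := (isPushout_res f hV₀ hV hle).w
    exact (congrArg CommRingCat.Hom.hom this).symm
  haveI t3 : Algebra.IsPushout Γ(Y, V₀) Γ(Y, Y.basicOpen r) Γ(X, f ⁻¹ᵁ V₀)
      Γ(X, f ⁻¹ᵁ Y.basicOpen r) :=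
    CommRingCat.isPushout_iff_isPushout.1 (isPushout_res f hV₀ hV hle)
  haveI t4 : IsLocalization.Away r Γ(Y, Y.basicOpen r) :=
    hV₀.isLocalization_of_eq_basicOpen r (homOfLE hle) rfl
  exact H Γ(Y, Y.basicOpen r) Γ(X, f ⁻¹ᵁ Y.basicOpen r)

end Groth.Agent.Lib.Helper29.DblCov
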