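import Mathlib
import Groth.Agent.Lib.Helper29.DblCovSch

set_option autoImplicit false
universe u
open CategoryTheory CategoryTheory.Limits AlgebraicGeometry TopologicalSpace Opposite

namespace Groth.Agent.Lib.Helper29.DblCov

open Groth.Agent.Lib.Helper29.EffCart

variable {X Y : Scheme.{u}} {f : X ⟶ Y}

/-- naturality of `f.app` on elements -/
lemma app_res {U V : Y.Opens} (h : V ≤ U) (t : Γ(Y, U)) :
    (f.app V).hom ((Y.presheaf.map (homOfLE h).op).hom t) =
      (X.presheaf.map (homOfLE (f.preimage_mono h)).op).hom ((f.app U).hom t) := by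
  have nat := f.naturality (homOfLE h).op
  exact ConcreteCategory.congr_hom nat t

/-- a `Y`-endomorphism of `X` fixes pulled back sections -/
lemma appLE_app_of_comp_eq (g : X ⟶ X) (hg : g ≫ f = f) (U : Y.Opens)
    (e : f ⁻¹ᵁ U ≤ g ⁻¹ᵁ (f ⁻¹ᵁ U)) (t : Γ(Y, U)) :
    (g.appLE (f ⁻¹ᵁ U) (f ⁻¹ᵁ U) e).hom ((f.app U).hom t) = (f.app U).hom t := by
  have h1 := Scheme.Hom.appLE_comp_appLE g f U (f ⁻¹ᵁ U) (f ⁻¹ᵁ U) le_rfl e
  have h2 := appLE_congr_hom hg U (f ⁻¹ᵁ U) (e.trans (g.preimage_mono le_rfl))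
  rw [h2, Scheme.Hom.appLE_eq_app] at h1
  exact ConcreteCategory.congr_hom h1 t

/-- restriction commutes with the action of an endomorphism preserving preimages -/
lemma appLE_res (g : X ⟶ X) {W W' : X.Opens} (h : W' ≤ W) (e : W ≤ g ⁻¹ᵁ W)
    (e' : W' ≤ g ⁻¹ᵁ W') (s : Γ(X, W)) :
    (g.appLE W' W' e').hom ((X.presheaf.map (homOfLE h).op).hom s) =
      (X.presheaf.map (homOfLE h).op).hom ((g.appLE W W e).hom s) := by
  have h1 := Scheme.Hom.appLE_map g e (homOfLE h).op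
  have h2 := Scheme.Hom.map_appLE g e' (homOfLE h).op
  have h3 : X.presheaf.map (homOfLE h).op ≫ g.appLE W' W' e' =
      g.appLE W W e ≫ X.presheaf.map (homOfLE h).op := h2.trans h1.symm
  exact ConcreteCategory.congr_hom h3 s

/-- the subgroup of `Y`-automorphisms -/
def stab (f : X ⟶ Y) : Subgroup (Aut X) where
  carrier := {g | g.hom ≫ f = f}
  mul_mem' := by
    intro a b ha hb
    change (b.hom ≫ a.hom) ≫ f = f
    rw [Category.assoc, ha, hb]
  one_mem' := Category.id_comp f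
  inv_mem' := by
    intro a ha
    change a.inv ≫ f = f
    exact (Iso.inv_comp_eq (α := (a : X ≅ X))).2 (Eq.symm ha)

section Cover

variable [IsAffineHom f] (hcov : ∀ y : Y, ∃ V : Y.Opens, Good f V ∧ y ∈ V)

include hcov in
lemma goodIn_cover (U : Y.Opens) : U ≤ ⨆ V : {V : Y.Opens // Good f V ∧ V ≤ U}, V.1 := by
  intro y hy
  obtain ⟨V, hV, hyV⟩ := hcov y
  obtain ⟨_, ⟨V', hV', rfl⟩, hyV', hle⟩ := Y.isBasis_affineOpens.exists_subset_of_mem_open
    (show y ∈ (V ⊓ U : Y.Opens) from ⟨hyV, hy⟩) (V ⊓ U).2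
  exact Opens.mem_iSup.2
    ⟨⟨V', good_of_le hV hV' (fun a ha => (hle ha).1), fun a ha => (hle ha).2⟩, hyV'⟩

include hcov in
lemma app_injective (U : Y.Opens) : Function.Injective (f.app U).hom := by
  intro t₁ t₂ h
  apply Y.sheaf.eq_of_locally_eq' (fun V : {V : Y.Opens // Good f V ∧ V ≤ U} => V.1) U
    (fun V => homOfLE V.2.2) (goodIn_cover hcov U)
  intro V
  apply app_injective_of_good V.2.1
  exact (app_res V.2.2 t₁).trans ((congrArg _ h).trans (app_res V.2.2 t₂).symm)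

include hcov in
lemma mem_range_of_fixed (h2 : IsUnit (2 : Γ(Y, ⊤))) (U : Y.Opens) (s : Γ(X, f ⁻¹ᵁ U))
    (hs : ((sigma hcov).appLE (f ⁻¹ᵁ U) (f ⁻¹ᵁ U) (le_sigma_preimage hcov U)).hom s = s) :
    s ∈ Set.range (f.app U).hom := by
  have hloc : ∀ V : {V : Y.Opens // Good f V ∧ V ≤ U}, ∃ t : Γ(Y, V.1),
      (f.app V.1).hom t = (X.presheaf.map (homOfLE (f.preimage_mono V.2.2)).op).hom s := by
    intro V
    have h2V : IsUnit (2 : Γ(Y, V.1)) := by
      have := h2.map (Y.presheaf.map (homOfLE (le_top : V.1 ≤ ⊤)).op).hom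
      rwa [map_ofNat] at this
    have hfix : sig V.2.1 ((X.presheaf.map (homOfLE (f.preimage_mono V.2.2)).op).hom s) =
        (X.presheaf.map (homOfLE (f.preimage_mono V.2.2)).op).hom s := by
      have h1 := appLE_res (sigma hcov) (f.preimage_mono V.2.2) (le_sigma_preimage hcov U)
        (le_sigma_preimage hcov V.1) s
      rw [hs, sigma_appLE hcov V.2.1] at h1
      exact h1
    obtain ⟨t, ht⟩ := (sig_eq_self_iff V.2.1 h2V _).1 hfix
    exact ⟨t, ht⟩
  choose tV htV using hloc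
  have hcompat : TopCat.Presheaf.IsCompatible Y.presheaf
      (fun V : {V : Y.Opens // Good f V ∧ V ≤ U} => V.1) tV := by
    intro V V'
    apply app_injective hcov (V.1 ⊓ V'.1)
    refine (app_res (f := f) (inf_le_left : V.1 ⊓ V'.1 ≤ V.1) (tV V)).trans ?_
    refine Eq.trans ?_ (app_res (f := f) (inf_le_right : V.1 ⊓ V'.1 ≤ V'.1) (tV V')).symm
    rw [htV, htV, ← CommRingCat.comp_apply, ← CommRingCat.comp_apply, ← Functor.map_comp,
      ← Functor.map_comp]
    rfl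
  obtain ⟨t, ht, -⟩ := TopCat.Sheaf.existsUnique_gluing' Y.sheaf
    (fun V : {V : Y.Opens // Good f V ∧ V ≤ U} => V.1) U (fun V => homOfLE V.2.2)
    (goodIn_cover hcov U) tV hcompat
  refine ⟨t, ?_⟩
  apply X.sheaf.eq_of_locally_eq' (fun V : {V : Y.Opens // Good f V ∧ V ≤ U} => f ⁻¹ᵁ V.1)
    (f ⁻¹ᵁ U) (fun V => homOfLE (f.preimage_mono V.2.2)) ?_
  · intro V
    refine (app_res (f := f) V.2.2 t).symm.trans ?_
    have := ht V
    exact (congrArg (f.app V.1).hom this).trans (htV V)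
  · intro x hx
    obtain ⟨V, hV⟩ := Opens.mem_iSup.1 (goodIn_cover hcov U hx)
    exact Opens.mem_iSup.2 ⟨V, hV⟩

end Cover

end Groth.Agent.Lib.Helper29.DblCov
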