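import Mathlib

/-!
# Semilinear maps of Kähler differentials and of exterior powers along ring isomorphisms (helper29)
-/

universe u

open exteriorPower

namespace Groth.Agent.Lib.Helper29.SemilinExt

section Kaehler

variable {R S A B : Type u} [CommRing R] [CommRing S] [CommRing A] [CommRing B]
  [Algebra R A] [Algebra S B]

/-- the map of Kähler differentials attached to a commutative square of rings -/
theorem exists_kaehler_map (γR : R →+* S) (γ : A →+* B)
    (hsq : ∀ r, γ (algebraMap R A r) = algebraMap S B (γR r)) :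
    ∃ κ : Ω[A⁄R] →+ Ω[B⁄S], (∀ (a : A) (x : Ω[A⁄R]), κ (a • x) = γ a • κ x) ∧
      ∀ a : A, κ (KaehlerDifferential.D R A a) = KaehlerDifferential.D S B (γ a) := by
  letI : Module A Ω[B⁄S] := Module.compHom _ γ
  letI : Module R Ω[B⁄S] := Module.compHom _ ((algebraMap S B).comp γR)
  haveI : IsScalarTower R A Ω[B⁄S] := ⟨fun r a x => by
    change γ (r • a) • x = algebraMap S B (γR r) • (γ a • x)
    rw [Algebra.smul_def, map_mul, hsq, mul_smul]⟩
  let der : Derivation R A Ω[B⁄S] :=
    { toFun := fun a => KaehlerDifferential.D S B (γ a)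
      map_add' := fun a b => by rw [map_add, map_add]
      map_smul' := fun r a => by
        change KaehlerDifferential.D S B (γ (r • a)) =
          algebraMap S B (γR r) • KaehlerDifferential.D S B (γ a)
        rw [Algebra.smul_def, map_mul, hsq, ← Algebra.smul_def, Derivation.map_smul,
          algebraMap_smul]
      map_one_eq_zero' := by
        change KaehlerDifferential.D S B (γ 1) = 0
        rw [map_one, Derivation.map_one_eq_zero]
      leibniz' := fun a b => by
        change KaehlerDifferential.D S B (γ (a * b)) =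
          γ a • KaehlerDifferential.D S B (γ b) + γ b • KaehlerDifferential.D S B (γ a)
        rw [map_mul, Derivation.leibniz] }
  refine ⟨(der.liftKaehlerDifferential).toAddMonoidHom, fun a x => ?_, fun a => ?_⟩
  · exact map_smul der.liftKaehlerDifferential a x
  · exact Derivation.liftKaehlerDifferential_comp_D der a

/-- Kähler differentials of isomorphic ring maps -/
theorem exists_kaehler_equiv (γR : R ≃+* S) (γ : A ≃+* B)
    (hsq : ∀ r, γ (algebraMap R A r) = algebraMap S B (γR r)) :
    ∃ κ : Ω[A⁄R] ≃+ Ω[B⁄S], (∀ (a : A) (x : Ω[A⁄R]), κ (a • x) = γ a • κ x) ∧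
      ∀ a : A, κ (KaehlerDifferential.D R A a) = KaehlerDifferential.D S B (γ a) := by
  obtain ⟨κ₁, h₁s, h₁D⟩ := exists_kaehler_map (γR : R →+* S) (γ : A →+* B) hsq
  have hsq' : ∀ s, γ.symm (algebraMap S B s) = algebraMap R A (γR.symm s) := by
    intro s
    apply γ.injective
    rw [RingEquiv.apply_symm_apply, hsq, RingEquiv.apply_symm_apply]
  obtain ⟨κ₂, h₂s, h₂D⟩ := exists_kaehler_map (γR.symm : S →+* R) (γ.symm : B →+* A) hsq'
  have h21 : ∀ x, κ₂ (κ₁ x) = x := by
    intro x
    have hx : x ∈ Submodule.span A (Set.range (KaehlerDifferential.D R A)) := by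
      rw [KaehlerDifferential.span_range_derivation]; trivial
    induction hx using Submodule.span_induction with
    | mem y hy =>
      obtain ⟨a, rfl⟩ := hy
      rw [h₁D, h₂D]
      simp
    | zero => rw [map_zero, map_zero]
    | add y z _ _ hy hz => rw [map_add, map_add, hy, hz]
    | smul a y _ hy =>
      rw [h₁s, h₂s, hy]
      simp
  have h12 : ∀ x, κ₁ (κ₂ x) = x := by
    intro x
    have hx : x ∈ Submodule.span B (Set.range (KaehlerDifferential.D S B)) := by
      rw [KaehlerDifferential.span_range_derivation]; trivial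
    induction hx using Submodule.span_induction with
    | mem y hy =>
      obtain ⟨a, rfl⟩ := hy
      rw [h₂D, h₁D]
      simp
    | zero => rw [map_zero, map_zero]
    | add y z _ _ hy hz => rw [map_add, map_add, hy, hz]
    | smul a y _ hy =>
      rw [h₂s, h₁s, hy]
      simp
  exact ⟨{ κ₁ with invFun := κ₂, left_inv := h21, right_inv := h12 }, h₁s, h₁D⟩

end Kaehler

section ExtPow

variable {A B : Type u} [CommRing A] [CommRing B] {M N : Type u} [AddCommGroup M] [Module A M]
  [AddCommGroup N] [Module B N]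

/-- the map of exterior powers attached to a semilinear map -/
theorem exists_extMap (g : A →+* B) (φ : M →+ N) (hφ : ∀ (a : A) (m : M), φ (a • m) = g a • φ m)
    (p : ℕ) :
    ∃ Ψ : ↥(⋀[A]^p M) →+ ↥(⋀[B]^p N), (∀ (a : A) (x : ↥(⋀[A]^p M)), Ψ (a • x) = g a • Ψ x) ∧
      ∀ m : Fin p → M, Ψ (ιMulti A p m) = ιMulti B p (fun i => φ (m i)) := by
  letI : Algebra A B := g.toAlgebra
  letI : Module A N := Module.compHom N g
  haveI : IsScalarTower A B N := ⟨fun a b n => by
    change (g a * b) • n = g a • (b • n)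
    rw [mul_smul]⟩
  let φL : M →ₗ[A] N := { toFun := φ, map_add' := map_add φ, map_smul' := hφ }
  let alt : M [⋀^Fin p]→ₗ[A] ↥(⋀[B]^p N) :=
    { toMultilinearMap := (MultilinearMap.restrictScalars A (ιMulti B p).toMultilinearMap).compLinearMap
        (fun _ => φL)
      map_eq_zero_of_eq' := fun v i j h hij => by
        apply (ιMulti B p).map_eq_zero_of_eq _ _ hij
        simp only [h] }
  refine ⟨(exteriorPower.alternatingMapLinearEquiv alt).toAddMonoidHom, fun a x => ?_, fun m => ?_⟩
  · rw [LinearMap.toAddMonoidHom_coe, map_smul]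
    exact (algebraMap_smul B a _).symm
  · rw [LinearMap.toAddMonoidHom_coe, exteriorPower.alternatingMapLinearEquiv_apply_ιMulti]
    rfl

/-- exterior powers of semilinearly isomorphic modules -/
theorem exists_extEquiv (γ : A ≃+* B) (φ : M ≃+ N) (hφ : ∀ (a : A) (m : M), φ (a • m) = γ a • φ m)
    (p : ℕ) :
    ∃ Ψ : ↥(⋀[A]^p M) ≃+ ↥(⋀[B]^p N), (∀ (a : A) (x : ↥(⋀[A]^p M)), Ψ (a • x) = γ a • Ψ x) ∧
      ∀ m : Fin p → M, Ψ (ιMulti A p m) = ιMulti B p (fun i => φ (m i)) := by
  obtain ⟨Ψ₁, h₁s, h₁ι⟩ := exists_extMap (γ : A →+* B) (φ : M →+ N) hφ p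
  have hφ' : ∀ (b : B) (n : N), φ.symm (b • n) = γ.symm b • φ.symm n := by
    intro b n
    apply φ.injective
    rw [AddEquiv.apply_symm_apply, hφ, AddEquiv.apply_symm_apply, RingEquiv.apply_symm_apply]
  obtain ⟨Ψ₂, h₂s, h₂ι⟩ := exists_extMap (γ.symm : B →+* A) (φ.symm : N →+ M) hφ' p
  have h21 : ∀ x, Ψ₂ (Ψ₁ x) = x := by
    intro x
    have hx : x ∈ Submodule.span A (Set.range (ιMulti A p (M := M))) := by
      rw [ιMulti_span]; trivial
    induction hx using Submodule.span_induction with
    | mem y hy =>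
      obtain ⟨m, rfl⟩ := hy
      rw [h₁ι, h₂ι]
      simp
    | zero => rw [map_zero, map_zero]
    | add y z _ _ hy hz => rw [map_add, map_add, hy, hz]
    | smul a y _ hy =>
      rw [h₁s, h₂s, hy]
      simp
  have h12 : ∀ x, Ψ₁ (Ψ₂ x) = x := by
    intro x
    have hx : x ∈ Submodule.span B (Set.range (ιMulti B p (M := N))) := by
      rw [ιMulti_span]; trivial
    induction hx using Submodule.span_induction with
    | mem y hy =>
      obtain ⟨m, rfl⟩ := hy
      rw [h₂ι, h₁ι]
      simp
    | zero => rw [map_zero, map_zero]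
    | add y z _ _ hy hz => rw [map_add, map_add, hy, hz]
    | smul a y _ hy =>
      rw [h₂s, h₁s, hy]
      simp
  exact ⟨{ Ψ₁ with invFun := Ψ₂, left_inv := h21, right_inv := h12 }, h₁s, h₁ι⟩

end ExtPow

end Groth.Agent.Lib.Helper29.SemilinExt
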