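import Groth.Prelude.Def_DeRham
import Groth.Agent.Lib.Helper29.SemilinExt
import Groth.Agent.Lib.Helper24.DeRhamLemmas
import Groth.Agent.S15292
import Groth.Agent.S15536

/-!
# Ring-level de Rham complexes: functoriality, retracts, isomorphisms (helper29)
-/

universe u

open exteriorPower DeRham

namespace Groth.Agent.Lib.Helper29.DeRhamRing

open Groth.Agent.Lib.Helper29.SemilinExt Groth.Agent.Lib.Helper24.DeRhamL

variable {R A B : Type u} [CommRing R] [CommRing A] [CommRing B] [Algebra R A] [Algebra R B]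

lemma ιMulti_cons_eq_gen (p : ℕ) (b₀ : A) (b : Fin p → A) :
    ιMulti A (p + 1) (Fin.cons (KaehlerDifferential.D R A b₀)
      (fun i => KaehlerDifferential.D R A (b i))) =
      gen (KaehlerDifferential.D R A) (p + 1) 1 (Fin.cons b₀ b) := by
  rw [gen, one_smul]
  congr 1
  funext i
  refine Fin.cases ?_ (fun j => ?_) i
  · simp only [Fin.cons_zero]
  · simp only [Fin.cons_succ]

/-- the map of de Rham complexes induced by a homomorphism of `R`-algebras -/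
theorem exists_cxMap (g : A →+* B) (hg : ∀ r, g (algebraMap R A r) = algebraMap R B r) :
    ∃ Ψ : ∀ p : ℕ, ↥(⋀[A]^p (Ω[A⁄R])) →+ ↥(⋀[B]^p (Ω[B⁄R])),
      (∀ (p : ℕ) (a : A) (x : ↥(⋀[A]^p (Ω[A⁄R]))), Ψ p (a • x) = g a • Ψ p x) ∧
      IsCxMap (KaehlerDifferential.D R A) (KaehlerDifferential.D R B) g Ψ := by
  obtain ⟨κ, hκs, hκD⟩ := exists_kaehler_map (RingHom.id R) g (fun r => by simpa using hg r)
  choose Ψ hΨs hΨι using fun p => exists_extMap g κ hκs p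
  refine ⟨Ψ, hΨs, fun p b₀ b => ?_⟩
  rw [gen, hΨs, hΨι, gen]
  congr 2
  funext i
  exact hκD (b i)

/-- `R`-linearity of a semilinear map -/
lemma cxMap_smulR (g : A →+* B) (hg : ∀ r, g (algebraMap R A r) = algebraMap R B r)
    (Ψ : ∀ p : ℕ, ↥(⋀[A]^p (Ω[A⁄R])) →+ ↥(⋀[B]^p (Ω[B⁄R])))
    (hΨs : ∀ (p : ℕ) (a : A) (x : ↥(⋀[A]^p (Ω[A⁄R]))), Ψ p (a • x) = g a • Ψ p x)
    (p : ℕ) (r : R) (x : ↥(⋀[A]^p (Ω[A⁄R]))) : Ψ p (r • x) = r • Ψ p x := by
  rw [← algebraMap_smul A r x, hΨs, hg, algebraMap_smul]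

/-- a map of de Rham complexes commutes with the differentials -/
theorem cxMap_comm (g : A →+* B)
    (Ψ : ∀ p : ℕ, ↥(⋀[A]^p (Ω[A⁄R])) →+ ↥(⋀[B]^p (Ω[B⁄R])))
    (hΨ : IsCxMap (KaehlerDifferential.D R A) (KaehlerDifferential.D R B) g Ψ)
    (d : ∀ p : ℕ, ↥(⋀[A]^p (Ω[A⁄R])) →ₗ[R] ↥(⋀[A]^(p + 1) (Ω[A⁄R])))
    (hd : IsRule (KaehlerDifferential.D R A) d)
    (d' : ∀ p : ℕ, ↥(⋀[B]^p (Ω[B⁄R])) →ₗ[R] ↥(⋀[B]^(p + 1) (Ω[B⁄R])))
    (hd' : IsRule (KaehlerDifferential.D R B) d')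
    (p : ℕ) (x : ↥(⋀[A]^p (Ω[A⁄R]))) : Ψ (p + 1) (d p x) = d' p (Ψ p x) := by
  revert x
  refine kaehler_induction (fun b₀ b => ?_) (by simp) (fun x y hx hy => by simp [hx, hy])
  rw [hd p b₀ b, ιMulti_cons_eq_gen, hΨ, hΨ, hd', map_one, gen, one_smul]
  congr 1
  funext i
  refine Fin.cases ?_ (fun j => ?_) i
  · simp only [Fin.cons_zero]
  · simp only [Fin.cons_succ]

/-- a de Rham differential on a retract -/
theorem exists_isDiff_of_retract (i : A →+* B) (hi : ∀ r, i (algebraMap R A r) = algebraMap R B r)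
    (r : B →+* A) (hr : ∀ c, r (algebraMap R B c) = algebraMap R A c) (hri : ∀ a, r (i a) = a)
    (d' : ∀ p : ℕ, ↥(⋀[B]^p (Ω[B⁄R])) →ₗ[R] ↥(⋀[B]^(p + 1) (Ω[B⁄R])))
    (hd' : IsRule (KaehlerDifferential.D R B) d') :
    ∃ d : ∀ p : ℕ, ↥(⋀[A]^p (Ω[A⁄R])) →ₗ[R] ↥(⋀[A]^(p + 1) (Ω[A⁄R])),
      IsDiff (KaehlerDifferential.D R A) d := by
  obtain ⟨Ψi, hΨis, hΨi⟩ := exists_cxMap (R := R) i hi
  obtain ⟨Ψr, hΨrs, hΨr⟩ := exists_cxMap (R := R) r hr
  let d : ∀ p : ℕ, ↥(⋀[A]^p (Ω[A⁄R])) →ₗ[R] ↥(⋀[A]^(p + 1) (Ω[A⁄R])) := fun p =>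
    { toFun := fun x => Ψr (p + 1) (d' p (Ψi p x))
      map_add' := fun x y => by rw [map_add, map_add, map_add]
      map_smul' := fun c x => by
        rw [cxMap_smulR i hi Ψi hΨis, map_smul, cxMap_smulR r hr Ψr hΨrs]
        rfl }
  refine ⟨d, Groth.Agent.S15292.result R A d ?_⟩
  intro p b₀ b
  change Ψr (p + 1) (d' p (Ψi p (gen (KaehlerDifferential.D R A) p b₀ b))) = _
  rw [hΨi, hd', ιMulti_cons_eq_gen, hΨr, map_one, gen, one_smul]
  congr 1
  funext j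
  refine Fin.cases ?_ (fun l => ?_) j
  · simp only [Fin.cons_zero, hri]
  · simp only [Fin.cons_succ, hri]

/-- an isomorphism of `R`-algebras induces an isomorphism of de Rham complexes -/
theorem exists_cxEquiv (e : A ≃+* B) (he : ∀ r, e (algebraMap R A r) = algebraMap R B r) :
    ∃ Ψ : ∀ p : ℕ, ↥(⋀[A]^p (Ω[A⁄R])) ≃+ ↥(⋀[B]^p (Ω[B⁄R])),
      (∀ (p : ℕ) (r : R) (x : ↥(⋀[A]^p (Ω[A⁄R]))), Ψ p (r • x) = r • Ψ p x) ∧
      IsCxMap (KaehlerDifferential.D R A) (KaehlerDifferential.D R B) (e : A →+* B)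
        (fun p => (Ψ p : ↥(⋀[A]^p (Ω[A⁄R])) →+ ↥(⋀[B]^p (Ω[B⁄R])))) := by
  have he' : ∀ c, e.symm (algebraMap R B c) = algebraMap R A c := fun c => by
    rw [RingEquiv.symm_apply_eq, he]
  obtain ⟨Ψ₁, h₁s, h₁⟩ := exists_cxMap (R := R) (e : A →+* B) he
  obtain ⟨Ψ₂, h₂s, h₂⟩ := exists_cxMap (R := R) (e.symm : B →+* A) he'
  have h21 : ∀ p x, Ψ₂ p (Ψ₁ p x) = x := by
    intro p
    refine kaehler_induction (fun b₀ b => ?_) (by simp) (fun x y hx hy => by simp [hx, hy])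
    rw [h₁, h₂]
    simp
  have h12 : ∀ p x, Ψ₁ p (Ψ₂ p x) = x := by
    intro p
    refine kaehler_induction (fun b₀ b => ?_) (by simp) (fun x y hx hy => by simp [hx, hy])
    rw [h₂, h₁]
    simp
  refine ⟨fun p => { Ψ₁ p with invFun := Ψ₂ p, left_inv := h21 p, right_inv := h12 p },
    fun p r x => cxMap_smulR (e : A →+* B) he Ψ₁ h₁s p r x, fun p b₀ b => h₁ p b₀ b⟩

section Poincare

/-- the unit `0`-form -/
noncomputable def one0 (R A : Type u) [CommRing R] [CommRing A] [Algebra R A] : ↥(⋀[A]^0 (Ω[A⁄R])) :=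
  ιMulti A 0 (fun _ => 0)

lemma gen_zero_eq (a : A) (b : Fin 0 → A) :
    gen (KaehlerDifferential.D R A) 0 a b = a • one0 R A := by
  rw [gen, one0]
  congr 2
  exact Subsingleton.elim _ _

/-- the Poincaré lemma for a de Rham complex: exact in positive degrees, closed `0`-forms are the
constants -/
def Poincare (d : ∀ p : ℕ, ↥(⋀[A]^p (Ω[A⁄R])) →ₗ[R] ↥(⋀[A]^(p + 1) (Ω[A⁄R]))) : Prop :=
  (∀ (i : ℕ) (y : ↥(⋀[A]^(i + 1) (Ω[A⁄R]))), d (i + 1) y = 0 → ∃ z, d i z = y) ∧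
    ∀ y : ↥(⋀[A]^0 (Ω[A⁄R])), d 0 y = 0 → ∃ c : R, y = c • one0 R A

/-- transfer of the Poincaré lemma along an isomorphism -/
theorem Poincare.of_equiv (e : A ≃+* B) (he : ∀ r, e (algebraMap R A r) = algebraMap R B r)
    (d : ∀ p : ℕ, ↥(⋀[A]^p (Ω[A⁄R])) →ₗ[R] ↥(⋀[A]^(p + 1) (Ω[A⁄R])))
    (hd : IsRule (KaehlerDifferential.D R A) d)
    (d' : ∀ p : ℕ, ↥(⋀[B]^p (Ω[B⁄R])) →ₗ[R] ↥(⋀[B]^(p + 1) (Ω[B⁄R])))
    (hd' : IsRule (KaehlerDifferential.D R B) d') (hP : Poincare d) : Poincare d' := by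
  obtain ⟨Ψ, hΨR, hΨ⟩ := exists_cxEquiv (R := R) e he
  have hc : ∀ p x, Ψ (p + 1) (d p x) = d' p (Ψ p x) :=
    fun p x => cxMap_comm (e : A →+* B) (fun p => (Ψ p : _ →+ _)) hΨ d hd d' hd' p x
  refine ⟨fun i y hy => ?_, fun y hy => ?_⟩
  · have h1 : d (i + 1) ((Ψ (i + 1)).symm y) = 0 := by
      apply (Ψ (i + 1 + 1)).injective
      rw [hc, AddEquiv.apply_symm_apply, hy, map_zero]
    obtain ⟨z, hz⟩ := hP.1 i _ h1
    refine ⟨Ψ i z, ?_⟩
    rw [← hc, hz, AddEquiv.apply_symm_apply]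
  · have h1 : d 0 ((Ψ 0).symm y) = 0 := by
      apply (Ψ (0 + 1)).injective
      rw [hc, AddEquiv.apply_symm_apply, hy, map_zero]
    obtain ⟨c, hc0⟩ := hP.2 _ h1
    refine ⟨c, ?_⟩
    have h2 : y = Ψ 0 (c • one0 R A) := by rw [← hc0, AddEquiv.apply_symm_apply]
    rw [h2, hΨR]
    congr 1
    have h3 := hΨ 0 1 (fun i => i.elim0)
    rw [gen_zero_eq, gen_zero_eq, one_smul, map_one, one_smul] at h3
    exact h3

/-- the Poincaré lemma when `R → A` is surjective -/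
theorem poincare_of_surjective (hs : Function.Surjective (algebraMap R A))
    (d : ∀ p : ℕ, ↥(⋀[A]^p (Ω[A⁄R])) →ₗ[R] ↥(⋀[A]^(p + 1) (Ω[A⁄R]))) : Poincare d := by
  haveI := KaehlerDifferential.subsingleton_of_surjective R A hs
  have hzero : ∀ (p : ℕ) (y : ↥(⋀[A]^(p + 1) (Ω[A⁄R]))), y = 0 := by
    intro p y
    have hy : y ∈ Submodule.span A (Set.range (ιMulti A (p + 1) (M := Ω[A⁄R]))) := by
      rw [ιMulti_span]; trivial
    induction hy using Submodule.span_induction with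
    | mem y hy =>
      obtain ⟨m, rfl⟩ := hy
      have : m = 0 := Subsingleton.elim _ _
      rw [this]
      exact (ιMulti A (p + 1)).map_zero
    | zero => rfl
    | add y z _ _ hy hz => rw [hy, hz, add_zero]
    | smul a y _ hy => rw [hy, smul_zero]
  refine ⟨fun i y _ => ⟨0, by rw [map_zero, hzero i y]⟩, fun y _ => ?_⟩
  obtain ⟨c, hc⟩ := hs (zeroEquiv A (Ω[A⁄R]) y)
  refine ⟨c, ?_⟩
  apply (zeroEquiv A (Ω[A⁄R])).injective
  rw [← algebraMap_smul A c (one0 R A), map_smul, one0, zeroEquiv_ιMulti, hc, smul_eq_mul, mul_one]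

open Polynomial in
/-- the Poincaré lemma passes from `A` to `A[X]` over a `ℚ`-algebra -/
theorem poincare_polynomial [Algebra ℚ R]
    (d : ∀ p : ℕ, ↥(⋀[A]^p (Ω[A⁄R])) →ₗ[R] ↥(⋀[A]^(p + 1) (Ω[A⁄R])))
    (hd : IsDiff (KaehlerDifferential.D R A) d)
    (d' : ∀ p : ℕ, ↥(⋀[A[X]]^p (Ω[A[X]⁄R])) →ₗ[R] ↥(⋀[A[X]]^(p + 1) (Ω[A[X]⁄R])))
    (hd' : IsDiff (KaehlerDifferential.D R A[X]) d') (hP : Poincare d) : Poincare d' := by
  obtain ⟨ψ, hψs, hψ⟩ := exists_cxMap (R := R) (algebraMap A A[X])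
    (fun r => (IsScalarTower.algebraMap_apply R A A[X] r).symm)
  have hcomm : ∀ (p : ℕ) (x : ↥(⋀[A]^p (Ω[A⁄R]))), ψ (p + 1) (d p x) = d' p (ψ p x) :=
    fun p x => cxMap_comm (algebraMap A A[X]) ψ hψ d hd.1 d' hd'.1 p x
  have hψR : ∀ (p : ℕ) (r : R) (x : ↥(⋀[A]^p (Ω[A⁄R]))), ψ p (r • x) = r • ψ p x :=
    cxMap_smulR (algebraMap A A[X]) (fun r => (IsScalarTower.algebraMap_apply R A A[X] r).symm) ψ hψs
  refine ⟨fun i y hy => ?_, fun y hy => ?_⟩
  · obtain ⟨h1, -⟩ := Groth.Agent.S15536.result R A d hd d' hd' ψ hψ hcomm (i + 1)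
    obtain ⟨x, hx, hyx⟩ := h1 y (LinearMap.mem_ker.2 hy)
    obtain ⟨z, hz⟩ := hP.1 i x (LinearMap.mem_ker.1 hx)
    obtain ⟨w, hw⟩ : ∃ w, d' i w = y - ψ (i + 1) x := hyx
    refine ⟨w + ψ i z, ?_⟩
    rw [map_add, hw, ← hcomm, hz]
    abel
  · obtain ⟨h1, -⟩ := Groth.Agent.S15536.result R A d hd d' hd' ψ hψ hcomm 0
    obtain ⟨x, hx, hyx⟩ := h1 y (LinearMap.mem_ker.2 hy)
    obtain ⟨c, hc⟩ := hP.2 x (LinearMap.mem_ker.1 hx)
    have hyx' : y - ψ 0 x = 0 := hyx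
    refine ⟨c, ?_⟩
    rw [sub_eq_zero.1 hyx', hc, hψR]
    congr 1
    have h3 := hψ 0 1 (fun i => i.elim0)
    rw [gen_zero_eq, gen_zero_eq, one_smul, map_one, one_smul] at h3
    exact h3

open Polynomial in
/-- **the Poincaré lemma for polynomial rings over a field of characteristic zero** -/
theorem poincare_mvPolynomial (k : Type u) [Field k] [CharZero k] :
    ∀ (n : ℕ) (d : ∀ p : ℕ, ↥(⋀[MvPolynomial (Fin n) k]^p (Ω[MvPolynomial (Fin n) k⁄k])) →ₗ[k]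
        ↥(⋀[MvPolynomial (Fin n) k]^(p + 1) (Ω[MvPolynomial (Fin n) k⁄k])))
      (_ : IsDiff (KaehlerDifferential.D k (MvPolynomial (Fin n) k)) d), Poincare d := by
  intro n
  induction n with
  | zero =>
    intro d _
    refine poincare_of_surjective ?_ d
    rw [MvPolynomial.algebraMap_eq]
    exact MvPolynomial.C_surjective (Fin 0)
  | succ m ih =>
    intro d'' hd''
    let e : MvPolynomial (Fin (m + 1)) k ≃ₐ[k] (MvPolynomial (Fin m) k)[X] :=
      MvPolynomial.finSuccEquiv k m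
    obtain ⟨d', hd'⟩ := exists_isDiff_of_retract (R := k)
      (e.symm : (MvPolynomial (Fin m) k)[X] ≃+* MvPolynomial (Fin (m + 1)) k).toRingHom
      (fun r => e.symm.commutes r)
      (e : MvPolynomial (Fin (m + 1)) k ≃+* (MvPolynomial (Fin m) k)[X]).toRingHom
      (fun r => e.commutes r) (fun a => e.apply_symm_apply a) d'' hd''.1
    obtain ⟨d, hd⟩ := exists_isDiff_of_retract (R := k)
      (algebraMap (MvPolynomial (Fin m) k) (MvPolynomial (Fin m) k)[X])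
      (fun r => (IsScalarTower.algebraMap_apply k (MvPolynomial (Fin m) k)
        (MvPolynomial (Fin m) k)[X] r).symm)
      (Polynomial.evalRingHom (0 : MvPolynomial (Fin m) k))
      (fun c => by simp [Polynomial.algebraMap_apply])
      (fun a => by simp [Polynomial.algebraMap_apply]) d' hd'.1
    have h1 := poincare_polynomial d hd d' hd' (ih d hd)
    exact Poincare.of_equiv (R := k)
      (e.symm : (MvPolynomial (Fin m) k)[X] ≃+* MvPolynomial (Fin (m + 1)) k)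
      (fun r => e.symm.commutes r) d' hd'.1 d'' hd''.1 h1

end Poincare


section Cohomology

open CategoryTheory CategoryTheory.Limits

variable {R A : Type u} [CommRing R] [CommRing A] [Algebra R A]
  {d : ∀ p : ℕ, ↥(⋀[A]^p (Ω[A⁄R])) →ₗ[R] ↥(⋀[A]^(p + 1) (Ω[A⁄R]))}

lemma cx_d (hd : IsDiff (KaehlerDifferential.D R A) d) (p : ℕ) (y : ↥(⋀[A]^p (Ω[A⁄R]))) :
    ((DeRham.cx hd).d p (p + 1)).hom y = d p y := by
  have : (DeRham.cx hd).d p (p + 1) = ModuleCat.ofHom (d p) :=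
    CochainComplex.of_d (fun p => ModuleCat.of R ↥(⋀[A]^p (Ω[A⁄R]))) (fun p => ModuleCat.ofHom (d p)) p
  rw [this]
  rfl

theorem subsingleton_H_succ (hd : IsDiff (KaehlerDifferential.D R A) d) (hP : Poincare d) (i : ℕ) :
    Subsingleton ↑(DeRham.H hd (i + 1)) := by
  have hex : (DeRham.cx hd).ExactAt (i + 1) := by
    rw [HomologicalComplex.exactAt_iff' (DeRham.cx hd) i (i + 1) (i + 2) (by simp) (by simp),
      ShortComplex.moduleCat_exact_iff]
    intro x hx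
    obtain ⟨z, hz⟩ := hP.1 i x (by rw [← cx_d hd (i + 1)]; exact hx)
    exact ⟨z, (cx_d hd i z).trans hz⟩
  exact ModuleCat.subsingleton_of_isZero hex.isZero_homology

theorem nonempty_H_zero (hd : IsDiff (KaehlerDifferential.D R A) d) (hP : Poincare d)
    (hinj : Function.Injective (algebraMap R A)) :
    Nonempty (↑(DeRham.H hd 0) ≃+ R) := by
  let E := DeRham.cx hd
  let S := E.sc' 0 0 1
  have e1 : E.homology 0 ≅ ModuleCat.of R (LinearMap.ker S.g.hom ⧸ LinearMap.range S.moduleCatToCycles) :=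
    ShortComplex.homologyMapIso (E.isoSc' 0 0 1 (by simp) (by simp)) ≪≫ S.moduleCatHomologyIso
  have hf0 : S.f = 0 := E.shape 0 0 (by simp)
  have hone : ∀ c : R, c • one0 R A ∈ LinearMap.ker S.g.hom := by
    intro c
    have h1 : d 0 (one0 R A) = 0 := by
      have h2 := hd.1 0 1 (fun i => i.elim0)
      rw [gen_zero_eq, one_smul] at h2
      rw [h2]
      refine (ιMulti A 1 (M := Ω[A⁄R])).map_coord_zero 0 ?_
      rw [Fin.cons_zero, Derivation.map_one_eq_zero]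
    show (E.d 0 1).hom (c • one0 R A) = 0
    rw [cx_d hd 0, map_smul, h1, smul_zero]
    rfl
  have hinj' : ∀ c : R, c • one0 R A = 0 → c = 0 := by
    intro c hc
    apply hinj
    rw [map_zero]
    have h3 := congrArg (exteriorPower.zeroEquiv A (Ω[A⁄R])) hc
    rw [← algebraMap_smul A c (one0 R A), map_smul, map_zero, one0, exteriorPower.zeroEquiv_ιMulti,
      smul_eq_mul, mul_one] at h3
    exact h3
  let φ : R →+ (LinearMap.ker S.g.hom ⧸ LinearMap.range S.moduleCatToCycles) :=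
    { toFun := fun c => Submodule.Quotient.mk ⟨c • one0 R A, hone c⟩
      map_zero' := by
        rw [← Submodule.Quotient.mk_zero]
        congr 1
        exact Subtype.ext (zero_smul R _)
      map_add' := fun x y => by
        rw [← Submodule.Quotient.mk_add]
        congr 1
        exact Subtype.ext (add_smul x y _) }
  have hφi : Function.Injective φ := by
    rw [injective_iff_map_eq_zero]
    intro c hc
    have hc' : (⟨c • one0 R A, hone c⟩ : LinearMap.ker S.g.hom) ∈ LinearMap.range S.moduleCatToCycles :=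
      (Submodule.Quotient.mk_eq_zero _).1 hc
    obtain ⟨z, hz⟩ := hc'
    have hz' : S.f.hom z = c • one0 R A := congrArg Subtype.val hz
    rw [hf0] at hz'
    exact hinj' c hz'.symm
  have hφs : Function.Surjective φ := by
    intro q
    obtain ⟨⟨y, hy⟩, rfl⟩ := Submodule.Quotient.mk_surjective _ q
    have hy' : d 0 y = 0 := by
      rw [← cx_d hd 0]
      exact hy
    obtain ⟨c, hc⟩ := hP.2 y hy'
    refine ⟨c, ?_⟩
    show Submodule.Quotient.mk _ = Submodule.Quotient.mk _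
    congr 1
    exact Subtype.ext hc.symm
  exact ⟨(e1.toLinearEquiv.toAddEquiv).trans (AddEquiv.ofBijective φ ⟨hφi, hφs⟩).symm⟩


end Cohomology

end Groth.Agent.Lib.Helper29.DeRhamRing
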