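import Mathlib

/-!
# Dévissage for morphisms into a bounded complex in the derived category

If `L` is an object of the derived category of an abelian category `C` with no nonzero
morphism to `(singleFunctor C p).obj (K.X p)` for all `p`, and `K` is a bounded cochain
complex, then there is no nonzero morphism `L ⟶ Q.obj K`.
-/

universe w' w v u

open CategoryTheory CategoryTheory.Limits Pretriangulated

namespace Groth.Agent.Lib.Helper29.HyperVanish

variable {C : Type u} [Category.{v} C] [Abelian C]

/-- the inclusion of the top term -/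
noncomputable def topι (K : CochainComplex C ℤ) (n : ℤ) (hn : IsZero (K.X (n + 1))) :
    (HomologicalComplex.single C (ComplexShape.up ℤ) n).obj (K.X n) ⟶ K :=
  HomologicalComplex.mkHomFromSingle (𝟙 _) (by
    intro k hk
    have : k = n + 1 := by simpa using hk.symm
    subst this
    exact hn.eq_of_tgt _ _)

lemma topι_f_self (K : CochainComplex C ℤ) (n : ℤ) (hn : IsZero (K.X (n + 1))) :
    IsIso ((topι K n hn).f n) := by
  rw [topι, HomologicalComplex.mkHomFromSingle_f]
  infer_instance

instance (K : CochainComplex C ℤ) (n : ℤ) (hn : IsZero (K.X (n + 1))) : Mono (topι K n hn) := by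
  apply HomologicalComplex.mono_of_mono_f
  intro p
  by_cases hp : p = n
  · subst hp
    haveI := topι_f_self K p hn
    infer_instance
  · exact ⟨fun {Z} g h _ =>
      (HomologicalComplex.isZero_single_obj_X (ComplexShape.up ℤ) n (K.X n) p hp).eq_of_tgt _ _⟩

/-- the short exact sequence `K^n[-n] → K → K/K^n[-n]` -/
noncomputable def topSC (K : CochainComplex C ℤ) (n : ℤ) (hn : IsZero (K.X (n + 1))) :
    ShortComplex (CochainComplex C ℤ) :=
  ShortComplex.mk (topι K n hn) (cokernel.π (topι K n hn)) (cokernel.condition _)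

lemma topSC_shortExact (K : CochainComplex C ℤ) (n : ℤ) (hn : IsZero (K.X (n + 1))) :
    (topSC K n hn).ShortExact where
  exact := ShortComplex.exact_cokernel _
  mono_f := by dsimp [topSC]; infer_instance
  epi_g := by dsimp [topSC]; infer_instance

lemma topSC_eval_shortExact (K : CochainComplex C ℤ) (n : ℤ) (hn : IsZero (K.X (n + 1))) (p : ℤ) :
    ((topSC K n hn).map (HomologicalComplex.eval C (ComplexShape.up ℤ) p)).ShortExact :=
  (topSC_shortExact K n hn).map_of_exact _

/-- the quotient is zero in degree `n` -/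
lemma isZero_coker_self (K : CochainComplex C ℤ) (n : ℤ) (hn : IsZero (K.X (n + 1))) :
    IsZero ((topSC K n hn).X₃.X n) := by
  have h := topSC_eval_shortExact K n hn n
  exact h.isIso_f_iff.1 (topι_f_self K n hn)

/-- the quotient is zero where `K` is -/
lemma isZero_coker_of_isZero (K : CochainComplex C ℤ) (n : ℤ) (hn : IsZero (K.X (n + 1))) (p : ℤ)
    (hp : IsZero (K.X p)) : IsZero ((topSC K n hn).X₃.X p) := by
  have h := topSC_eval_shortExact K n hn p
  haveI : Epi ((topSC K n hn).g.f p) := h.epi_g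
  rw [IsZero.iff_id_eq_zero, ← cancel_epi ((topSC K n hn).g.f p)]
  exact hp.eq_of_src _ _

/-- the quotient agrees with `K` away from degree `n` -/
lemma isIso_coker_of_ne (K : CochainComplex C ℤ) (n : ℤ) (hn : IsZero (K.X (n + 1))) (p : ℤ)
    (hp : p ≠ n) : IsIso ((topSC K n hn).g.f p) := by
  have h := topSC_eval_shortExact K n hn p
  have h1 := h.isIso_g_iff.2
    (HomologicalComplex.isZero_single_obj_X (ComplexShape.up ℤ) n (K.X n) p hp)
  exact h1

variable [HasDerivedCategory.{w} C]

open DerivedCategory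

variable (L : DerivedCategory C)

/-- no nonzero morphism from `L` to `A` placed in degree `m` -/
def NoHom (A : C) (m : ℤ) : Prop :=
  ∀ φ : L ⟶ (singleFunctor C m).obj A, φ = 0

lemma noHom_of_isZero {A : C} (hA : IsZero A) (m : ℤ) : NoHom L A m := fun φ =>
  (((singleFunctor C m).map_isZero hA)).eq_of_tgt _ _

lemma noHom_of_iso {A B : C} (e : A ≅ B) (m : ℤ) (h : NoHom L A m) : NoHom L B m := by
  intro φ
  have h1 := h (φ ≫ ((singleFunctor C m).mapIso e).inv)
  have h2 : φ = (φ ≫ ((singleFunctor C m).mapIso e).inv) ≫ ((singleFunctor C m).mapIso e).hom := by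
    simp
  rw [h2, h1, zero_comp]

theorem hom_eq_zero_aux (N : ℕ) : ∀ (K : CochainComplex C ℤ) (n : ℤ)
    (_ : ∀ p, n < p → IsZero (K.X p)) (_ : ∀ p, p ≤ n - N → IsZero (K.X p))
    (_ : ∀ p, NoHom L (K.X p) p) (φ : L ⟶ Q.obj K), φ = 0 := by
  induction N with
  | zero =>
    intro K n hhi hlo _ φ
    have hK : IsZero K := by
      rw [IsZero.iff_id_eq_zero]
      ext p
      by_cases hp : n < p
      · exact (hhi p hp).eq_of_src _ _
      · exact (hlo p (by simpa using hp)).eq_of_src _ _
    exact (Q.map_isZero hK).eq_of_tgt _ _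
  | succ N ih =>
    intro K n hhi hlo hK φ
    have hn : IsZero (K.X (n + 1)) := hhi _ (by omega)
    have hS := topSC_shortExact K n hn
    have hT := triangleOfSES_distinguished hS
    -- the image of `φ` in the quotient vanishes
    have h3 : φ ≫ Q.map (topSC K n hn).g = 0 := by
      refine ih (topSC K n hn).X₃ (n - 1) ?_ ?_ ?_ _
      · intro p hp
        by_cases hpn : p = n
        · subst hpn
          exact isZero_coker_self K p hn
        · exact isZero_coker_of_isZero K n hn p (hhi p (by omega))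
      · intro p hp
        exact isZero_coker_of_isZero K n hn p (hlo p (by push_cast; omega))
      · intro p
        by_cases hpn : p = n
        · subst hpn
          exact noHom_of_isZero L (isZero_coker_self K p hn) p
        · haveI := isIso_coker_of_ne K n hn p hpn
          exact noHom_of_iso L (asIso ((topSC K n hn).g.f p)) p (hK p)
    obtain ⟨ψ, hψ⟩ := Triangle.coyoneda_exact₂ _ hT φ h3
    have hψ0 : ψ = 0 := hK n ψ
    exact hψ.trans (by rw [hψ0, zero_comp]; rfl)

/-- **Dévissage**: no nonzero morphism from `L` to a bounded complex whose terms (placed in their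
degrees) receive no nonzero morphism from `L`. -/
theorem hom_eq_zero (K : CochainComplex C ℤ) (a n : ℤ)
    (hhi : ∀ p, n < p → IsZero (K.X p)) (hlo : ∀ p, p < a → IsZero (K.X p))
    (hK : ∀ p, a ≤ p → p ≤ n → NoHom L (K.X p) p) (φ : L ⟶ Q.obj K) : φ = 0 := by
  refine hom_eq_zero_aux L (n - a + 1).toNat K n hhi ?_ ?_ φ
  · intro p hp
    apply hlo
    omega
  · intro p
    by_cases h1 : p < a
    · exact noHom_of_isZero L (hlo p h1) p
    · by_cases h2 : n < p
      · exact noHom_of_isZero L (hhi p h2) p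
      · exact hK p (by omega) (by omega)


section Shift

variable {D : Type*} [Category D] [Preadditive D] [HasShift D ℤ]
  [∀ n : ℤ, (shiftFunctor D n).Additive]

/-- all morphisms `X ⟶ Y` vanish -/
def AllZero (X Y : D) : Prop := ∀ f : X ⟶ Y, f = 0

omit [HasShift D ℤ] [∀ n : ℤ, (shiftFunctor D n).Additive] in
lemma AllZero.of_iso {X Y X' Y' : D} (h : AllZero X Y) (e : X ≅ X') (e' : Y ≅ Y') :
    AllZero X' Y' := by
  intro f
  have h1 := h (e.hom ≫ f ≫ e'.inv)
  have h2 : f = e.inv ≫ (e.hom ≫ f ≫ e'.inv) ≫ e'.hom := by simp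
  rw [h2, h1, zero_comp, comp_zero]

lemma AllZero.of_shift {X Y : D} (i : ℤ) (h : AllZero (X⟦i⟧) (Y⟦i⟧)) : AllZero X Y := by
  intro f
  apply (shiftFunctor D i).map_injective
  rw [h (f⟦i⟧'), Functor.map_zero]

end Shift

section Final

variable [HasExt.{w'} C]

lemma allZero_of_subsingleton_ext (G A : C) (q : ℕ)
    [Subsingleton (Abelian.Ext.{w'} G A q)] :
    AllZero ((singleFunctor C 0).obj G) (((singleFunctor C 0).obj A)⟦(q : ℤ)⟧) := by
  intro ψ
  have h1 : (Abelian.Ext.homEquiv (X := G) (Y := A) (n := q)).symm ψ =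
      (Abelian.Ext.homEquiv (X := G) (Y := A) (n := q)).symm 0 := Subsingleton.elim _ _
  exact (Abelian.Ext.homEquiv (X := G) (Y := A) (n := q)).symm.injective h1

/-- `(A placed in degree p)` is the `(-p)`-th shift of `A` placed in degree `0`. -/
noncomputable def singleShiftIso (A : C) (p : ℤ) :
    ((singleFunctor C 0).obj A)⟦-p⟧ ≅ (singleFunctor C p).obj A :=
  ((singleFunctors C).shiftIso (-p) p 0 (by omega)).app A

/-- **Hypercohomology vanishing by dévissage.**  If `Ext^q(G, K^p) = 0` for all `q ≥ r` and all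
`p`, and `K` is concentrated in degrees `[a, n]`, then there is no nonzero morphism
`G[0] ⟶ K[i]` in the derived category for `i ≥ n + r`. -/
theorem hom_shift_eq_zero (G : C) (K : CochainComplex C ℤ) (a n : ℤ)
    (hhi : ∀ p, n < p → IsZero (K.X p)) (hlo : ∀ p, p < a → IsZero (K.X p)) (r : ℕ)
    (hK : ∀ p, a ≤ p → p ≤ n → ∃ A : C, Nonempty (A ≅ K.X p) ∧
      ∀ q : ℕ, r ≤ q → Subsingleton (Abelian.Ext.{w'} G A q))
    (i : ℤ) (hi : n + r ≤ i) (φ : (singleFunctor C 0).obj G ⟶ (Q.obj K)⟦i⟧) : φ = 0 := by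
  have key : ∀ ψ : ((singleFunctor C 0).obj G)⟦-i⟧ ⟶ Q.obj K, ψ = 0 := by
    refine hom_eq_zero (((singleFunctor C 0).obj G)⟦-i⟧) K a n hhi hlo ?_
    intro p hpa hpn
    obtain ⟨A, ⟨e⟩, hA⟩ := hK p hpa hpn
    refine noHom_of_iso _ e p ?_
    -- `q = i - p ≥ r`
    obtain ⟨q, hq⟩ : ∃ q : ℕ, (q : ℤ) = i - p := ⟨(i - p).toNat, by omega⟩
    haveI := hA q (by omega)
    have h0 := allZero_of_subsingleton_ext G A q
    -- shift by `-i`
    have h1 : AllZero (((singleFunctor C 0).obj G)⟦-i⟧) ((((singleFunctor C 0).obj A)⟦(q : ℤ)⟧)⟦-i⟧) := by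
      refine AllZero.of_shift i ?_
      refine h0.of_iso ((shiftFunctorCompIsoId (DerivedCategory C) (-i) i (by omega)).app _).symm
        ((shiftFunctorCompIsoId (DerivedCategory C) (-i) i (by omega)).app _).symm
    have h2 : AllZero (((singleFunctor C 0).obj G)⟦-i⟧) ((singleFunctor C p).obj A) := by
      refine h1.of_iso (Iso.refl _) ?_
      refine ((shiftFunctorAdd' (DerivedCategory C) (q : ℤ) (-i) (-p) (by omega)).app _).symm ≪≫
        singleShiftIso A p
    exact h2
  have h3 : AllZero ((singleFunctor C 0).obj G) ((Q.obj K)⟦i⟧) := by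
    refine AllZero.of_shift (-i) ?_
    intro ψ
    have h4 := key (ψ ≫ ((shiftFunctorCompIsoId (DerivedCategory C) i (-i) (by omega)).app _).hom)
    have h5 : ψ = (ψ ≫ ((shiftFunctorCompIsoId (DerivedCategory C) i (-i) (by omega)).app _).hom) ≫
        ((shiftFunctorCompIsoId (DerivedCategory C) i (-i) (by omega)).app _).inv := by
      rw [Category.assoc, Iso.hom_inv_id, Category.comp_id]
    rw [h5, h4, zero_comp]
  exact h3 φ

end Final

end Groth.Agent.Lib.Helper29.HyperVanish
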