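import Groth.Prelude.Def_DeRham2
import Groth.Prelude.Def_Coh
import Groth.Agent.Lib.Helper29.HyperVanish
import Groth.Agent.Lib.Helper17.HCompare

set_option autoImplicit false
universe u
open CategoryTheory CategoryTheory.Limits AlgebraicGeometry Opposite TopologicalSpace

namespace Groth.Agent.Lib.Helper29.DeRhamVanish

open Groth.Agent.Lib.Helper29.HyperVanish Groth.Agent.Lib.Helper17.HCompare
  Groth.Agent.Lib.Helper6.SheafCoh

variable {X S : Scheme.{u}} {f : X ⟶ S} {Ω' : X.Modules} {δ : OmegaSh.Der f Ω'}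

/-- `Ext^q(ℤ_X, A) = 0` from `H^q(X, A) = 0`. -/
theorem subsingleton_ext_free (A : Sheaf (Opens.grothendieckTopology X) AddCommGrpCat.{u}) (q : ℕ)
    (h : Subsingleton (Sheaf.H.{u} A q)) :
    Subsingleton (Abelian.Ext.{u} (CohCx.freeSheaf (Opens.grothendieckTopology X) ⊤) A q) := by
  have e := HEquivH' (Opens.grothendieckTopology X) (isTerminalTop (α := X.Opens)) A q
  exact e.symm.toEquiv.subsingleton

/-- **Vanishing of de Rham cohomology by dévissage**: if the terms `K^p` vanish for `p > n` and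
`H^q(X, Ω^p) = 0` for all `p ≤ n` and `q ≥ r`, then `H^i_{dR} = 0` for `i ≥ n + r`. -/
theorem subsingleton_HdR (D : DeRhamSh.Cx f Ω' δ)
    [HasDerivedCategory.{u} (Sheaf (Opens.grothendieckTopology X) AddCommGrpCat.{u})]
    (n r : ℕ) (hzero : ∀ p : ℕ, n < p → IsZero (D.K.X p))
    (hvan : ∀ p : ℕ, p ≤ n → ∀ q : ℕ, r ≤ q → Subsingleton (Coh.HH X (D.term p) q))
    (i : ℤ) (hi : (n : ℤ) + r ≤ i) : Subsingleton (DeRhamSh.HdR D i) := by
  refine subsingleton_of_forall_eq 0 fun φ => ?_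
  refine hom_shift_eq_zero (CohCx.freeSheaf (Opens.grothendieckTopology X) ⊤) D.KZ 0 n ?_ ?_ r ?_
    i hi φ
  · intro p hp
    obtain ⟨m, rfl⟩ : ∃ m : ℕ, (m : ℤ) = p := ⟨p.toNat, by omega⟩
    exact IsZero.of_iso (hzero m (by omega))
      (D.K.extendXIso ComplexShape.embeddingUpNat (i := m) rfl)
  · intro p hp
    refine D.K.isZero_extend_X ComplexShape.embeddingUpNat p ?_
    intro m hm
    have : (m : ℤ) = p := hm
    omega
  · intro p hp0 hpn
    obtain ⟨m, rfl⟩ : ∃ m : ℕ, (m : ℤ) = p := ⟨p.toNat, by omega⟩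
    refine ⟨Coh.toAb (D.term m),
      ⟨(D.iso m).symm ≪≫ (D.K.extendXIso ComplexShape.embeddingUpNat (i := m) rfl).symm⟩, ?_⟩
    intro q hq
    exact subsingleton_ext_free _ q (hvan m (by omega) q hq)

end Groth.Agent.Lib.Helper29.DeRhamVanish
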