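import Groth.Prelude.Def_DeRham2
import Groth.Prelude.Def_Coh
import Groth.Agent.Lib.helper19.SmoothOmega

set_option autoImplicit false
universe u
open CategoryTheory CategoryTheory.Limits AlgebraicGeometry Opposite TopologicalSpace exteriorPower

namespace Groth.Agent.Lib.Helper29.DeRhamVanish

open Groth.Agent.Lib.Helper28.QCohLoc

/-- an abelian sheaf underlying a module all of whose sections vanish is zero. -/
theorem isZero_toAb_of_subsingleton {X : Scheme.{u}} (M : X.Modules)
    (h : ∀ W : X.Opens, Subsingleton Γ(M, W)) : IsZero (Coh.toAb M) := by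
  rw [IsZero.iff_id_eq_zero]
  apply Sheaf.hom_ext
  ext W x
  haveI := h W.unop
  exact Subsingleton.elim (α := Γ(M, W.unop)) _ _

/-- sections vanish everywhere if they vanish on a cover of every open by smaller opens. -/
theorem subsingleton_sections_of_locally {X : Scheme.{u}} (M : X.Modules)
    (h : ∀ x : X, ∃ W : X.Opens, x ∈ W ∧ ∀ U : X.Opens, U ≤ W → IsAffineOpen U →
      Subsingleton Γ(M, U)) (W : X.Opens) : Subsingleton Γ(M, W) := by
  refine subsingleton_of_forall_eq 0 fun s => ?_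
  choose W' hxW' hW' using h
  have hex : ∀ x : W, ∃ U : X.Opens, IsAffineOpen U ∧ x.1 ∈ U ∧ U ≤ W ⊓ W' x.1 := by
    intro x
    obtain ⟨U, hU, hxU, hUle⟩ := exists_isAffineOpen_mem_and_subset (x := x.1)
      (U := W ⊓ W' x.1) ⟨x.2, hxW' x.1⟩
    exact ⟨U, hU, hxU, hUle⟩
  choose U hU hxU hUle using hex
  refine eq_of_locally_eq M U W (fun x => (hUle x).trans inf_le_left) ?_ s 0 ?_
  · intro x hx
    exact Opens.mem_iSup.2 ⟨⟨x, hx⟩, hxU ⟨x, hx⟩⟩
  · intro x
    haveI := hW' x.1 (U x) ((hUle x).trans inf_le_right) (hU x)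
    exact Subsingleton.elim _ _

/-- exterior powers above the rank of a free module vanish. -/
theorem subsingleton_extPow_of_basis {R M : Type*} [CommRing R] [AddCommGroup M] [Module R M]
    {m : ℕ} (b : Module.Basis (Fin m) R M) (p : ℕ) (hp : m < p) : Subsingleton (⋀[R]^p M) := by
  haveI : IsEmpty (Set.powersetCard (Fin m) p) := by
    refine ⟨fun s => ?_⟩
    have h1 : s.1.card = p := s.2
    have h2 : s.1.card ≤ m := by simpa using Finset.card_le_univ s.1
    omega
  exact (b.exteriorPower p).repr.toEquiv.subsingleton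

section Smooth

variable (k : Type u) [Field k] {X : Scheme.{u}} (f : X ⟶ Spec (CommRingCat.of k)) [Smooth f]
  [QuasiSeparated f]

/-- Around each point of a smooth `k`-scheme of dimension `≤ n`, `Ω_{X/k}` has bases of size `≤ n`
on all small opens. -/
theorem exists_basis_nhd (n : ℕ) (hn : topologicalKrullDim ↥X ≤ n) (x : X) :
    ∃ (W : X.Opens) (m : ℕ), x ∈ W ∧ m ≤ n ∧ ∀ U : X.Opens, U ≤ W →
      Nonempty (Module.Basis (Fin m) Γ(X, U) Γ(Omega.sheaf f, U)) := by
  obtain ⟨W, m, hxW, hiso, hdim⟩ :=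
    Groth.Agent.Lib.Helper19.RestrUniv4.exists_free_nhd_of_smooth f (Omega.sheaf f)
      (OmegaSh.dOmega f) (Groth.Agent.Lib.Helper29.OmegaUniv.isUniversal_dOmega f) x
  refine ⟨W, m, hxW, ?_, fun U hU =>
    Groth.Agent.Lib.Helper19.SmoothOmega.exists_basis_sections (Omega.sheaf f) hU m hiso⟩
  have hK : IsField (CommRingCat.of k) := Field.toIsField k
  rw [Groth.Agent.Lib.lead.SmoothRelDim.fibreDimAt_over_field hK] at hdim
  have h1 : FlatMor.localDim X x ≤ topologicalKrullDim ((⊤ : Opens X) : Set X) := by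
    unfold FlatMor.localDim
    exact iInf_le (fun U : {U : Opens X // x ∈ U} => topologicalKrullDim (U.1 : Set X))
      ⟨⊤, trivial⟩
  have h2 : topologicalKrullDim ((⊤ : Opens X) : Set X) ≤ topologicalKrullDim X :=
    topologicalKrullDim_subspace_le _ _
  have h3 : ((m : ℕ) : WithBot ℕ∞) ≤ (n : WithBot ℕ∞) := by
    rw [← hdim]
    exact h1.trans (h2.trans hn)
  exact_mod_cast h3

/-- **`Ω^p_{X/k} = 0` for `p > dim X`** (as a term of a de Rham complex). -/
theorem isZero_K_of_dim_lt (D : DeRhamSh.OmegaCx f) (n : ℕ) (hn : topologicalKrullDim ↥X ≤ n)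
    (p : ℕ) (hp : n < p) : IsZero (D.K.X p) := by
  refine IsZero.of_iso (isZero_toAb_of_subsingleton (D.term p)
    (subsingleton_sections_of_locally (D.term p) fun x => ?_)) (D.iso p)
  obtain ⟨W, m, hxW, hmn, hb⟩ := exists_basis_nhd k f n hn x
  refine ⟨W, hxW, fun U hUW hU => ?_⟩
  obtain ⟨b⟩ := hb U hUW
  haveI := subsingleton_extPow_of_basis b p (by omega)
  exact (D.loc p ⟨U, hU⟩).toEquiv.subsingleton

end Smooth

end Groth.Agent.Lib.Helper29.DeRhamVanish
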