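import Mathlib
import Groth.Agent.Lib.Helper24.ExtPow.BaseChange

/-!
# Exterior powers and base change, in `IsBaseChange` form
-/

open TensorProduct exteriorPower

namespace Groth.Agent.Lib.Helper29.ExtPowBC2

open Groth.Agent.Lib.Helper24.ExtPowBC

variable {A B M M' T T' : Type*} [CommRing A] [CommRing B] [Algebra A B]
  [AddCommGroup M] [Module A M] [AddCommGroup M'] [Module A M'] [Module B M'] [IsScalarTower A B M']
  [AddCommGroup T] [Module A T] [AddCommGroup T'] [Module A T'] [Module B T'] [IsScalarTower A B T']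

/-- If `ρ : M → M'` is a base change along `A → B`, `T ≃ ⋀^p_A M`, `T' ≃ ⋀^p_B M'` and
`τ : T → T'` is compatible with `ρ` on decomposable elements, then `τ` is a base change. -/
theorem isBaseChange_of_extPow {ρ : M →ₗ[A] M'} (hρ : IsBaseChange B ρ) (p : ℕ)
    (l : T ≃ₗ[A] ⋀[A]^p M) (l' : T' ≃ₗ[B] ⋀[B]^p M') (τ : T →ₗ[A] T')
    (hτ : ∀ e : Fin p → M, τ (l.symm (ιMulti A p e)) = l'.symm (ιMulti B p (fun i => ρ (e i)))) :
    IsBaseChange B τ := by
  let e : B ⊗[A] T ≃ₗ[B] T' :=
    (TensorProduct.AlgebraTensorModule.congr (LinearEquiv.refl B B) l) ≪≫ₗ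
      (equiv A B M p) ≪≫ₗ (mapEquiv hρ.equiv p) ≪≫ₗ l'.symm
  refine IsBaseChange.of_equiv e ?_
  have key : ∀ y : ⋀[A]^p M, e (1 ⊗ₜ l.symm y) = τ (l.symm y) := by
    intro y
    have hy : y ∈ Submodule.span A (Set.range (ιMulti A p (M := M))) := by
      rw [ιMulti_span]; trivial
    induction hy using Submodule.span_induction with
    | mem y hy =>
      obtain ⟨m, rfl⟩ := hy
      rw [hτ]
      change l'.symm (mapEquiv hρ.equiv p (equiv A B M p
        ((TensorProduct.AlgebraTensorModule.congr (LinearEquiv.refl B B) l)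
          (1 ⊗ₜ l.symm (ιMulti A p m))))) = _
      rw [TensorProduct.AlgebraTensorModule.congr_tmul, LinearEquiv.apply_symm_apply,
        LinearEquiv.refl_apply, equiv_tmul_ιMulti, one_smul, mapEquiv_ιMulti]
      congr 2
      funext i
      rw [IsBaseChange.equiv_tmul, one_smul]
    | zero => simp
    | add y z _ _ hy hz =>
      rw [map_add, TensorProduct.tmul_add, map_add, map_add, hy, hz]
    | smul a y _ hy =>
      have h1 : l.symm (a • y) = a • l.symm y := map_smul _ _ _
      have h2 : ((1 : B) ⊗ₜ[A] (a • l.symm y) : B ⊗[A] T) =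
          algebraMap A B a • ((1 : B) ⊗ₜ[A] l.symm y) := by
        rw [TensorProduct.tmul_smul, algebraMap_smul]
      rw [h1, h2, map_smul, hy, algebraMap_smul, map_smul]
  intro x
  have := key (l x)
  rwa [LinearEquiv.symm_apply_apply] at this

end Groth.Agent.Lib.Helper29.ExtPowBC2
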