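import Groth.Prelude.Def_DeRham2
import Groth.Prelude.Def_Coh
import Groth.Agent.Lib.Helper28.QCohConv
import Groth.Agent.Lib.Helper29.ExtPowBC2

set_option autoImplicit false
universe u
open CategoryTheory CategoryTheory.Limits AlgebraicGeometry Opposite TopologicalSpace exteriorPower

namespace Groth.Agent.Lib.Helper29.DeRhamVanish

open Groth.Agent.Lib.Helper28.QCohLoc

section Dict

variable {X : Scheme.{u}} (M : X.Modules) {U : X.Opens} (r : Γ(X, U))

/-- sections over `D(r)` as a module over the functions on `U` -/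
@[reducible] noncomputable def modA : Module Γ(X, U) Γ(M, X.basicOpen r) :=
  Module.compHom _ (algebraMap Γ(X, U) Γ(X, X.basicOpen r))

theorem isScalarTower_modA :
    letI := modA M r
    IsScalarTower Γ(X, U) Γ(X, X.basicOpen r) Γ(M, X.basicOpen r) :=
  letI := modA M r
  IsScalarTower.of_algebraMap_smul fun _ _ => rfl

theorem modA_smul (a : Γ(X, U)) (y : Γ(M, X.basicOpen r)) :
    letI := modA M r
    a • y = resO (X.basicOpen_le r) a • y := rfl

/-- restriction to `D(r)` as a linear map -/
noncomputable def resL :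
    letI := modA M r
    Γ(M, U) →ₗ[Γ(X, U)] Γ(M, X.basicOpen r) :=
  letI := modA M r
  { toFun := res M (X.basicOpen_le r)
    map_add' := fun x y => map_add _ x y
    map_smul' := fun a x => res_smul M (X.basicOpen_le r) a x }

theorem resL_apply (x : Γ(M, U)) :
    letI := modA M r
    resL M r x = res M (X.basicOpen_le r) x := rfl

theorem isUnit_resO_self : IsUnit (resO (X.basicOpen_le r) r) :=
  RingedSpace.isUnit_res_basicOpen X.toRingedSpace r

theorem isLocalizedModule_resL (hloc : IsLocOn M U) :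
    letI := modA M r
    IsLocalizedModule (Submonoid.powers r) (resL M r) := by
  letI := modA M r
  refine ⟨?_, ?_, ?_⟩
  · rintro ⟨_, n, rfl⟩
    rw [Module.End.isUnit_iff]
    have hu : IsUnit (resO (X.basicOpen_le r) (r ^ n)) := by
      rw [resO_pow]; exact (isUnit_resO_self r).pow n
    obtain ⟨u, hu'⟩ := hu
    refine ⟨fun a b hab => ?_, fun y => ⟨(↑u⁻¹ : Γ(X, X.basicOpen r)) • y, ?_⟩⟩
    · have h1 : (u : Γ(X, X.basicOpen r)) • a = (u : Γ(X, X.basicOpen r)) • b := by
        rw [hu']; exact hab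
      have h2 := congrArg (fun z => (↑u⁻¹ : Γ(X, X.basicOpen r)) • z) h1
      simpa [smul_smul] using h2
    · change resO (X.basicOpen_le r) (r ^ n) • ((↑u⁻¹ : Γ(X, X.basicOpen r)) • y) = y
      rw [← hu', smul_smul, Units.mul_inv, one_smul]
  · intro y
    obtain ⟨n, x, hx⟩ := hloc.surj r y
    refine ⟨(x, ⟨r ^ n, n, rfl⟩), ?_⟩
    change resO (X.basicOpen_le r) (r ^ n) • y = res M (X.basicOpen_le r) x
    rw [resO_pow]
    exact hx
  · intro x₁ x₂ h
    have h' : res M (X.basicOpen_le r) (x₁ - x₂) = 0 := by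
      rw [res_sub]; exact sub_eq_zero.2 h
    obtain ⟨n, hn⟩ := hloc.inj r (x₁ - x₂) h'
    refine ⟨⟨r ^ n, n, rfl⟩, ?_⟩
    rw [smul_sub, sub_eq_zero] at hn
    exact hn

theorem isLocOn_of_isLocalizedModule
    (h : ∀ r : Γ(X, U), letI := modA M r; IsLocalizedModule (Submonoid.powers r) (resL M r)) :
    IsLocOn M U where
  surj r y := by
    letI := modA M r
    haveI := h r
    obtain ⟨⟨x, ⟨_, n, rfl⟩⟩, hx⟩ := IsLocalizedModule.surj (Submonoid.powers r) (resL M r) y
    refine ⟨n, x, ?_⟩
    rw [← resO_pow]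
    exact hx
  inj r x hx := by
    letI := modA M r
    haveI := h r
    have h0 : resL M r x = resL M r 0 := by
      rw [map_zero]; exact hx
    obtain ⟨⟨_, n, rfl⟩, hc⟩ := IsLocalizedModule.exists_of_eq (S := Submonoid.powers r) h0
    refine ⟨n, ?_⟩
    rw [smul_zero] at hc
    exact hc

end Dict

section Term

variable {X S : Scheme.{u}} {f : X ⟶ S} {Ω' : X.Modules} {δ : OmegaSh.Der f Ω'}

/-- **The terms of a de Rham complex of a quasi-coherent receptacle are quasi-coherent.** -/
theorem isQuasicoherent_term (D : DeRhamSh.Cx f Ω' δ) [Ω'.IsQuasicoherent] (p : ℕ) :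
    (D.term p).IsQuasicoherent := by
  refine isQuasicoherent_of_forall_isLocOn _ fun U => isLocOn_of_isLocalizedModule _ fun r => ?_
  letI := modA Ω' r
  letI := modA (D.term p) r
  haveI := isScalarTower_modA Ω' r
  haveI := isScalarTower_modA (D.term p) r
  haveI : IsLocalization.Away r Γ(X, X.basicOpen r) := U.2.isLocalization_basicOpen r
  haveI := isLocalizedModule_resL Ω' r (isLocOn_of_isQuasicoherent Ω' U.2)
  have hΩ : IsBaseChange Γ(X, X.basicOpen r) (resL Ω' r) :=
    IsLocalizedModule.isBaseChange (Submonoid.powers r) _ _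
  rw [isLocalizedModule_iff_isBaseChange (Submonoid.powers r) Γ(X, X.basicOpen r)]
  refine Groth.Agent.Lib.Helper29.ExtPowBC2.isBaseChange_of_extPow hΩ p (D.loc p U)
    (D.loc p ⟨X.basicOpen r, U.2.basicOpen r⟩) (resL (D.term p) r) ?_
  intro e
  exact D.loc_res p U ⟨X.basicOpen r, U.2.basicOpen r⟩ (X.basicOpen_le r) e

end Term

end Groth.Agent.Lib.Helper29.DeRhamVanish
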