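import Mathlib
import Groth.Prelude.Def_RegImm
import Groth.Agent.Lib.Helper5.TransPowA
import Groth.Agent.Lib.Helper29.RelEffCart
import Groth.Agent.Lib.Helper29.FlatExt

/-!
# Helper29 — TransFlat

* an ideal generated by a weakly regular sequence with flat quotient has all its powers with flat
  quotient (`flat_quotient_pow_of_isWeaklyRegular`, a repackaging of helper5/helper26/helper21 work);
* the geometric version: an ideal sheaf which is locally generated by such sequences has all
  `V(𝓘^m)` flat over the base (`flat_pow_subschemeι_comp_of_regular`);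
* ring lemmas for a retraction `φ : B → A` with section `s`.
-/

set_option autoImplicit false
universe u

open CategoryTheory AlgebraicGeometry RingTheory.Sequence

namespace Groth.Agent.Lib.Helper29.TransFlat

section Alg

variable (A B : Type u) [CommRing A] [CommRing B] [Algebra A B]

theorem flat_quotient_pow_of_isWeaklyRegular (rs : List B) (hreg : IsWeaklyRegular B rs)
    (hfl : Module.Flat A (B ⧸ Ideal.ofList rs)) (n : ℕ) :
    Module.Flat A (B ⧸ Ideal.ofList rs ^ n) := by
  have hq : CAlgX.IsQuasiRegular rs.get :=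
    Groth.Agent.S5802.result B rs.length rs.get (by rw [List.ofFn_get]; exact hreg)
  have hfl' : Module.Flat A (B ⧸ Ideal.span (Set.range rs.get)) := by
    rw [Groth.Agent.Lib.Helper5.RegGens.ofList_eq_span_range_get] at hfl
    exact hfl
  have h2 := Groth.Agent.Lib.Helper26.QRegBC.flat_pow A B rs.length rs.get hfl' hq n
  rw [← Groth.Agent.Lib.Helper5.RegGens.ofList_eq_span_range_get] at h2
  exact h2

end Alg

section Retract

variable {A B : Type u} [CommRing A] [CommRing B]

/-- For a retraction `φ : B → A` with section `s`, the preimage of an ideal `J` of `A` is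
`ker φ + s(J) B`. -/
theorem comap_eq_ker_sup_map (φ : B →+* A) (s : A →+* B) (hs : ∀ a, φ (s a) = a) (J : Ideal A) :
    J.comap φ = RingHom.ker φ ⊔ J.map s := by
  apply le_antisymm
  · intro x hx
    have h1 : x - s (φ x) ∈ RingHom.ker φ := by
      rw [RingHom.mem_ker, map_sub, hs, sub_self]
    have h2 : s (φ x) ∈ J.map s := Ideal.mem_map_of_mem s hx
    have : x = (x - s (φ x)) + s (φ x) := by ring
    rw [this]
    exact Submodule.add_mem_sup h1 h2
  · refine sup_le ?_ ?_
    · intro x hx
      rw [Ideal.mem_comap, (RingHom.mem_ker).1 hx]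
      exact J.zero_mem
    · rw [Ideal.map_le_iff_le_comap]
      intro a ha
      rw [Ideal.mem_comap, Ideal.mem_comap, hs]
      exact ha

theorem ofList_append_singleton (rs : List B) (t : B) :
    Ideal.ofList (rs ++ [t]) = Ideal.span {t} ⊔ Ideal.ofList rs := by
  rw [Ideal.ofList_append, Ideal.ofList_singleton, sup_comm]

theorem map_ofList (s : A →+* B) (rs : List A) :
    (Ideal.ofList rs).map s = Ideal.ofList (rs.map s) := by
  unfold Ideal.ofList
  rw [Ideal.map_span]
  congr 1
  ext x
  simp

/-- appending to the image of a weakly regular sequence under a flat map an element which is a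
nonzerodivisor modulo that image gives a weakly regular sequence. -/
theorem isWeaklyRegular_map_append [Algebra A B] [Module.Flat A B] (rs : List A)
    (hreg : IsWeaklyRegular A rs) (t : B)
    (ht : Ideal.Quotient.mk ((Ideal.ofList rs).map (algebraMap A B)) t ∈
      nonZeroDivisors (B ⧸ (Ideal.ofList rs).map (algebraMap A B))) :
    IsWeaklyRegular B (rs.map (algebraMap A B) ++ [t]) := by
  rw [isWeaklyRegular_append_iff]
  refine ⟨hreg.of_flat, ?_⟩
  rw [isWeaklyRegular_singleton_iff]
  set I := Ideal.ofList (rs.map (algebraMap A B)) with hI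
  have hI' : (Ideal.ofList rs).map (algebraMap A B) = I := map_ofList _ _
  rw [hI'] at ht
  intro x y hxy
  obtain ⟨x, rfl⟩ := Submodule.Quotient.mk_surjective _ x
  obtain ⟨y, rfl⟩ := Submodule.Quotient.mk_surjective _ y
  change Submodule.Quotient.mk (t • x) = Submodule.Quotient.mk (t • y) at hxy
  rw [Submodule.Quotient.eq] at hxy ⊢
  have hmem : t • x - t • y ∈ I := by
    have : (I • ⊤ : Submodule B B) = I := by
      rw [smul_eq_mul, Ideal.mul_top]
    rw [this] at hxy
    exact hxy
  have h2 : Ideal.Quotient.mk I t * Ideal.Quotient.mk I (x - y) = 0 := by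
    rw [← map_mul, Ideal.Quotient.eq_zero_iff_mem, mul_sub]
    exact hmem
  have h3 := (mem_nonZeroDivisors_iff.1 ht).1 _ h2
  rw [Ideal.Quotient.eq_zero_iff_mem] at h3
  have : (I • ⊤ : Submodule B B) = I := by
    rw [smul_eq_mul, Ideal.mul_top]
  rw [this]
  exact h3

end Retract

section Pushout

open CategoryTheory.Limits TensorProduct

theorem mk_tmul_mem_nonZeroDivisors (R C A : Type u) [CommRing R] [CommRing C] [CommRing A]
    [Algebra R C] [Algebra R A] (t : C) (ht : t ∈ nonZeroDivisors C)
    [Module.Flat R (C ⧸ Ideal.span {t})] (I : Ideal A) :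
    Ideal.Quotient.mk (I.map (Algebra.TensorProduct.includeRight (R := R) (A := C)))
      (t ⊗ₜ[R] (1 : A)) ∈
      nonZeroDivisors ((C ⊗[R] A) ⧸ I.map (Algebra.TensorProduct.includeRight (R := R) (A := C))) := by
  let E := Algebra.TensorProduct.tensorQuotientEquiv (R := R) C A C I
  have hinj := Groth.Agent.Lib.Helper29.FlatExt.smul_tensor_injective (R := R) t ht (A ⧸ I)
  have hmul : ∀ y : C ⊗[R] (A ⧸ I), (t ⊗ₜ[R] (1 : A ⧸ I)) * y = t • y := by
    intro y
    induction y using TensorProduct.induction_on with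
    | zero => simp
    | tmul x z => simp [TensorProduct.smul_tmul']
    | add x y hx hy => rw [mul_add, smul_add, hx, hy]
  have hE : E (t ⊗ₜ[R] (1 : A ⧸ I)) = Ideal.Quotient.mk _ (t ⊗ₜ[R] (1 : A)) := by
    have := Algebra.TensorProduct.tensorQuotientEquiv_apply_tmul (R := R) C A C I t 1
    exact this
  rw [mem_nonZeroDivisors_iff_right]
  intro z hz
  obtain ⟨y, rfl⟩ := E.surjective z
  rw [← hE, ← map_mul, mul_comm, hmul] at hz
  have h1 : t • y = 0 := E.injective (by rw [hz, map_zero])
  have h2 : y = 0 := hinj (by simpa using h1)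
  rw [h2, map_zero]

theorem mk_map_mem_nonZeroDivisors_of_isPushout {R C A B : CommRingCat.{u}} {φ : R ⟶ C}
    {ψ : R ⟶ A} {a : C ⟶ B} {b : A ⟶ B} (H : IsPushout φ ψ a b) (t : C)
    (ht : t ∈ nonZeroDivisors C)
    (hfl : letI := φ.hom.toAlgebra; Module.Flat R (C ⧸ Ideal.span {t})) (I : Ideal A) :
    Ideal.Quotient.mk (I.map b.hom) (a.hom t) ∈ nonZeroDivisors (B ⧸ I.map b.hom) := by
  algebraize [φ.hom, ψ.hom]
  let e : C ⊗[R] A ≃+* B :=
    ((CommRingCat.isPushout_tensorProduct R C A).isoIsPushout C A H).commRingCatIsoToRingEquiv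
  have hea : ∀ x : C, e (x ⊗ₜ 1) = a.hom x := by
    intro x
    have := congr($((CommRingCat.isPushout_tensorProduct R C A).inl_isoIsPushout_hom C A H).hom x)
    exact this
  have heb : ∀ y : A, e (1 ⊗ₜ y) = b.hom y := by
    intro y
    have := congr($((CommRingCat.isPushout_tensorProduct R C A).inr_isoIsPushout_hom C A H).hom y)
    exact this
  have hI : I.map b.hom =
      (I.map (Algebra.TensorProduct.includeRight (R := R) (A := C))).map (e : C ⊗[R] A →+* B) := by
    have h1 : I.map (Algebra.TensorProduct.includeRight (R := R) (A := C)) =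
        I.map ((Algebra.TensorProduct.includeRight (R := R) (A := C) : A →ₐ[R] C ⊗[R] A) :
          A →+* C ⊗[R] A) := rfl
    rw [h1, Ideal.map_map]
    congr 1
    ext y
    exact (heb y).symm
  let E : ((C ⊗[R] A) ⧸ I.map (Algebra.TensorProduct.includeRight (R := R) (A := C))) ≃+*
      (B ⧸ I.map b.hom) := Ideal.quotientEquiv _ _ e hI
  have h0 := mk_tmul_mem_nonZeroDivisors R C A t ht I
  have hE : E (Ideal.Quotient.mk _ (t ⊗ₜ[R] (1 : A))) = Ideal.Quotient.mk _ (a.hom t) := by
    change Ideal.Quotient.mk _ (e (t ⊗ₜ[R] (1 : A))) = _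
    rw [hea]
  rw [← hE]
  exact (MulEquivClass.map_nonZeroDivisors E).symm ▸ ⟨_, h0, rfl⟩


end Pushout

section Geo

variable {P S : Scheme.{u}}

/-- If `𝓘` is locally (around each point of its support) generated by a weakly regular sequence
with quotient flat over the base, then every `V(𝓘^m)` is flat over the base. -/
theorem flat_pow_subschemeι_comp_of_regular (p : P ⟶ S) (𝓘 : P.IdealSheafData)
    (h : ∀ x ∈ 𝓘.support, ∃ (V : S.affineOpens) (W : P.affineOpens) (_ : x ∈ W.1)
      (e : W.1 ≤ p ⁻¹ᵁ V.1) (rs : List Γ(P, W.1)), IsWeaklyRegular Γ(P, W.1) rs ∧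
        𝓘.ideal W = Ideal.ofList rs ∧
        (letI := (p.appLE V.1 W.1 e).hom.toAlgebra
         Module.Flat Γ(S, V.1) (Γ(P, W.1) ⧸ Ideal.ofList rs)))
    (m : ℕ) : Flat ((𝓘 ^ m).subschemeι ≫ p) := by
  apply Groth.Agent.Lib.Helper29.EffCart.flat_subschemeι_comp_of_forall
  intro x hx
  have hm : m ≠ 0 := by
    rintro rfl
    rw [pow_zero, Scheme.IdealSheafData.one_eq_top, Scheme.IdealSheafData.support_top] at hx
    exact hx
  rw [Scheme.IdealSheafData.support_pow _ _ hm] at hx
  obtain ⟨V, W, hxW, e, rs, hreg, hI, hfl⟩ := h x hx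
  refine ⟨V, W, hxW, e, ?_⟩
  letI := (p.appLE V.1 W.1 e).hom.toAlgebra
  rw [Scheme.IdealSheafData.ideal_pow, Pi.pow_apply, hI]
  exact flat_quotient_pow_of_isWeaklyRegular _ _ rs hreg hfl m

end Geo

end Groth.Agent.Lib.Helper29.TransFlat
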