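import Mathlib
import Groth.Prelude.Def_P1
import Groth.Agent.Lib.Helper18.P1.ToP1
import Groth.Agent.Lib.Helper17.PnUFD
import Groth.Agent.Lib.Helper29.IdealComap
import Groth.Agent.Lib.Helper29.TransFlat

/-!
# Helper29 — P1Inf: the chart at infinity of `P^1_X` over an affine open of `X`

For an affine open `U` of `X`, `chart X U = q⁻¹(D 1) ∩ π⁻¹ U` is an affine open of `P^1_X` whose
ring is `Γ(P^1_ℤ, D 1) ⊗_ℤ Γ(X, U)`; the section at infinity is cut out there by the coordinate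
`t = T₀/T₁`; and for an ideal sheaf `J` on `X` generated on `U` by a weakly regular sequence `rs`,
the ideal of `V(J) × {∞}` on the chart is generated by the weakly regular sequence `(rs, t)`.
-/

set_option autoImplicit false
set_option backward.isDefEq.respectTransparency false
universe u
open AlgebraicGeometry CategoryTheory CategoryTheory.Limits HomogeneousLocalization
  RingTheory.Sequence

namespace Groth.Agent.Lib.Helper29.P1Inf

open P1 Groth.Agent.Lib.Helper18.P1Kit Groth.Agent.Lib.Helper29.EffCart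
  Groth.Agent.Lib.Helper29.TransFlat

section General

/-- the kernel of a base change of a closed immersion is the inverse image ideal -/
theorem ker_of_isPullback {ZX ZY X Y : Scheme.{u}} (iX : ZX ⟶ X) (Zf : ZX ⟶ ZY) (f : X ⟶ Y)
    (iY : ZY ⟶ Y) [IsClosedImmersion iY] (H : IsPullback iX Zf f iY) :
    iX.ker = iY.ker.comap f := by
  rw [← Scheme.IdealSheafData.ker_fst_of_isClosedImmersion, ← H.isoPullback_hom_fst,
    Scheme.Hom.ker_comp_of_isIso]

theorem id_appLE' {X : Scheme.{u}} (U V : X.Opens) (e : V ≤ (𝟙 X : X ⟶ X) ⁻¹ᵁ U) :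
    Scheme.Hom.appLE (𝟙 X) U V e = X.presheaf.map (homOfLE e).op := by
  rw [Scheme.Hom.appLE, Scheme.Hom.id_app]
  exact Category.id_comp _

theorem ideal_map_of_preimage_eq {X P : Scheme.{u}} (I : X.IdealSheafData) (σ : X ⟶ P)
    [IsAffineHom σ] (W : P.affineOpens) (U : X.affineOpens) (hU : σ ⁻¹ᵁ W.1 = U.1)
    (e : U.1 ≤ σ ⁻¹ᵁ W.1) :
    (I.map σ).ideal W = (I.ideal U).comap (σ.appLE W.1 U.1 e).hom := by
  obtain ⟨U, hU'⟩ := U
  change σ ⁻¹ᵁ W.1 = U at hU
  subst hU
  rw [Scheme.IdealSheafData.ideal_map_of_isAffineHom, Scheme.Hom.app_eq_appLE]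

end General

variable (X : Scheme.{u})

local notation "πX" => CohB1.ProjSpaceOver.toBase 1 X

/-- the chart at infinity of `P^1_X` over the open `U` of `X` -/
noncomputable def chart (U : X.Opens) : (CohB1.ProjSpaceOver 1 X).Opens :=
  q X ⁻¹ᵁ D 1 ⊓ πX ⁻¹ᵁ U

theorem isPullback_q :
    IsPullback (q X) πX (CohB1.ProjSpace.toSpec 1 R0.{u}) (specULiftZIsTerminal.from X) :=
  IsPullback.of_hasPullback _ _

theorem isAffineOpen_D (i : Fin (1 + 1)) : IsAffineOpen (D.{u} i) :=
  Proj.isAffineOpen_basicOpen grading (T i) (X_mem i) one_pos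

theorem isAffineOpen_chart {U : X.Opens} (hU : IsAffineOpen U) : IsAffineOpen (chart X U) := by
  have : IsAffine ((⊤ : (Spec (CommRingCat.of R0.{u})).Opens) : Scheme) := isAffineOpen_top _
  have : IsAffine (U : Scheme) := hU
  have : IsAffine ((D.{u} 1 : (Proj grading.{u}).Opens) : Scheme) := isAffineOpen_D 1
  exact .of_isIso (Scheme.Hom.isPullback_resLE (isPullback_q X) (US := ⊤) (UT := U) (UX := D 1)
    le_top le_top rfl).isoPullback.hom

theorem isPushout_chart {U : X.Opens} (hU : IsAffineOpen U) :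
    IsPushout ((CohB1.ProjSpace.toSpec 1 R0.{u}).appLE ⊤ (D 1) le_top)
      ((specULiftZIsTerminal.from X).appLE ⊤ U le_top)
      ((q X).appLE (D 1) (chart X U) inf_le_left) ((πX).appLE U (chart X U) inf_le_right) :=
  (isIso_pushoutSection_iff (isPullback_q X) le_top le_top rfl).1
    (isIso_pushoutSection_of_isAffineOpen (isPullback_q X) le_top le_top rfl
      (isAffineOpen_top _) hU (isAffineOpen_D 1))

theorem sect_preimage_chart (U : X.Opens) : sect X 1 ⁻¹ᵁ chart X U = U := by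
  unfold chart
  rw [Scheme.Hom.preimage_inf, ← Scheme.Hom.comp_preimage, ← Scheme.Hom.comp_preimage, sect_q,
    sect_toBase, Scheme.Hom.comp_preimage, pt_preimage_D, Scheme.Hom.preimage_top,
    Scheme.Hom.id_preimage, top_inf_eq]

theorem ker_sect : (sect X 1).ker = (pt.{u} 1).ker.comap (q X) :=
  ker_of_isPullback _ _ _ _ (isPullback_sect X 1)

/-- the coordinate at infinity on the chart -/
noncomputable def tInf (U : X.Opens) : Γ(CohB1.ProjSpaceOver 1 X, chart X U) :=
  ((q X).appLE (D 1) (chart X U) inf_le_left).hom (tP 1 0)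

theorem ideal_ker_sect {U : X.Opens} (hU : IsAffineOpen U) :
    (sect X 1).ker.ideal ⟨chart X U, isAffineOpen_chart X hU⟩ = Ideal.span {tInf X U} := by
  rw [ker_sect, ideal_comap_eq_map _ (q X) ⟨D 1, isAffineOpen_D 1⟩
    ⟨chart X U, isAffineOpen_chart X hU⟩ inf_le_left, Scheme.Hom.ker_apply,
    ker_pt_app 1 0 (by decide), Ideal.map_span, Set.image_singleton]
  rfl

/-- the section map `Γ(P, chart U) → Γ(X, U)` induced by the section at infinity -/
noncomputable def secHom (U : X.Opens) : Γ(CohB1.ProjSpaceOver 1 X, chart X U) →+* Γ(X, U) :=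
  ((sect X 1).appLE (chart X U) U (sect_preimage_chart X U).ge).hom

/-- the pull-back map `Γ(X, U) → Γ(P, chart U)` -/
noncomputable def pullHom (U : X.Opens) : Γ(X, U) →+* Γ(CohB1.ProjSpaceOver 1 X, chart X U) :=
  ((πX).appLE U (chart X U) inf_le_right).hom

theorem secHom_pullHom (U : X.Opens) (a : Γ(X, U)) : secHom X U (pullHom X U a) = a := by
  unfold secHom pullHom
  have h1 := Scheme.Hom.appLE_comp_appLE (sect X 1) πX U (chart X U) U inf_le_right
    (sect_preimage_chart X U).ge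
  have h2 : ∀ (e' : U ≤ (𝟙 X : X ⟶ X) ⁻¹ᵁ U), Scheme.Hom.appLE (𝟙 X) U U e' = 𝟙 _ := by
    intro e'
    rw [id_appLE']
    have : homOfLE e' = 𝟙 U := Subsingleton.elim _ _
    rw [this, op_id]
    exact X.presheaf.map_id _
  rw [appLE_congr_hom (sect_toBase X 1) U U] at h1
  rw [h2] at h1
  have h3 := congrArg (fun φ => φ.hom a) h1
  simpa using h3

theorem ker_secHom {U : X.Opens} (hU : IsAffineOpen U) :
    RingHom.ker (secHom X U) = Ideal.span {tInf X U} := by
  rw [← ideal_ker_sect X hU, ← Scheme.IdealSheafData.map_bot,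
    ideal_map_of_preimage_eq ⊥ (sect X 1) ⟨chart X U, isAffineOpen_chart X hU⟩ ⟨U, hU⟩
      (sect_preimage_chart X U) (sect_preimage_chart X U).ge]
  rfl

/-- the ideal of `V(J) × {∞}` on the chart at infinity -/
theorem ideal_map_sect (J : X.IdealSheafData) (U : X.affineOpens) (rs : List Γ(X, U.1))
    (hJ : J.ideal U = Ideal.ofList rs) :
    (J.map (sect X 1)).ideal ⟨chart X U.1, isAffineOpen_chart X U.2⟩ =
      Ideal.ofList (rs.map (pullHom X U.1) ++ [tInf X U.1]) := by
  rw [ideal_map_of_preimage_eq J (sect X 1) ⟨chart X U.1, isAffineOpen_chart X U.2⟩ U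
    (sect_preimage_chart X U.1) (sect_preimage_chart X U.1).ge, hJ]
  change (Ideal.ofList rs).comap (secHom X U.1) = _
  rw [comap_eq_ker_sup_map (secHom X U.1) (pullHom X U.1) (secHom_pullHom X U.1),
    ker_secHom X U.2, ofList_append_singleton, map_ofList]

theorem ideal_map_sect_eq_comap (J : X.IdealSheafData) (U : X.affineOpens) :
    (J.map (sect X 1)).ideal ⟨chart X U.1, isAffineOpen_chart X U.2⟩ =
      (J.ideal U).comap (secHom X U.1) :=
  ideal_map_of_preimage_eq J (sect X 1) ⟨chart X U.1, isAffineOpen_chart X U.2⟩ U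
    (sect_preimage_chart X U.1) (sect_preimage_chart X U.1).ge

theorem secHom_surjective (U : X.Opens) : Function.Surjective (secHom X U) :=
  fun a => ⟨pullHom X U a, secHom_pullHom X U a⟩

section Coord

instance : IsDomain R0.{u} := ULift.ringEquiv.toMulEquiv.isDomain_iff.mpr inferInstance

theorem chartMap_one_mk (B : Type u) [CommRing B] (b : B) (n : ℕ)
    (a : MvPolynomial (Fin (1 + 1)) R0.{u}) (ha : a ∈ grading (n • 1)) :
    chartMap 1 B b (Away.mk grading (X_mem 1) n a ha) =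
      MvPolynomial.eval₂Hom ((Int.castRingHom B).comp ULift.ringEquiv.toRingHom)
        (Function.update (fun _ => b) 1 1) a := by
  change (IsLocalization.Away.lift (S := Localization.Away (T.{u} 1)) (T.{u} 1)
      (g := MvPolynomial.eval₂Hom ((Int.castRingHom B).comp ULift.ringEquiv.toRingHom)
        (Function.update (fun _ => b) 1 1))
      (by simp)) (Away.mk grading (X_mem 1) n a ha).val = _
  rw [Away.val_mk, Localization.mk_eq_mk']
  unfold IsLocalization.Away.lift
  rw [IsLocalization.lift_mk'_spec]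
  simp

theorem coord_one_zero_ne_zero : coord.{u} 1 0 ≠ 0 := by
  intro h
  have h1 : chartMap.{u} 1 R0.{u} 1 (coord 1 0) = 1 := by
    unfold coord Away.isLocalizationElem
    rw [chartMap_one_mk]
    simp
  rw [h, map_zero] at h1
  exact zero_ne_one h1

theorem tP_mem_nonZeroDivisors : tP.{u} 1 0 ∈ nonZeroDivisors Γ(Proj grading.{u}, D 1) := by
  haveI : IsDomain (Away grading.{u} (T 1)) :=
    Groth.Agent.Lib.Helper17.PnUFD.isDomain_away 1 R0.{u} 1
  have hbij := awayToSection_bijective.{u} 1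
  let e : Away grading.{u} (T 1) ≃+* Γ(Proj grading.{u}, D 1) :=
    RingEquiv.ofBijective (Proj.awayToSection grading.{u} (T 1)).hom hbij
  haveI : IsDomain Γ(Proj grading.{u}, D 1) :=
    Function.Injective.isDomain
      (e.symm : Γ(Proj grading.{u}, D.{u} 1) →+* Away grading.{u} (T 1)) e.symm.injective
  refine mem_nonZeroDivisors_of_ne_zero ?_
  intro h
  unfold tP at h
  exact coord_one_zero_ne_zero (hbij.1 (h.trans (map_zero _).symm))

theorem bijective_toSpec_pt :
    Function.Bijective ((CohB1.ProjSpace.toSpec 1 R0.{u}).appLE ⊤ (D.{u} 1) le_top ≫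
      (pt.{u} 1).app (D 1)).hom := by
  have h1 : (CohB1.ProjSpace.toSpec 1 R0.{u}).appLE ⊤ (D 1) le_top ≫ (pt.{u} 1).app (D 1) =
      (pt.{u} 1 ≫ CohB1.ProjSpace.toSpec 1 R0.{u}).appLE ⊤ (pt.{u} 1 ⁻¹ᵁ D 1) le_top := by
    rw [Scheme.Hom.app_eq_appLE, Scheme.Hom.appLE_comp_appLE]
  have h2 : pt.{u} 1 ≫ CohB1.ProjSpace.toSpec 1 R0.{u} = 𝟙 _ := specULiftZIsTerminal.hom_ext _ _
  have h3 : (pt.{u} 1 ≫ CohB1.ProjSpace.toSpec 1 R0.{u}).appLE ⊤ (pt.{u} 1 ⁻¹ᵁ D 1) le_top =
      (Spec (CommRingCat.of R0.{u})).presheaf.map (homOfLE le_top).op := by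
    rw [appLE_congr_hom h2 ⊤ (pt.{u} 1 ⁻¹ᵁ D 1), id_appLE']
  have h4 : IsIso ((Spec (CommRingCat.of R0.{u})).presheaf.map
      (homOfLE (le_top : pt.{u} 1 ⁻¹ᵁ D 1 ≤ ⊤)).op) := by
    have : IsIso (homOfLE (le_top : pt.{u} 1 ⁻¹ᵁ D 1 ≤ ⊤)) :=
      ⟨⟨homOfLE (pt_preimage_D 1).ge, rfl, rfl⟩⟩
    infer_instance
  rw [h1, h3]
  exact ConcreteCategory.bijective_of_isIso _

theorem flat_quot_tP :
    letI : Algebra Γ(Spec (CommRingCat.of R0.{u}), ⊤) Γ(Proj grading.{u}, D.{u} 1) :=
      ((CohB1.ProjSpace.toSpec 1 R0.{u}).appLE ⊤ (D.{u} 1) le_top).hom.toAlgebra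
    Module.Flat Γ(Spec (CommRingCat.of R0.{u}), ⊤)
      (Γ(Proj grading.{u}, D.{u} 1) ⧸ Ideal.span {tP.{u} 1 0}) := by
  letI : Algebra Γ(Spec (CommRingCat.of R0.{u}), ⊤) Γ(Proj grading.{u}, D.{u} 1) :=
    ((CohB1.ProjSpace.toSpec 1 R0.{u}).appLE ⊤ (D.{u} 1) le_top).hom.toAlgebra
  rw [← Groth.Agent.Lib.Helper29.FlatExt.flat_comp_iff_flat_quotient ((pt.{u} 1).app (D 1)).hom
    ((pt.{u} 1).app_surjective (D 1) (isAffineOpen_D 1)) _ (ker_pt_app 1 0 (by decide))]
  apply RingHom.Flat.of_bijective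
  exact bijective_toSpec_pt

theorem isDomain_section_D : IsDomain Γ(Proj grading.{u}, D.{u} 1) := by
  haveI : IsDomain (Away grading.{u} (T 1)) :=
    Groth.Agent.Lib.Helper17.PnUFD.isDomain_away 1 R0.{u} 1
  have hbij := awayToSection_bijective.{u} 1
  let e : Away grading.{u} (T 1) ≃+* Γ(Proj grading.{u}, D 1) :=
    RingEquiv.ofBijective (Proj.awayToSection grading.{u} (T 1)).hom hbij
  exact Function.Injective.isDomain
    (e.symm : Γ(Proj grading.{u}, D.{u} 1) →+* Away grading.{u} (T 1)) e.symm.injective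

/-- the chart ring of `P^1_ℤ` at infinity is flat over `ℤ` -/
theorem flat_toSpec_appLE :
    ((CohB1.ProjSpace.toSpec 1 R0.{u}).appLE ⊤ (D.{u} 1) le_top).hom.Flat := by
  let eR : Γ(Spec (CommRingCat.of R0.{u}), ⊤) ≃+* R0.{u} :=
    (Scheme.ΓSpecIso (CommRingCat.of R0.{u})).commRingCatIsoToRingEquiv
  haveI : IsDomain Γ(Spec (CommRingCat.of R0.{u}), ⊤) :=
    Function.Injective.isDomain (eR : Γ(Spec (CommRingCat.of R0.{u}), ⊤) →+* R0.{u}) eR.injective
  haveI : IsPrincipalIdealRing R0.{u} :=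
    IsPrincipalIdealRing.of_surjective (ULift.ringEquiv.symm : ℤ ≃+* R0.{u}).toRingHom
      (ULift.ringEquiv.symm : ℤ ≃+* R0.{u}).surjective
  haveI : IsPrincipalIdealRing Γ(Spec (CommRingCat.of R0.{u}), ⊤) :=
    IsPrincipalIdealRing.of_surjective eR.symm.toRingHom eR.symm.surjective
  haveI := isDomain_section_D.{u}
  letI alg : Algebra Γ(Spec (CommRingCat.of R0.{u}), ⊤) Γ(Proj grading.{u}, D.{u} 1) :=
    ((CohB1.ProjSpace.toSpec 1 R0.{u}).appLE ⊤ (D.{u} 1) le_top).hom.toAlgebra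
  change Module.Flat Γ(Spec (CommRingCat.of R0.{u}), ⊤) Γ(Proj grading.{u}, D.{u} 1)
  rw [Module.Flat.flat_iff_torsion_eq_bot_of_isBezout, Submodule.eq_bot_iff]
  intro c hc
  obtain ⟨r, hr⟩ := (Submodule.mem_torsion_iff c).1 hc
  have hinj : Function.Injective
      ((CohB1.ProjSpace.toSpec 1 R0.{u}).appLE ⊤ (D.{u} 1) le_top).hom := by
    have := bijective_toSpec_pt.{u}.1
    rw [CommRingCat.hom_comp, RingHom.coe_comp] at this
    exact Function.Injective.of_comp this
  have hr0 : ((CohB1.ProjSpace.toSpec 1 R0.{u}).appLE ⊤ (D.{u} 1) le_top).hom (r : _) ≠ 0 := by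
    intro h0
    exact nonZeroDivisors.ne_zero r.2 (hinj (h0.trans (map_zero _).symm))
  let a : Γ(Proj grading.{u}, D.{u} 1) :=
    ((CohB1.ProjSpace.toSpec 1 R0.{u}).appLE ⊤ (D.{u} 1) le_top).hom (r : _)
  have h1 : a * c = 0 := hr
  have ha : a ≠ 0 := hr0
  exact (mul_eq_zero.1 h1).resolve_left ha

end Coord

section Regular

variable {X}

/-- `(rs, t)` is weakly regular on the chart at infinity -/
theorem isWeaklyRegular_chart (U : X.affineOpens) (rs : List Γ(X, U.1))
    (hreg : IsWeaklyRegular Γ(X, U.1) rs) :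
    IsWeaklyRegular Γ(CohB1.ProjSpaceOver 1 X, chart X U.1)
      (rs.map (pullHom X U.1) ++ [tInf X U.1]) := by
  letI := (pullHom X U.1).toAlgebra
  have hfl : (pullHom X U.1).Flat := by
    have hst : (RingHom.toMorphismProperty RingHom.Flat).IsStableUnderCobaseChange :=
      RingHom.isStableUnderCobaseChange_toMorphismProperty_iff.2
        RingHom.Flat.isStableUnderBaseChange
    exact MorphismProperty.of_isPushout (P := RingHom.toMorphismProperty RingHom.Flat)
      (isPushout_chart X U.2).flip flat_toSpec_appLE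
  haveI : Module.Flat Γ(X, U.1) Γ(CohB1.ProjSpaceOver 1 X, chart X U.1) := hfl
  refine isWeaklyRegular_map_append rs hreg (tInf X U.1) ?_
  exact mk_map_mem_nonZeroDivisors_of_isPushout (isPushout_chart X U.2) (tP 1 0)
    tP_mem_nonZeroDivisors flat_quot_tP (Ideal.ofList rs)

end Regular

section FlatQ

variable {X} {S : Scheme.{u}} (f : X ⟶ S)

theorem chart_le_preimage (V : S.Opens) (U : X.Opens) (e : U ≤ f ⁻¹ᵁ V) :
    chart X U ≤ (πX ≫ f) ⁻¹ᵁ V := by
  intro x hx
  exact e hx.2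

theorem secHom_comp_appLE (V : S.Opens) (U : X.Opens) (e : U ≤ f ⁻¹ᵁ V) (r : Γ(S, V)) :
    secHom X U (((πX ≫ f).appLE V (chart X U) (chart_le_preimage f V U e)).hom r) =
      (f.appLE V U e).hom r := by
  unfold secHom
  have h1 := Scheme.Hom.appLE_comp_appLE (sect X 1) (πX ≫ f) V (chart X U) U
    (chart_le_preimage f V U e) (sect_preimage_chart X U).ge
  have h0 : sect X 1 ≫ πX ≫ f = f := by
    rw [← Category.assoc, sect_toBase, Category.id_comp]
  have h2 := appLE_congr_hom h0 V U (by rw [h0]; exact e)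
  have h3 := congrArg (fun φ => φ.hom r) (h1.trans h2)
  simpa using h3

/-- the quotient of the chart ring by the ideal of `V(J) × {∞}` is `Γ(X, U)/J(U)`, hence flat
over the base when the latter is. -/
theorem flat_chart_quotient (J : X.IdealSheafData) (V : S.affineOpens) (U : X.affineOpens)
    (e : U.1 ≤ f ⁻¹ᵁ V.1)
    (hfl : letI := (f.appLE V.1 U.1 e).hom.toAlgebra
      Module.Flat Γ(S, V.1) (Γ(X, U.1) ⧸ J.ideal U)) :
    letI := ((πX ≫ f).appLE V.1 (chart X U.1) (chart_le_preimage f V.1 U.1 e)).hom.toAlgebra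
    Module.Flat Γ(S, V.1) (Γ(CohB1.ProjSpaceOver 1 X, chart X U.1) ⧸
      (J.map (sect X 1)).ideal ⟨chart X U.1, isAffineOpen_chart X U.2⟩) := by
  letI algA := (f.appLE V.1 U.1 e).hom.toAlgebra
  letI algB := ((πX ≫ f).appLE V.1 (chart X U.1) (chart_le_preimage f V.1 U.1 e)).hom.toAlgebra
  rw [ideal_map_sect_eq_comap]
  let ρ : Γ(CohB1.ProjSpaceOver 1 X, chart X U.1) →+* (Γ(X, U.1) ⧸ J.ideal U) :=
    (Ideal.Quotient.mk (J.ideal U)).comp (secHom X U.1)
  have hsurj : Function.Surjective ρ :=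
    Ideal.Quotient.mk_surjective.comp (secHom_surjective X U.1)
  have hker : RingHom.ker ρ = (J.ideal U).comap (secHom X U.1) := by
    rw [← RingHom.comap_ker, Ideal.mk_ker]
  rw [← Groth.Agent.Lib.Helper29.FlatExt.flat_comp_iff_flat_quotient ρ hsurj _ hker]
  have key : ρ.comp (algebraMap Γ(S, V.1) Γ(CohB1.ProjSpaceOver 1 X, chart X U.1)) =
      (Ideal.Quotient.mk (J.ideal U)).comp (algebraMap Γ(S, V.1) Γ(X, U.1)) := by
    ext r
    change Ideal.Quotient.mk (J.ideal U) (secHom X U.1 (((πX ≫ f).appLE V.1 (chart X U.1)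
      (chart_le_preimage f V.1 U.1 e)).hom r)) = Ideal.Quotient.mk (J.ideal U)
        ((f.appLE V.1 U.1 e).hom r)
    rw [secHom_comp_appLE]
  rw [key]
  exact (Groth.Agent.Lib.Helper29.FlatExt.flat_comp_iff_flat_quotient
    (Ideal.Quotient.mk (J.ideal U)) Ideal.Quotient.mk_surjective _ Ideal.mk_ker).2 hfl

end FlatQ

end Groth.Agent.Lib.Helper29.P1Inf
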