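import Mathlib
import Groth.Prelude.Def_P1
import Groth.Prelude.Def_BlowUp2
import Groth.Agent.Lib.Helper29.P1Inf
import Groth.Agent.Lib.Helper29.FlatPowGeo2

/-!
# Helper29 — DeformBC: the deformation to the normal cone commutes with base change

For a closed immersion `i : Y ⟶ X` locally cut out by weakly regular sequences, with `Y` flat over
`S`, all infinitesimal neighbourhoods of `Y × {∞}` in `P^1_X` are flat over `S`
(`flat_pow_sect`), hence blowing up `P^1_X` in `Y × {∞}` commutes with base change on `S`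
(`isBlowUp_deformation_baseChange`).
-/

set_option autoImplicit false
set_option backward.isDefEq.respectTransparency false
universe u
open AlgebraicGeometry CategoryTheory CategoryTheory.Limits RingTheory.Sequence

namespace Groth.Agent.Lib.Helper29.DeformBC

open P1 Groth.Agent.Lib.Helper18.P1Kit Groth.Agent.Lib.Helper29.EffCart
  Groth.Agent.Lib.Helper29.TransFlat Groth.Agent.Lib.Helper29.P1Inf

variable {S X Y : Scheme.{u}} (f : X ⟶ S) (i : Y ⟶ X) [IsClosedImmersion i]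

/-- shrink a weakly regular local presentation to a basic open -/
theorem exists_regular_basicOpen (J : X.IdealSheafData) (U : X.affineOpens) (rs : List Γ(X, U.1))
    (hreg : IsWeaklyRegular Γ(X, U.1) rs) (hJ : J.ideal U = Ideal.ofList rs) (x : X) (hx : x ∈ U.1)
    (O : X.Opens) (hxO : x ∈ O) :
    ∃ (U' : X.affineOpens) (_ : x ∈ U'.1) (_ : U'.1 ≤ O) (rs' : List Γ(X, U'.1)),
      IsWeaklyRegular Γ(X, U'.1) rs' ∧ J.ideal U' = Ideal.ofList rs' := by
  obtain ⟨g, hgO, hxg⟩ := U.2.exists_basicOpen_le ⟨x, hxO⟩ hx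
  refine ⟨X.affineBasicOpen g, hxg, hgO, rs.map (X.presheaf.map (homOfLE (X.basicOpen_le g)).op).hom,
    ?_, ?_⟩
  · letI := (X.presheaf.map (homOfLE (X.basicOpen_le g)).op).hom.toAlgebra
    haveI : IsLocalization.Away g Γ(X, X.basicOpen g) := U.2.isLocalization_basicOpen g
    exact IsWeaklyRegular.of_isLocalization Γ(X, X.basicOpen g) (Submonoid.powers g) hreg
  · rw [← J.map_ideal_basicOpen U g, hJ, map_ofList]
    rfl

theorem flat_ker_subschemeι_comp [Flat (i ≫ f)] : Flat (i.ker.subschemeι ≫ f) := by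
  have h1 : i.ker.subschemeι ≫ f = inv i.toImage ≫ i ≫ f := by
    rw [IsIso.eq_inv_comp, ← Category.assoc]
    congr 1
    exact i.toImage_imageι
  rw [h1]
  infer_instance

/-- all infinitesimal neighbourhoods of `Y × {∞}` in `P^1_X` are flat over `S` -/
theorem flat_pow_sect [Flat (i ≫ f)]
    (hi : ∀ y : Y, ∃ U : X.affineOpens, i y ∈ U.1 ∧ ∃ rs : List Γ(X, U.1),
      IsWeaklyRegular Γ(X, U.1) rs ∧ i.ker.ideal U = Ideal.ofList rs) (m : ℕ) :
    Flat (((i ≫ sect X 1).ker ^ m).subschemeι ≫ CohB1.ProjSpaceOver.toBase 1 X ≫ f) := by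
  apply flat_pow_subschemeι_comp_of_regular
  intro x hx
  have hx' : x ∈ Set.range (i ≫ sect X 1) := by
    have h1 : (x : _) ∈ ((i ≫ sect X 1).ker.support : Set _) := hx
    rw [Scheme.Hom.support_ker] at h1
    rwa [(i ≫ sect X 1).isClosedEmbedding.isClosed_range.closure_eq] at h1
  obtain ⟨y, rfl⟩ := hx'
  obtain ⟨U, hyU, rs, hreg, hJ⟩ := hi y
  obtain ⟨_, ⟨V, hV, rfl⟩, hyV, -⟩ :=
    S.isBasis_affineOpens.exists_subset_of_mem_open (Set.mem_univ (f (i y))) isOpen_univ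
  obtain ⟨U', hyU', hU'V, rs', hreg', hJ'⟩ :=
    exists_regular_basicOpen i.ker U rs hreg hJ (i y) hyU (f ⁻¹ᵁ V) hyV
  have hmem : (i ≫ sect X 1) y ∈ chart X U'.1 := by
    have : i y ∈ sect X 1 ⁻¹ᵁ chart X U'.1 := by
      rw [sect_preimage_chart]
      exact hyU'
    exact this
  refine ⟨⟨V, hV⟩, ⟨chart X U'.1, isAffineOpen_chart X U'.2⟩, hmem,
    chart_le_preimage f V U'.1 hU'V, rs'.map (pullHom X U'.1) ++ [tInf X U'.1],
    isWeaklyRegular_chart U' rs' hreg', ?_, ?_⟩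
  · rw [Scheme.Hom.ker_comp]
    exact ideal_map_sect X i.ker U' rs' hJ'
  · have hfl := Groth.Agent.Lib.Helper29.EffCart.flat_quotient_of_flat_subschemeι_comp f i.ker
      (flat_ker_subschemeι_comp f i) ⟨V, hV⟩ U' hU'V
    have h2 := flat_chart_quotient f i.ker ⟨V, hV⟩ U' hU'V hfl
    rw [ideal_map_sect X i.ker U' rs' hJ'] at h2
    exact h2

/-- **The deformation to the normal cone commutes with base change.** -/
theorem isBlowUp_deformation_baseChange {S' X' Y' M M' : Scheme.{u}} [Flat (i ≫ f)]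
    (hi : ∀ y : Y, ∃ U : X.affineOpens, i y ∈ U.1 ∧ ∃ rs : List Γ(X, U.1),
      IsWeaklyRegular Γ(X, U.1) rs ∧ i.ker.ideal U = Ideal.ofList rs)
    (b : M ⟶ CohB1.ProjSpaceOver 1 X) (hb : BlowUp.IsBlowUp b (i ≫ P1.sect X 1).ker)
    (h : S' ⟶ S) (f' : X' ⟶ S') (g : X' ⟶ X) (hX : IsPullback g f' f h)
    (i' : Y' ⟶ X') (gY : Y' ⟶ Y) (hY : IsPullback gY i' i g)
    (b' : M' ⟶ CohB1.ProjSpaceOver 1 X') (μ : M' ⟶ M) (hM : IsPullback μ b' b (P1.toP1 g)) :
    BlowUp.IsBlowUp b' (i' ≫ P1.sect X' 1).ker := by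
  have hXP : IsPullback (toP1 g) (CohB1.ProjSpaceOver.toBase 1 X' ≫ f')
      (CohB1.ProjSpaceOver.toBase 1 X ≫ f) h := (isPullback_toP1 g).paste_vert hX
  have hker : (i' ≫ sect X' 1).ker = (i ≫ sect X 1).ker.comap (toP1 g) :=
    ker_of_isPullback _ gY _ _ (hY.flip.paste_horiz (isPullback_sect_toP1 g 1))
  rw [hker]
  exact Groth.Agent.Lib.Helper29.FlatPow.isBlowUp_baseChange (CohB1.ProjSpaceOver.toBase 1 X ≫ f)
    (fun m _ => flat_pow_sect f i hi m) hb h (toP1 g) (CohB1.ProjSpaceOver.toBase 1 X' ≫ f') hXP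
    μ b' hM

end Groth.Agent.Lib.Helper29.DeformBC
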