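import Groth.Agent.Lib.Helper7.ModHartogsConv
import Groth.Agent.Lib.Helper29.ZClosLib3

set_option autoImplicit false
set_option linter.unusedVariables false
set_option linter.style.haveILetI false
universe u

/-!
# Openness of depth conditions along a closed set, and the surjectivity half of
"Z-closed at x iff depth ≥ 2 at the generizations of x in Z" (helper29)
-/

namespace Groth.Agent.Lib.Helper29.DepthOpen

open CategoryTheory AlgebraicGeometry Opposite TopologicalSpace RingTheory.Sequence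
open Groth.Agent.Lib.Helper28.QCohLoc Groth.Agent.Lib.Helper21.DepthKit
open Groth.Agent.Lib.Helper7.Hartogs (idealOf mem_idealOf)
open scoped Pointwise

section alg

variable {A : Type u} [CommRing A] [IsNoetherianRing A] {M : Type u} [AddCommGroup M] [Module A M]
  [Module.Finite A M]

/-- if `rs ⊆ q` is weakly `M`-regular of length `depth M_q`, then `q ∈ Ass(M/(rs)M)` -/
theorem mem_ass_quot_of_depth_eq (q : Ideal A) [q.IsPrime] (rs : List A) (hm : ∀ r ∈ rs, r ∈ q)
    (hreg : IsWeaklyRegular M rs)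
    (hd : LocCoh.depth (Localization.AtPrime q) (LocalizedModule q.primeCompl M) = (rs.length : ℕ∞)) :
    q ∈ associatedPrimes A (M ⧸ (Ideal.ofList rs • ⊤ : Submodule A M)) := by
  haveI : Nontrivial (LocalizedModule q.primeCompl M) := by
    by_contra h
    rw [not_nontrivial_iff_subsingleton] at h
    rw [depth_of_subsingleton] at hd
    exact ENat.top_ne_coe _ hd
  have h := depth_localization_quot_ofList q rs hm hreg
  rw [hd] at h
  have h0 : LocCoh.depth (Localization.AtPrime q)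
      (LocalizedModule q.primeCompl (M ⧸ (Ideal.ofList rs • ⊤ : Submodule A M))) = 0 := by
    generalize LocCoh.depth (Localization.AtPrime q)
      (LocalizedModule q.primeCompl (M ⧸ (Ideal.ofList rs • ⊤ : Submodule A M))) = d at h
    have : d + (rs.length : ℕ∞) = 0 + (rs.length : ℕ∞) := by rw [h, zero_add]
    exact (ENat.add_left_injective_of_ne_top (ENat.coe_ne_top _)) this
  have hass := (Groth.Agent.S5752.result (Localization.AtPrime q)
    (LocalizedModule q.primeCompl (M ⧸ (Ideal.ofList rs • ⊤ : Submodule A M)))).1 h0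
  have h1 := Module.associatedPrimes.comap_mem_associatedPrimes_of_mem_associatedPrimes_of_isLocalizedModule_of_fg
    q.primeCompl (LocalizedModule.mkLinearMap q.primeCompl (M ⧸ (Ideal.ofList rs • ⊤ : Submodule A M)))
    (IsLocalRing.maximalIdeal (Localization.AtPrime q)) hass
    ((isNoetherianRing_iff_ideal_fg A).mp inferInstance _)
  have h2 : Ideal.comap (algebraMap A (Localization.AtPrime q)) (IsLocalRing.maximalIdeal (Localization.AtPrime q)) = q :=
    Localization.AtPrime.comap_maximalIdeal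
  rwa [h2] at h1

end alg

section scheme

variable {X : Scheme.{u}} [IsLocallyNoetherian X] (F : X.Modules) [F.IsQuasicoherent]
  [SheafOfModules.IsFiniteType.{u} (R := X.ringCatSheaf) F] (U : X.Opens)

theorem fromSpec_mem' {W : X.Opens} (hW : IsAffineOpen W) (p : PrimeSpectrum Γ(X, W)) :
    hW.fromSpec p ∈ W := by
  have : hW.fromSpec p ∈ Set.range hW.fromSpec := ⟨p, rfl⟩
  rw [hW.range_fromSpec] at this
  exact this

theorem primeIdealOf_fromSpec {W : X.Opens} (hW : IsAffineOpen W) (p : PrimeSpectrum Γ(X, W)) :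
    hW.primeIdealOf ⟨hW.fromSpec p, fromSpec_mem' hW p⟩ = p := by
  apply hW.fromSpec.isOpenEmbedding.injective
  exact hW.fromSpec_primeIdealOf ⟨hW.fromSpec p, fromSpec_mem' hW p⟩

/-- a point of `W` lies outside `U` iff its prime contains `idealOf U W` -/
theorem idealOf_le_iff {W : X.Opens} (hW : IsAffineOpen W) (y : X) (hy : y ∈ W) :
    idealOf U W ≤ (hW.primeIdealOf ⟨y, hy⟩).asIdeal ↔ y ∉ U := by
  constructor
  · intro hle hyU
    obtain ⟨c, hcU, hyc⟩ := hW.exists_basicOpen_le ⟨y, hyU⟩ hy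
    have hcp : c ∈ (hW.primeIdealOf ⟨y, hy⟩).asIdeal := hle ((mem_idealOf U c).2 hcU)
    have h1 : hW.fromSpec (hW.primeIdealOf ⟨y, hy⟩) ∈ X.basicOpen c := by
      rw [hW.fromSpec_primeIdealOf ⟨y, hy⟩]; exact hyc
    have h2 : hW.primeIdealOf ⟨y, hy⟩ ∈ hW.fromSpec ⁻¹ᵁ X.basicOpen c := h1
    rw [hW.fromSpec_preimage_basicOpen] at h2
    exact h2 hcp
  · intro hyU c hc
    by_contra hcp
    apply hyU
    apply (mem_idealOf U c).1 hc
    have h1 : hW.primeIdealOf ⟨y, hy⟩ ∈ hW.fromSpec ⁻¹ᵁ X.basicOpen c := by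
      rw [hW.fromSpec_preimage_basicOpen]
      exact hcp
    have h4 : hW.fromSpec (hW.primeIdealOf ⟨y, hy⟩) ∈ X.basicOpen c := h1
    rw [hW.fromSpec_primeIdealOf ⟨y, hy⟩] at h4
    exact h4

/-- local form of helper7's `depth_idealOf` -/
theorem idealDepth_ge_of_forall {W : X.Opens} (hW : IsAffineOpen W) (n : ℕ∞)
    (h : ∀ y ∈ W, y ∉ U → n ≤ LocCoh.depth (X.presheaf.stalk y) (F.presheaf.stalk y)) :
    haveI : IsNoetherianRing Γ(X, W) := IsLocallyNoetherian.component_noetherian ⟨W, hW⟩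
    haveI : Module.Finite Γ(X, W) Γ(F, W) :=
      Groth.Agent.Lib.Helper28.FinType.finite_of_isAffineOpen F hW
    n ≤ LocCoh.idealDepth (idealOf U W) Γ(F, W) := by
  haveI : IsNoetherianRing Γ(X, W) := IsLocallyNoetherian.component_noetherian ⟨W, hW⟩
  haveI : Module.Finite Γ(X, W) Γ(F, W) :=
    Groth.Agent.Lib.Helper28.FinType.finite_of_isAffineOpen F hW
  rw [idealDepth_eq_iInf_depth_localization]
  refine le_iInf₂ fun p hp => ?_
  have hxW := fromSpec_mem' hW p
  have hpp := primeIdealOf_fromSpec hW p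
  have hxU : hW.fromSpec p ∉ U := by
    rw [← idealOf_le_iff U hW _ hxW, hpp]
    exact hp
  have h2 := h _ hxW hxU
  rw [Groth.Agent.Lib.Helper7.StalkLoc.depth_stalk_eq F hW (isLocOn_of_isQuasicoherent F hW)
    (hW.fromSpec p) hxW] at h2
  rw [hpp] at h2
  exact h2

/-- **Openness of the depth conditions**: if `depth F_y ≥ n` at all generizations `y ∉ U` of `x`, the same holds at
all points `y ∉ U` of an affine neighbourhood of `x`. -/
theorem exists_affine_nbhd_depth (n : ℕ) (x : X) (V₀ : X.Opens) (hx : x ∈ V₀)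
    (h : ∀ y : X, y ⤳ x → y ∉ U →
      (n : ℕ∞) ≤ LocCoh.depth (X.presheaf.stalk y) (F.presheaf.stalk y)) :
    ∃ W : X.Opens, IsAffineOpen W ∧ x ∈ W ∧ W ≤ V₀ ∧
      ∀ y ∈ W, y ∉ U → (n : ℕ∞) ≤ LocCoh.depth (X.presheaf.stalk y) (F.presheaf.stalk y) := by
  induction n with
  | zero =>
    obtain ⟨W, hW, hxW, hWV⟩ := exists_isAffineOpen_mem_and_subset (U := V₀) hx
    exact ⟨W, hW, hxW, hWV, fun _ _ _ => by simp⟩
  | succ n ih =>
    obtain ⟨W, hW, hxW, hWV, hWd⟩ := ih (fun y hy hyU =>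
      le_trans (by exact_mod_cast Nat.le_succ n) (h y hy hyU))
    haveI : IsNoetherianRing Γ(X, W) := IsLocallyNoetherian.component_noetherian ⟨W, hW⟩
    haveI : Module.Finite Γ(X, W) Γ(F, W) :=
      Groth.Agent.Lib.Helper28.FinType.finite_of_isAffineOpen F hW
    have hloc := isLocOn_of_isQuasicoherent F hW
    by_cases hIM : idealOf U W • (⊤ : Submodule Γ(X, W) Γ(F, W)) = ⊤
    · refine ⟨W, hW, hxW, hWV, fun y hy hyU => ?_⟩
      rw [Groth.Agent.Lib.Helper7.StalkLoc.depth_stalk_eq F hW hloc y hy]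
      refine le_trans ?_ (idealDepth_le_depth_localization (idealOf U W) _
        ((idealOf_le_iff U hW y hy).2 hyU))
      unfold LocCoh.idealDepth
      rw [if_pos hIM]
      exact le_top
    · have hge := idealDepth_ge_of_forall F U hW n hWd
      obtain ⟨rs, hlen, hmem, hreg⟩ := (natCast_le_idealDepth_iff (idealOf U W) hIM n).1 hge
      have hfin : (associatedPrimes Γ(X, W)
          (Γ(F, W) ⧸ (Ideal.ofList rs • ⊤ : Submodule Γ(X, W) Γ(F, W)))).Finite :=
        associatedPrimes.finite _ _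
      let S : Set (PrimeSpectrum Γ(X, W)) := {𝔮 | 𝔮.asIdeal ∈ associatedPrimes Γ(X, W)
          (Γ(F, W) ⧸ (Ideal.ofList rs • ⊤ : Submodule Γ(X, W) Γ(F, W))) ∧ ¬ (hW.fromSpec 𝔮 ⤳ x)}
      have hSfin : S.Finite := by
        refine Set.Finite.subset (hfin.preimage
          (f := fun 𝔮 : PrimeSpectrum Γ(X, W) => 𝔮.asIdeal) ?_) (fun 𝔮 h𝔮 => h𝔮.1)
        intro a _ b _ hab
        exact PrimeSpectrum.ext hab
      let C : Set X := ⋃ 𝔮 ∈ S, closure {hW.fromSpec 𝔮}
      have hC : IsClosed C := hSfin.isClosed_biUnion fun _ _ => isClosed_closure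
      have hxC : x ∉ C := by
        intro hxC
        obtain ⟨𝔮, h𝔮, hmem⟩ := Set.mem_iUnion₂.1 hxC
        exact h𝔮.2 (specializes_iff_mem_closure.2 hmem)
      let V₁ : X.Opens := W ⊓ ⟨Cᶜ, hC.isOpen_compl⟩
      obtain ⟨W', hW', hxW', hW'V⟩ := exists_isAffineOpen_mem_and_subset (U := V₁) ⟨hxW, hxC⟩
      refine ⟨W', hW', hxW', fun z hz => hWV (hW'V hz).1, fun y hy hyU => ?_⟩
      have hyW : y ∈ W := (hW'V hy).1
      have hyC : y ∉ C := (hW'V hy).2
      have hn := hWd y hyW hyU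
      rcases hn.lt_or_eq with hlt | heq
      · have := Order.add_one_le_of_lt hlt
        exact_mod_cast this
      · exfalso
        have hq : (hW.primeIdealOf ⟨y, hyW⟩).asIdeal ∈ associatedPrimes Γ(X, W)
            (Γ(F, W) ⧸ (Ideal.ofList rs • ⊤ : Submodule Γ(X, W) Γ(F, W))) := by
          apply mem_ass_quot_of_depth_eq _ rs
            (fun r hr => (idealOf_le_iff U hW y hyW).2 hyU (hmem r hr)) hreg
          rw [← Groth.Agent.Lib.Helper7.StalkLoc.depth_stalk_eq F hW hloc y hyW, ← heq, hlen]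
        by_cases hsp : y ⤳ x
        · have h1 := h y hsp hyU
          rw [← heq] at h1
          have h2 : (n + 1 : ℕ) ≤ n := by exact_mod_cast h1
          omega
        · apply hyC
          refine Set.mem_iUnion₂.2 ⟨hW.primeIdealOf ⟨y, hyW⟩, ⟨hq, ?_⟩, ?_⟩
          · rw [hW.fromSpec_primeIdealOf ⟨y, hyW⟩]; exact hsp
          · rw [hW.fromSpec_primeIdealOf ⟨y, hyW⟩]; exact subset_closure rfl

end scheme

section glue

open Groth.Agent.Lib.Helper7.ModHartogs

variable {X : Scheme.{u}} (F : X.Modules) {W : X.Opens}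

/-- if `I n ⊆ a Γ(F, W)` with `a` regular, then `n / a` is a section over `U = ⋃_{c ∈ I} D(c)` -/
theorem exists_div_section (I : Ideal Γ(X, W)) (U : X.Opens) (hUW : U ≤ W)
    (hsub : ∀ c ∈ I, X.basicOpen c ≤ U) (hcov : ∀ x ∈ U, ∃ c ∈ I, x ∈ X.basicOpen c)
    (a : Γ(X, W)) (ha : IsSMulRegular Γ(F, W) a) (n : Γ(F, W))
    (hmem : ∀ c ∈ I, ∃ m : Γ(F, W), c • n = a • m) :
    ∃ tt : Γ(F, U), resO hUW a • tt = res F hUW n := by
  have hcover : U ≤ ⨆ c : I, X.basicOpen (c : Γ(X, W)) := by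
    intro z hzU
    obtain ⟨c, hc, hzc⟩ := hcov z hzU
    exact Opens.mem_iSup.2 ⟨⟨c, hc⟩, hzc⟩
  choose! m hm using hmem
  have hu : ∀ c : I, IsUnit (resO (X.basicOpen_le (c : Γ(X, W))) (c : Γ(X, W))) :=
    fun c => isUnit_resO_of_le _ _ le_rfl
  have ht : ∀ c : I, ∃ t : Γ(F, X.basicOpen (c : Γ(X, W))),
      resO (X.basicOpen_le c.1) c.1 • t = res F (X.basicOpen_le c.1) (m c.1) := by
    intro c
    obtain ⟨v, hv⟩ := hu c
    refine ⟨(↑v⁻¹ : Γ(X, X.basicOpen c.1)) • res F (X.basicOpen_le c.1) (m c.1), ?_⟩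
    rw [← hv, smul_smul, Units.mul_inv, one_smul]
  choose t ht using ht
  have hcompat : ∀ c c' : I,
      res F (inf_le_left : X.basicOpen c.1 ⊓ X.basicOpen c'.1 ≤ X.basicOpen c.1) (t c) =
        res F (inf_le_right : X.basicOpen c.1 ⊓ X.basicOpen c'.1 ≤ X.basicOpen c'.1) (t c') := by
    intro c c'
    have hcc' : c'.1 • m c.1 = c.1 • m c'.1 := by
      apply ha
      show a • (c'.1 • m c.1) = a • (c.1 • m c'.1)
      rw [smul_comm a, ← hm c.1 c.2, smul_comm a, ← hm c'.1 c'.2, smul_comm]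
    have hD : X.basicOpen c.1 ⊓ X.basicOpen c'.1 ≤ W := inf_le_left.trans (X.basicOpen_le _)
    have hu1 : IsUnit (resO hD c.1) := isUnit_resO_of_le c.1 hD inf_le_left
    have hu2 : IsUnit (resO hD c'.1) := isUnit_resO_of_le c'.1 hD inf_le_right
    apply hu1.smul_left_cancel.1
    apply hu2.smul_left_cancel.1
    have e1 : resO hD c.1 • res F inf_le_left (t c) = res F hD (m c.1) := by
      have := congrArg
        (res F (inf_le_left : X.basicOpen c.1 ⊓ X.basicOpen c'.1 ≤ X.basicOpen c.1)) (ht c)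
      rw [res_smul, resO_resO, res_res] at this
      exact this
    have e2 : resO hD c'.1 • res F inf_le_right (t c') = res F hD (m c'.1) := by
      have := congrArg
        (res F (inf_le_right : X.basicOpen c.1 ⊓ X.basicOpen c'.1 ≤ X.basicOpen c'.1)) (ht c')
      rw [res_smul, resO_resO, res_res] at this
      exact this
    rw [e1, smul_comm, e2, ← res_smul, ← res_smul, hcc']
  obtain ⟨tt, htt⟩ := exists_gluing F (fun c : I => X.basicOpen (c : Γ(X, W))) U
    (fun c => hsub c c.2) hcover t hcompat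
  refine ⟨tt, ?_⟩
  apply eq_of_locally_eq F (fun c : I => X.basicOpen (c : Γ(X, W))) U (fun c => hsub c c.2)
    hcover
  intro c
  show res F (hsub c c.2) (resO hUW a • tt) = res F (hsub c c.2) (res F hUW n)
  rw [res_smul, htt c, resO_resO, res_res]
  apply (hu c).smul_left_cancel.1
  rw [smul_comm, ht c, ← res_smul, ← res_smul, ← hm c.1 c.2]

end glue

section zclos

open ZClos Groth.Agent.Lib.Helper29.ZClosLib Groth.Agent.Lib.Helper29.QCohStalk
open Groth.Agent.Lib.Helper7.ModHartogs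

variable {X : Scheme.{u}} [IsLocallyNoetherian X] (F : X.Modules) [F.IsQuasicoherent]
  [SheafOfModules.IsFiniteType.{u} (R := X.ringCatSheaf) F] (Z : Set X)

omit [IsLocallyNoetherian X] [F.IsQuasicoherent]
  [SheafOfModules.IsFiniteType.{u} (R := X.ringCatSheaf) F] in
theorem rhoStalk_gm' (V : X.Opens) (x : X) (hx : x ∈ V) (s : Γ(F, V)) :
    rhoStalk Z F x (gm F V x hx s) = gm ((H0 Z).obj F) V x hx ((rhoApp Z F).app V s) :=
  TopCat.Presheaf.stalkFunctor_map_germ_apply V x hx (rhoApp Z F).mapPresheaf s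

omit [IsLocallyNoetherian X] [F.IsQuasicoherent]
  [SheafOfModules.IsFiniteType.{u} (R := X.ringCatSheaf) F] in
theorem hsub_Op (T : Cl Z) (W : X.Opens) : ∀ c ∈ idealOf T.U W, X.basicOpen c ≤ Op Z T W := by
  intro c hc
  rw [Op_eq]
  exact le_inf ((mem_idealOf T.U c).1 hc) (X.basicOpen_le c)

omit [IsLocallyNoetherian X] [F.IsQuasicoherent]
  [SheafOfModules.IsFiniteType.{u} (R := X.ringCatSheaf) F] in
theorem hcov_Op (T : Cl Z) {W : X.Opens} (hW : IsAffineOpen W) :
    ∀ y ∈ Op Z T W, ∃ c ∈ idealOf T.U W, y ∈ X.basicOpen c := by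
  intro y hy
  rw [Op_eq] at hy
  obtain ⟨c, hcU, hyc⟩ := hW.exists_basicOpen_le ⟨y, hy.1⟩ hy.2
  exact ⟨c, hcU, hyc⟩

/-- (⇐), surjectivity: if `depth F_y ≥ 2` at all generizations `y ∈ Z` of `x` then `ρ_x` is surjective -/
theorem surjective_rhoStalk_of_depth (x : X)
    (h : ∀ y : X, y ⤳ x → y ∈ Z →
      (2 : ℕ∞) ≤ LocCoh.depth (X.presheaf.stalk y) (F.presheaf.stalk y)) :
    Function.Surjective (rhoStalk Z F x) := by
  intro τ
  obtain ⟨V, hxV, σ, rfl⟩ := TopCat.Presheaf.germ_exist ((H0 Z).obj F).presheaf τ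
  obtain ⟨V', hV', hxV', hV'V⟩ := exists_isAffineOpen_mem_and_subset (U := V) hxV
  obtain ⟨T, t, ht⟩ := cinj_surj Z F V' hV'.isCompact (res ((H0 Z).obj F) hV'V σ)
  obtain ⟨W, hW, hxW, hWV', hWd⟩ := exists_affine_nbhd_depth F T.U 2 x V' hxV'
    (fun y hy hyU => h y hy (T.2 (by
      by_contra hyT
      exact hyU hyT)))
  haveI : IsNoetherianRing Γ(X, W) := IsLocallyNoetherian.component_noetherian ⟨W, hW⟩
  haveI : Module.Finite Γ(X, W) Γ(F, W) :=
    Groth.Agent.Lib.Helper28.FinType.finite_of_isAffineOpen F hW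
  have hloc := isLocOn_of_isQuasicoherent F hW
  have h2 := idealDepth_ge_of_forall F T.U hW 2 hWd
  obtain ⟨a, ha, b, hb, hareg, hbreg⟩ := exists_regular_pair _ h2
  have hbij := bijective_res F hloc (idealOf T.U W) (Op Z T W) (Op_le T W) (hsub_Op Z T W)
    (hcov_Op Z T hW) a b ha hb hareg hbreg
  obtain ⟨s, hs⟩ := hbij.2 (res F (Op_mono T hWV') t)
  refine ⟨gm F W x hxW s, ?_⟩
  rw [rhoStalk_gm', rho_app_eq Z F T W s, hs, ← cinj_res Z F T hWV' t, ht]
  rw [gm_res ((H0 Z).obj F) hWV' x hxW, gm_res ((H0 Z).obj F) hV'V x hxV']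

end zclos

end Groth.Agent.Lib.Helper29.DepthOpen
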