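import Mathlib
set_option autoImplicit false
open IsLocalRing

namespace Groth.Agent.Lib.Helper29.EffCart

/-- A Noetherian local ring whose maximal ideal is generated by a nonzerodivisor is a DVR. -/
theorem isDVR_of_maximalIdeal_eq_span_nzd (R : Type*) [CommRing R] [IsLocalRing R]
    [IsNoetherianRing R] (t : R) (ht : t ∈ nonZeroDivisors R)
    (hm : maximalIdeal R = Ideal.span {t}) :
    ∃ _ : IsDomain R, IsDiscreteValuationRing R := by
  have hInf : ⨅ i : ℕ, (maximalIdeal R) ^ i = ⊥ :=
    Ideal.iInf_pow_eq_bot_of_isLocalRing _ (Ideal.IsPrime.ne_top inferInstance)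
  have hpow : ∀ n : ℕ, (maximalIdeal R) ^ n = Ideal.span {t ^ n} := by
    intro n; rw [hm, Ideal.span_singleton_pow]
  -- every nonzero element is a unit times a power of `t`
  have key : ∀ x : R, x ≠ 0 → ∃ (n : ℕ) (u : Rˣ), x = u * t ^ n := by
    intro x hx
    have hex : ∃ n : ℕ, x ∉ (maximalIdeal R) ^ n := by
      by_contra hcon
      push Not at hcon
      have : x ∈ ⨅ i : ℕ, (maximalIdeal R) ^ i := by
        rw [Ideal.mem_iInf]; exact hcon
      rw [hInf] at this
      exact hx (by simpa using this)
    classical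
    let n := Nat.find hex
    have hn : x ∉ (maximalIdeal R) ^ n := Nat.find_spec hex
    have hn0 : n ≠ 0 := by
      intro h0
      rw [h0, pow_zero, Ideal.one_eq_top] at hn
      exact hn trivial
    obtain ⟨k, hk⟩ := Nat.exists_eq_succ_of_ne_zero hn0
    have hk' : x ∈ (maximalIdeal R) ^ k := by
      by_contra hcon
      have := Nat.find_min' hex hcon
      omega
    rw [hpow, Ideal.mem_span_singleton] at hk'
    obtain ⟨u, hu⟩ := hk'
    have hunit : IsUnit u := by
      by_contra hnu
      have hum : u ∈ maximalIdeal R := (mem_maximalIdeal u).2 hnu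
      rw [hm, Ideal.mem_span_singleton] at hum
      obtain ⟨v, hv⟩ := hum
      apply hn
      rw [hk, hpow, Ideal.mem_span_singleton]
      exact ⟨v, by rw [hu, hv, pow_succ]; ring⟩
    exact ⟨k, hunit.unit, by rw [hu, IsUnit.unit_spec]; ring⟩
  have hdom : IsDomain R := by
    have : NoZeroDivisors R := by
      constructor
      intro a b hab
      by_contra hcon
      push Not at hcon
      obtain ⟨n, u, rfl⟩ := key a hcon.1
      obtain ⟨k, v, rfl⟩ := key b hcon.2
      have h1 : t ^ (n + k) = 0 := by
        have : ((u * v : Rˣ) : R) * t ^ (n + k) = 0 := by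
          rw [← hab]; push_cast; ring
        exact (Units.mul_right_eq_zero _).1 this
      exact nonZeroDivisors.ne_zero (pow_mem ht (n + k)) h1
    exact NoZeroDivisors.to_isDomain R
  refine ⟨hdom, ?_⟩
  have hnf : ¬ IsField R := by
    intro hf
    have htm : t ∈ maximalIdeal R := by rw [hm]; exact Ideal.subset_span rfl
    have ht0 : t ≠ 0 := nonZeroDivisors.ne_zero ht
    letI := hf.toField
    exact (mem_maximalIdeal t).1 htm (IsUnit.mk0 t ht0)
  have hprinc : (maximalIdeal R).IsPrincipal := ⟨⟨t, by rw [hm]⟩⟩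
  exact ((IsDiscreteValuationRing.TFAE R hnf).out 0 4).2 hprinc

end Groth.Agent.Lib.Helper29.EffCart
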