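import Groth.Agent.Lib.Helper7.FiniteDescentFamily

/-!
# Descent of finite presentation of modules along a finite jointly faithfully flat family
-/

universe u

open TensorProduct

namespace Groth.Agent.Lib.Helper29.FPDescent

open Groth.Agent.Lib.Helper7.FiniteDescentFamily

variable {R : Type u} [CommRing R] {ι : Type u} [Finite ι] (S : ι → Type u)
  [∀ i, CommRing (S i)] [∀ i, Algebra R (S i)]

/-- descent of finite presentation along a finite jointly faithfully flat family -/
theorem fp_of_family [∀ i, Module.Flat R (S i)]
    (hsurj : ∀ m : Ideal R, m.IsMaximal → ∃ i, m.map (algebraMap R (S i)) ≠ ⊤)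
    (N : Type u) [AddCommGroup N] [Module R N]
    (hfp : ∀ i, Module.FinitePresentation (S i) (S i ⊗[R] N)) : Module.FinitePresentation R N := by
  haveI : Module.Finite R N := finite_of_family S hsurj N fun i => inferInstance
  obtain ⟨n, φ, hφ⟩ := Module.Finite.exists_fin' R N
  refine Module.finitePresentation_of_surjective φ hφ ?_
  rw [← Module.Finite.iff_fg]
  refine finite_of_family S hsurj (LinearMap.ker φ) fun i => ?_
  have h1 : (LinearMap.ker (AlgebraTensorModule.lTensor (S i) (S i) φ)).FG := by
    refine Module.FinitePresentation.fg_ker _ ?_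
    exact LinearMap.lTensor_surjective (S i) hφ
  rw [Module.Flat.ker_lTensor_eq (S i) (S i) φ] at h1
  have hinj : Function.Injective (AlgebraTensorModule.lTensor (S i) (S i) (LinearMap.ker φ).subtype) :=
    Module.Flat.lTensor_preserves_injective_linearMap (M := S i) _ (LinearMap.ker φ).injective_subtype
  haveI : Module.Finite (S i) (LinearMap.range (AlgebraTensorModule.lTensor (S i) (S i) (LinearMap.ker φ).subtype)) :=
    Module.Finite.iff_fg.2 h1
  exact Module.Finite.equiv (LinearEquiv.ofInjective _ hinj).symm

end Groth.Agent.Lib.Helper29.FPDescent
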