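import Groth.Agent.Lib.Helper29.FPDescent
import Groth.Agent.Lib.Helper29.FPDict
import Groth.Agent.Lib.Helper17.ModPullback

/-!
# fpqc descent of finite presentation for quasi-coherent modules on schemes
-/

set_option autoImplicit false
open CategoryTheory AlgebraicGeometry
universe u

namespace Groth.Agent.Lib.Helper29.FPDescent

open Groth.Agent.Lib.Helper29.FPDict

/-- **fpqc descent of finite presentation**: if the pullback of a quasi-coherent module along a flat surjective
quasi-compact morphism is of finite presentation, so is the module. -/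
theorem isFinitePresentation_of_pullback_fpqc {X X' : Scheme.{u}} (f : X' ⟶ X) [Flat f] [Surjective f]
    [QuasiCompact f] (M : X.Modules) [M.IsQuasicoherent]
    [SheafOfModules.IsFinitePresentation.{u} (R := X'.ringCatSheaf) ((Scheme.Modules.pullback f).obj M)] :
    SheafOfModules.IsFinitePresentation.{u} (R := X.ringCatSheaf) M := by
  have hcov : TopologicalSpace.IsOpenCover (fun V : X.affineOpens => V.1) :=
    TopologicalSpace.IsOpenCover.mk (iSup_affineOpens_eq_top X)
  refine isFinitePresentation_of_fp_cover M (fun V : X.affineOpens => V.1) hcov (fun V => V.2) (fun V => ?_)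
  obtain ⟨s, hs, hsV⟩ := isCompact_iff_finite_and_eq_biUnion_affineOpens.mp
    (f.isCompact_preimage (U := V.1) V.2.isCompact)
  haveI : Finite s := hs
  have hle : ∀ U : s, U.1.1 ≤ f ⁻¹ᵁ V.1 := by
    intro U
    rw [hsV]
    exact le_iSup₂ (f := fun (i : X'.affineOpens) (_ : i ∈ s) => (i : X'.Opens)) U.1 U.2
  letI : ∀ U : s, Algebra Γ(X, V.1) Γ(X', U.1.1) := fun U =>
    (f.appLE V.1 U.1.1 (hle U)).hom.toAlgebra
  haveI : ∀ U : s, Module.Flat Γ(X, V.1) Γ(X', U.1.1) := fun U =>
    HasRingHomProperty.appLE @Flat f inferInstance V U.1 (hle U)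
  refine fp_of_family (fun U : s => Γ(X', U.1.1)) ?_ Γ(M, V.1) ?_
  · intro m hm
    haveI := hm.isPrime
    have hV : IsAffineOpen V.1 := V.2
    let p : Spec Γ(X, V.1) := (⟨m, hm.isPrime⟩ : PrimeSpectrum Γ(X, V.1))
    obtain ⟨x', hx'⟩ := f.surjective (hV.fromSpec p)
    have hx'V : x' ∈ f ⁻¹ᵁ V.1 := by
      change f x' ∈ V.1
      rw [hx']
      have : hV.fromSpec p ∈ Set.range hV.fromSpec := ⟨p, rfl⟩
      rw [hV.range_fromSpec] at this
      exact this
    rw [hsV] at hx'V
    simp only [TopologicalSpace.Opens.mem_iSup] at hx'V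
    obtain ⟨U, hU, hx'U⟩ := hx'V
    refine ⟨⟨U, hU⟩, ?_⟩
    have hUaff : IsAffineOpen U.1 := U.2
    let q := hUaff.primeIdealOf ⟨x', hx'U⟩
    have h1 := IsAffineOpen.SpecMap_appLE_fromSpec f hV hUaff (hle ⟨U, hU⟩)
    have h2 : hV.fromSpec ((Spec.map (f.appLE V.1 U.1 (hle ⟨U, hU⟩))) q) = f (hUaff.fromSpec q) :=
      congrArg (fun g : Spec Γ(X', U.1) ⟶ X => g q) h1
    have h3 : hUaff.fromSpec q = x' := hUaff.fromSpec_primeIdealOf ⟨x', hx'U⟩
    rw [h3, hx'] at h2
    have h4 : (Spec.map (f.appLE V.1 U.1 (hle ⟨U, hU⟩))) q = p :=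
      hV.fromSpec.isOpenEmbedding.injective h2
    have h5 : m = q.asIdeal.comap (f.appLE V.1 U.1 (hle ⟨U, hU⟩)).hom := by
      have := congrArg PrimeSpectrum.asIdeal h4
      exact this.symm
    intro htop
    have hle' : m.map (f.appLE V.1 U.1 (hle ⟨U, hU⟩)).hom ≤ q.asIdeal := by
      rw [Ideal.map_le_iff_le_comap]
      exact h5.le
    have htop' : m.map (f.appLE V.1 U.1 (hle ⟨U, hU⟩)).hom = ⊤ := htop
    rw [htop', top_le_iff] at hle'
    exact q.isPrime.ne_top hle'
  · intro U
    obtain ⟨e⟩ := Groth.Agent.Lib.Helper17.ModPullback.nonempty_linearEquiv_pullback_sections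
      f M U.1.2 V.2 (hle U)
    haveI := fp_of_isAffineOpen ((Scheme.Modules.pullback f).obj M) U.1.2
    exact Module.FinitePresentation.of_equiv e

end Groth.Agent.Lib.Helper29.FPDescent
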