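import Mathlib

set_option autoImplicit false
universe u
open TensorProduct

namespace Groth.Agent.Lib.Helper29.FibreLe

/-- a reduced noetherian ring embeds into a finite product of fields, one for each minimal prime. -/
theorem injective_pi_minimalPrimes {A : Type u} [CommRing A] [IsNoetherianRing A] [IsReduced A]
    (K : PrimeSpectrum A → Type u) [∀ p, Field (K p)] [∀ p, Algebra A (K p)]
    (hK : ∀ p, RingHom.ker (algebraMap A (K p)) = p.asIdeal)
    (q : ∀ p : minimalPrimes A, PrimeSpectrum A) (hq : ∀ p, (q p).asIdeal = p.1) :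
    Function.Injective (algebraMap A (∀ p : minimalPrimes A, K (q p))) := by
  rw [injective_iff_map_eq_zero]
  intro a ha
  have h1 : ∀ p : minimalPrimes A, a ∈ p.1 := by
    intro p
    have := congrFun ha p
    rw [← hq p, ← hK (q p), RingHom.mem_ker]
    exact this
  have h2 : a ∈ sInf (minimalPrimes A) := by
    rw [Ideal.mem_sInf]
    intro p hp
    exact h1 ⟨p, hp⟩
  rw [minimalPrimes, Ideal.sInf_minimalPrimes] at h2
  have h3 : a ∈ nilradical A := h2
  rw [nilradical_eq_zero] at h3
  exact h3


/-- **fibrewise containment implies containment** for an ideal with flat quotient over a reduced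
noetherian base. -/
theorem mem_of_forall_fibre {A B : Type u} [CommRing A] [CommRing B] [Algebra A B]
    [IsNoetherianRing A] [IsReduced A]
    (I' : Ideal B) [Module.Flat A (B ⧸ I')] (x : B)
    (K : PrimeSpectrum A → Type u) [∀ p, Field (K p)] [∀ p, Algebra A (K p)]
    (hK : ∀ p, RingHom.ker (algebraMap A (K p)) = p.asIdeal)
    (h : ∀ p, (Algebra.TensorProduct.includeLeft (R := A) (S := A) (A := B) (B := K p)) x ∈
      I'.map (Algebra.TensorProduct.includeLeft (R := A) (S := A) (A := B) (B := K p)).toRingHom) :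
    x ∈ I' := by
  classical
  -- Step 1: the class of `x` dies in each fibre of `B ⧸ I'`
  have h1 : ∀ p, (Ideal.Quotient.mk I' x) ⊗ₜ[A] (1 : K p) = 0 := by
    intro p
    set Φ : B ⊗[A] K p →ₐ[A] (B ⧸ I') ⊗[A] K p :=
      Algebra.TensorProduct.map (Ideal.Quotient.mkₐ A I') (AlgHom.id A (K p)) with hΦ
    have hle : I'.map (Algebra.TensorProduct.includeLeft (R := A) (S := A) (A := B)
        (B := K p)).toRingHom ≤ RingHom.ker (Φ : B ⊗[A] K p →+* (B ⧸ I') ⊗[A] K p) := by
      rw [Ideal.map_le_iff_le_comap]
      intro y hy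
      rw [Ideal.mem_comap, RingHom.mem_ker]
      change Φ (y ⊗ₜ[A] 1) = 0
      rw [hΦ, Algebra.TensorProduct.map_tmul]
      have : Ideal.Quotient.mkₐ A I' y = 0 := Ideal.Quotient.eq_zero_iff_mem.2 hy
      rw [this, zero_tmul]
    have := hle (h p)
    rw [RingHom.mem_ker] at this
    change Φ (x ⊗ₜ[A] 1) = 0 at this
    rw [hΦ, Algebra.TensorProduct.map_tmul] at this
    exact this
  -- Step 2: embed `A` in a finite product of fields
  haveI : Finite (minimalPrimes A) := (minimalPrimes.finite_of_isNoetherianRing A).to_subtype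
  haveI : Fintype (minimalPrimes A) := Fintype.ofFinite _
  let q : ∀ p : minimalPrimes A, PrimeSpectrum A := fun p => ⟨p.1, p.2.1.1⟩
  have hinj := injective_pi_minimalPrimes K hK q (fun _ => rfl)
  -- Step 3: flatness
  let ι : A →ₗ[A] (∀ p : minimalPrimes A, K (q p)) := Algebra.linearMap A _
  have hinj2 : Function.Injective (LinearMap.lTensor (B ⧸ I') ι) :=
    Module.Flat.lTensor_preserves_injective_linearMap ι hinj
  have h3 : (Ideal.Quotient.mk I' x) ⊗ₜ[A] (1 : A) = 0 := by
    apply hinj2
    rw [map_zero, LinearMap.lTensor_tmul]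
    have h4 : ι 1 = 1 := map_one (algebraMap A _)
    rw [h4]
    apply (TensorProduct.piRight A A (B ⧸ I') (fun p : minimalPrimes A => K (q p))).injective
    rw [map_zero]
    funext p
    rw [TensorProduct.piRight_apply, TensorProduct.piRightHom_tmul]
    exact h1 (q p)
  have h5 := congrArg (TensorProduct.rid A (B ⧸ I')) h3
  rw [TensorProduct.rid_tmul, one_smul, map_zero] at h5
  exact Ideal.Quotient.eq_zero_iff_mem.1 h5

end Groth.Agent.Lib.Helper29.FibreLe
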