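import Groth.Agent.Lib.Helper27.ExtFiltSec3
import Groth.Agent.Lib.lead.SheafModRestrict
import Mathlib.AlgebraicGeometry.Modules.Sheaf
import Mathlib.AlgebraicGeometry.Noetherian

/-!
# Sections of a filtered colimit of `O_X`-modules over a Noetherian open

* `isQCQSSite_opens`: an open of a topological space all of whose open subsets are compact is
  quasi-compact and quasi-separated for the site of opens.
* `sec_surj`, `sec_inj`: over such an open, sections of a filtered colimit of `O_X`-modules are the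
  colimit of the sections.
* `isCompact_of_le`: in a locally Noetherian scheme every open subset of a quasi-compact open is quasi-compact.
-/

set_option autoImplicit false
universe u
open CategoryTheory CategoryTheory.Limits AlgebraicGeometry TopologicalSpace Opposite

namespace Groth.Agent.Lib.Helper29.FilColimSec

open Groth.Agent.Lib.Helper27.ExtFilt

section Top

variable {X : TopCat.{u}}

theorem isQCSite_opens (U : Opens X) (hU : IsCompact (U : Set X)) :
    ToposFin.IsQCSite (Opens.grothendieckTopology X) U := by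
  classical
  intro S hS
  have hS' : ∀ x : U, ∃ (V : Opens X) (f : V ⟶ U), S f ∧ x.1 ∈ V := fun x => hS x.1 x.2
  choose V f hf hxV using hS'
  obtain ⟨t, ht⟩ := hU.elim_finite_subcover (fun x : U => (V x : Set X)) (fun x => (V x).isOpen)
    (fun x hx => Set.mem_iUnion.2 ⟨⟨x, hx⟩, hxV ⟨x, hx⟩⟩)
  let e : Fin t.card ≃ t := t.equivFin.symm
  refine ⟨t.card, fun k => V (e k).1, fun k => f (e k).1, fun k => hf _, ?_⟩
  intro x hx
  obtain ⟨y, hy⟩ := Set.mem_iUnion.1 (ht hx)
  obtain ⟨hyt, hxy⟩ := Set.mem_iUnion.1 hy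
  refine ⟨V y, f y, ?_, hxy⟩
  have : y = (e (e.symm ⟨y, hyt⟩)).1 := by rw [Equiv.apply_symm_apply]
  rw [this]
  exact Sieve.ofArrows_mk _ _ (e.symm ⟨y, hyt⟩)

theorem isQCQSSite_opens (U : Opens X) (hU : ∀ W : Opens X, W ≤ U → IsCompact (W : Set X)) :
    IsQCQSSite (Opens.grothendieckTopology X) U := by
  intro S hS
  obtain ⟨n, V, g, h1, h2⟩ := isQCSite_opens U (hU U le_rfl) S hS
  refine ⟨n, V, g, h1, h2, fun k k' => ?_⟩
  refine ⟨V k ⊓ V k', homOfLE inf_le_left, homOfLE inf_le_right, ?_, ?_⟩
  · refine ⟨⟨Subsingleton.elim _ _⟩, ⟨PullbackCone.IsLimit.mk _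
      (fun s => homOfLE (le_inf s.fst.le s.snd.le)) (fun _ => Subsingleton.elim _ _)
      (fun _ => Subsingleton.elim _ _) (fun _ _ _ _ => Subsingleton.elim _ _)⟩⟩
  · exact isQCSite_opens _ (hU _ (inf_le_left.trans (g k).le))

end Top

section Scheme

variable {X : Scheme.{u}}

/-- in a locally Noetherian scheme every open subset of a quasi-compact open is quasi-compact -/
theorem isCompact_of_le [IsLocallyNoetherian X] {V W : X.Opens} (hV : IsCompact (V : Set X)) (h : W ≤ V) :
    IsCompact (W : Set X) := by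
  haveI : CompactSpace (V : Scheme.{u}) := isCompact_iff_compactSpace.1 hV
  haveI : IsNoetherian (V : Scheme.{u}) := ⟨⟩
  have h0 : NoetherianSpace (V : Set X) := (inferInstance : NoetherianSpace (V : Scheme.{u}))
  exact (noetherianSpace_set_iff (V : Set X)).1 h0 (W : Set X) h

variable {I : Type u} [SmallCategory I] [IsFiltered I] {D : I ⥤ X.Modules} {c : Cocone D} (hc : IsColimit c)

include hc

theorem sec_surj (U : X.Opens) (hU : ∀ W : X.Opens, W ≤ U → IsCompact (W : Set X)) (t : Γ(c.pt, U)) :
    ∃ (i : I) (s : Γ(D.obj i, U)), (c.ι.app i).app U s = t := by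
  have h2 : PreservesColimit D (SheafOfModules.toSheaf.{u} X.ringCatSheaf) :=
    (Groth.Agent.Lib.lead.SheafModRestrict.toSheaf_preservesColimitsOfShape X.ringCatSheaf I).preservesColimit
  have hc' := @isColimitOfPreserves _ _ _ _ _ _ _ (SheafOfModules.toSheaf.{u} X.ringCatSheaf) c hc h2
  exact sections_surj (F := D ⋙ SheafOfModules.toSheaf.{u} X.ringCatSheaf) hc' (isQCQSSite_opens U hU) t

theorem sec_inj (U : X.Opens) (hU : IsCompact (U : Set X)) (i : I) (s : Γ(D.obj i, U))
    (h : (c.ι.app i).app U s = 0) : ∃ (j : I) (u : i ⟶ j), (D.map u).app U s = 0 := by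
  have h2 : PreservesColimit D (SheafOfModules.toSheaf.{u} X.ringCatSheaf) :=
    (Groth.Agent.Lib.lead.SheafModRestrict.toSheaf_preservesColimitsOfShape X.ringCatSheaf I).preservesColimit
  have hc' := @isColimitOfPreserves _ _ _ _ _ _ _ (SheafOfModules.toSheaf.{u} X.ringCatSheaf) c hc h2
  exact sections_inj (F := D ⋙ SheafOfModules.toSheaf.{u} X.ringCatSheaf) hc' (isQCSite_opens U hU) i s h

end Scheme

end Groth.Agent.Lib.Helper29.FilColimSec
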