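import Mathlib

set_option autoImplicit false
universe u

namespace Groth.Agent.Lib.Helper29.FinBir

variable {A B : Type u} [CommRing A] [CommRing B] (φ : A →+* B)

/-- the ideal `φ⁻¹(φ(t)^N B)` -/
def IN (t : A) (N : ℕ) : Ideal A := Ideal.comap φ (Ideal.span {φ t ^ N})

lemma pow_mem_IN (t : A) (N : ℕ) : t ^ N ∈ IN φ t N := by
  change φ (t ^ N) ∈ Ideal.span {φ t ^ N}
  rw [map_pow]
  exact Ideal.subset_span rfl

lemma map_IN_eq (t : A) (N : ℕ) : Ideal.map φ (IN φ t N) = Ideal.span {φ (t ^ N)} := by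
  apply le_antisymm
  · rw [map_pow]
    exact Ideal.map_comap_le
  · rw [Ideal.span_singleton_le_iff_mem]
    exact Ideal.mem_map_of_mem φ (pow_mem_IN φ t N)

lemma map_IN_subset (t : A) (N : ℕ) (hN : ∀ b : B, ∃ a, φ a = φ t ^ N * b) :
    (Ideal.map φ (IN φ t N) : Set B) ⊆ φ '' (IN φ t N : Set A) := by
  intro x hx
  have hx' : x ∈ Ideal.span {φ t ^ N} := by
    have := map_IN_eq φ t N
    rw [map_pow] at this
    rw [← this]; exact hx
  obtain ⟨b, rfl⟩ := Ideal.mem_span_singleton'.1 hx'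
  obtain ⟨a, ha⟩ := hN b
  refine ⟨a, ?_, by rw [ha, mul_comm]⟩
  change φ a ∈ Ideal.span {φ t ^ N}
  rw [ha]
  exact Ideal.mul_mem_right _ _ (Ideal.subset_span rfl)

/-- uniform exponent from finiteness -/
lemma exists_uniform_pow (hfin : φ.Finite) (t : A) (h3 : ∀ b : B, ∃ n a, φ a = φ t ^ n * b) :
    ∃ N₀ : ℕ, ∀ n, N₀ ≤ n → ∀ b : B, ∃ a, φ a = φ t ^ n * b := by
  letI := φ.toAlgebra
  have hmono : ∀ n m, n ≤ m → ∀ b : B, (∃ a, φ a = φ t ^ n * b) → ∃ a, φ a = φ t ^ m * b := by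
    intro n m hnm b ⟨a, ha⟩
    obtain ⟨k, rfl⟩ := Nat.exists_eq_add_of_le hnm
    refine ⟨t ^ k * a, ?_⟩
    rw [map_mul, map_pow, ha, pow_add]; ring
  obtain ⟨s, hs⟩ := (show Module.Finite A B from hfin).fg_top
  choose n a ha using h3
  refine ⟨s.sup n, fun m hm b => ?_⟩
  have hb : b ∈ Submodule.span A (s : Set B) := by rw [hs]; trivial
  induction hb using Submodule.span_induction with
  | mem x hx => exact hmono _ _ ((Finset.le_sup hx).trans hm) x ⟨a x, ha x⟩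
  | zero => exact ⟨0, by simp⟩
  | add x y _ _ hx hy =>
    obtain ⟨ax, hax⟩ := hx
    obtain ⟨ay, hay⟩ := hy
    exact ⟨ax + ay, by rw [map_add, hax, hay, mul_add]⟩
  | smul r x _ hx =>
    obtain ⟨ax, hax⟩ := hx
    refine ⟨r * ax, ?_⟩
    rw [map_mul, hax, Algebra.smul_def]
    change φ r * _ = _ * (φ r * x)
    ring

/-- elements of `IN` are nilpotent modulo `t` (for `N ≥ 1`, `φ` injective integral) -/
lemma exists_pow_mem_span (hinj : Function.Injective φ) (hint : φ.IsIntegral) (t : A) (N : ℕ)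
    (hN1 : 1 ≤ N) (g : A) (hg : g ∈ IN φ t N) : ∃ m : ℕ, g ^ m ∈ Ideal.span {t} := by
  obtain ⟨b, hb⟩ := Ideal.mem_span_singleton'.1 hg
  obtain ⟨p, hp, hpb⟩ := hint b
  set q := p.scaleRoots (t ^ N) with hq
  have hqm : q.Monic := (Polynomial.monic_scaleRoots_iff _).2 hp
  have hroot : Polynomial.eval₂ φ (φ g) q = 0 := by
    rw [← hb, mul_comm, ← map_pow]
    exact Polynomial.scaleRoots_eval₂_eq_zero φ hpb
  have hroot' : Polynomial.eval g q = 0 := by
    apply hinj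
    rw [map_zero, ← hroot, Polynomial.eval₂_at_apply]
  have hE : q.IsWeaklyEisensteinAt (Ideal.span {t}) := by
    apply Polynomial.scaleRoots.isWeaklyEisensteinAt
    obtain ⟨k, rfl⟩ := Nat.exists_eq_add_of_le hN1
    rw [pow_add, pow_one]
    exact Ideal.mul_mem_right _ _ (Ideal.subset_span rfl)
  exact ⟨q.natDegree, hE.pow_natDegree_le_of_root_of_monic_mem hroot' hqm _ le_rfl⟩

end Groth.Agent.Lib.Helper29.FinBir
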