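import Mathlib
import Groth.Prelude.Def_BlowUp2
import Groth.Agent.Lib.Helper29.FinBirAlg
import Groth.Agent.Lib.Helper29.BlowUpUP2

set_option autoImplicit false
universe u
open CategoryTheory CategoryTheory.Limits AlgebraicGeometry TopologicalSpace Opposite

namespace Groth.Agent.Lib.Helper29.FinBir

open Groth.Agent.Lib.Helper29.EffCart

variable {X Y : Scheme.{u}} (f : X ⟶ Y)

/-- naturality of `f.app` on elements -/
lemma app_res' {U V : Y.Opens} (h : V ≤ U) (t : Γ(Y, U)) :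
    (f.app V).hom ((Y.presheaf.map (homOfLE h).op).hom t) =
      (X.presheaf.map (homOfLE (f.preimage_mono h)).op).hom ((f.app U).hom t) := by
  have nat := f.naturality (homOfLE h).op
  exact ConcreteCategory.congr_hom nat t

/-- sections over opens inside an open over which `f` is an isomorphism -/
lemma isIso_app_of_le (U : Y.Opens) [IsIso (f ∣_ U)] (D : Y.Opens) (hD : D ≤ U) :
    IsIso (f.app D) := by
  have h1 : IsIso ((f ∣_ U).app (U.ι ⁻¹ᵁ D)) := inferInstance
  rw [morphismRestrict_app] at h1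
  have h2 : IsIso (f.app (U.ι ''ᵁ U.ι ⁻¹ᵁ D)) := by
    exact @IsIso.of_isIso_comp_right _ _ _ _ _ (f.app (U.ι ''ᵁ U.ι ⁻¹ᵁ D))
      (X.presheaf.map (eqToHom (image_morphismRestrict_preimage f U (U.ι ⁻¹ᵁ D))).op)
      inferInstance h1
  have e : U.ι ''ᵁ U.ι ⁻¹ᵁ D = D := by
    rw [Scheme.Hom.image_preimage_eq_opensRange_inf, Scheme.Opens.opensRange_ι]
    exact inf_eq_right.2 hD
  have key : ∀ D' : Y.Opens, D' = D → IsIso (f.app D') → IsIso (f.app D) := by
    rintro _ rfl h; exact h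
  exact key _ e h2

lemma eq_zero_of_res_eq_zero (W : X.affineOpens) (e : Γ(X, W.1))
    (he : e ∈ nonZeroDivisors Γ(X, W.1)) (E' : X.Opens) (hE : E' = X.basicOpen e) (hle : E' ≤ W.1)
    (s : Γ(X, W.1)) (hs : (X.presheaf.map (homOfLE hle).op).hom s = 0) : s = 0 := by
  subst hE
  exact eq_zero_of_res_basicOpen_eq_zero W e he s hs

section Local

variable {f} {L : Y.IdealSheafData} {V : Y.affineOpens} {t : Γ(Y, V.1)}
  (hLt : L.ideal V = Ideal.span {t})

include hLt in
lemma basicOpen_le_compl_support : Y.basicOpen t ≤ L.support.compl := by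
  intro y hy
  have hyV : y ∈ V.1 := Y.basicOpen_le t hy
  change y ∉ L.support
  rw [Scheme.IdealSheafData.mem_support_iff_of_mem hyV, Scheme.mem_zeroLocus_iff]
  push Not
  exact ⟨t, hLt ▸ Ideal.subset_span rfl, hy⟩

include hLt in
lemma mem_basicOpen_of_not_mem_support {y : Y} (hyV : y ∈ V.1) (hy : y ∉ L.support) :
    y ∈ Y.basicOpen t := by
  rw [Scheme.IdealSheafData.mem_support_iff_of_mem hyV, Scheme.mem_zeroLocus_iff] at hy
  push Not at hy
  obtain ⟨g, hg, hyg⟩ := hy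
  rw [hLt] at hg
  obtain ⟨c, rfl⟩ := Ideal.mem_span_singleton'.1 hg
  rw [Scheme.basicOpen_mul] at hyg
  exact hyg.2

include hLt in
lemma app_mem_nonZeroDivisors [IsReduced X]
    (hdense : Dense (f.base ⁻¹' ((L.support : Set Y)ᶜ))) :
    (f.app V.1).hom t ∈ nonZeroDivisors Γ(X, f ⁻¹ᵁ V.1) := by
  rw [mem_nonZeroDivisors_iff_right]
  intro b hb
  rw [← basicOpen_eq_bot_iff]
  by_contra hne
  obtain ⟨x, hx⟩ : (X.basicOpen b : Set X).Nonempty := by
    rw [Set.nonempty_iff_ne_empty]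
    intro h0
    exact hne (Opens.ext h0)
  obtain ⟨x', hx'b, hx'S⟩ := hdense.inter_open_nonempty _ (X.basicOpen b).2 ⟨x, hx⟩
  have hx'W : x' ∈ f ⁻¹ᵁ V.1 := X.basicOpen_le b hx'b
  have h1 : f x' ∈ Y.basicOpen t := mem_basicOpen_of_not_mem_support hLt hx'W hx'S
  have h2 : x' ∈ X.basicOpen ((f.app V.1).hom t) := by
    rw [← Scheme.preimage_basicOpen]; exact h1
  have h3 : x' ∈ X.basicOpen ((f.app V.1).hom t * b) := by
    rw [Scheme.basicOpen_mul]; exact ⟨h2, hx'b⟩
  rw [mul_comm, hb, Scheme.basicOpen_zero] at h3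
  exact h3

include hLt in
lemma app_injective (ht : t ∈ nonZeroDivisors Γ(Y, V.1)) [IsIso (f ∣_ L.support.compl)] :
    Function.Injective (f.app V.1).hom := by
  rw [injective_iff_map_eq_zero]
  intro a ha
  apply eq_zero_of_res_basicOpen_eq_zero V t ht a
  haveI := isIso_app_of_le f L.support.compl (Y.basicOpen t) (basicOpen_le_compl_support hLt)
  have hinj : Function.Injective (f.app (Y.basicOpen t)).hom :=
    (ConcreteCategory.bijective_of_isIso (f.app (Y.basicOpen t))).1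
  apply hinj
  rw [map_zero, app_res' f (Y.basicOpen_le t) a, ha, map_zero]

include hLt in
lemma exists_pow_mul_eq [IsAffineHom f] [IsIso (f ∣_ L.support.compl)]
    (hnzd : (f.app V.1).hom t ∈ nonZeroDivisors Γ(X, f ⁻¹ᵁ V.1)) (b : Γ(X, f ⁻¹ᵁ V.1)) :
    ∃ (n : ℕ) (a : Γ(Y, V.1)), (f.app V.1).hom a = (f.app V.1).hom t ^ n * b := by
  haveI := isIso_app_of_le f L.support.compl (Y.basicOpen t) (basicOpen_le_compl_support hLt)
  have hle : Y.basicOpen t ≤ V.1 := Y.basicOpen_le t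
  obtain ⟨a', ha'⟩ := (ConcreteCategory.bijective_of_isIso (f.app (Y.basicOpen t))).2
    ((X.presheaf.map (homOfLE (f.preimage_mono hle)).op).hom b)
  haveI loc := V.2.isLocalization_basicOpen t
  obtain ⟨⟨a, ⟨_, n, rfl⟩⟩, hs⟩ := IsLocalization.surj (Submonoid.powers t) a'
  have hs' : a' * (Y.presheaf.map (homOfLE hle).op).hom (t ^ n) =
      (Y.presheaf.map (homOfLE hle).op).hom a := hs
  refine ⟨n, a, ?_⟩
  rw [← sub_eq_zero]
  apply eq_zero_of_res_eq_zero ⟨f ⁻¹ᵁ V.1, V.2.preimage f⟩ _ hnzd (f ⁻¹ᵁ Y.basicOpen t)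
    (Scheme.preimage_basicOpen f t) (f.preimage_mono hle)
  rw [map_sub, map_mul, map_pow, ← app_res' f hle a, ← app_res' f hle t, ← ha', ← hs']
  simp only [map_mul, map_pow]
  ring

end Local

end Groth.Agent.Lib.Helper29.FinBir
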