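import Mathlib.CategoryTheory.Limits.Constructions.Filtered
import Mathlib.CategoryTheory.Limits.Preserves.Finite
import Mathlib.CategoryTheory.Limits.Preserves.Filtered

/-!
# Coproducts from finite coproducts and directed colimits over finite subsets

`preservesCoproductsOfShape_of_finset`: a functor preserving finite coproducts and the directed
colimit over `Finset (Discrete α)` preserves `α`-indexed coproducts.
(The proof is the one of `Groth.Agent.Lib.Helper2.LCEW`, reproduced here with light imports.)
-/

set_option autoImplicit false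

universe w v₁ v₂ u₁ u₂ u

namespace Groth.Agent.Lib.Helper29.FinsetCoprod

open CategoryTheory CategoryTheory.Limits Opposite

section General

open CoproductsFromFiniteFiltered

variable {C : Type u₁} [Category.{v₁} C] {D : Type u₂} [Category.{v₂} D] (α : Type w)
  [HasFiniteCoproducts C] [HasColimitsOfShape (Finset (Discrete α)) C]
  (T : C ⥤ D) [PreservesFiniteCoproducts T] [PreservesColimitsOfShape (Finset (Discrete α)) T]

/-- the inclusion of a summand into a finite subcoproduct. -/
noncomputable def ιS (K : Discrete α ⥤ C) (S : Finset (Discrete α)) (x : S) :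
    K.obj x.1 ⟶ (liftToFinsetObj K).obj S :=
  Sigma.ι (fun x : S => K.obj x) x

theorem ιS_map (K : Discrete α ⥤ C) {S S' : Finset (Discrete α)} (h : S ⟶ S') (x : S) :
    ιS α K S x ≫ (liftToFinsetObj K).map h = ιS α K S' ⟨x.1, (leOfHom h) x.2⟩ :=
  Sigma.ι_desc _ _

/-- the legs of the cocone `liftToFinsetColimitCocone`. -/
noncomputable def cι (K : Discrete α ⥤ C) (j : Discrete α) :
    K.obj j ⟶ colimit (liftToFinsetObj K) :=
  (liftToFinsetColimitCocone K).cocone.ι.app j

/-- the leg identity for the cocone `liftToFinsetColimitCocone`. -/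
theorem ιS_colimit (K : Discrete α ⥤ C) (S : Finset (Discrete α)) (x : S) :
    ιS α K S x ≫ colimit.ι (liftToFinsetObj K) S = cι α K x.1 := by
  have hle : ({x.1} : Finset (Discrete α)) ≤ S := Finset.singleton_subset_iff.2 x.2
  have hw := colimit.w (liftToFinsetObj K) (homOfLE hle)
  change _ = ιS α K {x.1} ⟨x.1, by simp⟩ ≫ colimit.ι (liftToFinsetObj K) {x.1}
  rw [← hw, ← Category.assoc, ιS_map]

theorem preservesCoproductsOfShape_of_finset : PreservesColimitsOfShape (Discrete α) T := by
  constructor
  intro K
  let L := liftToFinsetObj K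
  have hL : IsColimit (T.mapCocone (colimit.cocone L)) :=
    isColimitOfPreserves T (colimit.isColimit L)
  have hS : ∀ S : Finset (Discrete α), IsColimit (T.mapCocone
      (colimit.cocone (Discrete.functor fun x : S => K.obj x))) :=
    fun S => isColimitOfPreserves T (colimit.isColimit _)
  refine preservesColimit_of_preserves_colimit_cocone (liftToFinsetColimitCocone K).isColimit ?_
  -- the cocones
  let cS : ∀ (s : Cocone (K ⋙ T)) (S : Finset (Discrete α)),
      Cocone ((Discrete.functor fun x : S => K.obj x) ⋙ T) := fun s S =>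
    { pt := s.pt
      ι := Discrete.natTrans (fun x => s.ι.app x.as.1) }
  let dS : ∀ (s : Cocone (K ⋙ T)) (S : Finset (Discrete α)), T.obj (L.obj S) ⟶ s.pt :=
    fun s S => (hS S).desc (cS s S)
  have hdS : ∀ (s : Cocone (K ⋙ T)) (S : Finset (Discrete α)) (x : S),
      T.map (ιS α K S x) ≫ dS s S = s.ι.app x.1 :=
    fun s S x => (hS S).fac (cS s S) ⟨x⟩
  have hext : ∀ (S : Finset (Discrete α)) {Z : D} (a b : T.obj (L.obj S) ⟶ Z),
      (∀ x : S, T.map (ιS α K S x) ≫ a = T.map (ιS α K S x) ≫ b) → a = b := by
    intro S Z a b h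
    refine (hS S).hom_ext ?_
    rintro ⟨x⟩
    exact h x
  let cL : ∀ (s : Cocone (K ⋙ T)), Cocone (L ⋙ T) := fun s =>
    { pt := s.pt
      ι :=
        { app := fun S => dS s S
          naturality := by
            intro S S' h
            apply hext
            intro x
            change T.map (ιS α K S x) ≫ T.map (L.map h) ≫ dS s S' =
              T.map (ιS α K S x) ≫ dS s S ≫ 𝟙 _
            rw [← T.map_comp_assoc, ιS_map, hdS, Category.comp_id, hdS] } }
  have hfac : ∀ (s : Cocone (K ⋙ T)) (S : Finset (Discrete α)),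
      T.map (colimit.ι L S) ≫ hL.desc (cL s) = dS s S := fun s S => hL.fac (cL s) S
  refine
    { desc := fun s => hL.desc (cL s)
      fac := ?_
      uniq := ?_ }
  · intro s j
    have h1 : T.map (cι α K j) = T.map (ιS α K {j} ⟨j, by simp⟩) ≫ T.map (colimit.ι L {j}) := by
      rw [← T.map_comp]
      exact congrArg T.map (ιS_colimit α K {j} ⟨j, by simp⟩).symm
    change T.map (cι α K j) ≫ hL.desc (cL s) = s.ι.app j
    rw [h1, Category.assoc, hfac, hdS]
  · intro s m hm
    refine hL.hom_ext ?_
    intro S
    change T.map (colimit.ι L S) ≫ m = T.map (colimit.ι L S) ≫ hL.desc (cL s)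
    rw [hfac]
    apply hext
    intro x
    rw [hdS]
    have h1 : T.map (cι α K x.1) = T.map (ιS α K S x) ≫ T.map (colimit.ι L S) := by
      rw [← T.map_comp]
      exact congrArg T.map (ιS_colimit α K S x).symm
    have h2 : T.map (cι α K x.1) ≫ m = s.ι.app x.1 := hm x.1
    rw [h1, Category.assoc] at h2
    exact h2

end General

end Groth.Agent.Lib.Helper29.FinsetCoprod
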