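import Groth.Agent.Lib.Helper29.G1Tools

set_option autoImplicit false

namespace Groth.Agent.Lib.Helper29.G1

open Models Finset Groth.Agent.Lib.Helper29.NumType

variable {n : ℕ} (T : NumericalType n)

/-- the row equation at `i`, when the neighbours of `i` lie in `N` -/
lemma row_local (i : Fin n) (N : Finset (Fin n)) (hiN : i ∉ N)
    (hz : ∀ j, j ≠ i → j ∉ N → T.a i j = 0) :
    T.a i i * T.m i + ∑ j ∈ N, T.a i j * T.m j = 0 := by
  classical
  have h := Row_m T i
  unfold Row at h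
  rw [← Finset.sum_subset (Finset.subset_univ (insert i N))] at h
  · rw [Finset.sum_insert hiN] at h
    exact h
  · intro j _ hj
    rw [Finset.mem_insert, not_or] at hj
    rw [hz j hj.1 hj.2, zero_mul]

lemma row_local1 (i p : Fin n) (hip : i ≠ p)
    (hz : ∀ j, j ≠ i → j ≠ p → T.a i j = 0) :
    T.a i i * T.m i + T.a i p * T.m p = 0 := by
  classical
  have := row_local T i {p} (by simpa using hip) (fun j h1 h2 => hz j h1 (by simpa using h2))
  simpa using this

lemma row_local2 (i p q : Fin n) (hip : i ≠ p) (hiq : i ≠ q) (hpq : p ≠ q)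
    (hz : ∀ j, j ≠ i → j ≠ p → j ≠ q → T.a i j = 0) :
    T.a i i * T.m i + T.a i p * T.m p + T.a i q * T.m q = 0 := by
  classical
  have := row_local T i {p, q} (by simp [hip, hiq]) (fun j h1 h2 => by
    simp only [Finset.mem_insert, Finset.mem_singleton, not_or] at h2
    exact hz j h1 h2.1 h2.2)
  rw [Finset.sum_pair hpq] at this
  linarith

lemma row_local3 (i p q r : Fin n) (hip : i ≠ p) (hiq : i ≠ q) (hir : i ≠ r) (hpq : p ≠ q)
    (hpr : p ≠ r) (hqr : q ≠ r)
    (hz : ∀ j, j ≠ i → j ≠ p → j ≠ q → j ≠ r → T.a i j = 0) :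
    T.a i i * T.m i + T.a i p * T.m p + T.a i q * T.m q + T.a i r * T.m r = 0 := by
  classical
  have := row_local T i {p, q, r} (by simp [hip, hiq, hir]) (fun j h1 h2 => by
    simp only [Finset.mem_insert, Finset.mem_singleton, not_or] at h2
    exact hz j h1 h2.1 h2.2.1 h2.2.2)
  rw [Finset.sum_insert (by simp [hpq, hpr]), Finset.sum_pair hqr] at this
  linarith

/-- **Arithmetic progression along a simple arm.** -/
theorem arm_AP {s : ℕ} (u : Fin s ↪ Fin n) (hs : 0 < s) (W : ℤ) (hW : 0 < W)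
    (hd : ∀ j : Fin s, j.val + 1 < s → T.a (u j) (u j) = -2 * W)
    (hnext : ∀ j j' : Fin s, j'.val = j.val + 1 → T.a (u j) (u j') = W)
    (hzero : ∀ (j : Fin s) (i : Fin n), j.val + 1 < s → i ≠ u j →
      (∀ j' : Fin s, (j'.val = j.val + 1 ∨ j.val = j'.val + 1) → i ≠ u j') → T.a (u j) i = 0) :
    ∀ j : Fin s, T.m (u j) = (j.val + 1) * T.m (u ⟨0, hs⟩) := by
  have key : ∀ (j : ℕ), (∀ hj : j < s, T.m (u ⟨j, hj⟩) = (j + 1) * T.m (u ⟨0, hs⟩)) ∧
      (∀ hj : j + 1 < s, T.m (u ⟨j + 1, hj⟩) = (j + 2) * T.m (u ⟨0, hs⟩)) := by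
    intro j
    induction j with
    | zero =>
      refine ⟨fun _ => by simp, fun hj => ?_⟩
      have hne : u ⟨0, hs⟩ ≠ u ⟨1, hj⟩ := fun e => by
        have := u.injective e; simp at this
      have r := row_local1 T (u ⟨0, hs⟩) (u ⟨1, hj⟩) hne (by
        intro i h1 h2
        apply hzero ⟨0, hs⟩ i (by simpa using hj) h1
        intro j' hj'
        have : j' = ⟨1, hj⟩ := Fin.ext (by simp at hj' ⊢; omega)
        rw [this]; exact h2)
      rw [hd ⟨0, hs⟩ (by simpa using hj), hnext ⟨0, hs⟩ ⟨1, hj⟩ rfl] at r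
      have : W * (T.m (u ⟨1, hj⟩) - 2 * T.m (u ⟨0, hs⟩)) = 0 := by linarith
      rcases mul_eq_zero.mp this with h | h
      · omega
      · push_cast; linarith
    | succ i ih =>
      obtain ⟨ih1, ih2⟩ := ih
      refine ⟨fun hj => by have := ih2 hj; push_cast at this ⊢; linarith, fun hj => ?_⟩
      have hi : i < s := by omega
      have hi1 : i + 1 < s := by omega
      have hne1 : u ⟨i + 1, hi1⟩ ≠ u ⟨i, hi⟩ := fun e => by
        have := u.injective e; simp at this
      have hne2 : u ⟨i + 1, hi1⟩ ≠ u ⟨i + 2, hj⟩ := fun e => by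
        have := u.injective e; simp at this
      have hne3 : u ⟨i, hi⟩ ≠ u ⟨i + 2, hj⟩ := fun e => by
        have := u.injective e; simp at this
      have r := row_local2 T (u ⟨i + 1, hi1⟩) (u ⟨i, hi⟩) (u ⟨i + 2, hj⟩) hne1 hne2 hne3 (by
        intro i' h1 h2 h3
        apply hzero ⟨i + 1, hi1⟩ i' (by simpa using hj) h1
        intro j' hj'
        simp only at hj'
        rcases hj' with hj' | hj'
        · have : j' = ⟨i + 2, hj⟩ := Fin.ext (by simp; omega)
          rw [this]; exact h3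
        · have : j' = ⟨i, hi⟩ := Fin.ext (by simp; omega)
          rw [this]; exact h2)
      rw [hd ⟨i + 1, hi1⟩ (by simpa using hj), hnext ⟨i + 1, hi1⟩ ⟨i + 2, hj⟩ rfl,
        a_symm T (u ⟨i + 1, hi1⟩) (u ⟨i, hi⟩), hnext ⟨i, hi⟩ ⟨i + 1, hi1⟩ rfl, ih1 hi, ih2 hi1] at r
      have : W * (T.m (u ⟨i + 2, hj⟩) - (i + 3) * T.m (u ⟨0, hs⟩)) = 0 := by
        push_cast at r ⊢; linarith
      rcases mul_eq_zero.mp this with h | h
      · omega
      · push_cast; linarith
  intro j
  exact (key j.val).1 j.2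

end Groth.Agent.Lib.Helper29.G1
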