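import Groth.Agent.Lib.Helper29.G1Tools

set_option autoImplicit false

namespace Groth.Agent.Lib.Helper29.G1

open Models Finset Groth.Agent.Lib.Helper29.NumType

variable {n : ℕ} (T : NumericalType n)

/-- Cartan integers of the patterns "fork - chain - double end" (chain `0 … k-2`, vertex `k-1`
attached to `k-3`, first edge double) -/
def ℓbd (k : ℕ) (L0 : Bool) (j j' : Fin k) : ℤ :=
  if j.val = 0 ∧ j'.val = 1 then (if L0 then 2 else 1)
  else if j.val = 1 ∧ j'.val = 0 then (if L0 then 1 else 2)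
  else if (j'.val = j.val + 1 ∧ j'.val + 2 ≤ k) ∨ (j.val = j'.val + 1 ∧ j.val + 2 ≤ k) then 1
  else if (j.val + 3 = k ∧ j'.val + 1 = k) ∨ (j'.val + 3 = k ∧ j.val + 1 = k) then 1 else 0

/-- the null vector of these patterns -/
def xbd (k : ℕ) (L0 : Bool) (j : Fin k) : ℤ :=
  if j.val = 0 then (if L0 then 2 else 1) else if k ≤ j.val + 2 then 1 else 2

lemma ℓbd_nonneg (k : ℕ) (L0 : Bool) (j j' : Fin k) : 0 ≤ ℓbd k L0 j j' := by
  unfold ℓbd; split_ifs <;> norm_num

lemma xbd_pos (k : ℕ) (L0 : Bool) (j : Fin k) : 0 < xbd k L0 j := by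
  unfold xbd; split_ifs <;> norm_num

theorem bd_raw {k : ℕ} (hk : 4 ≤ k) (v : Fin k ↪ Fin n) (hM : ∀ i, T.IsMinusTwo i) (L0 : Bool)
    (hchain : ∀ j j' : Fin k, j'.val = j.val + 1 → j'.val + 2 ≤ k → T.a (v j) (v j') ≠ 0)
    (hbranch : ∀ j j' : Fin k, j.val + 3 = k → j'.val + 1 = k → T.a (v j) (v j') ≠ 0)
    (h0 : ∀ j j' : Fin k, j.val = 0 → j'.val = 1 →
      if L0 then 2 * T.w (v j) ≤ T.a (v j) (v j') else 2 * T.w (v j') ≤ T.a (v j) (v j')) :
    Function.Surjective v ∧
      (∀ j j', j ≠ j' → T.a (v j) (v j') = T.w (v j) * ℓbd k L0 j j') ∧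
      (∀ j j', xbd k L0 j * T.m (v j') = xbd k L0 j' * T.m (v j)) := by
  classical
  apply pattern_exact T v (fun j => hM _) (ℓbd k L0) (xbd k L0) (by omega) (xbd_pos k L0)
  · intro j j' hjj'
    have hne : v j ≠ v j' := fun e => hjj' (v.injective e)
    have hnn := a_nonneg_emb T v hjj'
    unfold ℓbd
    split_ifs with c1 c2 c3 c4 c5 c6
    · have := h0 j j' c1.1 c1.2; rw [if_pos c2] at this; linarith
    · have := (le_a_of_ne T hne (hchain j j' (by omega) (by omega))).1; linarith
    · have := (le_a_of_ne T hne (by rw [a_symm]; exact hchain j' j (by omega) (by omega))).1; linarith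
    · have := h0 j' j c3.2 c3.1; rw [if_neg c4, a_symm] at this; linarith
    · rcases c5 with c | c
      · have := (le_a_of_ne T hne (hchain j j' c.1 c.2)).1; linarith
      · have := (le_a_of_ne T hne (by rw [a_symm]; exact hchain j' j c.1 c.2)).1; linarith
    · rcases c6 with c | c
      · have := (le_a_of_ne T hne (hbranch j j' c.1 c.2)).1; linarith
      · have := (le_a_of_ne T hne (by rw [a_symm]; exact hbranch j' j c.1 c.2)).1; linarith
    · linarith
  · intro j
    have hj := j.2
    have hf : ∀ j', 0 ≤ (if j' = j then 0 else ℓbd k L0 j j' * xbd k L0 j') := by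
      intro j'
      split_ifs
      · exact le_refl 0
      · exact mul_nonneg (ℓbd_nonneg _ _ _ _) (xbd_pos _ _ _).le
    by_cases hj0 : j.val = 0
    · -- first vertex
      have h2 := one_le_sum _ hf ⟨1, by omega⟩
      rw [if_neg (by fin_ne)] at h2
      refine le_trans ?_ h2
      unfold ℓbd xbd
      simp only [hj0]
      cases L0 <;> simp <;> idx_close
    · by_cases hjl : k ≤ j.val + 2
      · -- the two leaves at the fork
        have h2 := one_le_sum _ hf ⟨k - 3, by omega⟩
        rw [if_neg (by fin_ne)] at h2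
        refine le_trans ?_ h2
        have hx : xbd k L0 j = 1 := by unfold xbd; rw [if_neg hj0, if_pos hjl]
        rw [hx]
        have t1 : ℓbd k L0 j ⟨k - 3, by omega⟩ * xbd k L0 ⟨k - 3, by omega⟩ = 2 := by
          unfold ℓbd xbd
          simp only
          cases L0 <;> simp <;> idx_close
        rw [t1]
        norm_num
      · have hx : xbd k L0 j = 2 := by unfold xbd; rw [if_neg hj0, if_neg hjl]
        rw [hx]
        by_cases hjb : j.val + 3 = k
        · -- the branch vertex
          have h2 := three_le_sum _ hf ⟨j.val - 1, by omega⟩ ⟨k - 2, by omega⟩ ⟨k - 1, by omega⟩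
            (by fin_ne) (by fin_ne) (by fin_ne)
          rw [if_neg (by fin_ne), if_neg (by fin_ne), if_neg (by fin_ne)] at h2
          refine le_trans ?_ h2
          have t1 : ℓbd k L0 j ⟨j.val - 1, by omega⟩ * xbd k L0 ⟨j.val - 1, by omega⟩ = 2 := by
            unfold ℓbd xbd
            simp only
            cases L0 <;> simp <;> idx_close
          have t2 : ℓbd k L0 j ⟨k - 2, by omega⟩ * xbd k L0 ⟨k - 2, by omega⟩ = 1 := by
            unfold ℓbd xbd
            simp only
            cases L0 <;> simp <;> idx_close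
          have t3 : ℓbd k L0 j ⟨k - 1, by omega⟩ * xbd k L0 ⟨k - 1, by omega⟩ = 1 := by
            unfold ℓbd xbd
            simp only
            cases L0 <;> simp <;> idx_close
          rw [t1, t2, t3]
          norm_num
        · have h2 := two_le_sum _ hf ⟨j.val - 1, by omega⟩ ⟨j.val + 1, by omega⟩ (by fin_ne)
          rw [if_neg (by fin_ne), if_neg (by fin_ne)] at h2
          refine le_trans ?_ h2
          have t1 : ℓbd k L0 j ⟨j.val - 1, by omega⟩ * xbd k L0 ⟨j.val - 1, by omega⟩ = 2 := by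
            unfold ℓbd xbd
            simp only
            cases L0 <;> simp <;> idx_close
          have t2 : ℓbd k L0 j ⟨j.val + 1, by omega⟩ * xbd k L0 ⟨j.val + 1, by omega⟩ = 2 := by
            unfold ℓbd xbd
            simp only
            cases L0 <;> simp <;> idx_close
          rw [t1, t2]
          norm_num


lemma bd_weights {k : ℕ} (hk : 4 ≤ k) (v : Fin k ↪ Fin n) (L0 : Bool)
    (hexact : ∀ j j', j ≠ j' → T.a (v j) (v j') = T.w (v j) * ℓbd k L0 j j') :
    (∀ j : Fin k, 1 ≤ j.val → T.w (v j) = T.w (v ⟨1, by omega⟩)) ∧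
      (if L0 then 2 * T.w (v ⟨0, by omega⟩) = T.w (v ⟨1, by omega⟩)
        else T.w (v ⟨0, by omega⟩) = 2 * T.w (v ⟨1, by omega⟩)) := by
  have hint' : ∀ (j : ℕ) (hj : j < k), 1 ≤ j → j + 2 ≤ k → T.w (v ⟨j, hj⟩) = T.w (v ⟨1, by omega⟩) := by
    intro j
    induction j with
    | zero => intro _ h; omega
    | succ i ih =>
      intro hj h1 h2
      by_cases hi : i = 0
      · subst hi; rfl
      · have e := ih (by omega) (by omega) (by omega)
        have hne : (⟨i, by omega⟩ : Fin k) ≠ ⟨i + 1, hj⟩ := by fin_ne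
        have e1 := hexact ⟨i, by omega⟩ ⟨i + 1, hj⟩ hne
        have e2 := hexact ⟨i + 1, hj⟩ ⟨i, by omega⟩ (Ne.symm hne)
        have l1 : ℓbd k L0 ⟨i, by omega⟩ ⟨i + 1, hj⟩ = 1 := by
          unfold ℓbd; simp; idx_close
        have l2 : ℓbd k L0 ⟨i + 1, hj⟩ ⟨i, by omega⟩ = 1 := by
          unfold ℓbd; simp; idx_close
        rw [l1, mul_one] at e1
        rw [l2, mul_one, a_symm] at e2
        rw [← e, ← e1, ← e2]
  refine ⟨?_, ?_⟩
  · intro j h1
    by_cases h2 : j.val + 2 ≤ k
    · exact hint' j.val j.2 h1 h2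
    · have hj : j = ⟨k - 1, by omega⟩ := Fin.ext (by have := j.2; simp; omega)
      have hne : (⟨k - 3, by omega⟩ : Fin k) ≠ ⟨k - 1, by omega⟩ := by fin_ne
      have e1 := hexact ⟨k - 3, by omega⟩ ⟨k - 1, by omega⟩ hne
      have e2 := hexact ⟨k - 1, by omega⟩ ⟨k - 3, by omega⟩ (Ne.symm hne)
      have l1 : ℓbd k L0 ⟨k - 3, by omega⟩ ⟨k - 1, by omega⟩ = 1 := by
        unfold ℓbd; simp; idx_close
      have l2 : ℓbd k L0 ⟨k - 1, by omega⟩ ⟨k - 3, by omega⟩ = 1 := by
        unfold ℓbd; simp; idx_close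
      rw [l1, mul_one] at e1
      rw [l2, mul_one, a_symm] at e2
      rw [hj, ← e2, e1]
      exact hint' (k - 3) (by omega) (by omega) (by omega)
  · have hne : (⟨0, by omega⟩ : Fin k) ≠ ⟨1, by omega⟩ := by fin_ne
    have e1 := hexact ⟨0, by omega⟩ ⟨1, by omega⟩ hne
    have e2 := hexact ⟨1, by omega⟩ ⟨0, by omega⟩ (Ne.symm hne)
    rw [a_symm] at e2
    rw [e1] at e2
    unfold ℓbd at e2
    cases L0 <;> simp at e2 ⊢ <;> linarith

theorem bd_H {k : ℕ} (hk : 4 ≤ k) (v : Fin k ↪ Fin n) (hM : ∀ i, T.IsMinusTwo i)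
    (hchain : ∀ j j' : Fin k, j'.val = j.val + 1 → j'.val + 2 ≤ k → T.a (v j) (v j') ≠ 0)
    (hbranch : ∀ j j' : Fin k, j.val + 3 = k → j'.val + 1 = k → T.a (v j) (v j') ≠ 0)
    (h0 : ∀ j j' : Fin k, j.val = 0 → j'.val = 1 → 2 * T.w (v j') ≤ T.a (v j) (v j')) :
    ∃ σ m w, BDHP T σ m w := by
  obtain ⟨hsurj, hexact, hprop⟩ := bd_raw T hk v hM false hchain hbranch
    (fun j j' a b => by simpa using h0 j j' a b)
  obtain ⟨hw, hw0⟩ := bd_weights T hk v false hexact
  obtain rfl := card_eq_of_surj v hsurj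
  simp only [Bool.false_eq_true, if_false] at hw0
  have x0 : xbd k false ⟨0, by omega⟩ = 1 := by unfold xbd; simp
  refine ⟨permOfSurj v hsurj, T.m (v ⟨0, by omega⟩), T.w (v ⟨1, by omega⟩), ?_, ?_, ?_, ?_, ?_, ?_, ?_, ?_, ?_⟩
  · intro i hi
    simp only [permOfSurj_apply]
    have : i = ⟨0, by omega⟩ := Fin.ext hi
    rw [this]
  · intro i hi
    simp only [permOfSurj_apply]
    have := hprop i ⟨0, by omega⟩
    have x1 : xbd k false i = 2 := by unfold xbd; simp; idx_close
    rw [x1, x0] at this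
    linarith
  · intro i hi
    simp only [permOfSurj_apply]
    have := hprop i ⟨0, by omega⟩
    have x1 : xbd k false i = 1 := by unfold xbd; simp; idx_close
    rw [x1, x0] at this
    linarith
  · intro i hi
    simp only [permOfSurj_apply]
    have : i = ⟨0, by omega⟩ := Fin.ext hi
    rw [this, hw0]
  · intro i hi
    simp only [permOfSurj_apply]
    exact hw i (by omega)
  · intro i j hij hj
    simp only [permOfSurj_apply]
    rw [hexact i j (by fin_ne)]
    have : i = ⟨0, by omega⟩ := Fin.ext hj.1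
    have l : ℓbd k false i j = 1 := by unfold ℓbd; simp; idx_close
    rw [l, this, hw0]; ring
  · intro i j hij hj
    simp only [permOfSurj_apply]
    rw [hexact i j (by fin_ne)]
    have l : ℓbd k false i j = 1 := by unfold ℓbd; simp; idx_close
    rw [l, hw i (by omega)]; ring
  · intro i j hij hj
    simp only [permOfSurj_apply]
    rw [hexact i j (by fin_ne)]
    have l : ℓbd k false i j = 1 := by unfold ℓbd; simp; idx_close
    rw [l, hw i (by omega)]; ring
  · intro i j hij c1 c2 c3
    simp only [permOfSurj_apply]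
    rw [hexact i j (by fin_ne)]
    have l : ℓbd k false i j = 0 := by unfold ℓbd; simp; idx_close
    rw [l, mul_zero]

theorem bd_L {k : ℕ} (hk : 4 ≤ k) (v : Fin k ↪ Fin n) (hM : ∀ i, T.IsMinusTwo i)
    (hchain : ∀ j j' : Fin k, j'.val = j.val + 1 → j'.val + 2 ≤ k → T.a (v j) (v j') ≠ 0)
    (hbranch : ∀ j j' : Fin k, j.val + 3 = k → j'.val + 1 = k → T.a (v j) (v j') ≠ 0)
    (h0 : ∀ j j' : Fin k, j.val = 0 → j'.val = 1 → 2 * T.w (v j) ≤ T.a (v j) (v j')) :
    ∃ σ m w, BDLP T σ m w := by
  obtain ⟨hsurj, hexact, hprop⟩ := bd_raw T hk v hM true hchain hbranch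
    (fun j j' a b => by simpa using h0 j j' a b)
  obtain ⟨hw, hw0⟩ := bd_weights T hk v true hexact
  obtain rfl := card_eq_of_surj v hsurj
  simp only [if_true] at hw0
  have xl : xbd k true ⟨k - 1, by omega⟩ = 1 := by unfold xbd; simp; idx_close
  refine ⟨permOfSurj v hsurj, T.m (v ⟨k - 1, by omega⟩), T.w (v ⟨0, by omega⟩), ?_, ?_, ?_, ?_, ?_, ?_, ?_⟩
  · intro i hi
    simp only [permOfSurj_apply]
    have := hprop i ⟨k - 1, by omega⟩
    have x1 : xbd k true i = 2 := by unfold xbd; simp; idx_close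
    rw [x1, xl] at this
    linarith
  · intro i hi
    simp only [permOfSurj_apply]
    have := hprop i ⟨k - 1, by omega⟩
    have x1 : xbd k true i = 1 := by unfold xbd; simp; idx_close
    rw [x1, xl] at this
    linarith
  · intro i hi
    simp only [permOfSurj_apply]
    have : i = ⟨0, by omega⟩ := Fin.ext hi
    rw [this]
  · intro i hi
    simp only [permOfSurj_apply]
    rw [hw i (by omega), ← hw0]
  · intro i j hij hj
    simp only [permOfSurj_apply]
    rw [hexact i j (by fin_ne)]
    by_cases hi : i.val = 0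
    · have : i = ⟨0, by omega⟩ := Fin.ext hi
      have l : ℓbd k true i j = 2 := by unfold ℓbd; simp; idx_close
      rw [l, this]; ring
    · have l : ℓbd k true i j = 1 := by unfold ℓbd; simp; idx_close
      rw [l, hw i (by omega), ← hw0]; ring
  · intro i j hij hj
    simp only [permOfSurj_apply]
    rw [hexact i j (by fin_ne)]
    have l : ℓbd k true i j = 1 := by unfold ℓbd; simp; idx_close
    rw [l, hw i (by omega), ← hw0]; ring
  · intro i j hij c1 c2
    simp only [permOfSurj_apply]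
    rw [hexact i j (by fin_ne)]
    have l : ℓbd k true i j = 0 := by unfold ℓbd; simp; idx_close
    rw [l, mul_zero]

end Groth.Agent.Lib.Helper29.G1
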