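import Groth.Agent.Lib.Helper29.NumTypeChain

/-!
# Numerical types all of whose indices are (-2)-indices: the kernel lemma and exact patterns
-/

set_option autoImplicit false

namespace Groth.Agent.Lib.Helper29.G1

open Models Finset Groth.Agent.Lib.Helper29.NumType

variable {n : ℕ} (T : NumericalType n)

/-- the `i`-th entry of `a x` -/
def Row (x : Fin n → ℤ) (i : Fin n) : ℤ := ∑ j, T.a i j * x j

lemma Q_eq_sum_row (x : Fin n → ℤ) : Q T x = ∑ i, x i * Row T x i := by
  unfold Q Row
  refine Finset.sum_congr rfl fun i _ => ?_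
  rw [Finset.mul_sum]
  exact Finset.sum_congr rfl fun j _ => by ring

lemma Q_eq_Qv (x : Fin n → ℤ) : Q T x = Qv T (Function.Embedding.refl _) x := rfl

lemma Row_eq_Lv (x : Fin n → ℤ) (i : Fin n) : Row T x i = Lv T (Function.Embedding.refl _) i x := rfl

lemma Q_smul (s : ℤ) (x : Fin n → ℤ) : Q T (s • x) = s ^ 2 * Q T x := by
  unfold Q
  simp only [Pi.smul_apply, smul_eq_mul, Finset.mul_sum]
  exact Finset.sum_congr rfl fun j _ => Finset.sum_congr rfl fun j' _ => by ring

lemma Row_smul (s : ℤ) (x : Fin n → ℤ) (i : Fin n) : Row T (s • x) i = s * Row T x i := by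
  unfold Row
  simp only [Pi.smul_apply, smul_eq_mul, Finset.mul_sum]
  exact Finset.sum_congr rfl fun j _ => by ring

lemma Row_sub (x y : Fin n → ℤ) (i : Fin n) : Row T (x - y) i = Row T x i - Row T y i := by
  unfold Row
  rw [← Finset.sum_sub_distrib]
  exact Finset.sum_congr rfl fun j _ => by simp only [Pi.sub_apply]; ring

lemma Row_m (i : Fin n) : Row T T.m i = 0 := by
  have h := congrFun T.mulVec_m i
  simpa [Row, Matrix.mulVec, dotProduct] using h

/-- **Kernel lemma.** A vector on which the form is non-negative lies in the kernel. -/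
theorem rows_zero_of_Q_nonneg (x : Fin n → ℤ) (h : 0 ≤ Q T x) (i : Fin n) : Row T x i = 0 := by
  classical
  have hQ0 : Q T x = 0 := le_antisymm (Q_nonpos T x) h
  have key : ∀ s : ℤ, 2 * s * Row T x i + T.a i i ≤ 0 := by
    intro s
    have h1 := Q_nonpos T (s • x + (1 : ℤ) • (Pi.single i (1 : ℤ) : Fin n → ℤ))
    rw [Q_eq_Qv, Qv_add_single, ← Q_eq_Qv, ← Row_eq_Lv, Q_smul, hQ0, Row_smul] at h1
    simp only [Function.Embedding.refl_apply] at h1
    linarith
  by_contra hne
  rcases lt_or_gt_of_ne hne with hlt | hgt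
  · have := key (T.a i i - 1)
    have h2 : Row T x i ≤ -1 := by omega
    rcases le_or_gt (T.a i i) 0 with h3 | h3
    · nlinarith
    · have := key 0
      linarith
  · have := key (1 - T.a i i)
    have h2 : 1 ≤ Row T x i := by omega
    rcases le_or_gt (T.a i i) 0 with h3 | h3
    · nlinarith
    · have := key 0
      linarith

/-- a vector in the kernel is proportional to `m` -/
theorem prop_of_rows_zero (x : Fin n → ℤ) (h : ∀ i, Row T x i = 0) (i j : Fin n) :
    x i * T.m j = x j * T.m i := by
  set z : Fin n → ℤ := T.m j • x - x j • T.m with hz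
  have hrow : ∀ i', Row T z i' = 0 := by
    intro i'
    rw [hz, Row_sub, Row_smul, Row_smul, h i', Row_m]
    ring
  have hQ : Q T z = 0 := by
    rw [Q_eq_sum_row]
    exact Finset.sum_eq_zero fun i' _ => by rw [hrow i']; ring
  have hzj : z j = 0 := by
    simp only [hz, Pi.sub_apply, Pi.smul_apply, smul_eq_mul]
    ring
  have hz0 : z = 0 := by
    by_contra hne
    have := Q_neg T z hne ⟨j, hzj⟩
    omega
  have := congrFun hz0 i
  simp only [hz, Pi.sub_apply, Pi.smul_apply, smul_eq_mul, Pi.zero_apply] at this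
  linarith

lemma Q_extendZ {k : ℕ} (v : Fin k ↪ Fin n) (c : Fin k → ℤ) : Q T (extendZ v c) = Qv T v c := by
  rw [Q_eq_Qv, Qv_extend]
  rfl

lemma Row_extendZ {k : ℕ} (v : Fin k ↪ Fin n) (c : Fin k → ℤ) (i : Fin n) :
    Row T (extendZ v c) i = ∑ j, T.a i (v j) * c j := by
  classical
  unfold Row extendZ
  simp only [Finset.mul_sum]
  rw [Finset.sum_comm]
  refine Finset.sum_congr rfl fun j _ => ?_
  simp [mul_ite]

lemma Qv_eq_sum_Lv {k : ℕ} (v : Fin k ↪ Fin n) (c : Fin k → ℤ) :
    Qv T v c = ∑ j, c j * Lv T v j c := by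
  unfold Qv Lv
  refine Finset.sum_congr rfl fun i _ => ?_
  rw [Finset.mul_sum]
  exact Finset.sum_congr rfl fun j _ => by ring

/-- **Exactness of a superharmonic pattern.**  If the configuration `v` of `(-2)`-indices carries
lower bounds `ℓ` for the Cartan integers and a positive vector `x` with `Σ_{j' ≠ j} ℓ j j' x j' ≥ 2 x j`
for all `j`, then `v` is surjective, the bounds are exact and `m` is proportional to `x`. -/
theorem pattern_exact {k : ℕ} (v : Fin k ↪ Fin n) (hv : ∀ j, T.IsMinusTwo (v j))
    (ℓ : Fin k → Fin k → ℤ) (x : Fin k → ℤ) (hk : 0 < k) (hx : ∀ j, 0 < x j)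
    (hℓ : ∀ j j', j ≠ j' → T.w (v j) * ℓ j j' ≤ T.a (v j) (v j'))
    (hsup : ∀ j, 2 * x j ≤ ∑ j', if j' = j then 0 else ℓ j j' * x j') :
    Function.Surjective v ∧ (∀ j j', j ≠ j' → T.a (v j) (v j') = T.w (v j) * ℓ j j') ∧
      (∀ j j', x j * T.m (v j') = x j' * T.m (v j)) := by
  classical
  -- the linear forms
  have hLv : ∀ j, Lv T v j x = T.w (v j) * (-2 * x j + ∑ j', if j' = j then 0 else ℓ j j' * x j') +
      ∑ j', if j' = j then 0 else (T.a (v j) (v j') - T.w (v j) * ℓ j j') * x j' := by
    intro j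
    unfold Lv
    rw [mul_add, Finset.mul_sum, add_assoc, ← Finset.sum_add_distrib]
    rw [← Finset.add_sum_erase _ _ (Finset.mem_univ j)]
    have e2 := Finset.add_sum_erase Finset.univ (fun j' => T.w (v j) * (if j' = j then 0 else ℓ j j' * x j') +
      (if j' = j then 0 else (T.a (v j) (v j') - T.w (v j) * ℓ j j') * x j')) (Finset.mem_univ j)
    rw [← e2]
    simp only [if_true, mul_zero, add_zero]
    rw [(hv j).2]
    have e3 : ∑ j' ∈ Finset.univ.erase j, T.a (v j) (v j') * x j' =
        ∑ j' ∈ Finset.univ.erase j, (T.w (v j) * (if j' = j then 0 else ℓ j j' * x j') +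
          (if j' = j then 0 else (T.a (v j) (v j') - T.w (v j) * ℓ j j') * x j')) := by
      refine Finset.sum_congr rfl fun j' hj' => ?_
      have hne : j' ≠ j := Finset.ne_of_mem_erase hj'
      rw [if_neg hne, if_neg hne]
      ring
    rw [e3]
    ring
  have hrest : ∀ j, 0 ≤ ∑ j', if j' = j then 0 else (T.a (v j) (v j') - T.w (v j) * ℓ j j') * x j' := by
    intro j
    refine Finset.sum_nonneg fun j' _ => ?_
    split_ifs with h
    · exact le_refl 0
    · have := hℓ j j' (Ne.symm h)
      have := hx j'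
      apply mul_nonneg <;> omega
  have hLv0 : ∀ j, 0 ≤ Lv T v j x := by
    intro j
    rw [hLv j]
    have h1 := hsup j
    have h2 := T.w_pos (v j)
    have h3 := hrest j
    have : 0 ≤ T.w (v j) * (-2 * x j + ∑ j', if j' = j then 0 else ℓ j j' * x j') :=
      mul_nonneg h2.le (by linarith)
    linarith
  have hQv : 0 ≤ Qv T v x := by
    rw [Qv_eq_sum_Lv]
    exact Finset.sum_nonneg fun j _ => mul_nonneg (hx j).le (hLv0 j)
  have hrows := rows_zero_of_Q_nonneg T (extendZ v x) (by rw [Q_extendZ]; exact hQv)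
  have hprop := prop_of_rows_zero T _ hrows
  have hsurj : Function.Surjective v := by
    intro i
    by_contra hne
    push Not at hne
    have h0 : extendZ v x i = 0 := extendZ_apply_of_forall_ne v x i hne
    have := hprop i (v ⟨0, hk⟩)
    rw [h0, extendZ_apply_emb] at this
    have h1 := hx ⟨0, hk⟩
    have h2 := T.m_pos i
    have : x ⟨0, hk⟩ * T.m i = 0 := by linarith
    rcases mul_eq_zero.mp this with h | h <;> omega
  refine ⟨hsurj, ?_, ?_⟩
  · intro j j' hjj'
    have h1 := hrows (v j)
    rw [Row_extendZ] at h1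
    have h2 : Lv T v j x = 0 := h1
    rw [hLv j] at h2
    have h3 := hsup j
    have h4 := T.w_pos (v j)
    have h5 := hrest j
    have h6 : 0 ≤ T.w (v j) * (-2 * x j + ∑ j', if j' = j then 0 else ℓ j j' * x j') :=
      mul_nonneg h4.le (by linarith)
    have h7 : ∑ j', (if j' = j then 0 else (T.a (v j) (v j') - T.w (v j) * ℓ j j') * x j') = 0 := by
      linarith
    have hterm : ∀ j' ∈ Finset.univ, 0 ≤ (if j' = j then 0 else (T.a (v j) (v j') - T.w (v j) * ℓ j j') * x j') := by
      intro j' _
      split_ifs with h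
      · exact le_refl 0
      · have := hℓ j j' (Ne.symm h)
        have := hx j'
        apply mul_nonneg <;> omega
    have h8 := (Finset.sum_eq_zero_iff_of_nonneg hterm).mp h7 j' (Finset.mem_univ _)
    rw [if_neg (Ne.symm hjj')] at h8
    rcases mul_eq_zero.mp h8 with h | h
    · linarith
    · have := hx j'; omega
  · intro j j'
    have := hprop (v j) (v j')
    rw [extendZ_apply_emb, extendZ_apply_emb] at this
    exact this

end Groth.Agent.Lib.Helper29.G1
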