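import Groth.Agent.Lib.Helper29.G1Tools

set_option autoImplicit false

namespace Groth.Agent.Lib.Helper29.G1

open Models Finset Groth.Agent.Lib.Helper29.NumType

variable {n : ℕ} (T : NumericalType n)

/-- Cartan integers of the chain patterns with two double ends -/
def ℓcc (k : ℕ) (L0 L1 : Bool) (j j' : Fin k) : ℤ :=
  if j.val = 0 ∧ j'.val = 1 then (if L0 then 2 else 1)
  else if j.val = 1 ∧ j'.val = 0 then (if L0 then 1 else 2)
  else if j.val + 1 = k ∧ j'.val + 2 = k then (if L1 then 2 else 1)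
  else if j.val + 2 = k ∧ j'.val + 1 = k then (if L1 then 1 else 2)
  else if j'.val = j.val + 1 ∨ j.val = j'.val + 1 then 1 else 0

/-- the null vector of the chain patterns with two double ends -/
def xcc (k : ℕ) (L0 L1 : Bool) (j : Fin k) : ℤ :=
  if j.val = 0 then (if L0 then 2 else 1) else if j.val + 1 = k then (if L1 then 2 else 1) else 2

lemma ℓcc_nonneg (k : ℕ) (L0 L1 : Bool) (j j' : Fin k) : 0 ≤ ℓcc k L0 L1 j j' := by
  unfold ℓcc; split_ifs <;> norm_num

lemma xcc_pos (k : ℕ) (L0 L1 : Bool) (j : Fin k) : 0 < xcc k L0 L1 j := by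
  unfold xcc; split_ifs <;> norm_num

theorem cc_raw {k : ℕ} (hk : 3 ≤ k) (v : Fin k ↪ Fin n) (hM : ∀ i, T.IsMinusTwo i) (L0 L1 : Bool)
    (hchain : ∀ j j' : Fin k, j'.val = j.val + 1 → T.a (v j) (v j') ≠ 0)
    (h0 : ∀ j j' : Fin k, j.val = 0 → j'.val = 1 →
      if L0 then 2 * T.w (v j) ≤ T.a (v j) (v j') else 2 * T.w (v j') ≤ T.a (v j) (v j'))
    (h1 : ∀ j j' : Fin k, j.val + 1 = k → j'.val + 2 = k →
      if L1 then 2 * T.w (v j) ≤ T.a (v j) (v j') else 2 * T.w (v j') ≤ T.a (v j) (v j')) :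
    Function.Surjective v ∧
      (∀ j j', j ≠ j' → T.a (v j) (v j') = T.w (v j) * ℓcc k L0 L1 j j') ∧
      (∀ j j', xcc k L0 L1 j * T.m (v j') = xcc k L0 L1 j' * T.m (v j)) := by
  classical
  apply pattern_exact T v (fun j => hM _) (ℓcc k L0 L1) (xcc k L0 L1) (by omega) (xcc_pos k L0 L1)
  · intro j j' hjj'
    have hne : v j ≠ v j' := fun e => hjj' (v.injective e)
    have hnn := a_nonneg_emb T v hjj'
    unfold ℓcc
    split_ifs with c1 c2 c3 c4 c5 c6 c7 c8 c9
    · have := h0 j j' c1.1 c1.2; rw [if_pos c2] at this; linarith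
    · exact (by
        have := (le_a_of_ne T hne (hchain j j' (by omega))).1; linarith)
    · exact (by
        have := (le_a_of_ne T hne (by rw [a_symm]; exact hchain j' j (by omega))).1; linarith)
    · have := h0 j' j c3.2 c3.1; rw [if_neg c4, a_symm] at this; linarith
    · have := h1 j j' c5.1 c5.2; rw [if_pos c6] at this; linarith
    · exact (by
        have := (le_a_of_ne T hne (by rw [a_symm]; exact hchain j' j (by omega))).1; linarith)
    · exact (by
        have := (le_a_of_ne T hne (hchain j j' (by omega))).1; linarith)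
    · have := h1 j' j c7.2 c7.1; rw [if_neg c8, a_symm] at this; linarith
    · rcases c9 with c | c
      · have := (le_a_of_ne T hne (hchain j j' c)).1; linarith
      · have := (le_a_of_ne T hne (by rw [a_symm]; exact hchain j' j c)).1; linarith
    · linarith
  · intro j
    have hj := j.2
    have hf : ∀ j', 0 ≤ (if j' = j then 0 else ℓcc k L0 L1 j j' * xcc k L0 L1 j') := by
      intro j'
      split_ifs
      · exact le_refl 0
      · exact mul_nonneg (ℓcc_nonneg _ _ _ _ _) (xcc_pos _ _ _ _).le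
    by_cases hj0 : j.val = 0
    · have h2 := one_le_sum _ hf ⟨1, by omega⟩
      have hne : (⟨1, by omega⟩ : Fin k) ≠ j := by fin_ne
      rw [if_neg hne] at h2
      refine le_trans ?_ h2
      unfold ℓcc xcc
      simp only [hj0]
      cases L0 <;> simp <;> idx_close
    · by_cases hjl : j.val + 1 = k
      · have h2 := one_le_sum _ hf ⟨k - 2, by omega⟩
        have hne : (⟨k - 2, by omega⟩ : Fin k) ≠ j := by fin_ne
        rw [if_neg hne] at h2
        refine le_trans ?_ h2
        unfold ℓcc xcc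
        have e1 : k - 2 + 2 = k := by omega
        have e2 : ¬ (k - 2 = 0) := by omega
        have e3 : ¬ (k - 2 + 1 = k) := by omega
        simp only [hj0, hjl, e1, e2, e3]
        cases L1 <;> simp <;> idx_close
      · have h2 := two_le_sum _ hf ⟨j.val - 1, by omega⟩ ⟨j.val + 1, by omega⟩ (by fin_ne)
        have hne1 : (⟨j.val - 1, by omega⟩ : Fin k) ≠ j := by fin_ne
        have hne2 : (⟨j.val + 1, by omega⟩ : Fin k) ≠ j := by fin_ne
        rw [if_neg hne1, if_neg hne2] at h2
        refine le_trans ?_ h2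
        have hx : xcc k L0 L1 j = 2 := by unfold xcc; rw [if_neg hj0, if_neg hjl]
        rw [hx]
        have t1 : ℓcc k L0 L1 j ⟨j.val - 1, by omega⟩ * xcc k L0 L1 ⟨j.val - 1, by omega⟩ = 2 := by
          unfold ℓcc xcc
          simp only
          cases L0 <;> cases L1 <;> simp <;> idx_close
        have t2 : ℓcc k L0 L1 j ⟨j.val + 1, by omega⟩ * xcc k L0 L1 ⟨j.val + 1, by omega⟩ = 2 := by
          unfold ℓcc xcc
          simp only
          cases L0 <;> cases L1 <;> simp <;> idx_close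
        rw [t1, t2]
        norm_num


/-- weights and end relations read off from the exact chain pattern -/
lemma cc_weights {k : ℕ} (hk : 3 ≤ k) (v : Fin k ↪ Fin n) (L0 L1 : Bool)
    (hexact : ∀ j j', j ≠ j' → T.a (v j) (v j') = T.w (v j) * ℓcc k L0 L1 j j') :
    (∀ j : Fin k, 1 ≤ j.val → j.val + 2 ≤ k → T.w (v j) = T.w (v ⟨1, by omega⟩)) ∧
      (if L0 then 2 * T.w (v ⟨0, by omega⟩) = T.w (v ⟨1, by omega⟩)
        else T.w (v ⟨0, by omega⟩) = 2 * T.w (v ⟨1, by omega⟩)) ∧
      (if L1 then 2 * T.w (v ⟨k - 1, by omega⟩) = T.w (v ⟨1, by omega⟩)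
        else T.w (v ⟨k - 1, by omega⟩) = 2 * T.w (v ⟨1, by omega⟩)) := by
  have hint' : ∀ (j : ℕ) (hj : j < k), 1 ≤ j → j + 2 ≤ k → T.w (v ⟨j, hj⟩) = T.w (v ⟨1, by omega⟩) := by
    intro j
    induction j with
    | zero => intro _ h; omega
    | succ i ih =>
      intro hj h1 h2
      by_cases hi : i = 0
      · subst hi; rfl
      · have e := ih (by omega) (by omega) (by omega)
        have hne : (⟨i, by omega⟩ : Fin k) ≠ ⟨i + 1, hj⟩ := by fin_ne
        have e1 := hexact ⟨i, by omega⟩ ⟨i + 1, hj⟩ hne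
        have e2 := hexact ⟨i + 1, hj⟩ ⟨i, by omega⟩ (Ne.symm hne)
        have l1 : ℓcc k L0 L1 ⟨i, by omega⟩ ⟨i + 1, hj⟩ = 1 := by
          unfold ℓcc; simp; idx_close
        have l2 : ℓcc k L0 L1 ⟨i + 1, hj⟩ ⟨i, by omega⟩ = 1 := by
          unfold ℓcc; simp; idx_close
        rw [l1, mul_one] at e1
        rw [l2, mul_one, a_symm] at e2
        rw [← e, ← e1, ← e2]
  have hint : ∀ j : Fin k, 1 ≤ j.val → j.val + 2 ≤ k → T.w (v j) = T.w (v ⟨1, by omega⟩) :=
    fun j h1 h2 => hint' j.val j.2 h1 h2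
  refine ⟨hint, ?_, ?_⟩
  · have hne : (⟨0, by omega⟩ : Fin k) ≠ ⟨1, by omega⟩ := by fin_ne
    have e1 := hexact ⟨0, by omega⟩ ⟨1, by omega⟩ hne
    have e2 := hexact ⟨1, by omega⟩ ⟨0, by omega⟩ (Ne.symm hne)
    rw [a_symm] at e2
    rw [e1] at e2
    unfold ℓcc at e2
    cases L0 <;> simp at e2 ⊢ <;> linarith
  · have hne : (⟨k - 1, by omega⟩ : Fin k) ≠ ⟨k - 2, by omega⟩ := by fin_ne
    have e1 := hexact ⟨k - 1, by omega⟩ ⟨k - 2, by omega⟩ hne
    have e2 := hexact ⟨k - 2, by omega⟩ ⟨k - 1, by omega⟩ (Ne.symm hne)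
    rw [a_symm] at e2
    rw [e1] at e2
    have hw : T.w (v ⟨k - 2, by omega⟩) = T.w (v ⟨1, by omega⟩) :=
      hint ⟨k - 2, by omega⟩ (by simp; omega) (by simp; omega)
    rw [hw] at e2
    unfold ℓcc at e2
    have c1 : ¬ (k - 1 = 0) := by omega
    have c2 : ¬ (k - 2 = 0 ∧ k - 1 = 1) := by omega
    have c3 : ¬ (k - 1 = 1 ∧ k - 2 = 0) := by omega
    have c4 : k - 1 + 1 = k ∧ k - 2 + 2 = k := by omega
    have c5 : ¬ (k - 2 = 1 ∧ k - 1 = 0) := by omega
    have c6 : ¬ (k - 2 + 1 = k ∧ k - 1 + 2 = k) := by omega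
    have c7 : k - 2 + 2 = k ∧ k - 1 + 1 = k := by omega
    simp only [c1, c2, c3, c4, c5, c6, c7, false_and, and_self, if_true, if_false] at e2
    cases L1 <;> simp at e2 ⊢ <;> linarith


theorem cc_LL {k : ℕ} (hk : 3 ≤ k) (v : Fin k ↪ Fin n) (hM : ∀ i, T.IsMinusTwo i)
    (hchain : ∀ j j' : Fin k, j'.val = j.val + 1 → T.a (v j) (v j') ≠ 0)
    (h0 : ∀ j j' : Fin k, j.val = 0 → j'.val = 1 → 2 * T.w (v j) ≤ T.a (v j) (v j'))
    (h1 : ∀ j j' : Fin k, j.val + 1 = k → j'.val + 2 = k → 2 * T.w (v j) ≤ T.a (v j) (v j')) :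
    ∃ σ m w, CCLLP T σ m w := by
  obtain ⟨hsurj, hexact, hprop⟩ := cc_raw T hk v hM true true hchain
    (fun j j' a b => by simpa using h0 j j' a b) (fun j j' a b => by simpa using h1 j j' a b)
  obtain ⟨hint, hw0, hw1⟩ := cc_weights T hk v true true hexact
  obtain rfl := card_eq_of_surj v hsurj
  simp only [if_true] at hw0 hw1
  have hx : ∀ j, xcc k true true j = 2 := by
    intro j; unfold xcc; simp
  refine ⟨permOfSurj v hsurj, T.m (v ⟨0, by omega⟩), T.w (v ⟨0, by omega⟩), ?_, ?_, ?_, ?_, ?_, ?_⟩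
  · intro i
    have := hprop i ⟨0, by omega⟩
    rw [hx, hx] at this
    simp only [permOfSurj_apply]
    linarith
  · intro i hi
    simp only [permOfSurj_apply]
    have : i = ⟨0, by omega⟩ := Fin.ext hi
    rw [this]
  · intro i hi
    simp only [permOfSurj_apply]
    rw [hint i (by omega) (by omega), ← hw0]
  · intro i hi
    simp only [permOfSurj_apply]
    have : i = ⟨k - 1, by omega⟩ := Fin.ext (by simp; omega)
    rw [this]
    linarith
  · intro i j hij hj
    simp only [permOfSurj_apply]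
    rw [hexact i j (by fin_ne)]
    by_cases hi : i.val = 0
    · have : i = ⟨0, by omega⟩ := Fin.ext hi
      have l : ℓcc k true true i j = 2 := by unfold ℓcc; simp; idx_close
      rw [l, this]; ring
    · have l : ℓcc k true true i j = 1 := by unfold ℓcc; simp; idx_close
      rw [l, hint i (by omega) (by omega), ← hw0]; ring
  · intro i j hij hj
    simp only [permOfSurj_apply]
    rw [hexact i j (by fin_ne)]
    have l : ℓcc k true true i j = 0 := by unfold ℓcc; simp; idx_close
    rw [l, mul_zero]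

theorem cc_HH {k : ℕ} (hk : 3 ≤ k) (v : Fin k ↪ Fin n) (hM : ∀ i, T.IsMinusTwo i)
    (hchain : ∀ j j' : Fin k, j'.val = j.val + 1 → T.a (v j) (v j') ≠ 0)
    (h0 : ∀ j j' : Fin k, j.val = 0 → j'.val = 1 → 2 * T.w (v j') ≤ T.a (v j) (v j'))
    (h1 : ∀ j j' : Fin k, j.val + 1 = k → j'.val + 2 = k → 2 * T.w (v j') ≤ T.a (v j) (v j')) :
    ∃ σ m w, CCHHP T σ m w := by
  obtain ⟨hsurj, hexact, hprop⟩ := cc_raw T hk v hM false false hchain
    (fun j j' a b => by simpa using h0 j j' a b) (fun j j' a b => by simpa using h1 j j' a b)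
  obtain ⟨hint, hw0, hw1⟩ := cc_weights T hk v false false hexact
  obtain rfl := card_eq_of_surj v hsurj
  simp only [Bool.false_eq_true, if_false] at hw0 hw1
  refine ⟨permOfSurj v hsurj, T.m (v ⟨0, by omega⟩), T.w (v ⟨1, by omega⟩), ?_, ?_, ?_, ?_, ?_, ?_, ?_, ?_, ?_, ?_⟩
  · intro i hi
    simp only [permOfSurj_apply]
    have : i = ⟨0, by omega⟩ := Fin.ext hi
    rw [this]
  · intro i hi
    simp only [permOfSurj_apply]
    have := hprop i ⟨0, by omega⟩
    have x1 : xcc k false false i = 2 := by unfold xcc; simp; idx_close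
    have x2 : xcc k false false ⟨0, by omega⟩ = 1 := by unfold xcc; simp
    rw [x1, x2] at this
    linarith
  · intro i hi
    simp only [permOfSurj_apply]
    have := hprop i ⟨0, by omega⟩
    have x1 : xcc k false false i = 1 := by unfold xcc; simp; idx_close
    have x2 : xcc k false false ⟨0, by omega⟩ = 1 := by unfold xcc; simp
    rw [x1, x2] at this
    linarith
  · intro i hi
    simp only [permOfSurj_apply]
    have : i = ⟨0, by omega⟩ := Fin.ext hi
    rw [this, hw0]
  · intro i hi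
    simp only [permOfSurj_apply]
    exact hint i (by omega) (by omega)
  · intro i hi
    simp only [permOfSurj_apply]
    have : i = ⟨k - 1, by omega⟩ := Fin.ext (by simp; omega)
    rw [this, hw1]
  · intro i j hij hj
    simp only [permOfSurj_apply]
    rw [hexact i j (by fin_ne)]
    have : i = ⟨0, by omega⟩ := Fin.ext hj.1
    have l : ℓcc k false false i j = 1 := by unfold ℓcc; simp; idx_close
    rw [l, this, hw0]; ring
  · intro i j hij hj
    simp only [permOfSurj_apply]
    rw [hexact i j (by fin_ne)]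
    have l : ℓcc k false false i j = 1 := by unfold ℓcc; simp; idx_close
    rw [l, hint i (by omega) (by omega)]; ring
  · intro i j hij hj
    simp only [permOfSurj_apply]
    rw [hexact i j (by fin_ne)]
    have l : ℓcc k false false i j = 2 := by unfold ℓcc; simp; idx_close
    rw [l, hint i (by omega) (by omega)]; ring
  · intro i j hij c1 c2 c3
    simp only [permOfSurj_apply]
    rw [hexact i j (by fin_ne)]
    have l : ℓcc k false false i j = 0 := by unfold ℓcc; simp; idx_close
    rw [l, mul_zero]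

theorem cc_LH {k : ℕ} (hk : 3 ≤ k) (v : Fin k ↪ Fin n) (hM : ∀ i, T.IsMinusTwo i)
    (hchain : ∀ j j' : Fin k, j'.val = j.val + 1 → T.a (v j) (v j') ≠ 0)
    (h0 : ∀ j j' : Fin k, j.val = 0 → j'.val = 1 → 2 * T.w (v j) ≤ T.a (v j) (v j'))
    (h1 : ∀ j j' : Fin k, j.val + 1 = k → j'.val + 2 = k → 2 * T.w (v j') ≤ T.a (v j) (v j')) :
    ∃ σ m w, CCLHP T σ m w := by
  obtain ⟨hsurj, hexact, hprop⟩ := cc_raw T hk v hM true false hchain
    (fun j j' a b => by simpa using h0 j j' a b) (fun j j' a b => by simpa using h1 j j' a b)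
  obtain ⟨hint, hw0, hw1⟩ := cc_weights T hk v true false hexact
  obtain rfl := card_eq_of_surj v hsurj
  simp only [Bool.false_eq_true, if_false, if_true] at hw0 hw1
  refine ⟨permOfSurj v hsurj, T.m (v ⟨k - 1, by omega⟩), T.w (v ⟨0, by omega⟩), ?_, ?_, ?_, ?_, ?_, ?_, ?_, ?_⟩
  · intro i hi
    simp only [permOfSurj_apply]
    have := hprop i ⟨k - 1, by omega⟩
    have x1 : xcc k true false i = 2 := by unfold xcc; simp; idx_close
    have x2 : xcc k true false ⟨k - 1, by omega⟩ = 1 := by unfold xcc; simp; idx_close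
    rw [x1, x2] at this
    linarith
  · intro i hi
    simp only [permOfSurj_apply]
    have : i = ⟨k - 1, by omega⟩ := Fin.ext (by simp; omega)
    rw [this]
  · intro i hi
    simp only [permOfSurj_apply]
    have : i = ⟨0, by omega⟩ := Fin.ext hi
    rw [this]
  · intro i hi
    simp only [permOfSurj_apply]
    rw [hint i (by omega) (by omega), ← hw0]
  · intro i hi
    simp only [permOfSurj_apply]
    have : i = ⟨k - 1, by omega⟩ := Fin.ext (by simp; omega)
    rw [this, hw1, ← hw0]; ring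
  · intro i j hij hj
    simp only [permOfSurj_apply]
    rw [hexact i j (by fin_ne)]
    by_cases hi : i.val = 0
    · have : i = ⟨0, by omega⟩ := Fin.ext hi
      have l : ℓcc k true false i j = 2 := by unfold ℓcc; simp; idx_close
      rw [l, this]; ring
    · have l : ℓcc k true false i j = 1 := by unfold ℓcc; simp; idx_close
      rw [l, hint i (by omega) (by omega), ← hw0]; ring
  · intro i j hij hj
    simp only [permOfSurj_apply]
    rw [hexact i j (by fin_ne)]
    have l : ℓcc k true false i j = 2 := by unfold ℓcc; simp; idx_close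
    rw [l, hint i (by omega) (by omega), ← hw0]; ring
  · intro i j hij c1 c2
    simp only [permOfSurj_apply]
    rw [hexact i j (by fin_ne)]
    have l : ℓcc k true false i j = 0 := by unfold ℓcc; simp; idx_close
    rw [l, mul_zero]

end Groth.Agent.Lib.Helper29.G1
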