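import Groth.Agent.Lib.Helper29.G1E6

/-!
# The classes of the genus one classification
-/

set_option autoImplicit false

namespace Groth.Agent.Lib.Helper29.G1

open Models Finset

variable {n : ℕ} (T : NumericalType n)

/-- adjacency of a path `0 … t-1` with an extra vertex `t` attached to the vertex `a` -/
def adjTree (t a : ℕ) (j j' : Fin (t + 1)) : ℤ :=
  if (j'.val = j.val + 1 ∧ j'.val < t) ∨ (j.val = j'.val + 1 ∧ j.val < t) ∨
    (j.val = a ∧ j'.val = t) ∨ (j.val = t ∧ j'.val = a) then 1 else 0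

/-- multiplicities of the completed `E7`: chain `0 … 6`, and `7` attached to `3` -/
def XE7 : Fin 8 → ℤ := ![1, 2, 3, 4, 3, 2, 1, 2]

/-- adjacency of the completed `E7` -/
def AE7 : Fin 8 → Fin 8 → ℤ := adjTree 7 3

/-- multiplicities of the completed `E8`: chain `0 … 7`, and `8` attached to `5` -/
def XE8 : Fin 9 → ℤ := ![1, 2, 3, 4, 5, 6, 4, 2, 3]

/-- adjacency of the completed `E8` -/
def AE8 : Fin 9 → Fin 9 → ℤ := adjTree 8 5

/-- the chain on five indices with weights `(w, w, w, 2w, 2w)` -/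
def XFa : Fin 5 → ℤ := ![1, 2, 3, 2, 1]
def WFa : Fin 5 → ℤ := ![1, 1, 1, 2, 2]
def AFa (j j' : Fin 5) : ℤ :=
  if (j.val = 0 ∧ j'.val = 1) ∨ (j.val = 1 ∧ j'.val = 0) ∨ (j.val = 1 ∧ j'.val = 2) ∨
    (j.val = 2 ∧ j'.val = 1) then 1
  else if (j.val = 2 ∧ j'.val = 3) ∨ (j.val = 3 ∧ j'.val = 2) ∨ (j.val = 3 ∧ j'.val = 4) ∨
    (j.val = 4 ∧ j'.val = 3) then 2 else 0

/-- the chain on five indices with weights `(2w, 2w, 2w, w, w)` -/
def XFb : Fin 5 → ℤ := ![1, 2, 3, 4, 2]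
def WFb : Fin 5 → ℤ := ![2, 2, 2, 1, 1]
def AFb (j j' : Fin 5) : ℤ :=
  if (j.val = 0 ∧ j'.val = 1) ∨ (j.val = 1 ∧ j'.val = 0) ∨ (j.val = 1 ∧ j'.val = 2) ∨
    (j.val = 2 ∧ j'.val = 1) ∨ (j.val = 2 ∧ j'.val = 3) ∨ (j.val = 3 ∧ j'.val = 2) then 2
  else if (j.val = 3 ∧ j'.val = 4) ∨ (j.val = 4 ∧ j'.val = 3) then 1 else 0

/-- the classes of minimal numerical types of genus one on at least four indices -/
def Class : Prop :=
  (∃ σ m w, CycP T σ m w) ∨ (∃ σ m w, CCLHP T σ m w) ∨ (∃ σ m w, CCLLP T σ m w) ∨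
    (∃ σ m w, CCHHP T σ m w) ∨ (∃ σ m w, BDHP T σ m w) ∨ (∃ σ m w, BDLP T σ m w) ∨
    (∃ σ m w, DDP T σ m w) ∨ FixedType T 7 XE6 (fun _ => 1) AE6 ∨
    FixedType T 8 XE7 (fun _ => 1) AE7 ∨ FixedType T 9 XE8 (fun _ => 1) AE8 ∨
    FixedType T 5 XFa WFa AFa ∨ FixedType T 5 XFb WFb AFb

end Groth.Agent.Lib.Helper29.G1
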