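import Groth.Agent.Lib.Helper29.G1Find2

set_option autoImplicit false

namespace Groth.Agent.Lib.Helper29.G1

open Models Finset Groth.Agent.Lib.Helper29.NumType

variable {n : ℕ} {T : NumericalType n}

/-- the whole type is a path without chords -/
structure PathFull (T : NumericalType n) {t : ℕ} (v : Fin t ↪ Fin n) : Prop where
  path : IsPath T v
  nochord : ∀ j k : Fin t, j.val + 2 ≤ k.val → T.a (v j) (v k) = 0
  surj : Function.Surjective v

lemma PathFull.rev {t : ℕ} {v : Fin t ↪ Fin n} (h : PathFull T v) :
    PathFull T ((revFin t).trans v) where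
  path := h.path.rev
  nochord := by
    intro j k hjk
    simp only [Function.Embedding.trans_apply]
    rw [a_symm]
    apply h.nochord
    have := k.2
    simp only [revFin_val]
    omega
  surj := by
    intro i
    obtain ⟨j, hj⟩ := h.surj i
    refine ⟨revFin t j, ?_⟩
    simp only [Function.Embedding.trans_apply]
    rw [← hj]
    congr 1
    apply Fin.ext
    have := j.2
    simp only [revFin_val]
    omega

lemma PathFull.zero {t : ℕ} {v : Fin t ↪ Fin n} (h : PathFull T v)
    (j k : Fin t) (hjk : j.val + 2 ≤ k.val ∨ k.val + 2 ≤ j.val) : T.a (v j) (v k) = 0 := by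
  rcases hjk with h1 | h1
  · exact h.nochord j k h1
  · rw [a_symm]; exact h.nochord k j h1

/-- the multiplicities along an initial stretch of simple edges of constant weight -/
lemma PathFull.arm (hM : ∀ i, T.IsMinusTwo i) {t : ℕ} {v : Fin t ↪ Fin n} (h : PathFull T v)
    (s : ℕ) (hs : 1 ≤ s) (hst : s ≤ t) (W : ℤ) (hW : 0 < W)
    (hw : ∀ j : Fin t, j.val + 1 < s → T.w (v j) = W)
    (hedge : ∀ j j' : Fin t, j'.val = j.val + 1 → j'.val < s → T.a (v j) (v j') = W)
    (j : Fin t) (hj : j.val < s) :
    T.m (v j) = (j.val + 1) * T.m (v ⟨0, by omega⟩) := by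
  have hl : 0 + s ≤ t := by omega
  have key := arm_AP T ((segEmb 0 s hl).trans v) (by omega) W hW
    (fun j hj => by
      simp only [Function.Embedding.trans_apply]
      rw [(hM _).2, hw _ (by simpa using hj)])
    (fun j j' hjj' => by
      simp only [Function.Embedding.trans_apply]
      exact hedge _ _ (by simp; omega) (by simp))
    (by
      intro j i hj hi hnb
      simp only [Function.Embedding.trans_apply] at hi hnb ⊢
      obtain ⟨l, rfl⟩ := h.surj i
      apply h.zero
      simp only [segEmb_val]
      have hlj : l.val ≠ j.val := by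
        intro e; apply hi; congr 1; apply Fin.ext; simp [e]
      have h1 : l.val ≠ j.val + 1 := by
        intro e
        apply hnb ⟨j.val + 1, by omega⟩ (Or.inl rfl)
        congr 1; apply Fin.ext; simp [e]
      have h2 : j.val ≠ l.val + 1 := by
        intro e
        apply hnb ⟨l.val, by omega⟩ (Or.inr e)
        congr 1; apply Fin.ext; simp
      omega)
  have := key ⟨j.val, by omega⟩
  simp only [Function.Embedding.trans_apply] at this
  have e1 : segEmb 0 s hl ⟨j.val, by omega⟩ = j := Fin.ext (by simp)
  have e2 : segEmb 0 s hl ⟨0, by omega⟩ = ⟨0, by omega⟩ := Fin.ext (by simp)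
  rw [e1, e2] at this
  exact this

/-- a path all of whose edges are simple does not occur -/
theorem rigid_path_simple (hM : ∀ i, T.IsMinusTwo i) {t : ℕ} {v : Fin t ↪ Fin n} (h : PathFull T v)
    (ht : 3 ≤ t)
    (hS : ∀ j j' : Fin t, j'.val = j.val + 1 → T.a (v j) (v j') = T.w (v j) ∧ T.w (v j') = T.w (v j)) :
    False := by
  have ht0 : 0 < t := by omega
  have hw : ∀ j : Fin t, T.w (v j) = T.w (v ⟨0, ht0⟩) := by
    apply chain_const ht0 (fun j => T.w (v j))
    intro j j' hjj'
    exact (hS j j' hjj').2
  set W := T.w (v ⟨0, ht0⟩) with hWdef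
  have hm := h.arm hM t (by omega) (le_refl _) W (T.w_pos _) (fun j _ => hw j)
    (fun j j' hjj' _ => by rw [(hS j j' hjj').1, hw])
  set jl : Fin t := ⟨t - 1, by omega⟩ with hjl
  set jp : Fin t := ⟨t - 2, by omega⟩ with hjp
  have hne : v jl ≠ v jp := fun e => by
    have := congrArg Fin.val (v.injective e); simp [hjl, hjp] at this; omega
  have r := row_local1 T (v jl) (v jp) hne (by
    intro i h1 h2
    obtain ⟨l, rfl⟩ := h.surj i
    apply h.zero
    have e1 : l.val ≠ t - 1 := fun e => h1 (by congr 1; exact Fin.ext e)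
    have e2 : l.val ≠ t - 2 := fun e => h2 (by congr 1; exact Fin.ext e)
    have := l.2
    simp only [hjl]
    omega)
  rw [(hM _).2, hw, a_symm, (hS jp jl (by simp [hjl, hjp]; omega)).1, hw, hm jl (by simp [hjl]; omega),
    hm jp (by simp [hjp]; omega)] at r
  have hα := T.m_pos (v ⟨0, ht0⟩)
  have hWpos : 0 < W := T.w_pos _
  simp only [hjl, hjp] at r
  have c1 : ((t - 1 : ℕ) : ℤ) = (t : ℤ) - 1 := by omega
  have c2 : ((t - 2 : ℕ) : ℤ) = (t : ℤ) - 2 := by omega
  rw [c1, c2] at r
  have : W * (T.m (v ⟨0, ht0⟩) * ((t : ℤ) + 1)) = 0 := by linarith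
  have h3 : (0 : ℤ) < (t : ℤ) + 1 := by omega
  have := mul_pos hWpos (mul_pos hα h3)
  linarith


/-- a path with exactly one double edge, the left part being light -/
theorem rigid_path_U (hM : ∀ i, T.IsMinusTwo i) {t : ℕ} {v : Fin t ↪ Fin n} (h : PathFull T v)
    (e : ℕ) (he : e + 1 < t)
    (hU : ∀ j j' : Fin t, j.val = e → j'.val = e + 1 →
      T.a (v j) (v j') = 2 * T.w (v j) ∧ T.w (v j') = 2 * T.w (v j))
    (hS : ∀ j j' : Fin t, j'.val = j.val + 1 → j.val ≠ e →
      T.a (v j) (v j') = T.w (v j) ∧ T.w (v j') = T.w (v j)) :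
    FixedType T 5 XFa WFa AFa ∨ FixedType T 5 XFb WFb AFb := by
  have ht0 : 0 < t := by omega
  obtain ⟨W, hWdef⟩ : ∃ W, W = T.w (v ⟨0, ht0⟩) := ⟨_, rfl⟩
  have hWpos : 0 < W := by rw [hWdef]; exact T.w_pos _
  -- weights
  have hwL : ∀ (j : ℕ) (hj : j < t), j ≤ e → T.w (v ⟨j, hj⟩) = W := by
    intro j
    induction j with
    | zero => intro _ _; exact hWdef.symm
    | succ i ih =>
      intro hj hje
      rw [(hS ⟨i, by omega⟩ ⟨i + 1, hj⟩ rfl (by simp; omega)).2]
      exact ih (by omega) (by omega)
  have hwR : ∀ (j : ℕ) (hj : j < t), e + 1 ≤ j → T.w (v ⟨j, hj⟩) = 2 * W := by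
    intro j
    induction j with
    | zero => intro _ h; omega
    | succ i ih =>
      intro hj hje
      by_cases hi : i = e
      · subst hi
        rw [(hU ⟨i, by omega⟩ ⟨i + 1, hj⟩ rfl rfl).2, hwL i (by omega) (le_refl _)]
      · rw [(hS ⟨i, by omega⟩ ⟨i + 1, hj⟩ rfl (by simpa using hi)).2]
        exact ih (by omega) (by omega)
  -- edges
  have hEL : ∀ j j' : Fin t, j'.val = j.val + 1 → j.val < e → T.a (v j) (v j') = W := by
    intro j j' hjj' hj
    rw [(hS j j' hjj' (by omega)).1]
    exact hwL j.val j.2 (by omega)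
  have hEU : ∀ j j' : Fin t, j.val = e → j'.val = e + 1 → T.a (v j) (v j') = 2 * W := by
    intro j j' hj hj'
    rw [(hU j j' hj hj').1, hwL j.val j.2 (by omega)]
  have hER : ∀ j j' : Fin t, j'.val = j.val + 1 → e < j.val → T.a (v j) (v j') = 2 * W := by
    intro j j' hjj' hj
    rw [(hS j j' hjj' (by omega)).1]
    exact hwR j.val j.2 (by omega)
  -- arms
  obtain ⟨α, hα⟩ : ∃ α, α = T.m (v ⟨0, ht0⟩) := ⟨_, rfl⟩
  obtain ⟨β, hβ⟩ : ∃ β, β = T.m (v ⟨t - 1, by omega⟩) := ⟨_, rfl⟩
  have hαpos : 0 < α := by rw [hα]; exact T.m_pos _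
  have hβpos : 0 < β := by rw [hβ]; exact T.m_pos _
  have mL : ∀ j : Fin t, j.val ≤ e → T.m (v j) = (j.val + 1) * α := by
    intro j hj
    rw [hα]
    exact h.arm hM (e + 1) (by omega) (by omega) W hWpos (fun j hj => hwL j.val j.2 (by omega))
      (fun j j' hjj' hj' => hEL j j' hjj' (by omega)) j (by omega)
  have mR : ∀ j : Fin t, e + 1 ≤ j.val → T.m (v j) = ((t : ℤ) - j.val) * β := by
    intro j hj
    have hjt := j.2
    have key := h.rev.arm hM (t - 1 - e) (by omega) (by omega) (2 * W) (by omega)
      (fun j hj => by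
        simp only [Function.Embedding.trans_apply]
        have hjt := j.2
        have e0 : revFin t j = ⟨t - 1 - j.val, by omega⟩ := Fin.ext (by simp only [revFin_val]; omega)
        rw [e0]
        exact hwR _ _ (by omega))
      (fun j j' hjj' hj' => by
        simp only [Function.Embedding.trans_apply]
        rw [a_symm]
        apply hER
        · simp only [revFin_val]; have := j'.2; omega
        · simp only [revFin_val]; omega)
      ⟨t - 1 - j.val, by omega⟩ (by simp only; omega)
    simp only [Function.Embedding.trans_apply] at key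
    have e1 : revFin t ⟨t - 1 - j.val, by omega⟩ = j := Fin.ext (by simp only [revFin_val]; omega)
    have e2 : revFin t ⟨0, by omega⟩ = ⟨t - 1, by omega⟩ := Fin.ext (by simp only [revFin_val] <;> omega)
    rw [e1, e2, ← hβ] at key
    rw [key]
    congr 1
    have : ((t - 1 - j.val : ℕ) : ℤ) = (t : ℤ) - 1 - j.val := by omega
    rw [this]; ring
  -- junction rows
  set je : Fin t := ⟨e, by omega⟩ with hje
  set jf : Fin t := ⟨e + 1, by omega⟩ with hjf
  have hnef : v je ≠ v jf := fun h0 => by
    have := congrArg Fin.val (v.injective h0); simp [hje, hjf] at this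
  have me := mL je (le_refl _)
  have mf := mR jf (le_refl _)
  have hzero_e : ∀ l : Fin t, l.val ≠ e → l.val ≠ e + 1 → l.val + 1 ≠ e → T.a (v je) (v l) = 0 := by
    intro l h1 h2 h3
    apply h.zero; simp only [hje]; omega
  have hzero_f : ∀ l : Fin t, l.val ≠ e → l.val ≠ e + 1 → l.val ≠ e + 2 → T.a (v jf) (v l) = 0 := by
    intro l h1 h2 h3
    apply h.zero; simp only [hjf]; omega
  have eqA : ((e : ℤ) + 2) * α = 2 * ((t : ℤ) - e - 1) * β := by
    by_cases he0 : e = 0
    · have r := row_local1 T (v je) (v jf) hnef (by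
        intro i h1 h2
        obtain ⟨l, rfl⟩ := h.surj i
        apply hzero_e l
        · intro e1; apply h1; congr 1; exact Fin.ext e1
        · intro e1; apply h2; congr 1; exact Fin.ext e1
        · omega)
      rw [(hM _).2, hwL e (by omega) (le_refl _), hEU je jf rfl rfl, me, mf] at r
      simp only [hje, hjf] at r
      push_cast at r
      have : W * ((e : ℤ) + 2) * α = W * (2 * ((t : ℤ) - e - 1) * β) := by
        subst he0; push_cast at r ⊢; linarith
      have := mul_left_cancel₀ hWpos.ne' (by linarith : W * (((e : ℤ) + 2) * α) = W * (2 * ((t : ℤ) - e - 1) * β))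
      exact this
    · set jp : Fin t := ⟨e - 1, by omega⟩ with hjp
      have hnep : v je ≠ v jp := fun h0 => by
        have := congrArg Fin.val (v.injective h0); simp [hje, hjp] at this; omega
      have hnpf : v jp ≠ v jf := fun h0 => by
        have := congrArg Fin.val (v.injective h0); simp [hjp, hjf] at this <;> omega
      have mp := mL jp (by simp [hjp])
      have r := row_local2 T (v je) (v jp) (v jf) hnep hnef hnpf (by
        intro i h1 h2 h3
        obtain ⟨l, rfl⟩ := h.surj i
        apply hzero_e l
        · intro e1; apply h1; congr 1; exact Fin.ext e1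
        · intro e1; apply h3; congr 1; exact Fin.ext e1
        · intro e1; apply h2; congr 1; exact Fin.ext (by simp [hjp]; omega))
      rw [(hM _).2, hwL e (by omega) (le_refl _), hEU je jf rfl rfl, a_symm T (v je) (v jp),
        hEL jp je (by simp [hje, hjp]; omega) (by simp [hjp]; omega), me, mf, mp] at r
      simp only [hje, hjf, hjp] at r
      have c1 : ((e - 1 : ℕ) : ℤ) = (e : ℤ) - 1 := by omega
      rw [c1] at r
      push_cast at r
      have : W * (((e : ℤ) + 2) * α) = W * (2 * ((t : ℤ) - e - 1) * β) := by linarith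
      exact mul_left_cancel₀ hWpos.ne' this
  have eqB : ((t : ℤ) - e) * β = ((e : ℤ) + 1) * α := by
    by_cases hel : e + 2 = t
    · have r := row_local1 T (v jf) (v je) (Ne.symm hnef) (by
        intro i h1 h2
        obtain ⟨l, rfl⟩ := h.surj i
        apply hzero_f l
        · intro e1; apply h2; congr 1; exact Fin.ext e1
        · intro e1; apply h1; congr 1; exact Fin.ext e1
        · have := l.2; omega)
      rw [(hM _).2, hwR (e + 1) (by omega) (le_refl _), a_symm, hEU je jf rfl rfl, me, mf] at r
      simp only [hje, hjf] at r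
      push_cast at r
      have ht : (t : ℤ) = e + 2 := by omega
      rw [ht] at r ⊢
      have : W * (((e : ℤ) + 2 - e) * β) = W * (((e : ℤ) + 1) * α) := by linarith
      exact mul_left_cancel₀ hWpos.ne' this
    · set jg : Fin t := ⟨e + 2, by omega⟩ with hjg
      have hneg : v jf ≠ v jg := fun h0 => by
        have := congrArg Fin.val (v.injective h0); simp [hjf, hjg] at this
      have hneg' : v je ≠ v jg := fun h0 => by
        have := congrArg Fin.val (v.injective h0); simp [hje, hjg] at this
      have mg := mR jg (by simp [hjg])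
      have r := row_local2 T (v jf) (v je) (v jg) (Ne.symm hnef) hneg hneg' (by
        intro i h1 h2 h3
        obtain ⟨l, rfl⟩ := h.surj i
        apply hzero_f l
        · intro e1; apply h2; congr 1; exact Fin.ext e1
        · intro e1; apply h1; congr 1; exact Fin.ext e1
        · intro e1; apply h3; congr 1; exact Fin.ext e1)
      rw [(hM _).2, hwR (e + 1) (by omega) (le_refl _), a_symm T (v jf) (v je), hEU je jf rfl rfl,
        hER jf jg (by simp [hjf, hjg]) (by simp [hjf]), me, mf, mg] at r
      simp only [hje, hjf, hjg] at r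
      push_cast at r
      have : W * (((t : ℤ) - e) * β) = W * (((e : ℤ) + 1) * α) := by linarith
      exact mul_left_cancel₀ hWpos.ne' this
  have hprod : (((e : ℤ) + 2) * ((t : ℤ) - e) - 2 * ((t : ℤ) - e - 1) * ((e : ℤ) + 1)) * (α * β) = 0 := by
    linear_combination (((t : ℤ) - e) * β) * eqA + (2 * ((t : ℤ) - e - 1) * β) * eqB
  have hnum : ((e : ℤ) + 2) * ((t : ℤ) - e) = 2 * ((t : ℤ) - e - 1) * ((e : ℤ) + 1) := by
    rcases mul_eq_zero.mp hprod with h0 | h0
    · linarith
    · exact absurd h0 (mul_pos hαpos hβpos).ne'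
  have hcases : (e = 2 ∧ t = 5) ∨ (e = 1 ∧ t = 5) := by
    obtain ⟨H, hH⟩ : ∃ H, t = e + 1 + H := ⟨t - e - 1, by omega⟩
    subst hH
    have hH1 : 1 ≤ H := by omega
    have hnum' : (e + 2) * (H + 1) = 2 * H * (e + 1) := by
      have : (((e + 2) * (H + 1) : ℕ) : ℤ) = ((2 * H * (e + 1) : ℕ) : ℤ) := by
        push_cast
        push_cast at hnum
        linarith
      exact_mod_cast this
    have hH3 : H ≤ 3 := by
      by_contra hcon
      push Not at hcon
      rcases Nat.eq_zero_or_pos e with he0 | he0
      · subst he0; omega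
      · have h1 : 4 * (e + 1) ≤ H * (e + 1) := Nat.mul_le_mul_right _ (by omega)
        have h2 : H * 2 ≤ H * (e + 1) := Nat.mul_le_mul_left _ (by omega)
        nlinarith
    interval_cases H
    · omega
    · left; omega
    · right; omega
  rcases hcases with ⟨rfl, rfl⟩ | ⟨rfl, rfl⟩
  · -- weights (W,W,W,2W,2W)
    left
    have hαβ : β = α := by push_cast at eqA; linarith
    refine ⟨v, h.surj, α, W, fun j => ⟨?_, ?_, fun j' hjj' => ?_⟩⟩
    · by_cases hj : j.val ≤ 2
      · rw [mL j hj]
        have := j.2
        fin_cases j <;> simp [XFa] at hj ⊢ <;> ring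
      · rw [mR j (by omega), hαβ]
        fin_cases j <;> simp [XFa] at hj ⊢ <;> ring
    · by_cases hj : j.val ≤ 2
      · rw [hwL j.val j.2 hj]
        fin_cases j <;> simp [WFa] at hj ⊢ <;> try ring
      · rw [hwR j.val j.2 (by omega)]
        fin_cases j <;> simp [WFa] at hj ⊢ <;> try ring
    · have hj := j.2
      have hj' := j'.2
      have hne : j.val ≠ j'.val := fun e => hjj' (Fin.ext e)
      by_cases c1 : j'.val = j.val + 1
      · by_cases c2 : j.val < 2
        · rw [hEL j j' c1 c2]; unfold AFa; rw [if_pos (by omega)]; ring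
        · by_cases c3 : j.val = 2
          · rw [hEU j j' c3 (by omega)]; unfold AFa; rw [if_neg (by omega), if_pos (by omega)]; ring
          · rw [hER j j' c1 (by omega)]; unfold AFa; rw [if_neg (by omega), if_pos (by omega)]; ring
      · by_cases c1' : j.val = j'.val + 1
        · rw [a_symm]
          by_cases c2 : j'.val < 2
          · rw [hEL j' j c1' c2]; unfold AFa; rw [if_pos (by omega)]; ring
          · by_cases c3 : j'.val = 2
            · rw [hEU j' j c3 (by omega)]; unfold AFa; rw [if_neg (by omega), if_pos (by omega)]; ring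
            · rw [hER j' j c1' (by omega)]; unfold AFa; rw [if_neg (by omega), if_pos (by omega)]; ring
        · rw [h.zero j j' (by omega)]; unfold AFa; rw [if_neg (by omega), if_neg (by omega)]; ring
  · -- weights (W,W,2W,2W,2W): reverse
    right
    have hαβ : α = 2 * β := by push_cast at eqA; linarith
    refine ⟨(revFin 5).trans v, h.rev.surj, β, W, fun j => ⟨?_, ?_, fun j' hjj' => ?_⟩⟩
    · simp only [Function.Embedding.trans_apply]
      by_cases hj : j.val ≤ 2
      · rw [mR (revFin 5 j) (by simp only [revFin_val]; omega)]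
        fin_cases j <;> simp [XFb, revFin] at hj ⊢ <;> ring
      · rw [mL (revFin 5 j) (by simp only [revFin_val]; omega), hαβ]
        fin_cases j <;> simp [XFb, revFin] at hj ⊢ <;> ring
    · simp only [Function.Embedding.trans_apply]
      by_cases hj : j.val ≤ 2
      · have hjt := j.2
        have e0 : revFin 5 j = ⟨5 - 1 - j.val, by omega⟩ := Fin.ext (by simp only [revFin_val]; omega)
        rw [e0, hwR _ _ (by omega)]
        fin_cases j <;> simp [WFb] at hj ⊢ <;> try ring
      · have hjt := j.2
        have e0 : revFin 5 j = ⟨5 - 1 - j.val, by omega⟩ := Fin.ext (by simp only [revFin_val]; omega)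
        rw [e0, hwL _ _ (by omega)]
        fin_cases j <;> simp [WFb] at hj ⊢ <;> try ring
    · simp only [Function.Embedding.trans_apply]
      have hj := j.2
      have hj' := j'.2
      have hne : j.val ≠ j'.val := fun e => hjj' (Fin.ext e)
      have r1 : (revFin 5 j).val = 4 - j.val := by simp only [revFin_val]; omega
      have r2 : (revFin 5 j').val = 4 - j'.val := by simp only [revFin_val]; omega
      by_cases c1 : j'.val = j.val + 1
      · rw [a_symm]
        by_cases c2 : j.val < 2
        · rw [hER (revFin 5 j') (revFin 5 j) (by omega) (by omega)]; unfold AFb; rw [if_pos (by omega)]; ring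
        · by_cases c3 : j.val = 2
          · rw [hEU (revFin 5 j') (revFin 5 j) (by omega) (by omega)]; unfold AFb; rw [if_pos (by omega)]; ring
          · rw [hEL (revFin 5 j') (revFin 5 j) (by omega) (by omega)]; unfold AFb
            rw [if_neg (by omega), if_pos (by omega)]; ring
      · by_cases c1' : j.val = j'.val + 1
        · by_cases c2 : j'.val < 2
          · rw [hER (revFin 5 j) (revFin 5 j') (by omega) (by omega)]; unfold AFb; rw [if_pos (by omega)]; ring
          · by_cases c3 : j'.val = 2
            · rw [hEU (revFin 5 j) (revFin 5 j') (by omega) (by omega)]; unfold AFb; rw [if_pos (by omega)]; ring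
            · rw [hEL (revFin 5 j) (revFin 5 j') (by omega) (by omega)]; unfold AFb
              rw [if_neg (by omega), if_pos (by omega)]; ring
        · rw [h.zero _ _ (by omega)]; unfold AFb; rw [if_neg (by omega), if_neg (by omega)]; ring

end Groth.Agent.Lib.Helper29.G1
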