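import Groth.Agent.Lib.Helper29.G1Rigid
import Groth.Agent.Lib.Helper29.G1RPath

set_option autoImplicit false

namespace Groth.Agent.Lib.Helper29.G1

open Models Finset Groth.Agent.Lib.Helper29.NumType

variable {n : ℕ} {T : NumericalType n}

/-- vertices outside a longest path are attached to interior vertices only -/
lemma interior_of_out {t : ℕ} {v : Fin t ↪ Fin n} (hv : IsPath T v)
    (hmax : ∀ (t' : ℕ) (v' : Fin t' ↪ Fin n), IsPath T v' → t' ≤ t)
    (z : Fin n) (hz : ∀ j, v j ≠ z) (a : Fin t) (haz : T.a (v a) z ≠ 0) :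
    1 ≤ a.val ∧ a.val + 2 ≤ t := by
  constructor
  · by_contra hcon
    have h0 : a.val = 0 := by omega
    have p : IsPath T (consEmb z v hz) := by
      apply hv.cons z hz
      intro j hj
      have : j = a := Fin.ext (by omega)
      rw [this, a_symm]; exact haz
    have := hmax _ _ p
    omega
  · by_contra hcon
    have hat := a.2
    have h0 : a.val + 1 = t := by omega
    have p : IsPath T (snocEmb v z hz) := by
      apply hv.snoc z hz
      intro j hj
      have : j = a := Fin.ext (by omega)
      rw [this]; exact haz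
    have := hmax _ _ p
    omega

/-- a path with exactly one double edge -/
theorem rigid_path_one (hM : ∀ i, T.IsMinusTwo i) {t : ℕ} {v : Fin t ↪ Fin n} (h : PathFull T v)
    (je je' : Fin t) (hje : je'.val = je.val + 1)
    (hty : (T.a (v je) (v je') = 2 * T.w (v je) ∧ T.w (v je') = 2 * T.w (v je)) ∨
      (T.a (v je) (v je') = 2 * T.w (v je') ∧ T.w (v je) = 2 * T.w (v je')))
    (hS : ∀ j j' : Fin t, j'.val = j.val + 1 → j ≠ je →
      T.a (v j) (v j') = T.w (v j) ∧ T.w (v j') = T.w (v j)) :
    FixedType T 5 XFa WFa AFa ∨ FixedType T 5 XFb WFb AFb := by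
  have hjt := je'.2
  rcases hty with hU | hD
  · apply rigid_path_U hM h je.val (by omega)
    · intro j j' hj hj'
      have e1 : j = je := Fin.ext hj
      have e2 : j' = je' := Fin.ext (by omega)
      rw [e1, e2]; exact hU
    · intro j j' hjj' hj
      exact hS j j' hjj' (fun e => hj (by rw [e]))
  · apply rigid_path_U hM h.rev (t - 2 - je.val) (by omega)
    · intro j j' hj hj'
      simp only [Function.Embedding.trans_apply]
      have e1 : revFin t j = je' := Fin.ext (by simp only [revFin_val]; omega)
      have e2 : revFin t j' = je := Fin.ext (by simp only [revFin_val]; omega)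
      rw [e1, e2, a_symm]; exact hD
    · intro j j' hjj' hj
      simp only [Function.Embedding.trans_apply]
      have hj't := j'.2
      have := hS (revFin t j') (revFin t j) (by simp only [revFin_val]; omega) (by
        intro e
        have := congrArg Fin.val e
        simp only [revFin_val] at this
        omega)
      rw [a_symm, this.1, this.2]
      exact ⟨rfl, rfl⟩


lemma revFin_revFin (t : ℕ) (j : Fin t) : revFin t (revFin t j) = j := by
  apply Fin.ext
  have := j.2
  simp only [revFin_val]
  omega

/-- a double edge in a tree gives a fork with a double end -/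
theorem bd_dispatch (hM : ∀ i, T.IsMinusTwo i) {t : ℕ} {v : Fin t ↪ Fin n} {z : Fin n} {a : ℕ}
    (hT : TreeData T v z a)
    (hnochord : ∀ j k : Fin t, j.val + 2 ≤ k.val → T.a (v j) (v k) = 0)
    (hnonadj : ∀ j : Fin t, j.val ≠ a → T.a (v j) z = 0)
    (hcover : ∀ i, i = z ∨ ∃ j, v j = i)
    (i j : Fin n) (hij : i ≠ j) (hd : 2 * T.w i ≤ T.a i j) :
    (∃ σ m w, BDHP T σ m w) ∨ (∃ σ m w, BDLP T σ m w) := by
  have ha : T.a i j ≠ 0 := by
    have := T.w_pos i; intro h; rw [h] at hd; linarith
  rcases hcover i with rfl | ⟨b, rfl⟩ <;> rcases hcover j with rfl | ⟨c, rfl⟩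
  · exact absurd rfl hij
  · have hc : c.val = a := by
      by_contra hne
      exact ha (by rw [a_symm]; exact hnonadj c hne)
    exact bd_center hM hT c hc (Or.inl hd)
  · have hb : b.val = a := by
      by_contra hne
      exact ha (hnonadj b hne)
    exact bd_center hM hT b hb (Or.inr (by rw [a_symm]; exact hd))
  · have hbc : b.val ≠ c.val := fun e => hij (by rw [Fin.ext e])
    have hadj : c.val = b.val + 1 ∨ b.val = c.val + 1 := by
      by_contra hcon
      push Not at hcon
      rcases Nat.lt_or_ge b.val c.val with h1 | h1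
      · exact ha (hnochord b c (by omega))
      · exact ha (by rw [a_symm]; exact hnochord c b (by omega))
    have hbt := b.2
    have hct := c.2
    have ha2 := hT.ha2
    rcases hadj with h1 | h1
    · by_cases hca : c.val ≤ a
      · exact bd_left hM hT b c h1 hca (Or.inl hd)
      · apply bd_left hM hT.rev (revFin t c) (revFin t b)
          (by simp only [revFin_val]; omega) (by simp only [revFin_val]; omega)
        right
        simp only [Function.Embedding.trans_apply, revFin_revFin]
        rw [a_symm]; exact hd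
    · by_cases hba : b.val ≤ a
      · exact bd_left hM hT c b h1 hba (Or.inr (by rw [a_symm]; exact hd))
      · apply bd_left hM hT.rev (revFin t b) (revFin t c)
          (by simp only [revFin_val]; omega) (by simp only [revFin_val]; omega)
        left
        simp only [Function.Embedding.trans_apply, revFin_revFin]
        exact hd


/-- **The classification** of numerical types on at least four indices all of whose indices are
`(-2)`-indices. -/
theorem classify (hn : 4 ≤ n) (hM : ∀ i, T.IsMinusTwo i) : Class T := by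
  classical
  obtain ⟨t, v, hv, ht3, hmax⟩ := exists_longest_path T (by omega)
  -- chords
  by_cases hch : ∃ j k : Fin t, j.val + 2 ≤ k.val ∧ T.a (v j) (v k) ≠ 0
  · obtain ⟨j, k, hjk, ha⟩ := hch
    exact Or.inl (cyc_of_chord hM hv j k hjk ha)
  push Not at hch
  have hSD : ∀ i j : Fin n, i ≠ j → T.a i j ≠ 0 →
      (T.a i j = T.w i ∧ T.w j = T.w i) ∨ (T.a i j = 2 * T.w i ∧ T.w j = 2 * T.w i) ∨
      (T.a i j = 2 * T.w j ∧ T.w i = 2 * T.w j) := fun i j hij ha => edge_SD T hn hM hij ha
  -- two double edges on the path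
  by_cases h2d : ∃ j1 j1' j2 j2' : Fin t, j1'.val = j1.val + 1 ∧ j2'.val = j2.val + 1 ∧
      j1.val < j2.val ∧
      (2 * T.w (v j1) ≤ T.a (v j1) (v j1') ∨ 2 * T.w (v j1') ≤ T.a (v j1) (v j1')) ∧
      (2 * T.w (v j2') ≤ T.a (v j2) (v j2') ∨ 2 * T.w (v j2) ≤ T.a (v j2) (v j2'))
  · obtain ⟨j1, j1', j2, j2', h1, h2, h12, d1, d2⟩ := h2d
    rcases cc_of_two_double hM hv j1 j1' j2 j2' h1 h2 h12 d1 d2 with h | h | h
    · exact Or.inr (Or.inl h)
    · exact Or.inr (Or.inr (Or.inl h))
    · exact Or.inr (Or.inr (Or.inr (Or.inl h)))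
  push Not at h2d
  -- non-simple edges are double
  have hdbl : ∀ i j : Fin n, i ≠ j → T.a i j ≠ 0 → ¬ (T.a i j = T.w i ∧ T.w j = T.w i) →
      (2 * T.w i ≤ T.a i j ∨ 2 * T.w j ≤ T.a i j) := by
    intro i j hij ha hns
    rcases hSD i j hij ha with h | h | h
    · exact absurd h hns
    · exact Or.inl (by rw [h.1])
    · exact Or.inr (by rw [h.1])
  by_cases hout : ∃ (a : Fin t) (z : Fin n), (∀ j, v j ≠ z) ∧ T.a (v a) z ≠ 0
  · obtain ⟨a, z, hz, haz⟩ := hout
    obtain ⟨ha1, ha2⟩ := interior_of_out hv hmax z hz a haz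
    have hT : TreeData T v z a.val :=
      ⟨hv, hz, ha1, ha2, fun j hj => by rw [show j = a from Fin.ext hj]; exact haz⟩
    -- another outside vertex
    by_cases hG : ∃ (b : Fin t) (z' : Fin n), (∀ j, v j ≠ z') ∧ T.a (v b) z' ≠ 0 ∧ z' ≠ z
    · obtain ⟨b, z', hz', hbz', hne⟩ := hG
      obtain ⟨hb1, hb2⟩ := interior_of_out hv hmax z' hz' b hbz'
      refine Or.inr (Or.inr (Or.inr (Or.inr (Or.inr (Or.inr (Or.inl ?_))))))
      rcases le_total a.val b.val with hab | hab
      · exact dd_of_two_out hM hv z z' hz hz' (Ne.symm hne) a b ha1 hab (by omega) haz hbz'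
      · exact dd_of_two_out hM hv z' z hz' hz hne b a hb1 hab (by omega) hbz' haz
    push Not at hG
    by_cases hG2 : ∃ b : Fin t, b ≠ a ∧ T.a (v b) z ≠ 0
    · obtain ⟨b, hba, hbz⟩ := hG2
      have hval : b.val ≠ a.val := fun e => hba (Fin.ext e)
      rcases Nat.lt_or_ge a.val b.val with hab | hab
      · exact Or.inl (cyc_of_two_attach hM hv z hz a b hab haz hbz)
      · exact Or.inl (cyc_of_two_attach hM hv z hz b a (by omega) hbz haz)
    push Not at hG2
    have hnonadj : ∀ j : Fin t, j.val ≠ a.val → T.a (v j) z = 0 :=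
      fun j hj => hG2 j (fun e => hj (by rw [e]))
    -- further neighbours of the outside vertex
    by_cases hH : ∃ z2 : Fin n, z2 ≠ z ∧ (∀ j, v j ≠ z2) ∧ T.a z z2 ≠ 0
    · obtain ⟨z2, hz2z, hz2, hadj⟩ := hH
      exact Or.inr (Or.inr (Or.inr (Or.inr (Or.inr (Or.inr (Or.inr (Or.inl
        (e6_of_arm hM hT hmax z2 hz2 hz2z hadj))))))))
    push Not at hH
    -- everything is covered
    have hcover : ∀ i, i = z ∨ ∃ j, v j = i := by
      by_contra hcon
      push Not at hcon
      obtain ⟨i0, hi0z, hi0v⟩ := hcon
      set S : Finset (Fin n) := insert z (Finset.univ.image v) with hS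
      have hSne : S ≠ Finset.univ := by
        intro h
        have : i0 ∈ S := by rw [h]; exact Finset.mem_univ _
        rw [hS, Finset.mem_insert, Finset.mem_image] at this
        rcases this with h1 | ⟨j, -, h1⟩
        · exact hi0z h1
        · exact hi0v j h1
      obtain ⟨i', hi', k, hk, hik⟩ := T.connected S ⟨z, by simp [hS]⟩ hSne
      have hkz : k ≠ z := fun h => hk (by rw [h, hS]; simp)
      have hkv : ∀ j, v j ≠ k := fun j h => hk (by rw [← h, hS]; simp)
      rw [hS, Finset.mem_insert, Finset.mem_image] at hi'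
      rcases hi' with rfl | ⟨b, -, rfl⟩
      · exact hik (hH k hkz hkv)
      · exact hkz (hG b k hkv hik)
    -- double edges
    by_cases hJ : ∃ i j : Fin n, i ≠ j ∧ 2 * T.w i ≤ T.a i j
    · obtain ⟨i, j, hij, hd⟩ := hJ
      rcases bd_dispatch hM hT hch hnonadj hcover i j hij hd with h | h
      · exact Or.inr (Or.inr (Or.inr (Or.inr (Or.inl h))))
      · exact Or.inr (Or.inr (Or.inr (Or.inr (Or.inr (Or.inl h)))))
    push Not at hJ
    have hS : ∀ i j : Fin n, i ≠ j → T.a i j ≠ 0 → T.a i j = T.w i ∧ T.w j = T.w i := by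
      intro i j hij ha
      by_contra hns
      rcases hdbl i j hij ha hns with h | h
      · exact absurd h (not_le.mpr (hJ i j hij))
      · rw [a_symm] at h
        exact absurd h (not_le.mpr (hJ j i (Ne.symm hij)))
    have hfull : TreeFull T v z a.val := ⟨hT, hnonadj, hch, hcover, hS⟩
    rcases le_total (t - 1 - a.val) a.val with hab | hab
    · rcases rigid_tree hM hfull hab with h | h
      · exact Or.inr (Or.inr (Or.inr (Or.inr (Or.inr (Or.inr (Or.inr (Or.inr (Or.inl h))))))))
      · exact Or.inr (Or.inr (Or.inr (Or.inr (Or.inr (Or.inr (Or.inr (Or.inr (Or.inr (Or.inl h)))))))))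
    · rcases rigid_tree hM hfull.rev (by omega) with h | h
      · exact Or.inr (Or.inr (Or.inr (Or.inr (Or.inr (Or.inr (Or.inr (Or.inr (Or.inl h))))))))
      · exact Or.inr (Or.inr (Or.inr (Or.inr (Or.inr (Or.inr (Or.inr (Or.inr (Or.inr (Or.inl h)))))))))
  · -- the type is the path
    push Not at hout
    have hsurj : Function.Surjective v := by
      by_contra hcon
      have hSne : Finset.univ.image v ≠ Finset.univ := by
        intro h
        apply hcon
        intro i
        have : i ∈ Finset.univ.image v := by rw [h]; exact Finset.mem_univ _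
        obtain ⟨j, -, hj⟩ := Finset.mem_image.mp this
        exact ⟨j, hj⟩
      obtain ⟨i', hi', k, hk, hik⟩ := T.connected (Finset.univ.image v)
        ⟨v ⟨0, by omega⟩, Finset.mem_image.mpr ⟨_, Finset.mem_univ _, rfl⟩⟩ hSne
      obtain ⟨b, -, rfl⟩ := Finset.mem_image.mp hi'
      have hkv : ∀ j, v j ≠ k := fun j h => hk (by rw [← h]; simp)
      exact hik (hout b k hkv)
    have hP : PathFull T v := ⟨hv, hch, hsurj⟩
    by_cases hd : ∃ j j' : Fin t, j'.val = j.val + 1 ∧
        ¬ (T.a (v j) (v j') = T.w (v j) ∧ T.w (v j') = T.w (v j))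
    · obtain ⟨je, je', hje, hns⟩ := hd
      have hne : v je ≠ v je' := fun e => by have := congrArg Fin.val (v.injective e); omega
      have hty : (T.a (v je) (v je') = 2 * T.w (v je) ∧ T.w (v je') = 2 * T.w (v je)) ∨
          (T.a (v je) (v je') = 2 * T.w (v je') ∧ T.w (v je) = 2 * T.w (v je')) := by
        rcases hSD _ _ hne (hv je je' hje) with h | h | h
        · exact absurd h hns
        · exact Or.inl h
        · exact Or.inr h
      have hde := hdbl _ _ hne (hv je je' hje) hns
      have hSimple : ∀ j j' : Fin t, j'.val = j.val + 1 → j ≠ je →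
          T.a (v j) (v j') = T.w (v j) ∧ T.w (v j') = T.w (v j) := by
        intro j j' hjj' hjne
        by_contra hns'
        have hne' : v j ≠ v j' := fun e => by have := congrArg Fin.val (v.injective e); omega
        have hdj := hdbl _ _ hne' (hv j j' hjj') hns'
        have hval : j.val ≠ je.val := fun e => hjne (Fin.ext e)
        rcases Nat.lt_or_ge j.val je.val with hlt | hge
        · have h3 := h2d j j' je je' hjj' hje hlt hdj
          rcases hde with h4 | h4
          · linarith [h3.2]
          · linarith [h3.1]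
        · have h3 := h2d je je' j j' hje hjj' (by omega) hde
          rcases hdj with h4 | h4
          · linarith [h3.2]
          · linarith [h3.1]
      rcases rigid_path_one hM hP je je' hje hty hSimple with h | h
      · exact Or.inr (Or.inr (Or.inr (Or.inr (Or.inr (Or.inr (Or.inr (Or.inr (Or.inr (Or.inr (Or.inl h))))))))))
      · exact Or.inr (Or.inr (Or.inr (Or.inr (Or.inr (Or.inr (Or.inr (Or.inr (Or.inr (Or.inr (Or.inr h))))))))))
    · push Not at hd
      exact absurd (rigid_path_simple hM hP ht3 (fun j j' hjj' => hd j j' hjj')) id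

end Groth.Agent.Lib.Helper29.G1
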