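import Groth.Agent.Lib.Helper29.G1Tools

set_option autoImplicit false

namespace Groth.Agent.Lib.Helper29.G1

open Models Finset Groth.Agent.Lib.Helper29.NumType

variable {n : ℕ} (T : NumericalType n)

theorem cyc_exact {k : ℕ} (hk : 3 ≤ k) (v : Fin k ↪ Fin n) (hM : ∀ i, T.IsMinusTwo i)
    (hchain : ∀ j j' : Fin k, j'.val = j.val + 1 → T.a (v j) (v j') ≠ 0)
    (hclose : ∀ j j' : Fin k, j.val = 0 → j'.val + 1 = k → T.a (v j) (v j') ≠ 0) :
    ∃ σ m w, CycP T σ m w := by
  classical
  set ℓ : Fin k → Fin k → ℤ := fun j j' =>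
    if j'.val = j.val + 1 ∨ j.val = j'.val + 1 ∨ (j.val = 0 ∧ j'.val + 1 = k) ∨
      (j'.val = 0 ∧ j.val + 1 = k) then 1 else 0 with hℓdef
  have hadj : ∀ j j' : Fin k, j ≠ j' → ℓ j j' = 1 → T.a (v j) (v j') ≠ 0 := by
    intro j j' _ h
    simp only [hℓdef] at h
    split_ifs at h with hc
    · rcases hc with hc | hc | hc | hc
      · exact hchain j j' hc
      · rw [a_symm]; exact hchain j' j hc
      · exact hclose j j' hc.1 hc.2
      · rw [a_symm]; exact hclose j' j hc.1 hc.2
    · norm_num at h
  have hℓ01 : ∀ j j', ℓ j j' = 0 ∨ ℓ j j' = 1 := by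
    intro j j'; simp only [hℓdef]; split_ifs <;> simp
  obtain ⟨hsurj, hexact, hprop⟩ := pattern_exact T v (fun j => hM _) ℓ (fun _ => 1) (by omega)
    (fun _ => by norm_num) (by
      intro j j' hjj'
      rcases hℓ01 j j' with h | h
      · rw [h, mul_zero]; exact a_nonneg_emb T v hjj'
      · rw [h, mul_one]
        exact (le_a_of_ne T (fun e => hjj' (v.injective e)) (hadj j j' hjj' h)).1) (by
      intro j
      have hj := j.2
      set p : Fin k := ⟨if j.val + 1 = k then 0 else j.val + 1, by split_ifs <;> omega⟩ with hp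
      set q : Fin k := ⟨if j.val = 0 then k - 1 else j.val - 1, by split_ifs <;> omega⟩ with hq
      have hpq : p ≠ q := by
        intro h
        have := congrArg Fin.val h
        simp only [hp, hq] at this
        split_ifs at this <;> omega
      have hpj : p ≠ j := by
        intro h
        have := congrArg Fin.val h
        simp only [hp] at this
        split_ifs at this <;> omega
      have hqj : q ≠ j := by
        intro h
        have := congrArg Fin.val h
        simp only [hq] at this
        split_ifs at this <;> omega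
      have h2 := two_le_sum (fun j' => if j' = j then 0 else ℓ j j' * 1) (by
        intro j'
        split_ifs
        · exact le_refl 0
        · rcases hℓ01 j j' with h | h <;> rw [h] <;> norm_num) p q hpq
      have hlp : ℓ j p = 1 := by
        simp only [hℓdef, hp]
        rw [if_pos]
        split_ifs <;> omega
      have hlq : ℓ j q = 1 := by
        simp only [hℓdef, hq]
        rw [if_pos]
        split_ifs <;> omega
      simp only [if_neg hpj, if_neg hqj, hlp, hlq] at h2
      linarith)
  obtain rfl := card_eq_of_surj v hsurj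
  have hk0 : 0 < k := by omega
  have hw : ∀ j, T.w (v j) = T.w (v ⟨0, hk0⟩) := by
    apply chain_const hk0 (fun j => T.w (v j))
    intro j j' hjj'
    have hne : j ≠ j' := fun h => by rw [h] at hjj'; omega
    have e1 := hexact j j' hne
    have e2 := hexact j' j (Ne.symm hne)
    have l1 : ℓ j j' = 1 := by simp only [hℓdef]; rw [if_pos (Or.inl hjj')]
    have l2 : ℓ j' j = 1 := by simp only [hℓdef]; rw [if_pos (Or.inr (Or.inl hjj'))]
    rw [l1, mul_one] at e1
    rw [l2, mul_one, a_symm] at e2
    show T.w (v j') = T.w (v j)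
    rw [← e1, ← e2]
  refine ⟨permOfSurj v hsurj, T.m (v ⟨0, hk0⟩), T.w (v ⟨0, hk0⟩), ?_, ?_, ?_, ?_, ?_⟩
  · intro i
    have := hprop i ⟨0, hk0⟩
    simp only [permOfSurj_apply]
    linarith
  · intro i
    simp only [permOfSurj_apply]
    exact hw i
  · intro i j hij hj
    simp only [permOfSurj_apply]
    rw [hexact i j (fun h => by rw [h] at hij; omega), hw i]
    simp only [hℓdef]
    rw [if_pos (Or.inl hj), mul_one]
  · intro i j hij hj
    simp only [permOfSurj_apply]
    rw [hexact i j (fun h => by rw [h] at hij; omega), hw i]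
    simp only [hℓdef]
    rw [if_pos (Or.inr (Or.inr (Or.inl hj))), mul_one]
  · intro i j hij h1 h2
    simp only [permOfSurj_apply]
    rw [hexact i j (fun h => by rw [h] at hij; omega)]
    simp only [hℓdef]
    rw [if_neg, mul_zero]
    push Not
    refine ⟨h1, by omega, fun h => ?_, by omega⟩
    intro h'
    exact h2 ⟨h, h'⟩

end Groth.Agent.Lib.Helper29.G1
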