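import Groth.Agent.Lib.Helper29.G1Tools

set_option autoImplicit false

namespace Groth.Agent.Lib.Helper29.G1

open Models Finset Groth.Agent.Lib.Helper29.NumType

variable {n : ℕ} (T : NumericalType n)

/-- adjacency of the double fork: `0, 1` attached to `2`, chain `2 … k-3`, and `k-2, k-1` attached
to `k-3` -/
def adjdd (k : ℕ) (j j' : Fin k) : Prop :=
  (j.val = 0 ∧ j'.val = 2) ∨ (j.val = 1 ∧ j'.val = 2) ∨
    (j'.val = j.val + 1 ∧ 2 ≤ j.val ∧ j'.val + 2 ≤ k) ∨ (j.val + 3 = k ∧ j'.val + 1 = k)

instance (k : ℕ) (j j' : Fin k) : Decidable (adjdd k j j') := by unfold adjdd; infer_instance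

/-- Cartan integers of the double fork -/
def ℓdd (k : ℕ) (j j' : Fin k) : ℤ := if adjdd k j j' ∨ adjdd k j' j then 1 else 0

/-- the null vector of the double fork -/
def xdd (k : ℕ) (j : Fin k) : ℤ := if j.val ≤ 1 ∨ k ≤ j.val + 2 then 1 else 2

lemma ℓdd_nonneg (k : ℕ) (j j' : Fin k) : 0 ≤ ℓdd k j j' := by
  unfold ℓdd; split_ifs <;> norm_num

lemma xdd_pos (k : ℕ) (j : Fin k) : 0 < xdd k j := by
  unfold xdd; split_ifs <;> norm_num

theorem dd_exact {k : ℕ} (hk : 5 ≤ k) (v : Fin k ↪ Fin n) (hM : ∀ i, T.IsMinusTwo i)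
    (hadj : ∀ j j' : Fin k, adjdd k j j' → T.a (v j) (v j') ≠ 0) :
    ∃ σ m w, DDP T σ m w := by
  classical
  obtain ⟨hsurj, hexact, hprop⟩ := pattern_exact T v (fun j => hM _) (ℓdd k) (xdd k) (by omega)
    (xdd_pos k) (by
      intro j j' hjj'
      have hne : v j ≠ v j' := fun e => hjj' (v.injective e)
      have hnn := a_nonneg_emb T v hjj'
      unfold ℓdd
      split_ifs with c
      · rcases c with c | c
        · have := (le_a_of_ne T hne (hadj j j' c)).1; linarith
        · have := (le_a_of_ne T hne (by rw [a_symm]; exact hadj j' j c)).1; linarith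
      · linarith) (by
      intro j
      have hj := j.2
      have hf : ∀ j', 0 ≤ (if j' = j then 0 else ℓdd k j j' * xdd k j') := by
        intro j'
        split_ifs
        · exact le_refl 0
        · exact mul_nonneg (ℓdd_nonneg _ _ _) (xdd_pos _ _).le
      by_cases hj1 : j.val ≤ 1
      · -- the leaves 0, 1
        have h2 := one_le_sum _ hf ⟨2, by omega⟩
        rw [if_neg (by fin_ne)] at h2
        refine le_trans ?_ h2
        unfold ℓdd xdd adjdd
        simp
        idx_close
      · by_cases hjl : k ≤ j.val + 2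
        · -- the leaves k-2, k-1
          have h2 := one_le_sum _ hf ⟨k - 3, by omega⟩
          rw [if_neg (by fin_ne)] at h2
          refine le_trans ?_ h2
          unfold ℓdd xdd adjdd
          simp
          idx_close
        · have hx : xdd k j = 2 := by unfold xdd; rw [if_neg]; omega
          rw [hx]
          by_cases hk5 : k = 5
          · -- the star
            subst hk5
            have hj2 : j = ⟨2, by omega⟩ := Fin.ext (by simp; omega)
            have h2 := four_le_sum _ hf ⟨0, by omega⟩ ⟨1, by omega⟩ ⟨3, by omega⟩ ⟨4, by omega⟩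
              (by fin_ne) (by fin_ne) (by fin_ne) (by fin_ne) (by fin_ne) (by fin_ne)
            rw [if_neg (by rw [hj2]; fin_ne), if_neg (by rw [hj2]; fin_ne), if_neg (by rw [hj2]; fin_ne),
              if_neg (by rw [hj2]; fin_ne)] at h2
            refine le_trans ?_ h2
            rw [hj2]
            unfold ℓdd xdd adjdd
            simp
          · by_cases hja : j.val = 2
            · have h2 := three_le_sum _ hf ⟨0, by omega⟩ ⟨1, by omega⟩ ⟨3, by omega⟩
                (by fin_ne) (by fin_ne) (by fin_ne)
              rw [if_neg (by fin_ne), if_neg (by fin_ne), if_neg (by fin_ne)] at h2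
              refine le_trans ?_ h2
              have t1 : ℓdd k j ⟨0, by omega⟩ * xdd k ⟨0, by omega⟩ = 1 := by
                unfold ℓdd xdd adjdd; simp; idx_close
              have t2 : ℓdd k j ⟨1, by omega⟩ * xdd k ⟨1, by omega⟩ = 1 := by
                unfold ℓdd xdd adjdd; simp; idx_close
              have t3 : ℓdd k j ⟨3, by omega⟩ * xdd k ⟨3, by omega⟩ = 2 := by
                unfold ℓdd xdd adjdd; simp; idx_close
              rw [t1, t2, t3]; norm_num
            · by_cases hjb : j.val + 3 = k
              · have h2 := three_le_sum _ hf ⟨k - 4, by omega⟩ ⟨k - 2, by omega⟩ ⟨k - 1, by omega⟩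
                  (by fin_ne) (by fin_ne) (by fin_ne)
                rw [if_neg (by fin_ne), if_neg (by fin_ne), if_neg (by fin_ne)] at h2
                refine le_trans ?_ h2
                have t1 : ℓdd k j ⟨k - 4, by omega⟩ * xdd k ⟨k - 4, by omega⟩ = 2 := by
                  unfold ℓdd xdd adjdd; simp; idx_close
                have t2 : ℓdd k j ⟨k - 2, by omega⟩ * xdd k ⟨k - 2, by omega⟩ = 1 := by
                  unfold ℓdd xdd adjdd; simp; idx_close
                have t3 : ℓdd k j ⟨k - 1, by omega⟩ * xdd k ⟨k - 1, by omega⟩ = 1 := by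
                  unfold ℓdd xdd adjdd; simp; idx_close
                rw [t1, t2, t3]; norm_num
              · have h2 := two_le_sum _ hf ⟨j.val - 1, by omega⟩ ⟨j.val + 1, by omega⟩ (by fin_ne)
                rw [if_neg (by fin_ne), if_neg (by fin_ne)] at h2
                refine le_trans ?_ h2
                have t1 : ℓdd k j ⟨j.val - 1, by omega⟩ * xdd k ⟨j.val - 1, by omega⟩ = 2 := by
                  unfold ℓdd xdd adjdd; simp; idx_close
                have t2 : ℓdd k j ⟨j.val + 1, by omega⟩ * xdd k ⟨j.val + 1, by omega⟩ = 2 := by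
                  unfold ℓdd xdd adjdd; simp; idx_close
                rw [t1, t2]; norm_num)
  obtain rfl := card_eq_of_surj v hsurj
  have hedge : ∀ j j' : Fin k, adjdd k j j' → T.w (v j) = T.w (v j') := by
    intro j j' h
    have hne : j ≠ j' := by
      intro e; subst e; unfold adjdd at h; omega
    have e1 := hexact j j' hne
    have e2 := hexact j' j (Ne.symm hne)
    have l1 : ℓdd k j j' = 1 := by unfold ℓdd; rw [if_pos (Or.inl h)]
    have l2 : ℓdd k j' j = 1 := by unfold ℓdd; rw [if_pos (Or.inr h)]
    rw [l1, mul_one] at e1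
    rw [l2, mul_one, a_symm] at e2
    rw [← e1, ← e2]
  have hch : ∀ (j : ℕ) (hj : j < k), 2 ≤ j → j + 2 ≤ k → T.w (v ⟨j, hj⟩) = T.w (v ⟨2, by omega⟩) := by
    intro j
    induction j with
    | zero => intro _ h; omega
    | succ i ih =>
      intro hj h1 h2
      by_cases hi : i = 1
      · subst hi; rfl
      · rw [← ih (by omega) (by omega) (by omega)]
        exact (hedge ⟨i, by omega⟩ ⟨i + 1, hj⟩ (by unfold adjdd; simp; omega)).symm
  have hw : ∀ j : Fin k, T.w (v j) = T.w (v ⟨2, by omega⟩) := by
    intro j
    have hj := j.2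
    by_cases h0 : j.val = 0
    · exact hedge j ⟨2, by omega⟩ (by unfold adjdd; simp; omega)
    · by_cases h1 : j.val = 1
      · exact hedge j ⟨2, by omega⟩ (by unfold adjdd; simp; omega)
      · by_cases h2 : j.val + 2 ≤ k
        · exact hch j.val j.2 (by omega) h2
        · rw [← hedge ⟨k - 3, by omega⟩ j (by unfold adjdd; simp; omega)]
          exact hch (k - 3) (by omega) (by omega) (by omega)
  have x0 : xdd k ⟨0, by omega⟩ = 1 := by unfold xdd; simp
  refine ⟨permOfSurj v hsurj, T.m (v ⟨0, by omega⟩), T.w (v ⟨2, by omega⟩), ?_, ?_, ?_, ?_, ?_, ?_, ?_, ?_, ?_⟩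
  · intro i hi
    simp only [permOfSurj_apply]
    have := hprop i ⟨0, by omega⟩
    have x1 : xdd k i = 1 := by unfold xdd; simp; idx_close
    rw [x1, x0] at this
    linarith
  · intro i hi
    simp only [permOfSurj_apply]
    have := hprop i ⟨0, by omega⟩
    have x1 : xdd k i = 2 := by unfold xdd; simp; idx_close
    rw [x1, x0] at this
    linarith
  · intro i hi
    simp only [permOfSurj_apply]
    have := hprop i ⟨0, by omega⟩
    have x1 : xdd k i = 1 := by unfold xdd; simp; idx_close
    rw [x1, x0] at this
    linarith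
  · intro i
    simp only [permOfSurj_apply]
    exact hw i
  · intro i j hij hj
    simp only [permOfSurj_apply]
    rw [hexact i j (by fin_ne), hw i]
    have l : ℓdd k i j = 1 := by unfold ℓdd adjdd; simp; idx_close
    rw [l, mul_one]
  · intro i j hij hj
    simp only [permOfSurj_apply]
    rw [hexact i j (by fin_ne), hw i]
    have l : ℓdd k i j = 1 := by unfold ℓdd adjdd; simp; idx_close
    rw [l, mul_one]
  · intro i j hij hj
    simp only [permOfSurj_apply]
    rw [hexact i j (by fin_ne), hw i]
    have l : ℓdd k i j = 1 := by unfold ℓdd adjdd; simp; idx_close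
    rw [l, mul_one]
  · intro i j hij hj
    simp only [permOfSurj_apply]
    rw [hexact i j (by fin_ne), hw i]
    have l : ℓdd k i j = 1 := by unfold ℓdd adjdd; simp; idx_close
    rw [l, mul_one]
  · intro i j hij c1 c2 c3 c4
    simp only [permOfSurj_apply]
    rw [hexact i j (by fin_ne)]
    have l : ℓdd k i j = 0 := by unfold ℓdd adjdd; simp; idx_close
    rw [l, mul_zero]

end Groth.Agent.Lib.Helper29.G1
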