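import Groth.Agent.Lib.Helper29.G1Tools

set_option autoImplicit false

namespace Groth.Agent.Lib.Helper29.G1

open Models Finset Groth.Agent.Lib.Helper29.NumType

variable {n : ℕ} (T : NumericalType n)

/-- a type on `k` indices given by explicit multiplicities `X`, weights `Wt` and intersection
numbers `A` (up to the scalars `m`, `w`) -/
def FixedType (k : ℕ) (X Wt : Fin k → ℤ) (A : Fin k → Fin k → ℤ) : Prop :=
  ∃ (v : Fin k ↪ Fin n), Function.Surjective v ∧ ∃ m w : ℤ,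
    ∀ j, T.m (v j) = m * X j ∧ T.w (v j) = w * Wt j ∧ ∀ j', j ≠ j' → T.a (v j) (v j') = w * A j j'

/-- multiplicities of the completed `E6` -/
def XE6 : Fin 7 → ℤ := ![1, 2, 3, 1, 2, 1, 2]
/-- adjacency of the completed `E6`: chains `0-1-2`, `3-4-2`, `5-6-2` -/
def AE6 : Fin 7 → Fin 7 → ℤ :=
  ![![0, 1, 0, 0, 0, 0, 0], ![1, 0, 1, 0, 0, 0, 0], ![0, 1, 0, 0, 1, 0, 1], ![0, 0, 0, 0, 1, 0, 0],
    ![0, 0, 1, 1, 0, 0, 0], ![0, 0, 0, 0, 0, 0, 1], ![0, 0, 1, 0, 0, 1, 0]]

theorem e6_exact (v : Fin 7 ↪ Fin n) (hM : ∀ i, T.IsMinusTwo i)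
    (h01 : T.a (v 0) (v 1) ≠ 0) (h12 : T.a (v 1) (v 2) ≠ 0) (h34 : T.a (v 3) (v 4) ≠ 0)
    (h42 : T.a (v 4) (v 2) ≠ 0) (h56 : T.a (v 5) (v 6) ≠ 0) (h62 : T.a (v 6) (v 2) ≠ 0) :
    FixedType T 7 XE6 (fun _ => 1) AE6 := by
  classical
  have hadj : ∀ j j' : Fin 7, AE6 j j' = 1 → T.a (v j) (v j') ≠ 0 := by
    intro j j' h
    fin_cases j <;> fin_cases j' <;> simp [AE6] at h ⊢
    · exact h01
    · rw [a_symm]; exact h01
    · exact h12
    · rw [a_symm]; exact h12
    · rw [a_symm]; exact h42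
    · rw [a_symm]; exact h62
    · exact h34
    · exact h42
    · rw [a_symm]; exact h34
    · exact h56
    · exact h62
    · rw [a_symm]; exact h56
  have h01' : ∀ j j' : Fin 7, AE6 j j' = 0 ∨ AE6 j j' = 1 := by
    intro j j'; fin_cases j <;> fin_cases j' <;> simp [AE6]
  obtain ⟨hsurj, hexact, hprop⟩ := pattern_exact T v (fun j => hM _) AE6 XE6 (by norm_num)
    (by intro j; fin_cases j <;> simp [XE6]) (by
      intro j j' hjj'
      have hne : v j ≠ v j' := fun e => hjj' (v.injective e)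
      rcases h01' j j' with h | h
      · rw [h, mul_zero]; exact a_nonneg_emb T v hjj'
      · rw [h, mul_one]; exact (le_a_of_ne T hne (hadj j j' h)).1) (by
      intro j
      fin_cases j <;> simp [Fin.sum_univ_succ, AE6, XE6])
  have hwe : ∀ j j' : Fin 7, AE6 j j' = 1 → T.w (v j) = T.w (v j') := by
    intro j j' h
    have hne : j ≠ j' := by
      intro e; subst e; fin_cases j <;> simp [AE6] at h
    have hs : AE6 j' j = 1 := by
      fin_cases j <;> fin_cases j' <;> simp [AE6] at h ⊢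
    have e1 := hexact j j' hne
    have e2 := hexact j' j (Ne.symm hne)
    rw [h, mul_one] at e1
    rw [hs, mul_one, a_symm] at e2
    rw [← e1, ← e2]
  have w1 := hwe 0 1 (by simp [AE6])
  have w2 := hwe 1 2 (by simp [AE6])
  have w3 := hwe 3 4 (by simp [AE6])
  have w4 := hwe 4 2 (by simp [AE6])
  have w5 := hwe 5 6 (by simp [AE6])
  have w6 := hwe 6 2 (by simp [AE6])
  have hw : ∀ j : Fin 7, T.w (v j) = T.w (v 0) := by
    intro j; fin_cases j <;> simp <;> linarith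
  refine ⟨v, hsurj, T.m (v 0), T.w (v 0), fun j => ⟨?_, by rw [hw j]; ring, fun j' hjj' => ?_⟩⟩
  · have := hprop 0 j
    simp only [XE6, Matrix.cons_val_zero] at this ⊢
    linarith
  · rw [hexact j j' hjj', hw j]

end Groth.Agent.Lib.Helper29.G1
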