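import Groth.Agent.Lib.Helper29.G1Tools

/-!
# Constructions of embeddings `Fin k ↪ Fin n`
-/

set_option autoImplicit false

namespace Groth.Agent.Lib.Helper29.G1

open Models Finset

variable {n : ℕ}

/-- embedding of a segment of indices -/
def segEmb {t : ℕ} (a len : ℕ) (h : a + len ≤ t) : Fin len ↪ Fin t :=
  ⟨fun i => ⟨a + i.val, by have := i.2; omega⟩, by
    intro i j hij
    simp only [Fin.mk.injEq] at hij
    exact Fin.ext (by omega)⟩

@[simp] lemma segEmb_val {t : ℕ} (a len : ℕ) (h : a + len ≤ t) (i : Fin len) :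
    (segEmb a len h i).val = a + i.val := rfl

/-- the reversal of `Fin t` -/
def revFin (t : ℕ) : Fin t ↪ Fin t := ⟨Fin.rev, Fin.rev_injective⟩

@[simp] lemma revFin_val (t : ℕ) (i : Fin t) : (revFin t i).val = t - (i.val + 1) := Fin.val_rev i

/-- append a new index to an embedding -/
def snocEmb {k : ℕ} (e : Fin k ↪ Fin n) (z : Fin n) (hz : ∀ j, e j ≠ z) : Fin (k + 1) ↪ Fin n :=
  ⟨fun j => if h : j.val < k then e ⟨j.val, h⟩ else z, by
    intro i j hij
    simp only at hij
    split_ifs at hij with h1 h2 h2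
    · have := e.injective hij
      exact Fin.ext (by simpa using this)
    · exact absurd hij (hz _)
    · exact absurd hij.symm (hz _)
    · exact Fin.ext (by have := i.2; have := j.2; omega)⟩

lemma snocEmb_of_lt {k : ℕ} (e : Fin k ↪ Fin n) (z : Fin n) (hz : ∀ j, e j ≠ z) (j : Fin (k + 1))
    (h : j.val < k) : snocEmb e z hz j = e ⟨j.val, h⟩ := by
  show (if h : j.val < k then e ⟨j.val, h⟩ else z) = _
  rw [dif_pos h]

lemma snocEmb_of_eq {k : ℕ} (e : Fin k ↪ Fin n) (z : Fin n) (hz : ∀ j, e j ≠ z) (j : Fin (k + 1))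
    (h : j.val = k) : snocEmb e z hz j = z := by
  show (if h : j.val < k then e ⟨j.val, h⟩ else z) = _
  rw [dif_neg (by omega)]

/-- prepend a new index to an embedding -/
def consEmb {k : ℕ} (z : Fin n) (e : Fin k ↪ Fin n) (hz : ∀ j, e j ≠ z) : Fin (k + 1) ↪ Fin n :=
  ⟨fun j => if h : j.val = 0 then z else e ⟨j.val - 1, by have := j.2; omega⟩, by
    intro i j hij
    simp only at hij
    split_ifs at hij with h1 h2 h2
    · exact Fin.ext (by omega)
    · exact absurd hij.symm (hz _)
    · exact absurd hij (hz _)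
    · have := e.injective hij
      exact Fin.ext (by simp at this; omega)⟩

lemma consEmb_of_zero {k : ℕ} (z : Fin n) (e : Fin k ↪ Fin n) (hz : ∀ j, e j ≠ z) (j : Fin (k + 1))
    (h : j.val = 0) : consEmb z e hz j = z := by
  show (if h : j.val = 0 then z else e ⟨j.val - 1, _⟩) = _
  rw [dif_pos h]

lemma consEmb_of_pos {k : ℕ} (z : Fin n) (e : Fin k ↪ Fin n) (hz : ∀ j, e j ≠ z) (j : Fin (k + 1))
    (h : 0 < j.val) : consEmb z e hz j = e ⟨j.val - 1, by have := j.2; omega⟩ := by
  show (if h : j.val = 0 then z else e ⟨j.val - 1, _⟩) = _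
  rw [dif_neg (by omega)]

end Groth.Agent.Lib.Helper29.G1
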