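import Groth.Agent.Lib.Helper29.G1Tools

set_option autoImplicit false

namespace Groth.Agent.Lib.Helper29.G1

open Models Finset Groth.Agent.Lib.Helper29.NumType

variable {n : ℕ} (T : NumericalType n)

/-- pattern: `v0 - v1 ≡ v2` with `v2` heavy (three times the weight of `v1`) -/
theorem g2_heavy (v : Fin 3 ↪ Fin n) (hM : ∀ i, T.IsMinusTwo i)
    (h01 : T.a (v 0) (v 1) ≠ 0) (h12 : 3 * T.w (v 1) ≤ T.a (v 1) (v 2)) :
    n = 3 ∧ Function.Surjective v ∧ T.m (v 1) = 2 * T.m (v 0) ∧ T.m (v 2) = T.m (v 0) ∧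
      T.w (v 1) = T.w (v 0) ∧ T.w (v 2) = 3 * T.w (v 0) ∧
      T.a (v 0) (v 1) = T.w (v 0) ∧ T.a (v 0) (v 2) = 0 ∧ T.a (v 1) (v 2) = 3 * T.w (v 0) := by
  classical
  have h12' : T.a (v 1) (v 2) ≠ 0 := by
    have := T.w_pos (v 1); intro h; rw [h] at h12; linarith
  obtain ⟨hsurj, hexact, hprop⟩ := pattern_exact T v (fun j => hM _)
    ![![0, 1, 0], ![1, 0, 3], ![0, 1, 0]] ![1, 2, 1] (by norm_num)
    (by intro j; fin_cases j <;> simp) (by
      intro j j' hjj'
      have hne : v j ≠ v j' := fun e => hjj' (v.injective e)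
      have hnn := a_nonneg_emb T v hjj'
      fin_cases j <;> fin_cases j' <;> simp at hjj' ⊢
      · exact (le_a_of_ne T hne h01).1
      · exact hnn
      · exact (le_a_of_ne T hne (by rw [a_symm]; exact h01)).1
      · linarith
      · exact hnn
      · exact (le_a_of_ne T hne (by rw [a_symm]; exact h12')).1) (by
      intro j
      fin_cases j <;> simp [Fin.sum_univ_three])
  have e01 := hexact 0 1 (by decide)
  have e10 := hexact 1 0 (by decide)
  have e02 := hexact 0 2 (by decide)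
  have e12 := hexact 1 2 (by decide)
  have e21 := hexact 2 1 (by decide)
  have p01 := hprop 0 1
  have p02 := hprop 0 2
  simp at e01 e10 e02 e12 e21 p01 p02
  rw [a_symm] at e10
  rw [a_symm] at e21
  have hw1 : T.w (v 1) = T.w (v 0) := by linarith
  refine ⟨(card_eq_of_surj v hsurj).symm, hsurj, by linarith, by linarith, hw1, by linarith, e01, e02, by linarith⟩

/-- pattern: `v0 - v1 ≡ v2` with `v2` light (`v1` has three times the weight of `v2`) -/
theorem g2_light (v : Fin 3 ↪ Fin n) (hM : ∀ i, T.IsMinusTwo i)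
    (h01 : T.a (v 0) (v 1) ≠ 0) (h12 : 3 * T.w (v 2) ≤ T.a (v 1) (v 2)) :
    n = 3 ∧ Function.Surjective v ∧ T.m (v 1) = 2 * T.m (v 0) ∧ T.m (v 2) = 3 * T.m (v 0) ∧
      T.w (v 0) = 3 * T.w (v 2) ∧ T.w (v 1) = 3 * T.w (v 2) ∧
      T.a (v 0) (v 1) = 3 * T.w (v 2) ∧ T.a (v 0) (v 2) = 0 ∧ T.a (v 1) (v 2) = 3 * T.w (v 2) := by
  classical
  have h12' : T.a (v 1) (v 2) ≠ 0 := by
    have := T.w_pos (v 2); intro h; rw [h] at h12; linarith
  obtain ⟨hsurj, hexact, hprop⟩ := pattern_exact T v (fun j => hM _)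
    ![![0, 1, 0], ![1, 0, 1], ![0, 3, 0]] ![1, 2, 3] (by norm_num)
    (by intro j; fin_cases j <;> simp) (by
      intro j j' hjj'
      have hne : v j ≠ v j' := fun e => hjj' (v.injective e)
      have hnn := a_nonneg_emb T v hjj'
      fin_cases j <;> fin_cases j' <;> simp at hjj' ⊢
      · exact (le_a_of_ne T hne h01).1
      · exact hnn
      · exact (le_a_of_ne T hne (by rw [a_symm]; exact h01)).1
      · exact (le_a_of_ne T hne h12').1
      · exact hnn
      · rw [a_symm]; linarith) (by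
      intro j
      fin_cases j <;> simp [Fin.sum_univ_three])
  have e01 := hexact 0 1 (by decide)
  have e10 := hexact 1 0 (by decide)
  have e02 := hexact 0 2 (by decide)
  have e12 := hexact 1 2 (by decide)
  have e21 := hexact 2 1 (by decide)
  have p01 := hprop 0 1
  have p02 := hprop 0 2
  simp at e01 e10 e02 e12 e21 p01 p02
  rw [a_symm] at e10
  rw [a_symm] at e21
  refine ⟨(card_eq_of_surj v hsurj).symm, hsurj, by linarith, by linarith, by linarith, by linarith,
    by linarith, e02, by linarith⟩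

end Groth.Agent.Lib.Helper29.G1
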