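import Groth.Agent.Lib.Helper29.G1Tools

/-!
# Types of edges between (-2)-indices (at least three indices)
-/

set_option autoImplicit false

namespace Groth.Agent.Lib.Helper29.G1

open Models Finset Groth.Agent.Lib.Helper29.NumType

variable {n : ℕ} (T : NumericalType n)

/-- embedding of two distinct indices -/
def emb2 (i j : Fin n) (hij : i ≠ j) : Fin 2 ↪ Fin n :=
  ⟨![i, j], by
    intro a b h
    fin_cases a <;> fin_cases b <;> simp_all [Ne.symm hij]⟩

/-- embedding of three distinct indices -/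
def emb3 (i j k : Fin n) (hij : i ≠ j) (hjk : j ≠ k) (hik : i ≠ k) : Fin 3 ↪ Fin n :=
  ⟨![i, j, k], by
    intro a b h
    fin_cases a <;> fin_cases b <;> simp_all [Ne.symm hij, Ne.symm hjk, Ne.symm hik]⟩

@[simp] lemma emb3_zero (i j k : Fin n) (hij : i ≠ j) (hjk : j ≠ k) (hik : i ≠ k) :
    emb3 i j k hij hjk hik 0 = i := rfl
@[simp] lemma emb3_one (i j k : Fin n) (hij : i ≠ j) (hjk : j ≠ k) (hik : i ≠ k) :
    emb3 i j k hij hjk hik 1 = j := rfl
@[simp] lemma emb3_two (i j k : Fin n) (hij : i ≠ j) (hjk : j ≠ k) (hik : i ≠ k) :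
    emb3 i j k hij hjk hik 2 = k := rfl

/-- the five types of edges between `(-2)`-indices when there are at least three indices -/
theorem pair_types (hn : 2 < n) {i j : Fin n} (hij : i ≠ j) (hi : T.IsMinusTwo i)
    (hj : T.IsMinusTwo j) (ha : T.a i j ≠ 0) :
    (T.a i j = T.w i ∧ T.w j = T.w i) ∨ (T.a i j = 2 * T.w i ∧ T.w j = 2 * T.w i) ∨
      (T.a i j = 2 * T.w j ∧ T.w i = 2 * T.w j) ∨ (T.a i j = 3 * T.w i ∧ T.w j = 3 * T.w i) ∨
      (T.a i j = 3 * T.w j ∧ T.w i = 3 * T.w j) := by
  have hpos : 0 < T.a i j := lt_of_le_of_ne (T.offDiag_nonneg i j hij) (Ne.symm ha)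
  obtain ⟨p, q, hp, hq, e1, f1⟩ := exists_quot T i j hpos
  have hwi := T.w_pos i
  have hwj := T.w_pos j
  have hneg := neg2 T hn (emb2 i j hij) (T.a i j) (2 * T.w i) (Or.inl ha)
  have v0 : emb2 i j hij 0 = i := rfl
  have v1 : emb2 i j hij 1 = j := rfl
  rw [v0, v1, hi.2, hj.2] at hneg
  -- a² < 4 w_i w_j
  have h4 : T.a i j * T.a i j < 4 * (T.w i * T.w j) := by
    have : T.w i * (T.a i j * T.a i j - 4 * (T.w i * T.w j)) < 0 := by nlinarith
    have := (mul_neg_iff.mp this)
    rcases this with ⟨_, h⟩ | ⟨h, _⟩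
    · linarith
    · linarith
  have hpq : p * q < 4 := by
    have : (p * q) * (T.w i * T.w j) < 4 * (T.w i * T.w j) := by
      calc (p * q) * (T.w i * T.w j) = (p * T.w i) * (q * T.w j) := by ring
        _ = T.a i j * T.a i j := by rw [← e1, ← f1]
        _ < 4 * (T.w i * T.w j) := h4
    exact lt_of_mul_lt_mul_right this (mul_pos hwi hwj).le
  have hp3 : p ≤ 3 := by nlinarith
  have hq3 : q ≤ 3 := by nlinarith
  interval_cases p <;> interval_cases q <;> simp at hpq
  · left; constructor <;> linarith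
  · right; right; left; constructor <;> linarith
  · right; right; right; right; constructor <;> linarith
  · right; left; constructor <;> linarith
  · right; right; right; left; constructor <;> linarith

end Groth.Agent.Lib.Helper29.G1
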