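import Groth.Agent.Lib.Helper29.G1Emb
import Groth.Agent.Lib.Helper29.G1Pair

set_option autoImplicit false

namespace Groth.Agent.Lib.Helper29.G1

open Models Finset Groth.Agent.Lib.Helper29.NumType

variable {n : ℕ} (T : NumericalType n)

/-- paths in the graph of `T` -/
def IsPath {t : ℕ} (v : Fin t ↪ Fin n) : Prop :=
  ∀ j j' : Fin t, j'.val = j.val + 1 → T.a (v j) (v j') ≠ 0

variable {T}

lemma IsPath.rev {t : ℕ} {v : Fin t ↪ Fin n} (h : IsPath T v) : IsPath T ((revFin t).trans v) := by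
  intro j j' hjj'
  simp only [Function.Embedding.trans_apply]
  rw [a_symm]
  apply h
  simp only [revFin_val]
  have := j'.2
  omega

lemma IsPath.seg {t : ℕ} {v : Fin t ↪ Fin n} (h : IsPath T v) (a len : ℕ) (hl : a + len ≤ t) :
    IsPath T ((segEmb a len hl).trans v) := by
  intro j j' hjj'
  simp only [Function.Embedding.trans_apply]
  apply h
  simp only [segEmb_val]
  omega

lemma IsPath.cons {t : ℕ} {v : Fin t ↪ Fin n} (h : IsPath T v) (z : Fin n) (hz : ∀ j, v j ≠ z)
    (hadj : ∀ j : Fin t, j.val = 0 → T.a z (v j) ≠ 0) : IsPath T (consEmb z v hz) := by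
  intro j j' hjj'
  by_cases hj : j.val = 0
  · rw [consEmb_of_zero z v hz j hj, consEmb_of_pos z v hz j' (by omega)]
    exact hadj _ (by simp; omega)
  · rw [consEmb_of_pos z v hz j (by omega), consEmb_of_pos z v hz j' (by omega)]
    apply h
    simp only
    omega

lemma IsPath.snoc {t : ℕ} {v : Fin t ↪ Fin n} (h : IsPath T v) (z : Fin n) (hz : ∀ j, v j ≠ z)
    (hadj : ∀ j : Fin t, j.val + 1 = t → T.a (v j) z ≠ 0) : IsPath T (snocEmb v z hz) := by
  intro j j' hjj'
  have hj' := j'.2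
  by_cases hj : j'.val = t
  · rw [snocEmb_of_eq v z hz j' hj, snocEmb_of_lt v z hz j (by omega)]
    exact hadj _ (by simp; omega)
  · rw [snocEmb_of_lt v z hz j (by omega), snocEmb_of_lt v z hz j' (by omega)]
    apply h
    simp only
    omega

variable (T)

lemma exists_path3 (hn : 3 ≤ n) : ∃ v : Fin 3 ↪ Fin n, IsPath T v := by
  classical
  have h0 : 0 < n := by omega
  obtain ⟨i, hi, j, hj, h0j⟩ := T.connected {⟨0, h0⟩} (Finset.singleton_nonempty _) (by
    intro h
    have := congrArg Finset.card h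
    simp at this
    omega)
  rw [Finset.mem_singleton] at hi
  subst hi
  have hj0 : j ≠ ⟨0, h0⟩ := fun h => hj (by rw [h]; exact Finset.mem_singleton_self _)
  obtain ⟨i', hi', k, hk, hik⟩ := T.connected {⟨0, h0⟩, j} ⟨⟨0, h0⟩, by simp⟩ (by
    intro h
    have := congrArg Finset.card h
    rw [Finset.card_pair (Ne.symm hj0)] at this
    simp at this
    omega)
  have hk0 : k ≠ ⟨0, h0⟩ := fun h => hk (by rw [h]; simp)
  have hkj : k ≠ j := fun h => hk (by rw [h]; simp)
  rw [Finset.mem_insert, Finset.mem_singleton] at hi'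
  rcases hi' with rfl | rfl
  · refine ⟨emb3 j ⟨0, h0⟩ k hj0 (Ne.symm hk0) (Ne.symm hkj), ?_⟩
    intro a b hab
    fin_cases a <;> fin_cases b <;> simp at hab ⊢
    · rw [a_symm]; exact h0j
    · exact hik
  · refine ⟨emb3 ⟨0, h0⟩ i' k (Ne.symm hj0) (Ne.symm hkj) (Ne.symm hk0), ?_⟩
    intro a b hab
    fin_cases a <;> fin_cases b <;> simp at hab ⊢
    · exact h0j
    · exact hik

/-- a longest path -/
lemma exists_longest_path (hn : 3 ≤ n) :
    ∃ (t : ℕ) (v : Fin t ↪ Fin n), IsPath T v ∧ 3 ≤ t ∧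
      ∀ (t' : ℕ) (v' : Fin t' ↪ Fin n), IsPath T v' → t' ≤ t := by
  classical
  set P : ℕ → Prop := fun t' => ∃ v' : Fin t' ↪ Fin n, IsPath T v' with hP
  have hle : ∀ t', P t' → t' ≤ n := by
    rintro t' ⟨v', -⟩
    have := Fintype.card_le_of_embedding v'
    simpa using this
  have h3 : P 3 := exists_path3 T hn
  obtain ⟨v, hv⟩ := Nat.findGreatest_spec (P := P) hn h3
  refine ⟨Nat.findGreatest P n, v, hv, Nat.le_findGreatest hn h3, ?_⟩
  intro t' v' hv'
  exact Nat.le_findGreatest (hle t' ⟨v', hv'⟩) ⟨v', hv'⟩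

end Groth.Agent.Lib.Helper29.G1
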