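import Groth.Agent.Lib.Helper29.G1Class
import Groth.Agent.Lib.Helper29.G1Path
import Groth.Agent.Lib.Helper29.G1Cyc
import Groth.Agent.Lib.Helper29.G1CC
import Groth.Agent.Lib.Helper29.G1BD
import Groth.Agent.Lib.Helper29.G1DD
import Groth.Agent.Lib.Helper29.G1G2
import Groth.Agent.Lib.Helper29.G1Arm

set_option autoImplicit false

namespace Groth.Agent.Lib.Helper29.G1

open Models Finset Groth.Agent.Lib.Helper29.NumType

variable {n : ℕ} (T : NumericalType n)

/-- no triple edges on at least four indices -/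
theorem no_triple (hn : 4 ≤ n) (hM : ∀ i, T.IsMinusTwo i) (i j : Fin n) (hij : i ≠ j)
    (h3 : 3 * T.w i ≤ T.a i j) : False := by
  classical
  have ha : T.a i j ≠ 0 := by
    have := T.w_pos i; intro h; rw [h] at h3; linarith
  obtain ⟨i', hi', k, hk, hik⟩ := T.connected {i, j} ⟨i, by simp⟩ (by
    intro h
    have := congrArg Finset.card h
    rw [Finset.card_pair hij] at this
    simp at this
    omega)
  have hki : k ≠ i := fun h => hk (by rw [h]; simp)
  have hkj : k ≠ j := fun h => hk (by rw [h]; simp)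
  rw [Finset.mem_insert, Finset.mem_singleton] at hi'
  rcases hi' with rfl | rfl
  · obtain ⟨h, -⟩ := g2_heavy T (emb3 k i' j hki hij hkj) hM
      (by rw [emb3_zero, emb3_one, a_symm]; exact hik) (by simpa using h3)
    omega
  · obtain ⟨h, -⟩ := g2_light T (emb3 k i' i hkj (Ne.symm hij) hki) hM
      (by rw [emb3_zero, emb3_one, a_symm]; exact hik) (by rw [emb3_one, emb3_two, a_symm]; simpa using h3)
    omega

/-- edges are simple or double on at least four indices -/
theorem edge_SD (hn : 4 ≤ n) (hM : ∀ i, T.IsMinusTwo i) {i j : Fin n} (hij : i ≠ j)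
    (ha : T.a i j ≠ 0) :
    (T.a i j = T.w i ∧ T.w j = T.w i) ∨ (T.a i j = 2 * T.w i ∧ T.w j = 2 * T.w i) ∨
      (T.a i j = 2 * T.w j ∧ T.w i = 2 * T.w j) := by
  rcases pair_types T (by omega) hij (hM i) (hM j) ha with h | h | h | h | h
  · exact Or.inl h
  · exact Or.inr (Or.inl h)
  · exact Or.inr (Or.inr h)
  · exact absurd (no_triple T hn hM i j hij (by linarith [h.1])) id
  · exact absurd (no_triple T hn hM j i (Ne.symm hij) (by rw [a_symm]; linarith [h.1])) id

variable {T}

/-- a chord of a path gives a cycle -/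
theorem cyc_of_chord (hM : ∀ i, T.IsMinusTwo i) {t : ℕ} {v : Fin t ↪ Fin n} (hv : IsPath T v)
    (j k : Fin t) (hjk : j.val + 2 ≤ k.val) (ha : T.a (v j) (v k) ≠ 0) : ∃ σ m w, CycP T σ m w := by
  have hk := k.2
  have hl : j.val + (k.val - j.val + 1) ≤ t := by omega
  apply cyc_exact T (k := k.val - j.val + 1) (by omega) ((segEmb j.val (k.val - j.val + 1) hl).trans v) hM
    (hv.seg _ _ hl)
  intro a b ha0 hb
  simp only [Function.Embedding.trans_apply]
  have e1 : segEmb j.val (k.val - j.val + 1) hl a = j := Fin.ext (by simp [ha0])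
  have e2 : segEmb j.val (k.val - j.val + 1) hl b = k := Fin.ext (by simp; omega)
  rw [e1, e2]
  exact ha

/-- an outside vertex attached to two vertices of a path gives a cycle -/
theorem cyc_of_two_attach (hM : ∀ i, T.IsMinusTwo i) {t : ℕ} {v : Fin t ↪ Fin n} (hv : IsPath T v)
    (z : Fin n) (hz : ∀ j, v j ≠ z) (a b : Fin t) (hab : a.val < b.val)
    (ha : T.a (v a) z ≠ 0) (hb : T.a (v b) z ≠ 0) : ∃ σ m w, CycP T σ m w := by
  have hbt := b.2
  have hl : a.val + (b.val - a.val + 1) ≤ t := by omega
  set e := (segEmb a.val (b.val - a.val + 1) hl).trans v with he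
  have hez : ∀ j, e j ≠ z := fun j => hz _
  apply cyc_exact T (k := b.val - a.val + 1 + 1) (by omega) (snocEmb e z hez) hM
  · apply (hv.seg _ _ hl).snoc z hez
    intro j hj
    have e2 : segEmb a.val (b.val - a.val + 1) hl j = b := Fin.ext (by simp; omega)
    simp only [he, Function.Embedding.trans_apply, e2]
    exact hb
  · intro j j' hj hj'
    rw [snocEmb_of_lt e z hez j (by omega), snocEmb_of_eq e z hez j' (by omega)]
    have e1 : segEmb a.val (b.val - a.val + 1) hl ⟨j.val, by omega⟩ = a := Fin.ext (by simp [hj])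
    simp only [he, Function.Embedding.trans_apply, e1]
    exact ha


/-- two double edges on a path give a chain with two double ends -/
theorem cc_of_two_double (hM : ∀ i, T.IsMinusTwo i) {t : ℕ} {v : Fin t ↪ Fin n} (hv : IsPath T v)
    (j1 j1' j2 j2' : Fin t) (h1 : j1'.val = j1.val + 1) (h2 : j2'.val = j2.val + 1)
    (h12 : j1.val < j2.val)
    (d1 : 2 * T.w (v j1) ≤ T.a (v j1) (v j1') ∨ 2 * T.w (v j1') ≤ T.a (v j1) (v j1'))
    (d2 : 2 * T.w (v j2') ≤ T.a (v j2) (v j2') ∨ 2 * T.w (v j2) ≤ T.a (v j2) (v j2')) :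
    (∃ σ m w, CCLHP T σ m w) ∨ (∃ σ m w, CCLLP T σ m w) ∨ (∃ σ m w, CCHHP T σ m w) := by
  have hj2' := j2'.2
  have hl : j1.val + (j2.val - j1.val + 2) ≤ t := by omega
  set k := j2.val - j1.val + 2 with hk
  set e := (segEmb j1.val k hl).trans v with he
  have he_path : IsPath T e := hv.seg _ _ hl
  have e0 : ∀ j : Fin k, j.val = 0 → e j = v j1 := fun j hj => by
    simp only [he, Function.Embedding.trans_apply]
    congr 1; exact Fin.ext (by simp [hj])
  have e1 : ∀ j : Fin k, j.val = 1 → e j = v j1' := fun j hj => by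
    simp only [he, Function.Embedding.trans_apply]
    congr 1; exact Fin.ext (by simp [hj]; omega)
  have el : ∀ j : Fin k, j.val + 1 = k → e j = v j2' := fun j hj => by
    simp only [he, Function.Embedding.trans_apply]
    congr 1; exact Fin.ext (by simp; omega)
  have el' : ∀ j : Fin k, j.val + 2 = k → e j = v j2 := fun j hj => by
    simp only [he, Function.Embedding.trans_apply]
    congr 1; exact Fin.ext (by simp; omega)
  rcases d1 with d1 | d1 <;> rcases d2 with d2 | d2
  · -- light, light
    right; left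
    apply cc_LL T (k := k) (by omega) e hM he_path
    · intro j j' hj hj'; rw [e0 j hj, e1 j' hj']; exact d1
    · intro j j' hj hj'; rw [el j hj, el' j' hj', a_symm]; exact d2
  · -- light, heavy
    left
    apply cc_LH T (k := k) (by omega) e hM he_path
    · intro j j' hj hj'; rw [e0 j hj, e1 j' hj']; exact d1
    · intro j j' hj hj'; rw [el j hj, el' j' hj', a_symm]; exact d2
  · -- heavy, light: reverse
    left
    apply cc_LH T (k := k) (by omega) ((revFin k).trans e) hM he_path.rev
    · intro j j' hj hj'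
      simp only [Function.Embedding.trans_apply]
      rw [el (revFin k j) (by simp; omega), el' (revFin k j') (by simp; omega), a_symm]
      exact d2
    · intro j j' hj hj'
      simp only [Function.Embedding.trans_apply]
      rw [e0 (revFin k j) (by simp; omega), e1 (revFin k j') (by simp; omega)]
      exact d1
  · -- heavy, heavy
    right; right
    apply cc_HH T (k := k) (by omega) e hM he_path
    · intro j j' hj hj'; rw [e0 j hj, e1 j' hj']; exact d1
    · intro j j' hj hj'; rw [el j hj, el' j' hj', a_symm]; exact d2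

/-- two outside vertices attached to interior vertices of a path give a double fork -/
theorem dd_of_two_out (hM : ∀ i, T.IsMinusTwo i) {t : ℕ} {v : Fin t ↪ Fin n} (hv : IsPath T v)
    (z z' : Fin n) (hz : ∀ j, v j ≠ z) (hz' : ∀ j, v j ≠ z') (hzz' : z ≠ z') (a b : Fin t)
    (ha1 : 1 ≤ a.val) (hab : a.val ≤ b.val) (hb : b.val + 1 < t)
    (haz : T.a (v a) z ≠ 0) (hbz : T.a (v b) z' ≠ 0) : ∃ σ m w, DDP T σ m w := by
  have hl : (a.val - 1) + (b.val - a.val + 3) ≤ t := by omega
  set len := b.val - a.val + 3 with hlen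
  set e0 := (segEmb (a.val - 1) len hl).trans v with he0
  have h0z : ∀ j, e0 j ≠ z := fun j => hz _
  set e1 := consEmb z e0 h0z with he1
  have h1z : ∀ j, e1 j ≠ z' := by
    intro j
    by_cases hj : j.val = 0
    · rw [he1, consEmb_of_zero z e0 h0z j hj]; exact hzz'
    · rw [he1, consEmb_of_pos z e0 h0z j (by omega)]; exact hz' _
  set e2 := snocEmb e1 z' h1z with he2
  -- values
  have val_mid : ∀ j : Fin (len + 1 + 1), 1 ≤ j.val → (hj : j.val ≤ len) →
      e2 j = v ⟨a.val - 1 + (j.val - 1), by omega⟩ := by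
    intro j h1 h2
    rw [he2, snocEmb_of_lt e1 z' h1z j (by omega), he1, consEmb_of_pos z e0 h0z _ (by show 0 < j.val; omega)]
    simp only [he0, Function.Embedding.trans_apply]
    congr 1
  have val0 : ∀ j : Fin (len + 1 + 1), j.val = 0 → e2 j = z := by
    intro j h
    rw [he2, snocEmb_of_lt e1 z' h1z j (by omega), he1, consEmb_of_zero z e0 h0z _ (by show j.val = 0; exact h)]
  have vall : ∀ j : Fin (len + 1 + 1), j.val = len + 1 → e2 j = z' := by
    intro j h
    rw [he2, snocEmb_of_eq e1 z' h1z j h]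
  apply dd_exact T (k := len + 1 + 1) (by omega) e2 hM
  intro j j' hadj
  unfold adjdd at hadj
  rcases hadj with ⟨h1, h2⟩ | ⟨h1, h2⟩ | ⟨h1, h2, h3⟩ | ⟨h1, h2⟩
  · rw [val0 j h1, val_mid j' (by omega) (by omega), a_symm]
    have : (⟨a.val - 1 + (j'.val - 1), by omega⟩ : Fin t) = a := Fin.ext (by simp; omega)
    rw [this]; exact haz
  · rw [val_mid j (by omega) (by omega), val_mid j' (by omega) (by omega)]
    apply hv; simp only; omega
  · rw [val_mid j (by omega) (by omega), val_mid j' (by omega) (by omega)]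
    apply hv; simp only; omega
  · rw [val_mid j (by omega) (by omega), vall j' (by omega)]
    have : (⟨a.val - 1 + (j.val - 1), by omega⟩ : Fin t) = b := Fin.ext (by simp; omega)
    rw [this]; exact hbz

end Groth.Agent.Lib.Helper29.G1
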