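import Groth.Agent.Lib.Helper29.G1Find1

set_option autoImplicit false

namespace Groth.Agent.Lib.Helper29.G1

open Models Finset Groth.Agent.Lib.Helper29.NumType

variable {n : ℕ} {T : NumericalType n}

/-- a path with one extra vertex `z` attached to the interior vertex of index `a` -/
structure TreeData (T : NumericalType n) {t : ℕ} (v : Fin t ↪ Fin n) (z : Fin n) (a : ℕ) : Prop where
  path : IsPath T v
  hz : ∀ j, v j ≠ z
  ha1 : 1 ≤ a
  ha2 : a + 2 ≤ t
  adj : ∀ j : Fin t, j.val = a → T.a (v j) z ≠ 0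

lemma TreeData.rev {t : ℕ} {v : Fin t ↪ Fin n} {z : Fin n} {a : ℕ} (h : TreeData T v z a) :
    TreeData T ((revFin t).trans v) z (t - 1 - a) where
  path := h.path.rev
  hz := fun j => h.hz _
  ha1 := by have := h.ha2; omega
  ha2 := by have := h.ha1; have := h.ha2; omega
  adj := by
    intro j hj
    simp only [Function.Embedding.trans_apply]
    apply h.adj
    have := h.ha2
    simp only [revFin_val]
    omega

/-- embedding of four distinct indices -/
def emb4 (i j k l : Fin n) (hij : i ≠ j) (hik : i ≠ k) (hil : i ≠ l) (hjk : j ≠ k) (hjl : j ≠ l)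
    (hkl : k ≠ l) : Fin 4 ↪ Fin n :=
  ⟨![i, j, k, l], by
    intro a b h
    fin_cases a <;> fin_cases b <;>
      simp_all [Ne.symm hij, Ne.symm hik, Ne.symm hil, Ne.symm hjk, Ne.symm hjl, Ne.symm hkl]⟩

/-- a double edge between the branch vertex and the extra vertex -/
theorem bd_center (hM : ∀ i, T.IsMinusTwo i) {t : ℕ} {v : Fin t ↪ Fin n} {z : Fin n} {a : ℕ}
    (h : TreeData T v z a) (ja : Fin t) (hja : ja.val = a)
    (d : 2 * T.w z ≤ T.a z (v ja) ∨ 2 * T.w (v ja) ≤ T.a z (v ja)) :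
    (∃ σ m w, BDHP T σ m w) ∨ (∃ σ m w, BDLP T σ m w) := by
  have h1 := h.ha1
  have h2 := h.ha2
  set jp : Fin t := ⟨a - 1, by omega⟩ with hjp
  set jn : Fin t := ⟨a + 1, by omega⟩ with hjn
  have hne1 : v ja ≠ v jn := fun e => by have := congrArg Fin.val (v.injective e); simp [hjn] at this; omega
  have hne2 : v ja ≠ v jp := fun e => by have := congrArg Fin.val (v.injective e); simp [hjp] at this; omega
  have hne3 : v jn ≠ v jp := fun e => by have := congrArg Fin.val (v.injective e); simp [hjp, hjn] at this; omega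
  set u := emb4 z (v ja) (v jn) (v jp) (Ne.symm (h.hz _)) (Ne.symm (h.hz _)) (Ne.symm (h.hz _)) hne1 hne2 hne3
    with hu
  have u0 : u 0 = z := rfl
  have u1 : u 1 = v ja := rfl
  have u2 : u 2 = v jn := rfl
  have u3 : u 3 = v jp := rfl
  have hchain : ∀ j j' : Fin 4, j'.val = j.val + 1 → j'.val + 2 ≤ 4 → T.a (u j) (u j') ≠ 0 := by
    intro j j' hjj' hj'
    fin_cases j <;> fin_cases j' <;> simp at hjj' hj' ⊢
    · rw [u0, u1, a_symm]; exact h.adj ja hja
    · rw [u1, u2]; exact h.path ja jn (by simp [hjn, hja])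
  have hbranch : ∀ j j' : Fin 4, j.val + 3 = 4 → j'.val + 1 = 4 → T.a (u j) (u j') ≠ 0 := by
    intro j j' hj hj'
    fin_cases j <;> fin_cases j' <;> simp at hj hj' ⊢
    rw [u1, u3, a_symm]; exact h.path jp ja (by simp [hjp, hja]; omega)
  rcases d with d | d
  · right
    apply bd_L T (k := 4) (by norm_num) u hM hchain hbranch
    intro j j' hj hj'
    fin_cases j <;> fin_cases j' <;> simp at hj hj' ⊢
    rw [u0, u1]; exact d
  · left
    apply bd_H T (k := 4) (by norm_num) u hM hchain hbranch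
    intro j j' hj hj'
    fin_cases j <;> fin_cases j' <;> simp at hj hj' ⊢
    rw [u0, u1]; exact d

/-- a double edge on the path, on the left of the branch vertex -/
theorem bd_left (hM : ∀ i, T.IsMinusTwo i) {t : ℕ} {v : Fin t ↪ Fin n} {z : Fin n} {a : ℕ}
    (h : TreeData T v z a) (j1 j1' : Fin t) (h1 : j1'.val = j1.val + 1) (h1a : j1'.val ≤ a)
    (d : 2 * T.w (v j1) ≤ T.a (v j1) (v j1') ∨ 2 * T.w (v j1') ≤ T.a (v j1) (v j1')) :
    (∃ σ m w, BDHP T σ m w) ∨ (∃ σ m w, BDLP T σ m w) := by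
  have ha1 := h.ha1
  have ha2 := h.ha2
  have hl : j1.val + (a - j1.val + 2) ≤ t := by omega
  set len := a - j1.val + 2 with hlen
  set e := (segEmb j1.val len hl).trans v with he
  have hez : ∀ j, e j ≠ z := fun j => h.hz _
  set u := snocEmb e z hez with hu
  have val_lt : ∀ j : Fin (len + 1), (hj : j.val < len) → u j = v ⟨j1.val + j.val, by omega⟩ := by
    intro j hj
    rw [hu, snocEmb_of_lt e z hez j hj]
    simp only [he, Function.Embedding.trans_apply]
    congr 1
  have val_eq : ∀ j : Fin (len + 1), j.val = len → u j = z := fun j hj => by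
    rw [hu, snocEmb_of_eq e z hez j hj]
  have hchain : ∀ j j' : Fin (len + 1), j'.val = j.val + 1 → j'.val + 2 ≤ len + 1 →
      T.a (u j) (u j') ≠ 0 := by
    intro j j' hjj' hj'
    rw [val_lt j (by omega), val_lt j' (by omega)]
    apply h.path; simp only; omega
  have hbranch : ∀ j j' : Fin (len + 1), j.val + 3 = len + 1 → j'.val + 1 = len + 1 →
      T.a (u j) (u j') ≠ 0 := by
    intro j j' hj hj'
    rw [val_lt j (by omega), val_eq j' (by omega)]
    apply h.adj; simp only; omega
  have u0 : ∀ j : Fin (len + 1), j.val = 0 → u j = v j1 := fun j hj => by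
    rw [val_lt j (by omega)]; congr 1; exact Fin.ext (by simp [hj])
  have u1 : ∀ j : Fin (len + 1), j.val = 1 → u j = v j1' := fun j hj => by
    rw [val_lt j (by omega)]; congr 1; exact Fin.ext (by simp [hj]; omega)
  rcases d with d | d
  · right
    apply bd_L T (k := len + 1) (by omega) u hM hchain hbranch
    intro j j' hj hj'
    rw [u0 j hj, u1 j' hj']; exact d
  · left
    apply bd_H T (k := len + 1) (by omega) u hM hchain hbranch
    intro j j' hj hj'
    rw [u0 j hj, u1 j' hj']; exact d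


/-- if the extra vertex has a further neighbour outside the path, the branch vertex is at distance
at least two from the start of a longest path -/
lemma two_le_of_arm {t : ℕ} {v : Fin t ↪ Fin n} {z : Fin n} {a : ℕ}
    (h : TreeData T v z a) (hmax : ∀ (t' : ℕ) (v' : Fin t' ↪ Fin n), IsPath T v' → t' ≤ t)
    (z2 : Fin n) (hz2 : ∀ j, v j ≠ z2) (hzz2 : z2 ≠ z) (hadj : T.a z z2 ≠ 0) : 2 ≤ a := by
  have ha2 := h.ha2
  have hl : a + (t - a) ≤ t := by omega
  set e := (segEmb a (t - a) hl).trans v with he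
  have hez : ∀ j, e j ≠ z := fun j => h.hz _
  set e1 := consEmb z e hez with he1
  have h1z : ∀ j, e1 j ≠ z2 := by
    intro j
    by_cases hj : j.val = 0
    · rw [he1, consEmb_of_zero z e hez j hj]; exact Ne.symm hzz2
    · rw [he1, consEmb_of_pos z e hez j (by omega)]; exact hz2 _
  have p1 : IsPath T e1 := by
    apply (h.path.seg a (t - a) hl).cons z hez
    intro j hj
    simp only [Function.Embedding.trans_apply]
    rw [a_symm]
    apply h.adj
    simp [hj]
  have p2 : IsPath T (consEmb z2 e1 h1z) := by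
    apply p1.cons z2 h1z
    intro j hj
    rw [he1, consEmb_of_zero z e hez j hj, a_symm]
    exact hadj
  have := hmax _ _ p2
  omega

/-- the completed `E6` inside a longest path with a long extra arm -/
theorem e6_of_arm (hM : ∀ i, T.IsMinusTwo i) {t : ℕ} {v : Fin t ↪ Fin n} {z : Fin n} {a : ℕ}
    (h : TreeData T v z a) (hmax : ∀ (t' : ℕ) (v' : Fin t' ↪ Fin n), IsPath T v' → t' ≤ t)
    (z2 : Fin n) (hz2 : ∀ j, v j ≠ z2) (hzz2 : z2 ≠ z) (hadj : T.a z z2 ≠ 0) :
    FixedType T 7 XE6 (fun _ => 1) AE6 := by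
  have h2a := two_le_of_arm h hmax z2 hz2 hzz2 hadj
  have h2b := two_le_of_arm h.rev hmax z2 (fun j => hz2 _) hzz2 hadj
  have ha2 := h.ha2
  have hl : (a - 2) + 5 ≤ t := by omega
  set e := (segEmb (a - 2) 5 hl).trans v with he
  have hez : ∀ j, e j ≠ z := fun j => h.hz _
  set e1 := snocEmb e z hez with he1
  have h1z : ∀ j, e1 j ≠ z2 := by
    intro j
    by_cases hj : j.val < 5
    · rw [he1, snocEmb_of_lt e z hez j hj]; exact hz2 _
    · rw [he1, snocEmb_of_eq e z hez j (by have := j.2; omega)]; exact Ne.symm hzz2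
  set base := snocEmb e1 z2 h1z with hbase
  set π : Fin 7 ↪ Fin 7 := ⟨![0, 1, 2, 6, 5, 4, 3], by decide⟩ with hπ
  set u := π.trans base with hu
  have bv : ∀ (i : ℕ) (hi : i < 5), base ⟨i, by omega⟩ = v ⟨a - 2 + i, by omega⟩ := by
    intro i hi
    rw [hbase, snocEmb_of_lt e1 z2 h1z _ (by show i < 6; omega), he1,
      snocEmb_of_lt e z hez _ (by show i < 5; omega)]
    rfl
  have b5 : base ⟨5, by omega⟩ = z := by
    rw [hbase, snocEmb_of_lt e1 z2 h1z _ (by show 5 < 6; omega), he1, snocEmb_of_eq e z hez _ rfl]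
  have b6 : base ⟨6, by omega⟩ = z2 := by
    rw [hbase, snocEmb_of_eq e1 z2 h1z _ rfl]
  have u0 : u 0 = v ⟨a - 2 + 0, by omega⟩ := bv 0 (by omega)
  have u1 : u 1 = v ⟨a - 2 + 1, by omega⟩ := bv 1 (by omega)
  have u2 : u 2 = v ⟨a - 2 + 2, by omega⟩ := bv 2 (by omega)
  have u3 : u 3 = z2 := b6
  have u4 : u 4 = z := b5
  have u5 : u 5 = v ⟨a - 2 + 4, by omega⟩ := bv 4 (by omega)
  have u6 : u 6 = v ⟨a - 2 + 3, by omega⟩ := bv 3 (by omega)
  apply e6_exact T u hM
  · rw [u0, u1]; apply h.path; simp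
  · rw [u1, u2]; apply h.path; simp
  · rw [u3, u4, a_symm]; exact hadj
  · rw [u4, u2, a_symm]; apply h.adj; simp; omega
  · rw [u5, u6, a_symm]; apply h.path; simp
  · rw [u6, u2, a_symm]; apply h.path; simp

end Groth.Agent.Lib.Helper29.G1
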