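import Groth.Agent.Lib.Helper29.G1Find2

set_option autoImplicit false

namespace Groth.Agent.Lib.Helper29.G1

open Models Finset Groth.Agent.Lib.Helper29.NumType

variable {n : ℕ} {T : NumericalType n}

/-- the whole type is a path with one extra vertex attached to the vertex of index `a`,
with all edges simple -/
structure TreeFull (T : NumericalType n) {t : ℕ} (v : Fin t ↪ Fin n) (z : Fin n) (a : ℕ) : Prop
    extends TreeData T v z a where
  nonadj : ∀ j : Fin t, j.val ≠ a → T.a (v j) z = 0
  nochord : ∀ j k : Fin t, j.val + 2 ≤ k.val → T.a (v j) (v k) = 0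
  cover : ∀ i, i = z ∨ ∃ j, v j = i
  simple : ∀ i j, i ≠ j → T.a i j ≠ 0 → T.a i j = T.w i ∧ T.w j = T.w i

lemma TreeFull.rev {t : ℕ} {v : Fin t ↪ Fin n} {z : Fin n} {a : ℕ} (h : TreeFull T v z a) :
    TreeFull T ((revFin t).trans v) z (t - 1 - a) where
  toTreeData := h.toTreeData.rev
  nonadj := by
    intro j hj
    simp only [Function.Embedding.trans_apply]
    apply h.nonadj
    have := h.ha2
    have := j.2
    simp only [revFin_val]
    omega
  nochord := by
    intro j k hjk
    simp only [Function.Embedding.trans_apply]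
    rw [a_symm]
    apply h.nochord
    have := k.2
    simp only [revFin_val]
    omega
  cover := by
    intro i
    rcases h.cover i with hi | ⟨j, hj⟩
    · exact Or.inl hi
    · refine Or.inr ⟨revFin t j, ?_⟩
      simp only [Function.Embedding.trans_apply]
      rw [← hj]
      congr 1
      apply Fin.ext
      have := j.2
      simp only [revFin_val]
      omega
  simple := h.simple

/-- all weights are equal -/
lemma TreeFull.weights {t : ℕ} {v : Fin t ↪ Fin n} {z : Fin n} {a : ℕ} (h : TreeFull T v z a) :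
    ∀ i, T.w i = T.w z := by
  have ht : 0 < t := by have := h.ha2; omega
  have hv : ∀ j : Fin t, T.w (v j) = T.w (v ⟨0, ht⟩) := by
    apply chain_const ht (fun j => T.w (v j))
    intro j j' hjj'
    exact (h.simple (v j) (v j') (fun e => by
      have := congrArg Fin.val (v.injective e); omega) (h.path j j' hjj')).2
  have hza : T.w z = T.w (v ⟨0, ht⟩) := by
    have ha2 := h.ha2
    rw [← hv ⟨a, by omega⟩]
    exact (h.simple (v ⟨a, by omega⟩) z (h.hz _) (h.adj _ rfl)).2
  intro i
  rcases h.cover i with rfl | ⟨j, rfl⟩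
  · rfl
  · rw [hv j, hza]

/-- zero intersection numbers between non-adjacent path vertices -/
lemma TreeFull.zero {t : ℕ} {v : Fin t ↪ Fin n} {z : Fin n} {a : ℕ} (h : TreeFull T v z a)
    (j k : Fin t) (hjk : j.val + 2 ≤ k.val ∨ k.val + 2 ≤ j.val) : T.a (v j) (v k) = 0 := by
  rcases hjk with h1 | h1
  · exact h.nochord j k h1
  · rw [a_symm]; exact h.nochord k j h1

/-- the multiplicities on the left arm -/
lemma TreeFull.left_arm (hM : ∀ i, T.IsMinusTwo i) {t : ℕ} {v : Fin t ↪ Fin n} {z : Fin n} {a : ℕ}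
    (h : TreeFull T v z a) (j : Fin t) (hj : j.val ≤ a) :
    T.m (v j) = (j.val + 1) * T.m (v ⟨0, by have := h.ha2; omega⟩) := by
  have ha2 := h.ha2
  have hl : 0 + (a + 1) ≤ t := by omega
  have hw := h.weights
  have key := arm_AP T ((segEmb 0 (a + 1) hl).trans v) (by omega) (T.w z) (T.w_pos z)
    (fun j _ => by rw [(hM _).2, hw])
    (fun j j' hjj' => by
      simp only [Function.Embedding.trans_apply]
      have hp := h.path (segEmb 0 (a + 1) hl j) (segEmb 0 (a + 1) hl j') (by simp; omega)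
      rw [(h.simple _ _ (fun e => by
        have := congrArg Fin.val (v.injective e); simp at this; omega) hp).1, hw])
    (by
      intro j i hj hi hnb
      simp only [Function.Embedding.trans_apply] at hi hnb ⊢
      rcases h.cover i with rfl | ⟨l, rfl⟩
      · apply h.nonadj; simp; omega
      · apply h.zero
        simp only [segEmb_val]
        have hlj : l.val ≠ j.val := by
          intro e; apply hi; congr 1; apply Fin.ext; simp [e]
        have h1 : l.val ≠ j.val + 1 := by
          intro e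
          apply hnb ⟨j.val + 1, by omega⟩ (Or.inl rfl)
          congr 1; apply Fin.ext; simp [e]
        have h2 : j.val ≠ l.val + 1 := by
          intro e
          apply hnb ⟨l.val, by omega⟩ (Or.inr e)
          congr 1; apply Fin.ext; simp
        omega)
  have := key ⟨j.val, by omega⟩
  simp only [Function.Embedding.trans_apply] at this
  have e1 : segEmb 0 (a + 1) hl ⟨j.val, by omega⟩ = j := Fin.ext (by simp)
  have e2 : segEmb 0 (a + 1) hl ⟨0, by omega⟩ = ⟨0, by omega⟩ := Fin.ext (by simp)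
  rw [e1, e2] at this
  exact this


/-- the multiplicities on the right arm -/
lemma TreeFull.right_arm (hM : ∀ i, T.IsMinusTwo i) {t : ℕ} {v : Fin t ↪ Fin n} {z : Fin n} {a : ℕ}
    (h : TreeFull T v z a) (j : Fin t) (hj : a ≤ j.val) :
    T.m (v j) = ((t : ℤ) - j.val) * T.m (v ⟨t - 1, by have := h.ha2; omega⟩) := by
  have ha2 := h.ha2
  have hjt := j.2
  have key := h.rev.left_arm hM ⟨t - 1 - j.val, by omega⟩ (by simp only; omega)
  simp only [Function.Embedding.trans_apply] at key
  have e1 : revFin t ⟨t - 1 - j.val, by omega⟩ = j := Fin.ext (by simp only [revFin_val]; omega)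
  have e2 : revFin t ⟨0, by omega⟩ = ⟨t - 1, by omega⟩ := Fin.ext (by simp only [revFin_val] <;> omega)
  rw [e1, e2] at key
  rw [key]
  congr 1
  have : ((t - 1 - j.val : ℕ) : ℤ) = (t : ℤ) - 1 - j.val := by omega
  rw [this]; ring

/-- the intersection numbers of the tree -/
lemma TreeFull.entries {t : ℕ} {v : Fin t ↪ Fin n} {z : Fin n} {a : ℕ} (h : TreeFull T v z a)
    (j j' : Fin (t + 1)) (hjj' : j ≠ j') :
    T.a (snocEmb v z h.hz j) (snocEmb v z h.hz j') = T.w z * adjTree t a j j' := by
  have hw := h.weights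
  have hj := j.2
  have hj' := j'.2
  have hne : j.val ≠ j'.val := fun e => hjj' (Fin.ext e)
  have hedge : ∀ i i' : Fin n, i ≠ i' → T.a i i' ≠ 0 → T.a i i' = T.w z := by
    intro i i' h1 h2
    rw [(h.simple i i' h1 h2).1, hw]
  unfold adjTree
  by_cases c1 : j.val < t <;> by_cases c2 : j'.val < t
  · rw [snocEmb_of_lt v z h.hz j c1, snocEmb_of_lt v z h.hz j' c2]
    by_cases c3 : j'.val = j.val + 1
    · rw [if_pos (Or.inl ⟨c3, c2⟩), mul_one]
      exact hedge _ _ (fun e => by have := congrArg Fin.val (v.injective e); simp at this; omega)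
        (h.path _ _ c3)
    · by_cases c4 : j.val = j'.val + 1
      · rw [if_pos (Or.inr (Or.inl ⟨c4, c1⟩)), mul_one, a_symm]
        exact hedge _ _ (fun e => by have := congrArg Fin.val (v.injective e); simp at this; omega)
          (h.path _ _ c4)
      · rw [if_neg (by omega), mul_zero]
        apply h.zero
        simp only
        omega
  · rw [snocEmb_of_lt v z h.hz j c1, snocEmb_of_eq v z h.hz j' (by omega)]
    by_cases c3 : j.val = a
    · rw [if_pos (Or.inr (Or.inr (Or.inl ⟨c3, by omega⟩))), mul_one]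
      exact hedge _ _ (h.hz _) (h.adj _ c3)
    · rw [if_neg (by omega), mul_zero]
      exact h.nonadj _ c3
  · rw [snocEmb_of_eq v z h.hz j (by omega), snocEmb_of_lt v z h.hz j' c2, a_symm]
    by_cases c3 : j'.val = a
    · rw [if_pos (Or.inr (Or.inr (Or.inr ⟨by omega, c3⟩))), mul_one]
      exact hedge _ _ (h.hz _) (h.adj _ c3)
    · rw [if_neg (by omega), mul_zero]
      exact h.nonadj _ c3
  · omega

lemma TreeFull.surj {t : ℕ} {v : Fin t ↪ Fin n} {z : Fin n} {a : ℕ} (h : TreeFull T v z a) :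
    Function.Surjective (snocEmb v z h.hz) := by
  intro i
  rcases h.cover i with rfl | ⟨j, rfl⟩
  · exact ⟨⟨t, by omega⟩, snocEmb_of_eq v _ h.hz _ rfl⟩
  · exact ⟨⟨j.val, by have := j.2; omega⟩, snocEmb_of_lt v z h.hz _ j.2⟩

/-- the numerical constraints on the arms of a tree with all edges simple -/
lemma TreeFull.arith (hM : ∀ i, T.IsMinusTwo i) {t : ℕ} {v : Fin t ↪ Fin n} {z : Fin n} {a : ℕ}
    (h : TreeFull T v z a) :
    (a + 3) * (t - a) = 2 * (t - 1 - a) * (a + 1) ∧
      ((a : ℤ) + 1) * T.m (v ⟨0, by have := h.ha2; omega⟩) =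
        ((t : ℤ) - a) * T.m (v ⟨t - 1, by have := h.ha2; omega⟩) ∧
      2 * T.m z = ((a : ℤ) + 1) * T.m (v ⟨0, by have := h.ha2; omega⟩) := by
  have ha1 := h.ha1
  have ha2 := h.ha2
  have hw := h.weights
  have hWpos := T.w_pos z
  set α := T.m (v ⟨0, by omega⟩) with hα
  set β := T.m (v ⟨t - 1, by omega⟩) with hβ
  have hαpos : 0 < α := T.m_pos _
  have hβpos : 0 < β := T.m_pos _
  have hedge : ∀ i i' : Fin n, i ≠ i' → T.a i i' ≠ 0 → T.a i i' = T.w z := by
    intro i i' h1 h2
    rw [(h.simple i i' h1 h2).1, hw]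
  have hd : ∀ i, T.a i i = -2 * T.w z := fun i => by rw [(hM i).2, hw]
  set ja : Fin t := ⟨a, by omega⟩ with hja
  set jp : Fin t := ⟨a - 1, by omega⟩ with hjp
  set jn : Fin t := ⟨a + 1, by omega⟩ with hjn
  have mA := h.left_arm hM ja (le_refl _)
  have mP := h.left_arm hM jp (by simp [hjp])
  have mA' := h.right_arm hM ja (le_refl _)
  have mN := h.right_arm hM jn (by simp [hjn])
  simp only [hja, hjp, hjn] at mA mP mA' mN
  rw [← hα] at mA mP
  rw [← hβ] at mA' mN
  have cP : ((a - 1 : ℕ) : ℤ) + 1 = a := by omega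
  have cN : (t : ℤ) - ((a + 1 : ℕ) : ℤ) = (t : ℤ) - a - 1 := by push_cast; ring
  rw [cP] at mP
  rw [cN] at mN
  -- rows
  have hne_ap : v ja ≠ v jp := fun e => by
    have := congrArg Fin.val (v.injective e); simp [hja, hjp] at this <;> omega
  have hne_an : v ja ≠ v jn := fun e => by
    have := congrArg Fin.val (v.injective e); simp [hja, hjn] at this
  have hne_pn : v jp ≠ v jn := fun e => by
    have := congrArg Fin.val (v.injective e); simp [hjp, hjn] at this <;> omega
  have rz := row_local1 T z (v ja) (Ne.symm (h.hz _)) (by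
    intro i h1 h2
    rcases h.cover i with rfl | ⟨l, rfl⟩
    · exact absurd rfl h1
    · rw [a_symm]; apply h.nonadj
      intro e; apply h2; congr 1; exact Fin.ext e)
  have rc := row_local3 T (v ja) (v jp) (v jn) z hne_ap hne_an (h.hz _) hne_pn (h.hz _) (h.hz _) (by
    intro i h1 h2 h3 h4
    rcases h.cover i with rfl | ⟨l, rfl⟩
    · exact absurd rfl h4
    · apply h.zero
      have e1 : l.val ≠ a := fun e => h1 (by congr 1; exact Fin.ext e)
      have e2 : l.val ≠ a - 1 := fun e => h2 (by congr 1; exact Fin.ext e)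
      have e3 : l.val ≠ a + 1 := fun e => h3 (by congr 1; exact Fin.ext e)
      simp only [hja]
      omega)
  rw [hd, a_symm, hedge _ _ (h.hz _) (h.adj ja rfl)] at rz
  rw [hd, a_symm T (v ja) (v jp), hedge _ _ (Ne.symm hne_ap) (h.path jp ja (by simp [hja, hjp]; omega)),
    hedge _ _ hne_an (h.path ja jn (by simp [hja, hjn])), hedge _ _ (h.hz _) (h.adj ja rfl)] at rc
  have hz2 : 2 * T.m z = T.m (v ja) := by
    have : T.w z * (T.m (v ja) - 2 * T.m z) = 0 := by linarith
    rcases mul_eq_zero.mp this with h0 | h0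
    · omega
    · linarith
  have hc2 : 2 * T.m (v ja) = T.m (v jp) + T.m (v jn) + T.m z := by
    have : T.w z * (T.m (v jp) + T.m (v jn) + T.m z - 2 * T.m (v ja)) = 0 := by linarith
    rcases mul_eq_zero.mp this with h0 | h0
    · omega
    · linarith
  simp only [hja, hjp, hjn] at hz2 hc2
  -- arithmetic
  have eq2 : ((a : ℤ) + 1) * α = ((t : ℤ) - a) * β := by rw [← mA, ← mA']
  have eq1 : ((a : ℤ) + 3) * α = 2 * ((t : ℤ) - a - 1) * β := by
    rw [mA, mP, mN] at hc2
    have : 2 * (2 * (((a : ℤ) + 1) * α)) = 2 * ((a : ℤ) * α + ((t : ℤ) - a - 1) * β) + 2 * T.m z := by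
      linarith
    rw [hz2, mA] at this
    linarith
  have hprod : (((a : ℤ) + 3) * ((t : ℤ) - a) - 2 * ((t : ℤ) - a - 1) * ((a : ℤ) + 1)) * α = 0 := by
    linear_combination ((t : ℤ) - a) * eq1 - 2 * ((t : ℤ) - a - 1) * eq2
  have hnum : ((a : ℤ) + 3) * ((t : ℤ) - a) = 2 * ((t : ℤ) - a - 1) * ((a : ℤ) + 1) := by
    rcases mul_eq_zero.mp hprod with h0 | h0
    · linarith
    · omega
  refine ⟨?_, eq2, by rw [hz2, mA]⟩
  have c1 : ((t - a : ℕ) : ℤ) = (t : ℤ) - a := by omega
  have c2 : ((t - 1 - a : ℕ) : ℤ) = (t : ℤ) - a - 1 := by omega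
  have : (((a + 3) * (t - a) : ℕ) : ℤ) = ((2 * (t - 1 - a) * (a + 1) : ℕ) : ℤ) := by
    push_cast
    rw [c1, c2]
    exact hnum
  exact_mod_cast this


/-- **Trees with all edges simple** are the completed `E7` or `E8` (branch vertex nearer to the end
of the path). -/
theorem rigid_tree (hM : ∀ i, T.IsMinusTwo i) {t : ℕ} {v : Fin t ↪ Fin n} {z : Fin n} {a : ℕ}
    (h : TreeFull T v z a) (hab : t - 1 - a ≤ a) :
    FixedType T 8 XE7 (fun _ => 1) AE7 ∨ FixedType T 9 XE8 (fun _ => 1) AE8 := by
  have ha1 := h.ha1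
  have ha2 := h.ha2
  obtain ⟨hnum, eq2, hz2⟩ := h.arith hM
  have hw := h.weights
  have hcases : (a = 3 ∧ t = 7) ∨ (a = 5 ∧ t = 8) := by
    obtain ⟨b, hb⟩ : ∃ b, t = a + 1 + b := ⟨t - 1 - a, by omega⟩
    subst hb
    have e1 : a + 1 + b - a = b + 1 := by omega
    have e2 : a + 1 + b - 1 - a = b := by omega
    rw [e1, e2] at hnum
    rw [e2] at hab
    have hb1 : 1 ≤ b := by omega
    have hb3 : b ≤ 3 := by
      by_contra hcon
      push Not at hcon
      have h4 : 4 * a ≤ b * a := Nat.mul_le_mul_right a (by omega)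
      nlinarith
    interval_cases b
    · omega
    · right; omega
    · left; omega
  rcases hcases with ⟨rfl, rfl⟩ | ⟨rfl, rfl⟩
  · -- E7
    left
    obtain ⟨α, hα⟩ : ∃ α, α = T.m (v ⟨0, by omega⟩) := ⟨_, rfl⟩
    obtain ⟨β, hβ⟩ : ∃ β, β = T.m (v ⟨7 - 1, by omega⟩) := ⟨_, rfl⟩
    rw [← hα, ← hβ] at eq2
    rw [← hα] at hz2
    have hαβ : β = α := by push_cast at eq2; linarith
    refine ⟨snocEmb v z h.hz, h.surj, α, T.w z, fun j => ⟨?_, by rw [hw]; ring, fun j' hjj' => ?_⟩⟩
    · have hm_lt : ∀ (i : ℕ) (hi : i < 7), T.m (v ⟨i, hi⟩) = α * XE7 ⟨i, by omega⟩ := by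
        intro i hi
        by_cases h3 : i ≤ 3
        · have := h.left_arm hM ⟨i, hi⟩ h3
          rw [← hα] at this
          rw [this]
          interval_cases i <;> simp [XE7] <;> ring
        · have := h.right_arm hM ⟨i, hi⟩ (by simp; omega)
          rw [this, ← hβ, hαβ]
          interval_cases i <;> simp [XE7] <;> ring
      by_cases hj : j.val < 7
      · rw [snocEmb_of_lt v z h.hz j hj, hm_lt j.val hj]
      · have hj7 : j = ⟨7, by omega⟩ := Fin.ext (by have := j.2; simp; omega)
        rw [snocEmb_of_eq v z h.hz j (by have := j.2; omega), hj7]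
        simp [XE7]
        push_cast at hz2
        linarith
    · exact h.entries j j' hjj'
  · -- E8
    right
    obtain ⟨α, hα⟩ : ∃ α, α = T.m (v ⟨0, by omega⟩) := ⟨_, rfl⟩
    obtain ⟨β, hβ⟩ : ∃ β, β = T.m (v ⟨8 - 1, by omega⟩) := ⟨_, rfl⟩
    rw [← hα, ← hβ] at eq2
    rw [← hα] at hz2
    have hαβ : β = 2 * α := by push_cast at eq2; linarith
    refine ⟨snocEmb v z h.hz, h.surj, α, T.w z, fun j => ⟨?_, by rw [hw]; ring, fun j' hjj' => ?_⟩⟩
    · have hm_lt : ∀ (i : ℕ) (hi : i < 8), T.m (v ⟨i, hi⟩) = α * XE8 ⟨i, by omega⟩ := by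
        intro i hi
        by_cases h3 : i ≤ 5
        · have := h.left_arm hM ⟨i, hi⟩ h3
          rw [← hα] at this
          rw [this]
          interval_cases i <;> simp [XE8] <;> ring
        · have := h.right_arm hM ⟨i, hi⟩ (by simp; omega)
          rw [this, ← hβ, hαβ]
          interval_cases i <;> simp [XE8] <;> ring
      by_cases hj : j.val < 8
      · rw [snocEmb_of_lt v z h.hz j hj, hm_lt j.val hj]
      · have hj8 : j = ⟨8, by omega⟩ := Fin.ext (by have := j.2; simp; omega)
        rw [snocEmb_of_eq v z h.hz j (by have := j.2; omega), hj8]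
        simp [XE8]
        push_cast at hz2
        linarith
    · exact h.entries j j' hjj'

end Groth.Agent.Lib.Helper29.G1
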