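import Groth.Agent.Lib.Helper29.G1Types

/-!
# Small tools for the genus one classification
-/

set_option autoImplicit false

namespace Groth.Agent.Lib.Helper29.G1

open Models Finset Groth.Agent.Lib.Helper29.NumType

variable {n : ℕ} (T : NumericalType n)

macro "fin_ne" : tactic =>
  `(tactic| (intro h; have h' := congrArg Fin.val h; (try dsimp only at h'); omega))

/-- closing tactic for index computations -/
macro "idx_close" : tactic =>
  `(tactic| first | done | omega | (intros; omega) | (split_ifs <;> first | omega | (intros; omega)))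


lemma le_a_of_ne {i j : Fin n} (hij : i ≠ j) (h : T.a i j ≠ 0) :
    T.w i ≤ T.a i j ∧ T.w j ≤ T.a i j :=
  w_le_a T (lt_of_le_of_ne (T.offDiag_nonneg i j hij) (Ne.symm h))

lemma two_le_sum {k : ℕ} (f : Fin k → ℤ) (hf : ∀ j, 0 ≤ f j) (p q : Fin k) (hpq : p ≠ q) :
    f p + f q ≤ ∑ j, f j := by
  classical
  rw [← Finset.sum_pair hpq]
  exact Finset.sum_le_univ_sum_of_nonneg hf

lemma one_le_sum {k : ℕ} (f : Fin k → ℤ) (hf : ∀ j, 0 ≤ f j) (p : Fin k) :
    f p ≤ ∑ j, f j := by
  classical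
  rw [← Finset.sum_singleton f p]
  exact Finset.sum_le_univ_sum_of_nonneg hf

lemma three_le_sum {k : ℕ} (f : Fin k → ℤ) (hf : ∀ j, 0 ≤ f j) (p q r : Fin k) (hpq : p ≠ q)
    (hpr : p ≠ r) (hqr : q ≠ r) :
    f p + f q + f r ≤ ∑ j, f j := by
  classical
  have : ∑ j ∈ ({p, q, r} : Finset (Fin k)), f j = f p + f q + f r := by
    rw [Finset.sum_insert (by simp [hpq, hpr]), Finset.sum_pair hqr]
    ring
  rw [← this]
  exact Finset.sum_le_univ_sum_of_nonneg hf

lemma four_le_sum {k : ℕ} (f : Fin k → ℤ) (hf : ∀ j, 0 ≤ f j) (p q r s : Fin k) (hpq : p ≠ q)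
    (hpr : p ≠ r) (hps : p ≠ s) (hqr : q ≠ r) (hqs : q ≠ s) (hrs : r ≠ s) :
    f p + f q + f r + f s ≤ ∑ j, f j := by
  classical
  have : ∑ j ∈ ({p, q, r, s} : Finset (Fin k)), f j = f p + f q + f r + f s := by
    rw [Finset.sum_insert (by simp [hpq, hpr, hps]), Finset.sum_insert (by simp [hqr, hqs]),
      Finset.sum_pair hrs]
    ring
  rw [← this]
  exact Finset.sum_le_univ_sum_of_nonneg hf

/-- a surjective embedding of `Fin k` into `Fin n` forces `k = n` -/
lemma card_eq_of_surj {k : ℕ} (v : Fin k ↪ Fin n) (hs : Function.Surjective v) : k = n := by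
  have := Fintype.card_of_bijective ⟨v.injective, hs⟩
  simpa using this

/-- the permutation given by a surjective self-embedding -/
noncomputable def permOfSurj (v : Fin n ↪ Fin n) (hs : Function.Surjective v) : Equiv.Perm (Fin n) :=
  Equiv.ofBijective v (show Function.Bijective v from ⟨v.injective, hs⟩)

@[simp] lemma permOfSurj_apply (v : Fin n ↪ Fin n) (hs : Function.Surjective v) (j : Fin n) :
    permOfSurj v hs j = v j := rfl

lemma chain_const {k : ℕ} (hk : 0 < k) (f : Fin k → ℤ)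
    (h : ∀ j j' : Fin k, j'.val = j.val + 1 → f j' = f j) (j : Fin k) : f j = f ⟨0, hk⟩ := by
  obtain ⟨j, hj⟩ := j
  induction j with
  | zero => rfl
  | succ i ih =>
    rw [h ⟨i, by omega⟩ ⟨i + 1, hj⟩ rfl]
    exact ih (by omega)

end Groth.Agent.Lib.Helper29.G1
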