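import Groth.Agent.Lib.Helper29.GrBC
import Mathlib.AlgebraicGeometry.IdealSheaf.Functorial

set_option autoImplicit false
universe u
open CategoryTheory CategoryTheory.Limits AlgebraicGeometry TopologicalSpace Opposite

namespace Groth.Agent.Lib.Helper29.GrComap

theorem le_coborderRange_of_isClosedImmersion {Z X : Scheme.{u}} (i : Z ⟶ X) [IsClosedImmersion i]
    (W : X.Opens) : W ≤ i.coborderRange := by
  intro x _
  change x ∈ coborder (Set.range i)
  rw [i.isClosedEmbedding.isClosed_range.coborder_eq]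
  exact Set.mem_univ x

open Groth.Agent.Lib.Helper29.ConormalBC in
/-- the ideal of the base change of a closed immersion, on charts. -/
theorem comap_ideal_chart {X X' : Scheme.{u}} (v : X' ⟶ X) (K : X.IdealSheafData)
    {W : X.Opens} (hW : IsAffineOpen W) {W' : X'.Opens} (hW' : IsAffineOpen W')
    (e : W' ≤ v ⁻¹ᵁ W) :
    (K.comap v).ideal ⟨W', hW'⟩ = (K.ideal ⟨W, hW⟩).map (v.appLE W W' e).hom := by
  have H : IsPullback (pullback.fst v K.subschemeι) (pullback.snd v K.subschemeι) v K.subschemeι :=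
    IsPullback.of_hasPullback _ _
  have hc : W ≤ K.subschemeι.coborderRange := le_coborderRange_of_isClosedImmersion _ W
  obtain ⟨hU, hsurj⟩ := affine_surjective_of_le_coborder K.subschemeι hW hc
  have h1 := ideal_eq_map H hW hW' e hU hsurj
  rw [Scheme.IdealSheafData.ker_subschemeι] at h1
  exact h1

open Groth.Agent.Lib.Helper29.ConormalBC in
theorem comap_ker_pow {Y X Y' X' : Scheme.{u}} (f : Y ⟶ X) [IsClosedImmersion f]
    (v : X' ⟶ X) (u : Y' ⟶ Y) (f' : Y' ⟶ X') [IsClosedImmersion f']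
    (H : IsPullback f' u v f) (n : ℕ) :
    (f.ker ^ n).comap v = f'.ker ^ n := by
  refine Scheme.IdealSheafData.ext_of_iSup_eq_top
    (ι := {p : X'.affineOpens × X.affineOpens // p.1.1 ≤ v ⁻¹ᵁ p.2.1}) (fun p => p.1.1) ?_ ?_
  · rw [eq_top_iff]
    intro x _
    obtain ⟨_, ⟨W, hW, rfl⟩, hxW, -⟩ :=
      X.isBasis_affineOpens.exists_subset_of_mem_open (Set.mem_univ (v x)) isOpen_univ
    have hx2 : x ∈ v ⁻¹ᵁ W := hxW
    obtain ⟨_, ⟨W', hW', rfl⟩, hxW', hle⟩ :=
      X'.isBasis_affineOpens.exists_subset_of_mem_open hx2 (v ⁻¹ᵁ W).isOpen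
    exact TopologicalSpace.Opens.mem_iSup.mpr ⟨⟨(⟨W', hW'⟩, ⟨W, hW⟩), hle⟩, hxW'⟩
  · rintro ⟨⟨⟨W', hW'⟩, ⟨W, hW⟩⟩, e⟩
    change ((f.ker ^ n).comap v).ideal ⟨W', hW'⟩ = (f'.ker ^ n).ideal ⟨W', hW'⟩
    rw [comap_ideal_chart v (f.ker ^ n) hW hW' e]
    have hc : W ≤ f.coborderRange := le_coborderRange_of_isClosedImmersion _ W
    obtain ⟨hU, hsurj⟩ := affine_surjective_of_le_coborder f hW hc
    exact (Groth.Agent.Lib.Helper29.GrBC.ideal_pow_eq_map H n hW hW' e hU hsurj).symm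

end Groth.Agent.Lib.Helper29.GrComap
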