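import Mathlib.RingTheory.IsTensorProduct
import Mathlib.Algebra.Category.Ring.Constructions
import Mathlib.RingTheory.Ideal.Maps

set_option autoImplicit false
universe u
open TensorProduct

namespace Groth.Agent.Lib.Helper29.GrSplitAlg

section Cancel

variable (R S A B : Type*) [CommRing R] [CommRing S] [CommRing A] [CommRing B]
  [Algebra R S] [Algebra R A] [Algebra R B] [Algebra A B] [Algebra S B]
  [IsScalarTower R A B] [IsScalarTower R S B] [Algebra.IsPushout R S A B]
  {M M' : Type*} [AddCommGroup M] [Module R M] [Module A M] [IsScalarTower R A M]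
  [AddCommGroup M'] [Module R M'] [Module A M'] [IsScalarTower R A M']

/-- naturality of `IsPushout.cancelBaseChange`. -/
theorem lTensor_cancelBaseChange_symm (f : M →ₗ[A] M') (x : S ⊗[R] M) :
    LinearMap.lTensor B f ((Algebra.IsPushout.cancelBaseChange R S A B M).symm x) =
      (Algebra.IsPushout.cancelBaseChange R S A B M').symm
        (LinearMap.lTensor S (f.restrictScalars R) x) := by
  induction x with
  | zero => simp
  | add x y hx hy => simp only [map_add, hx, hy]
  | tmul s m =>
    simp

include S in
/-- base change of an `A`-linear map which is split over `R` stays injective, in a pushout square. -/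
theorem lTensor_injective_of_retraction (f : M →ₗ[A] M') (ρ : M' →ₗ[R] M)
    (hρ : ∀ m, ρ (f m) = m) : Function.Injective (LinearMap.lTensor B f) := by
  have h1 : Function.Injective (LinearMap.lTensor S (f.restrictScalars R)) := by
    refine Function.LeftInverse.injective (g := LinearMap.lTensor S ρ) ?_
    intro x
    rw [← LinearMap.comp_apply, ← LinearMap.lTensor_comp]
    have : ρ ∘ₗ (f.restrictScalars R) = LinearMap.id := by
      ext m
      exact hρ m
    rw [this, LinearMap.lTensor_id, LinearMap.id_apply]
  intro x y hxy
  obtain ⟨x', rfl⟩ := (Algebra.IsPushout.cancelBaseChange R S A B M).symm.surjective x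
  obtain ⟨y', rfl⟩ := (Algebra.IsPushout.cancelBaseChange R S A B M).symm.surjective y
  rw [lTensor_cancelBaseChange_symm, lTensor_cancelBaseChange_symm] at hxy
  rw [h1 ((Algebra.IsPushout.cancelBaseChange R S A B M').symm.injective hxy)]

end Cancel

section RingHom

open CategoryTheory CategoryTheory.Limits

/-- in a pushout square of rings `R = R' ⊗_{A'} A` in which `A' → R'` has a retraction `π`, an injective
`R'`-linear map `ι : N → R'` with image `ker π` stays injective after base change to `R`. -/
theorem lTensor_injective_of_section {A' R' A R : Type u} [CommRing A'] [CommRing R'] [CommRing A]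
    [CommRing R] (α : A' →+* R') (β : A' →+* A) (γ : R' →+* R) (δ : A →+* R)
    (hpo : IsPushout (CommRingCat.ofHom α) (CommRingCat.ofHom β) (CommRingCat.ofHom γ)
      (CommRingCat.ofHom δ))
    (π : R' →+* A') (hπ : ∀ a, π (α a) = a)
    {N : Type*} [AddCommGroup N] [Module R' N] (ι : N →ₗ[R'] R') (hι : Function.Injective ι)
    (hker : ∀ n, π (ι n) = 0) (hrange : ∀ x, π x = 0 → ∃ n, ι n = x) :
    letI := γ.toAlgebra
    Function.Injective (LinearMap.lTensor R ι) := by
  letI := γ.toAlgebra
  letI := α.toAlgebra
  letI := β.toAlgebra
  letI := δ.toAlgebra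
  letI : Algebra A' R := (γ.comp α).toAlgebra
  have hw : δ.comp β = γ.comp α := by
    have := hpo.w
    exact (congrArg CommRingCat.Hom.hom this).symm
  haveI : IsScalarTower A' R' R := IsScalarTower.of_algebraMap_eq (fun _ => rfl)
  haveI : IsScalarTower A' A R := IsScalarTower.of_algebraMap_eq (fun a => by
    change γ (α a) = δ (β a)
    exact (congr($hw a)).symm)
  letI : Module A' N := Module.compHom N α
  haveI : IsScalarTower A' R' N := ⟨fun a r n => by
    change (α a * r) • n = α a • (r • n)
    rw [mul_smul]⟩
  haveI : Algebra.IsPushout A' A R' R := by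
    rw [← CommRingCat.isPushout_iff_isPushout]
    exact hpo.flip
  -- the retraction
  have hex : ∀ x : R', ∃ n, ι n = x - α (π x) := by
    intro x
    refine hrange _ ?_
    rw [map_sub, hπ, sub_self]
  choose ρ₀ hρ₀ using hex
  let ρ : R' →ₗ[A'] N :=
    { toFun := ρ₀
      map_add' := fun x y => by
        apply hι
        rw [map_add, hρ₀, hρ₀, hρ₀, map_add, map_add]
        ring
      map_smul' := fun a x => by
        apply hι
        change ι (ρ₀ (α a * x)) = ι (α a • ρ₀ x)
        rw [map_smul, hρ₀, hρ₀, map_mul, map_mul, hπ, smul_eq_mul]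
        ring }
  refine lTensor_injective_of_retraction A' A R' R ι ρ ?_
  intro n
  apply hι
  change ι (ρ₀ (ι n)) = ι n
  rw [hρ₀, hker, map_zero, sub_zero]

end RingHom

end Groth.Agent.Lib.Helper29.GrSplitAlg
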