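import Groth.Agent.Lib.Helper29.ConormalChart
import Groth.Agent.Lib.Helper29.GrSplitAlg
import Mathlib.RingTheory.Flat.Equalizer

set_option autoImplicit false
universe u
open TensorProduct

namespace Groth.Agent.Lib.Helper29.GrFlatAlg

open Groth.Agent.Lib.Helper17.PullbackBC Groth.Agent.Lib.Helper29.ConormalChart

section BC

variable {R S : Type u} [CommRing R] [CommRing S] (ρ : R →+* S)
  {P T : Type u} [AddCommGroup P] [Module R P] [AddCommGroup T] [Module S T]
  (c : P → T) (h : IsBC ρ c)

include h in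
theorem isBC_add (p q : P) : c (p + q) = c p + c q := by
  letI := ρ.toAlgebra
  obtain ⟨e, he⟩ := (isBC_iff ρ c).mp h
  apply e.injective
  rw [map_add, he, he, he, TensorProduct.tmul_add]

include h in
theorem isBC_smul (r : R) (p : P) : c (r • p) = ρ r • c p := by
  letI := ρ.toAlgebra
  obtain ⟨e, he⟩ := (isBC_iff ρ c).mp h
  apply e.injective
  rw [map_smul, he, he, TensorProduct.smul_tmul', ← TensorProduct.smul_tmul]
  congr 1

end BC

section Step

variable {A' R' : Type u} [CommRing A'] [CommRing R'] [Algebra A' R'] (π : R' →+* A')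
  (hπ : ∀ a, π (algebraMap A' R' a) = a) (k : ℕ)
  {N₁ N₀ : Type u} [AddCommGroup N₁] [Module R' N₁] [Module A' N₁] [IsScalarTower A' R' N₁]
  [AddCommGroup N₀] [Module R' N₀] [Module A' N₀] [IsScalarTower A' R' N₀]
  (ι₁ : N₁ →ₗ[R'] R') (ι₀ : N₀ →ₗ[R'] R')
  (hι₁ : Function.Injective ι₁) (hι₀ : Function.Injective ι₀)
  (hr₁ : LinearMap.range ι₁ = (RingHom.ker π) ^ (k + 1))
  (hr₀ : LinearMap.range ι₀ = (RingHom.ker π) ^ k)
  {P : Type u} [AddCommGroup P] [Module A' P] [Module.Flat A' P] (c : N₀ → P) (hc : IsBC π c)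
  (A : Type u) [AddCommGroup A] [Module A' A]

include hπ hι₁ hι₀ hr₁ hr₀ hc in
/-- one step of the induction: if `I^k/I^(k+1)` is flat over `A'`, injectivity of `A ⊗ I^k → A ⊗ R'`
implies that of `A ⊗ I^(k+1) → A ⊗ R'`. -/
theorem step (h0 : Function.Injective (LinearMap.lTensor A (ι₀.restrictScalars A'))) :
    Function.Injective (LinearMap.lTensor A (ι₁.restrictScalars A')) := by
  have hπs : Function.Surjective π := fun a => ⟨algebraMap A' R' a, hπ a⟩
  have hex : ∀ x : N₁, ∃ y : N₀, ι₀ y = ι₁ x := by
    intro x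
    have h1 : ι₁ x ∈ LinearMap.range ι₁ := ⟨x, rfl⟩
    rw [hr₁] at h1
    have h2 : ι₁ x ∈ LinearMap.range ι₀ := by
      rw [hr₀]
      exact Ideal.pow_le_pow_right (Nat.le_succ k) h1
    exact h2
  choose j₀ hj₀ using hex
  let j : N₁ →ₗ[R'] N₀ :=
    { toFun := j₀
      map_add' := fun x y => by
        apply hι₀
        rw [map_add, hj₀, hj₀, hj₀, map_add]
      map_smul' := fun r x => by
        apply hι₀
        rw [RingHom.id_apply, map_smul, hj₀, hj₀, map_smul] }
  have hj : ∀ x, ι₀ (j x) = ι₁ x := hj₀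
  have hjinj : Function.Injective j := by
    intro x y hxy
    apply hι₁
    rw [← hj, ← hj, hxy]
  let c' : N₀ →ₗ[A'] P :=
    { toFun := c
      map_add' := isBC_add π c hc
      map_smul' := fun a y => by
        rw [← algebraMap_smul R' a y, isBC_smul π c hc, hπ]
        rfl }
  have hc's : Function.Surjective c' := surjective_of_isBC_of_surjective π hπs c hc
  have hmap : Submodule.map ι₀ (RingHom.ker π • (⊤ : Submodule R' N₀)) =
      (RingHom.ker π) ^ (k + 1) := by
    rw [Submodule.map_smul'', Submodule.map_top, hr₀, smul_eq_mul, ← pow_succ']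
  have hex2 : Function.Exact (j.restrictScalars A') c' := by
    intro y
    change c y = 0 ↔ y ∈ Set.range j
    rw [eq_zero_iff_of_isBC_of_surjective π hπs c hc y]
    constructor
    · intro hy
      have h1 : ι₀ y ∈ Submodule.map ι₀ (RingHom.ker π • (⊤ : Submodule R' N₀)) :=
        Submodule.mem_map_of_mem hy
      rw [hmap, ← hr₁] at h1
      obtain ⟨x, hx⟩ := h1
      exact ⟨x, hι₀ ((hj x).trans hx)⟩
    · rintro ⟨x, rfl⟩
      have h1 : ι₀ (j x) ∈ (RingHom.ker π) ^ (k + 1) := by
        rw [hj, ← hr₁]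
        exact ⟨x, rfl⟩
      rw [← hmap] at h1
      obtain ⟨y', hy', hy'eq⟩ := h1
      rw [← hι₀ hy'eq]
      exact hy'
  have h1 : Function.Injective ((j.restrictScalars A').lTensor A) :=
    LinearMap.lTensor_injective_of_exact_of_flat c' hc's (j.restrictScalars A') hjinj hex2 A
  have h2 : ι₁.restrictScalars A' = (ι₀.restrictScalars A') ∘ₗ (j.restrictScalars A') := by
    ext x
    exact (hj x).symm
  rw [h2, LinearMap.lTensor_comp]
  exact h0.comp h1

end Step

section Cancel

variable (R S A B : Type*) [CommRing R] [CommRing S] [CommRing A] [CommRing B]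
  [Algebra R S] [Algebra R A] [Algebra R B] [Algebra A B] [Algebra S B]
  [IsScalarTower R A B] [IsScalarTower R S B] [Algebra.IsPushout R S A B]
  {M M' : Type*} [AddCommGroup M] [Module R M] [Module A M] [IsScalarTower R A M]
  [AddCommGroup M'] [Module R M'] [Module A M'] [IsScalarTower R A M']

theorem lTensor_injective_of_restrictScalars (f : M →ₗ[A] M')
    (h1 : Function.Injective (LinearMap.lTensor S (f.restrictScalars R))) :
    Function.Injective (LinearMap.lTensor B f) := by
  intro x y hxy
  obtain ⟨x', rfl⟩ := (Algebra.IsPushout.cancelBaseChange R S A B M).symm.surjective x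
  obtain ⟨y', rfl⟩ := (Algebra.IsPushout.cancelBaseChange R S A B M).symm.surjective y
  rw [Groth.Agent.Lib.Helper29.GrSplitAlg.lTensor_cancelBaseChange_symm,
    Groth.Agent.Lib.Helper29.GrSplitAlg.lTensor_cancelBaseChange_symm] at hxy
  rw [h1 ((Algebra.IsPushout.cancelBaseChange R S A B M').symm.injective hxy)]

end Cancel

section Induction

open CategoryTheory CategoryTheory.Limits

/-- in a pushout square of rings `R = R' ⊗_{A'} A` in which `A' → R'` has a retraction `π` with kernel `I`,
if the graded pieces `I^k/I^(k+1)` (`k < n`) are flat over `A'`, then `R ⊗_{R'} I^n → R` is injective. -/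
theorem lTensor_injective_of_flat_gr {A' R' A R : Type u} [CommRing A'] [CommRing R'] [CommRing A]
    [CommRing R] (α : A' →+* R') (β : A' →+* A) (γ : R' →+* R) (δ : A →+* R)
    (hpo : IsPushout (CommRingCat.ofHom α) (CommRingCat.ofHom β) (CommRingCat.ofHom γ)
      (CommRingCat.ofHom δ))
    (π : R' →+* A') (hπ : ∀ a, π (α a) = a)
    (N : ℕ → Type u) [∀ k, AddCommGroup (N k)] [∀ k, Module R' (N k)]
    (ι : ∀ k, N k →ₗ[R'] R') (hι : ∀ k, Function.Injective (ι k))
    (hr : ∀ k, LinearMap.range (ι k) = (RingHom.ker π) ^ k)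
    (P : ℕ → Type u) [∀ k, AddCommGroup (P k)] [∀ k, Module A' (P k)] (c : ∀ k, N k → P k)
    (n : ℕ) (hc : ∀ k < n, IsBC π (c k)) (hfl : ∀ k < n, Module.Flat A' (P k)) :
    letI := γ.toAlgebra
    Function.Injective (LinearMap.lTensor R (ι n)) := by
  letI := γ.toAlgebra
  letI := α.toAlgebra
  letI := β.toAlgebra
  letI := δ.toAlgebra
  letI : Algebra A' R := (γ.comp α).toAlgebra
  have hw : δ.comp β = γ.comp α := by
    have := hpo.w
    exact (congrArg CommRingCat.Hom.hom this).symm
  haveI : IsScalarTower A' R' R := IsScalarTower.of_algebraMap_eq (fun _ => rfl)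
  haveI : IsScalarTower A' A R := IsScalarTower.of_algebraMap_eq (fun a => by
    change γ (α a) = δ (β a)
    exact (congr($hw a)).symm)
  letI : ∀ k, Module A' (N k) := fun k => Module.compHom (N k) α
  haveI : ∀ k, IsScalarTower A' R' (N k) := fun k => ⟨fun a r x => by
    change (α a * r) • x = α a • (r • x)
    rw [mul_smul]⟩
  haveI : Algebra.IsPushout A' A R' R := by
    rw [← CommRingCat.isPushout_iff_isPushout]
    exact hpo.flip
  have key : ∀ k ≤ n, Function.Injective (LinearMap.lTensor A ((ι k).restrictScalars A')) := by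
    intro k
    induction k with
    | zero =>
      intro _
      have hsurj : Function.Surjective (ι 0) := by
        rw [← LinearMap.range_eq_top, hr 0, pow_zero, Ideal.one_eq_top]
      let e : N 0 ≃ₗ[R'] R' := LinearEquiv.ofBijective (ι 0) ⟨hι 0, hsurj⟩
      refine Function.LeftInverse.injective
        (g := LinearMap.lTensor A ((e.symm : R' →ₗ[R'] N 0).restrictScalars A')) ?_
      intro x
      rw [← LinearMap.comp_apply, ← LinearMap.lTensor_comp]
      have : ((e.symm : R' →ₗ[R'] N 0).restrictScalars A') ∘ₗ ((ι 0).restrictScalars A') =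
          LinearMap.id := by
        ext y
        exact e.symm_apply_apply y
      rw [this, LinearMap.lTensor_id, LinearMap.id_apply]
    | succ k ih =>
      intro hk
      haveI : Module.Flat A' (P k) := hfl k hk
      exact step π hπ k (ι (k + 1)) (ι k) (hι (k + 1)) (hι k) (hr (k + 1)) (hr k) (c k)
        (hc k hk) A (ih (Nat.le_of_succ_le hk))
  exact lTensor_injective_of_restrictScalars A' A R' R (ι n) (key n le_rfl)

end Induction

end Groth.Agent.Lib.Helper29.GrFlatAlg
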