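import Groth.Agent.Lib.Helper29.ConormalMap
import Groth.Prelude.Def_OmegaPn

set_option autoImplicit false
universe u
open CategoryTheory CategoryTheory.Limits AlgebraicGeometry TensorProduct Opposite

namespace Groth.Agent.Lib.Helper29.GrMap

open Groth.Agent.Lib.Helper28.QCohLoc Groth.Agent.Lib.Helper29.ConormalMap

/-- `i^* K` for an ideal sheaf `K` on the target of `i`. -/
noncomputable abbrev grK {Z X : Scheme.{u}} (i : Z ⟶ X) (K : X.IdealSheafData) : Z.Modules :=
  (Scheme.Modules.pullback i).obj (ClSub.idealMod K)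

/-- `g♯` carries functions vanishing on `V(K')` to functions vanishing on `V(K)`. -/
def Compat {X X' : Scheme.{u}} (g : X ⟶ X') (K : X.IdealSheafData) (K' : X'.IdealSheafData) : Prop :=
  ∀ (U' : X'.Opens) (y : Γ(X', U')), K'.subschemeι.app U' y = 0 →
    K.subschemeι.app (g ⁻¹ᵁ U') (g.app U' y) = 0

section Push

variable {X X' : Scheme.{u}} (g : X ⟶ X') (K : X.IdealSheafData) (K' : X'.IdealSheafData)
  (hK : Compat g K K')

/-- `g♯` on sections of the ideals. -/
noncomputable def pushSect (U' : X'.Opens) (s' : Γ(ClSub.idealMod K', U')) :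
    Γ(ClSub.idealMod K, g ⁻¹ᵁ U') :=
  idealLiftOf K (g ⁻¹ᵁ U') (g.app U' (OmegaSh.idealSect K' U' s'))
    (hK U' _ (subschemeι_app_idealSect K' U' s'))

theorem idealSect_pushSect (U' : X'.Opens) (s' : Γ(ClSub.idealMod K', U')) :
    OmegaSh.idealSect K (g ⁻¹ᵁ U') (pushSect g K K' hK U' s') =
      g.app U' (OmegaSh.idealSect K' U' s') :=
  idealSect_idealLiftOf _ _ _ _

theorem pushSect_add (U' : X'.Opens) (a b : Γ(ClSub.idealMod K', U')) :
    pushSect g K K' hK U' (a + b) = pushSect g K K' hK U' a + pushSect g K K' hK U' b := by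
  apply idealSect_injective
  rw [map_add, idealSect_pushSect, idealSect_pushSect, idealSect_pushSect, map_add, map_add]

theorem pushSect_smul (U' : X'.Opens) (r : Γ(X', U')) (a : Γ(ClSub.idealMod K', U')) :
    pushSect g K K' hK U' (r • a) = g.app U' r • pushSect g K K' hK U' a := by
  apply idealSect_injective
  rw [idealSect_smul, idealSect_pushSect, idealSect_pushSect, idealSect_smul, map_mul]

theorem pushSect_res {U' V' : X'.Opens} (h : V' ≤ U') (a : Γ(ClSub.idealMod K', U')) :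
    pushSect g K K' hK V' (res (ClSub.idealMod K') h a) =
      res (ClSub.idealMod K) (g.preimage_mono h) (pushSect g K K' hK U' a) := by
  apply idealSect_injective
  rw [idealSect_pushSect, idealSect_res, idealSect_res, idealSect_pushSect]
  exact congr($(g.naturality (homOfLE h).op) (OmegaSh.idealSect K' U' a))

/-- `g♯ : K' ⟶ g_* K` as a morphism of modules. -/
noncomputable def idealPush :
    ClSub.idealMod K' ⟶ (Scheme.Modules.pushforward g).obj (ClSub.idealMod K) :=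
  ⟨PresheafOfModules.homMk
    { app := fun U => AddCommGrpCat.ofHom
        (AddMonoidHom.mk' (pushSect g K K' hK U.unop) (pushSect_add g K K' hK U.unop))
      naturality := fun U V j => by
        ext a
        exact pushSect_res g K K' hK j.unop.le a }
    (fun U r a => pushSect_smul g K K' hK U.unop r a)⟩

theorem idealPush_app (U' : X'.Opens) (s' : Γ(ClSub.idealMod K', U')) :
    (idealPush g K K' hK).app U' s' = pushSect g K K' hK U' s' := rfl

end Push

section GrMap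

variable {Z X Z' X' : Scheme.{u}} (i : Z ⟶ X) (i' : Z' ⟶ X') (g : X ⟶ X') (gZ : Z ⟶ Z')
  (hsq : gZ ≫ i' = i ≫ g) (K : X.IdealSheafData) (K' : X'.IdealSheafData) (hK : Compat g K K')

/-- `K' ⟶ i'_* gZ_* i^* K`, `s' ↦ class of g♯ s'`. -/
noncomputable def grPre :
    ClSub.idealMod K' ⟶
      (Scheme.Modules.pushforward i').obj ((Scheme.Modules.pushforward gZ).obj (grK i K)) :=
  idealPush g K K' hK ≫
    (Scheme.Modules.pushforward g).map
      ((Scheme.Modules.pullbackPushforwardAdjunction i).unit.app (ClSub.idealMod K)) ≫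
    pushTransport i i' g gZ hsq (grK i K)

theorem grPre_app (U' : X'.Opens) (s' : Γ(ClSub.idealMod K', U')) :
    (grPre i i' g gZ hsq K K' hK).app U' s' =
      (grK i K).presheaf.map (eqToHom (preimage_eq i i' g gZ hsq U')).op
        (OmegaSh.pullSect i (ClSub.idealMod K) (g ⁻¹ᵁ U') (pushSect g K K' hK U' s')) := by
  rfl

/-- **the canonical map** `gZ^* i'^* K' ⟶ i^* K`. -/
noncomputable def grMap :
    (Scheme.Modules.pullback gZ).obj (grK i' K') ⟶ grK i K :=
  transp gZ (transp i' (grPre i i' g gZ hsq K K' hK))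

theorem grMap_pullSect (U' : X'.Opens) (s' : Γ(ClSub.idealMod K', U')) :
    (grMap i i' g gZ hsq K K' hK).app (gZ ⁻¹ᵁ (i' ⁻¹ᵁ U'))
        (OmegaSh.pullSect gZ (grK i' K') (i' ⁻¹ᵁ U')
          (OmegaSh.pullSect i' (ClSub.idealMod K') U' s')) =
      (grK i K).presheaf.map (eqToHom (preimage_eq i i' g gZ hsq U')).op
        (OmegaSh.pullSect i (ClSub.idealMod K) (g ⁻¹ᵁ U') (pushSect g K K' hK U' s')) := by
  unfold grMap
  rw [transp_pullSect]
  erw [transp_pullSect]
  exact grPre_app i i' g gZ hsq K K' hK U' s'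

/-- the pinning property, in the shape of `IsGrMap`. -/
theorem grMap_spec (U' : X'.Opens) (s' : Γ(ClSub.idealMod K', U'))
    (s : Γ(ClSub.idealMod K, g ⁻¹ᵁ U'))
    (hs : OmegaSh.idealSect K (g ⁻¹ᵁ U') s = g.app U' (OmegaSh.idealSect K' U' s'))
    (V : Z.Opens) (h₁ : V ≤ gZ ⁻¹ᵁ (i' ⁻¹ᵁ U')) (h₂ : V ≤ i ⁻¹ᵁ (g ⁻¹ᵁ U')) :
    (grK i K).presheaf.map (homOfLE h₁).op
        ((grMap i i' g gZ hsq K K' hK).app (gZ ⁻¹ᵁ (i' ⁻¹ᵁ U'))
          (OmegaSh.pullSect gZ (grK i' K') (i' ⁻¹ᵁ U')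
            (OmegaSh.pullSect i' (ClSub.idealMod K') U' s'))) =
      (grK i K).presheaf.map (homOfLE h₂).op
        (OmegaSh.pullSect i (ClSub.idealMod K) (g ⁻¹ᵁ U') s) := by
  have hs' : s = pushSect g K K' hK U' s' := by
    apply idealSect_injective
    rw [hs, idealSect_pushSect]
  rw [grMap_pullSect, hs']
  exact map_map_eq _ _ _ _ _

theorem grMap_unique (φ : (Scheme.Modules.pullback gZ).obj (grK i' K') ⟶ grK i K)
    (hφ : ∀ (U' : X'.Opens) (s' : Γ(ClSub.idealMod K', U'))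
      (s : Γ(ClSub.idealMod K, g ⁻¹ᵁ U')),
      OmegaSh.idealSect K (g ⁻¹ᵁ U') s = g.app U' (OmegaSh.idealSect K' U' s') →
      ∀ (V : Z.Opens) (h₁ : V ≤ gZ ⁻¹ᵁ (i' ⁻¹ᵁ U')) (h₂ : V ≤ i ⁻¹ᵁ (g ⁻¹ᵁ U')),
        (grK i K).presheaf.map (homOfLE h₁).op
            (φ.app (gZ ⁻¹ᵁ (i' ⁻¹ᵁ U'))
              (OmegaSh.pullSect gZ (grK i' K') (i' ⁻¹ᵁ U')
                (OmegaSh.pullSect i' (ClSub.idealMod K') U' s'))) =
          (grK i K).presheaf.map (homOfLE h₂).op
            (OmegaSh.pullSect i (ClSub.idealMod K) (g ⁻¹ᵁ U') s)) :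
    φ = grMap i i' g gZ hsq K K' hK := by
  apply ((Scheme.Modules.pullbackPushforwardAdjunction gZ).homEquiv _ _).injective
  refine pullback_hom_ext i' (M := ClSub.idealMod K') _ _ ?_
  intro U' s'
  have e1 := homEquiv_app gZ (M := grK i' K') φ (i' ⁻¹ᵁ U')
    (OmegaSh.pullSect i' (ClSub.idealMod K') U' s')
  have e2 := homEquiv_app gZ (M := grK i' K') (grMap i i' g gZ hsq K K' hK) (i' ⁻¹ᵁ U')
    (OmegaSh.pullSect i' (ClSub.idealMod K') U' s')
  refine e1.trans (Eq.trans ?_ e2.symm)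
  have h1 := hφ U' s' (pushSect g K K' hK U' s') (idealSect_pushSect g K K' hK U' s')
    (gZ ⁻¹ᵁ (i' ⁻¹ᵁ U')) le_rfl (preimage_eq i i' g gZ hsq U').le
  have h2 := grMap_pullSect i i' g gZ hsq K K' hK U' s'
  have h3 : ∀ y : Γ(grK i K, gZ ⁻¹ᵁ (i' ⁻¹ᵁ U')),
      (grK i K).presheaf.map (homOfLE (le_refl (gZ ⁻¹ᵁ (i' ⁻¹ᵁ U')))).op y = y := by
    intro y
    exact res_self (grK i K) y
  rw [h3] at h1
  exact h1.trans h2.symm

end GrMap

end Groth.Agent.Lib.Helper29.GrMap
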