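import Mathlib
import Groth.Agent.Lib.Helper29.OmegaChart

set_option autoImplicit false
universe u
open CategoryTheory CategoryTheory.Limits AlgebraicGeometry TensorProduct Opposite

namespace Groth.Agent.Lib.Helper29.OmegaSmooth

open Groth.Agent.Lib.Helper28.QCohLoc Groth.Agent.Lib.Helper29.ConormalMap
  Groth.Agent.Lib.Helper29.ConormalAlg Groth.Agent.Lib.Helper17.PullbackBC
  Groth.Agent.Lib.Helper28.PullbackInv Groth.Agent.Lib.Helper29.ConormalBC
  Groth.Agent.Lib.Helper29.ConormalChart Groth.Agent.Lib.Helper29.OmegaLoc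
  Groth.Agent.Lib.Helper29.OmegaChart

section Alg

variable {A B : Type u} [CommRing A] [CommRing B] [Algebra A B] (I : Ideal B) (J : Ideal A)

/-- formally smooth `A → B` with `A/J ≅ B/I`: then `J/J² → I/I²` is injective. -/
theorem mem_sq_of_map_mem_sq [Algebra.FormallySmooth A B] (h1 : J.map (algebraMap A B) ≤ I)
    (h2 : ∀ b : B, ∃ a : A, b - algebraMap A B a ∈ I) (h3 : I.comap (algebraMap A B) ≤ J)
    (a : A) (haI : algebraMap A B a ∈ I * I) : a ∈ J * J := by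
  let f₀ : A →ₐ[A] B ⧸ I := (Ideal.Quotient.mkₐ A I).comp (Algebra.ofId A B)
  have hf₀ : ∀ x : A, f₀ x = Ideal.Quotient.mk I (algebraMap A B x) := fun x => rfl
  have hsurj₀ : Function.Surjective f₀ := by
    intro y
    obtain ⟨b, rfl⟩ := Ideal.Quotient.mk_surjective y
    obtain ⟨x, hx⟩ := h2 b
    refine ⟨x, ?_⟩
    rw [hf₀]
    exact (Ideal.Quotient.eq.2 hx).symm
  have hker : RingHom.ker (f₀ : A →+* B ⧸ I) = J := by
    ext x
    rw [RingHom.mem_ker]
    change f₀ x = 0 ↔ _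
    rw [hf₀, Ideal.Quotient.eq_zero_iff_mem]
    constructor
    · intro hx
      exact h3 hx
    · intro hx
      exact h1 (Ideal.mem_map_of_mem _ hx)
  let K : Ideal A := RingHom.ker (f₀ : A →+* B ⧸ I)
  let e₀ : (A ⧸ K) ≃ₐ[A] B ⧸ I := Ideal.quotientKerAlgEquivOfSurjective hsurj₀
  let fB : B →ₐ[A] A ⧸ K := e₀.symm.toAlgHom.comp (Ideal.Quotient.mkₐ A I)
  have hfB : ∀ b ∈ I, fB b = 0 := by
    intro b hb
    change e₀.symm (Ideal.Quotient.mk I b) = 0
    rw [Ideal.Quotient.eq_zero_iff_mem.2 hb, map_zero]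
  have hKK : K * K ≤ K := Ideal.mul_le_right
  let gT : (A ⧸ (K * K)) →ₐ[A] A ⧸ K := Ideal.Quotient.factorₐ A hKK
  have hgT : ∀ x : A, gT (Ideal.Quotient.mk (K * K) x) = Ideal.Quotient.mk K x := fun x => rfl
  have hgsurj : Function.Surjective gT := by
    intro y
    obtain ⟨x, rfl⟩ := Ideal.Quotient.mk_surjective y
    exact ⟨Ideal.Quotient.mk (K * K) x, rfl⟩
  have hkerg : ∀ t : A ⧸ (K * K), gT t = 0 → ∃ x ∈ K, t = Ideal.Quotient.mk (K * K) x := by
    intro t ht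
    obtain ⟨x, rfl⟩ := Ideal.Quotient.mk_surjective t
    rw [hgT, Ideal.Quotient.eq_zero_iff_mem] at ht
    exact ⟨x, ht, rfl⟩
  have hmulzero : ∀ s t : A ⧸ (K * K), gT s = 0 → gT t = 0 → s * t = 0 := by
    intro s t hs ht
    obtain ⟨x, hx, rfl⟩ := hkerg s hs
    obtain ⟨y, hy, rfl⟩ := hkerg t ht
    rw [← map_mul, Ideal.Quotient.eq_zero_iff_mem]
    exact Ideal.mul_mem_mul hx hy
  have hnil : IsNilpotent (RingHom.ker (gT : (A ⧸ (K * K)) →+* A ⧸ K)) := by
    refine ⟨2, ?_⟩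
    rw [Ideal.zero_eq_bot, eq_bot_iff, pow_two, Ideal.mul_le]
    intro s hs t ht
    rw [Ideal.mem_bot]
    exact hmulzero s t hs ht
  let σ : B →ₐ[A] A ⧸ (K * K) := Algebra.FormallySmooth.liftOfSurjective fB gT hgsurj hnil
  have hσ : ∀ b : B, gT (σ b) = fB b := Algebra.FormallySmooth.liftOfSurjective_apply fB gT hgsurj hnil
  have hσI : ∀ b ∈ I, gT (σ b) = 0 := fun b hb => by rw [hσ, hfB b hb]
  have hσII : ∀ b ∈ I * I, σ b = 0 := by
    intro b hb
    refine Submodule.mul_induction_on hb ?_ ?_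
    · intro x hx y hy
      rw [map_mul]
      exact hmulzero _ _ (hσI x hx) (hσI y hy)
    · intro x y hx hy
      rw [map_add, hx, hy, add_zero]
  have h4 := hσII _ haI
  rw [AlgHom.commutes] at h4
  have h5 : (algebraMap A (A ⧸ (K * K))) a = Ideal.Quotient.mk (K * K) a := rfl
  rw [h5, Ideal.Quotient.eq_zero_iff_mem] at h4
  have hKJ : K = J := hker
  rw [hKJ] at h4
  exact h4

end Alg

section Mono

variable {Z X Y : Scheme.{u}} (p : X ⟶ Y) [Smooth p] (i : Z ⟶ X) (j : Z ⟶ Y)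
  [IsImmersion i] [IsImmersion j] [QuasiCompact i] [QuasiCompact j] (hij : i ≫ p = j)
  (ψ : (Scheme.Modules.pullback (𝟙 Z)).obj (Omega.conormal j) ⟶ Omega.conormal i)
  (hψ : OmegaSh.IsConormalMap i j p (𝟙 Z) ψ)

include hij hψ in
/-- for smooth `p`, the canonical map `C_{Z/Y} → C_{Z/X}` is a monomorphism. -/
theorem mono_conormalMap_of_smooth : Mono ψ := by
  have hsq : 𝟙 Z ≫ j = i ≫ p := by rw [Category.id_comp, hij]
  refine mono_of_injective ψ (fun U => ?_)
  rw [injective_iff_map_eq_zero]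
  intro x hx
  have hloc : ∀ pt : U, ∃ V : Z.Opens, ∃ hV : V ≤ U, pt.1 ∈ V ∧
      res ((Scheme.Modules.pullback (𝟙 Z)).obj (Omega.conormal j)) hV x = 0 := by
    rintro ⟨pt, hpt⟩
    obtain ⟨WY, WX, hWY, hWX, e, hcX, hcY, heq, hptW, hWU⟩ := exists_chart_over p i j hij U pt hpt
    have hVU : j ⁻¹ᵁ WY ≤ U := heq ▸ hWU
    refine ⟨j ⁻¹ᵁ WY, hVU, heq ▸ hptW, ?_⟩
    obtain ⟨s', hs'⟩ := conormalSect_surjective j hWY hcY
      (((Scheme.Modules.pullbackId Z).hom.app (Omega.conormal j)).app (j ⁻¹ᵁ WY)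
        (res ((Scheme.Modules.pullback (𝟙 Z)).obj (Omega.conormal j)) hVU x))
    have hx₁eq : res ((Scheme.Modules.pullback (𝟙 Z)).obj (Omega.conormal j)) hVU x =
        OmegaSh.pullSect (𝟙 Z) (Omega.conormal j) (j ⁻¹ᵁ WY) (OmegaSh.conormalSect j WY s') := by
      rw [hs', ← pullbackId_inv_app]
      have := congrArg (fun α => Scheme.Modules.Hom.app α (j ⁻¹ᵁ WY)
        (res ((Scheme.Modules.pullback (𝟙 Z)).obj (Omega.conormal j)) hVU x))
        ((Scheme.Modules.pullbackId Z).hom_inv_id_app (Omega.conormal j))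
      exact this.symm
    have h1 := isConormalMap_app_chart hsq e ψ hψ s'
    have h2 : ψ.app (i ⁻¹ᵁ WX) (res ((Scheme.Modules.pullback (𝟙 Z)).obj (Omega.conormal j))
        (preimage_le' hsq e)
        (OmegaSh.pullSect (𝟙 Z) (Omega.conormal j) (j ⁻¹ᵁ WY) (OmegaSh.conormalSect j WY s'))) = 0 := by
      rw [← hx₁eq]
      have h3 : res ((Scheme.Modules.pullback (𝟙 Z)).obj (Omega.conormal j)) (preimage_le' hsq e)
          (res ((Scheme.Modules.pullback (𝟙 Z)).obj (Omega.conormal j)) hVU x) =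
          res ((Scheme.Modules.pullback (𝟙 Z)).obj (Omega.conormal j)) hWU x :=
        res_res _ _ _ x
      refine (congrArg _ h3).trans ?_
      rw [app_res, hx, res_zero]
    rw [h1] at h2
    rw [conormalSect_eq_zero_iff i hWX hcX, idealSect_tmap'] at h2
    letI := alg p e
    haveI : Algebra.FormallySmooth Γ(Y, WY) Γ(X, WX) :=
      (Smooth.smooth_appLE p hWY hWX e).formallySmooth
    have h4 := mem_sq_of_map_mem_sq (i.ker.ideal ⟨WX, hWX⟩) (j.ker.ideal ⟨WY, hWY⟩)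
      (map_le hij hWY hWX e heq) (exists_sub_mem hij hWY hWX e heq hcY)
      (comap_le hij hWY hWX e heq) _ h2
    have h5 : OmegaSh.conormalSect j WY s' = 0 := (conormalSect_eq_zero_iff j hWY hcY s').2 h4
    rw [hx₁eq, h5, map_zero]
    rfl
  choose V hV hpt hres using hloc
  refine eq_of_locally_eq _ V U hV ?_ x 0 ?_
  · intro q hq
    exact TopologicalSpace.Opens.mem_iSup.mpr ⟨⟨q, hq⟩, hpt ⟨q, hq⟩⟩
  · intro pt
    rw [hres pt, res_zero]

end Mono

end Groth.Agent.Lib.Helper29.OmegaSmooth
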