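import Mathlib
import Groth.Agent.Lib.helper19.RestrUniv2
import Groth.Agent.Lib.Helper29.OmegaSmooth

set_option autoImplicit false
universe u
open CategoryTheory CategoryTheory.Limits AlgebraicGeometry TopologicalSpace Opposite TensorProduct
open OmegaSh

namespace Groth.Agent.Lib.Helper29.OmegaSplit

open Groth.Agent.Lib.Helper28.QCohLoc Groth.Agent.Lib.Helper29.ConormalMap
  Groth.Agent.Lib.Helper29.ConormalBC Groth.Agent.Lib.Helper29.ConormalChart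
  Groth.Agent.Lib.Helper29.OmegaChart Groth.Agent.Lib.Helper28.PullbackInv
  Groth.Agent.Lib.Helper29.OmegaLoc Groth.Agent.Lib.Helper19.RestrUniv2

theorem app_eq_of_eq_id {Z : Scheme.{u}} (k : Z ⟶ Z) (hk : k = 𝟙 Z) (V : Z.Opens) (hV : k ⁻¹ᵁ V = V)
    (z : Γ(Z, V)) : Z.presheaf.map (eqToHom hV.symm).op (k.app V z) = z := by
  subst hk
  have h9 : ∀ (hh : op V ⟶ op V), Z.presheaf.map hh z = z := by
    intro hh
    have : hh = 𝟙 _ := Subsingleton.elim _ _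
    rw [this, Z.presheaf.map_id]
    rfl
  exact h9 _

theorem exists_section {Z X S : Scheme.{u}} (f : X ⟶ S) (i : Z ⟶ X)
    (g : X ⟶ Z) (hgi : i ≫ g = 𝟙 Z) (hgS : g ≫ i ≫ f = f)
    (ΩX : X.Modules) (dX : OmegaSh.Der f ΩX)
    (ΩZ : Z.Modules) (dZ : OmegaSh.Der (i ≫ f) ΩZ) (hZ : OmegaSh.IsUniversal dZ)
    (c : (Scheme.Modules.pullback i).obj ΩX ⟶ ΩZ) (hc : OmegaSh.IsDiffCompat i dX dZ c) :
    ∃ σ : ΩZ ⟶ (Scheme.Modules.pullback i).obj ΩX, σ ≫ c = 𝟙 _ := by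
  have hsq' : f ≫ 𝟙 S = g ≫ (i ≫ f) := by rw [Category.comp_id, hgS]
  obtain ⟨α, hα, -⟩ := hZ _ (pushDerSq (i ≫ f) f g (𝟙 S) hsq' dX)
  let σ : ΩZ ⟶ (Scheme.Modules.pullback i).obj ΩX :=
    α ≫ (Scheme.Modules.pushforward g).map ((Scheme.Modules.pullbackPushforwardAdjunction i).unit.app ΩX) ≫
      (Scheme.Modules.pushforwardComp i g).hom.app _ ≫ (Scheme.Modules.pushforwardCongr hgi).hom.app _ ≫
      (Scheme.Modules.pushforwardId Z).hom.app _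
  refine ⟨σ, ?_⟩
  obtain ⟨β, -, hβu⟩ := hZ _ dZ
  rw [hβu (σ ≫ c) ?_, hβu (𝟙 _) ?_]
  · apply PresheafOfModules.Derivation.ext
    funext V
    ext z
    rfl
  · apply PresheafOfModules.Derivation.ext
    funext V
    ext z
    have h1 := PresheafOfModules.Derivation.congr_d hα (X := V) z
    obtain ⟨V⟩ := V
    replace h1 : α.app V (dZ.app V z) = dX.app (g ⁻¹ᵁ V) (g.app V z) := h1
    have hV : i ⁻¹ᵁ (g ⁻¹ᵁ V) = V := by
      change (i ≫ g) ⁻¹ᵁ V = V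
      rw [hgi]
      rfl
    have h2 : ∀ y : Γ(ΩZ, V), σ.app V y = ((Scheme.Modules.pullback i).obj ΩX).presheaf.map
        (eqToHom hV.symm).op (pullSect i ΩX (g ⁻¹ᵁ V) (α.app V y)) := fun y => rfl
    change c.app V (σ.app V (dZ.app V z)) = dZ.app V z
    rw [h2, h1]
    have h3 := hc (g ⁻¹ᵁ V) (g.app V z)
    have h4 : ∀ y, c.app V (((Scheme.Modules.pullback i).obj ΩX).presheaf.map (eqToHom hV.symm).op y) =
        ΩZ.presheaf.map (eqToHom hV.symm).op (c.app (i ⁻¹ᵁ (g ⁻¹ᵁ V)) y) := by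
      intro y
      exact app_res c (le_of_eq hV.symm) y
    rw [h4, h3]
    have h5 : Z.presheaf.map (eqToHom hV.symm).op (i.app (g ⁻¹ᵁ V) (g.app V z)) = z := by
      exact app_eq_of_eq_id (i ≫ g) hgi V hV z
    have h8 := dZ.d_map (eqToHom hV.symm).op (i.app (g ⁻¹ᵁ V) (g.app V z))
    rw [h5] at h8
    exact h8.symm

/-- second fundamental sequence is left split when the surjection has an algebra section. -/
theorem mem_sq_of_D_mem_of_section {A B C : Type u} [CommRing A] [CommRing B] [CommRing C]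
    [Algebra A B] (π : B →+* C) (hπ : Function.Surjective π) (gs : C →+* B)
    (hgs : ∀ c, π (gs c) = c) (hA : ∀ a : A, gs (π (algebraMap A B a)) = algebraMap A B a)
    (b : B) (hb : b ∈ RingHom.ker π)
    (h : KaehlerDifferential.D A B b ∈ RingHom.ker π • (⊤ : Submodule B Ω[B⁄A])) :
    b ∈ RingHom.ker π * RingHom.ker π := by
  letI : Algebra B C := π.toAlgebra
  letI : Algebra A C := (π.comp (algebraMap A B)).toAlgebra
  haveI : IsScalarTower A B C := IsScalarTower.of_algebraMap_eq (fun _ => rfl)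
  have hf : Function.Surjective (algebraMap B C) := hπ
  let gs' : C →ₐ[A] B := { gs with commutes' := fun a => hA a }
  let g' : C →ₐ[A] B ⧸ (RingHom.ker (algebraMap B C) ^ 2) := (Ideal.Quotient.mkₐ A _).comp gs'
  have hg' : (IsScalarTower.toAlgHom A B C).kerSquareLift.comp g' = AlgHom.id A C := by
    ext c
    exact hgs c
  obtain ⟨l, hl⟩ := (retractionKerCotangentToTensorEquivSection (R := A) hf).symm ⟨g', hg'⟩
  have h1 : (1 : C) ⊗ₜ[B] KaehlerDifferential.D A B b = 0 := (one_tmul_eq_zero_iff hf _).2 h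
  have h2 := LinearMap.congr_fun hl (Ideal.toCotangent _ ⟨b, hb⟩)
  rw [LinearMap.comp_apply, KaehlerDifferential.kerCotangentToTensor_toCotangent] at h2
  change l ((1 : C) ⊗ₜ[B] KaehlerDifferential.D A B b) = _ at h2
  rw [h1, map_zero] at h2
  have h3 := (Ideal.toCotangent_eq_zero _ _).1 h2.symm
  rwa [pow_two] at h3

theorem exists_chart_section {Z X S : Scheme.{u}} (f : X ⟶ S) (i : Z ⟶ X) [IsImmersion i]
    (g : X ⟶ Z) (hgi : i ≫ g = 𝟙 Z) (O : Z.Opens) (pt : Z) (hpt : pt ∈ O) :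
    ∃ (V : S.Opens) (W : X.Opens), IsAffineOpen V ∧ IsAffineOpen W ∧ W ≤ f ⁻¹ᵁ V ∧
      W ≤ i.coborderRange ∧ pt ∈ i ⁻¹ᵁ W ∧ i ⁻¹ᵁ W ≤ O ∧ W ≤ g ⁻¹ᵁ (i ⁻¹ᵁ W) := by
  have hgi' : ∀ y : Z, g (i y) = y := by
    intro y
    rw [← Scheme.Hom.comp_apply, hgi]
    rfl
  obtain ⟨V, hV, hptV, -⟩ := TopologicalSpace.Opens.isBasis_iff_nbhd.mp S.isBasis_affineOpens
    (show f (i pt) ∈ (⊤ : S.Opens) from trivial)
  obtain ⟨VZ, hVZ, hptVZ, hVZO⟩ := TopologicalSpace.Opens.isBasis_iff_nbhd.mp Z.isBasis_affineOpens hpt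
  have h1 : i pt ∈ (g ⁻¹ᵁ VZ ⊓ i.coborderRange) ⊓ f ⁻¹ᵁ V := by
    refine ⟨⟨?_, subset_coborder ⟨pt, rfl⟩⟩, hptV⟩
    change g (i pt) ∈ VZ
    rw [hgi']
    exact hptVZ
  obtain ⟨W₁, hW₁, hptW₁, hW₁le⟩ := TopologicalSpace.Opens.isBasis_iff_nbhd.mp X.isBasis_affineOpens h1
  have hW₁g : W₁ ≤ g ⁻¹ᵁ VZ := hW₁le.trans (inf_le_left.trans inf_le_left)
  have h2 : i ⁻¹ᵁ W₁ ≤ VZ := by
    intro y hy
    have : g (i y) ∈ VZ := hW₁g hy
    rwa [hgi'] at this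
  obtain ⟨c, hc1, hc2⟩ := hVZ.exists_basicOpen_le (V := i ⁻¹ᵁ W₁) ⟨pt, hptW₁⟩ hptVZ
  have hW : X.basicOpen (g.appLE VZ W₁ hW₁g c) = W₁ ⊓ g ⁻¹ᵁ (Z.basicOpen c) :=
    Scheme.basicOpen_appLE g W₁ VZ hW₁g c
  have hmem : ∀ x : X, x ∈ X.basicOpen (g.appLE VZ W₁ hW₁g c) ↔ x ∈ W₁ ∧ g x ∈ Z.basicOpen c := by
    intro x
    rw [hW]
    rfl
  refine ⟨V, X.basicOpen (g.appLE VZ W₁ hW₁g c), hV, hW₁.basicOpen _, ?_, ?_, ?_, ?_, ?_⟩
  · exact (X.basicOpen_le _).trans (hW₁le.trans inf_le_right)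
  · exact (X.basicOpen_le _).trans (hW₁le.trans (inf_le_left.trans inf_le_right))
  · change i pt ∈ X.basicOpen _
    rw [hmem, hgi']
    exact ⟨hptW₁, hc2⟩
  · intro y hy
    change i y ∈ X.basicOpen _ at hy
    rw [hmem, hgi'] at hy
    exact hVZO (h2 hy.1)
  · intro x hx
    rw [hmem] at hx
    change i (g x) ∈ X.basicOpen _
    rw [hmem, hgi']
    exact ⟨hc1 hx.2, hx.2⟩

theorem appLE_eq_of_eq_id {Z : Scheme.{u}} (k : Z ⟶ Z) (hk : k = 𝟙 Z) (V : Z.Opens) (e : V ≤ k ⁻¹ᵁ V)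
    (z : Γ(Z, V)) : k.appLE V V e z = z := by
  subst hk
  rw [Scheme.Hom.appLE]
  have h9 : ∀ (hh : op V ⟶ op V), Z.presheaf.map hh z = z := by
    intro hh
    have : hh = 𝟙 _ := Subsingleton.elim _ _
    rw [this, Z.presheaf.map_id]
    rfl
  exact h9 _

theorem appLE_congr' {X S : Scheme.{u}} {k f : X ⟶ S} (hk : k = f) (V : S.Opens) (W : X.Opens)
    (e' : W ≤ k ⁻¹ᵁ V) (e : W ≤ f ⁻¹ᵁ V) : k.appLE V W e' = f.appLE V W e := by
  subst hk
  rfl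

theorem mono_of_retraction {Z X S : Scheme.{u}} (f : X ⟶ S) (i : Z ⟶ X) [IsImmersion i] [QuasiCompact i]
    (g : X ⟶ Z) (hgi : i ≫ g = 𝟙 Z) (hgS : g ≫ i ≫ f = f)
    (ΩX : X.Modules) (dX : OmegaSh.Der f ΩX) (hX : OmegaSh.IsUniversal dX)
    (φ : Omega.conormal i ⟶ (Scheme.Modules.pullback i).obj ΩX) (hφ : OmegaSh.IsConormalDiff i dX φ) :
    Mono φ := by
  refine mono_of_injective φ (fun U => ?_)
  rw [injective_iff_map_eq_zero]
  intro x hx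
  have hloc : ∀ pt : U, ∃ V : Z.Opens, ∃ hV : V ≤ U, pt.1 ∈ V ∧
      res (Omega.conormal i) hV x = 0 := by
    rintro ⟨pt, hpt⟩
    obtain ⟨VS, W, hVS, hW, e, hcW, hptW, hWU, hgW⟩ := exists_chart_section f i g hgi U pt hpt
    obtain ⟨hUa, hsurj⟩ := affine_surjective_of_le_coborder i hW hcW
    refine ⟨i ⁻¹ᵁ W, hWU, hptW, ?_⟩
    obtain ⟨s, hs⟩ := conormalSect_surjective i hW hcW (res (Omega.conormal i) hWU x)
    rw [← hs, conormalSect_eq_zero_iff i hW hcW]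
    have h1 : φ.app (i ⁻¹ᵁ W) (OmegaSh.conormalSect i W s) = 0 := by
      rw [hs, app_res, hx, res_zero]
    rw [hφ] at h1
    have h2 := D_mem_of_pullSect_eq_zero f dX hX i hW hVS e hUa hsurj _ h1
    letI := alg f e
    have hb : OmegaSh.idealSect i.ker W s ∈ RingHom.ker (i.app W).hom := by
      rw [RingHom.mem_ker]
      exact app_eq_zero_of_subschemeι i W _ (subschemeι_app_idealSect i.ker W s)
    have hgs : ∀ c, (i.app W).hom ((g.appLE (i ⁻¹ᵁ W) W hgW).hom c) = c := by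
      intro c
      have h3 : (i.app W).hom ((g.appLE (i ⁻¹ᵁ W) W hgW).hom c) =
          (g.appLE (i ⁻¹ᵁ W) W hgW ≫ i.appLE W (i ⁻¹ᵁ W) le_rfl) c := by
        rw [Scheme.Hom.app_eq_appLE]
        rfl
      rw [h3, Scheme.Hom.appLE_comp_appLE]
      exact appLE_eq_of_eq_id (i ≫ g) hgi _ _ c
    have hA : ∀ a : Γ(S, VS), (g.appLE (i ⁻¹ᵁ W) W hgW).hom ((i.app W).hom (algebraMap Γ(S, VS) Γ(X, W) a)) =
        algebraMap Γ(S, VS) Γ(X, W) a := by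
      intro a
      have h3 : (g.appLE (i ⁻¹ᵁ W) W hgW).hom ((i.app W).hom (algebraMap Γ(S, VS) Γ(X, W) a)) =
          (f.appLE VS W e ≫ i.appLE W (i ⁻¹ᵁ W) le_rfl ≫ g.appLE (i ⁻¹ᵁ W) W hgW) a := by
        rw [Scheme.Hom.app_eq_appLE]
        rfl
      rw [h3, Scheme.Hom.appLE_comp_appLE, Scheme.Hom.appLE_comp_appLE]
      have h4 := appLE_congr' hgS VS W (by rw [hgS]; exact e) e
      exact congr($h4 a)
    have h5 := mem_sq_of_D_mem_of_section (i.app W).hom hsurj (g.appLE (i ⁻¹ᵁ W) W hgW).hom hgs hA _ hb h2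
    rw [Scheme.Hom.ker_apply]
    exact h5
  choose V hV hpt hres using hloc
  refine eq_of_locally_eq _ V U hV ?_ x 0 ?_
  · intro q hq
    exact TopologicalSpace.Opens.mem_iSup.mpr ⟨⟨q, hq⟩, hpt ⟨q, hq⟩⟩
  · intro pt
    rw [hres pt, res_zero]

end Groth.Agent.Lib.Helper29.OmegaSplit
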