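import Groth.Agent.Lib.Helper29.GrComap
import Groth.Agent.Lib.Helper29.GrSplitAlg
import Groth.Agent.Lib.Helper29.OmegaSplit

set_option autoImplicit false
universe u
open CategoryTheory CategoryTheory.Limits AlgebraicGeometry TopologicalSpace Opposite

namespace Groth.Agent.Lib.Helper29.GrSection

open Groth.Agent.Lib.Helper28.QCohLoc Groth.Agent.Lib.Helper29.ConormalMap
  Groth.Agent.Lib.Helper29.ConormalBC Groth.Agent.Lib.Helper29.GrMap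
  Groth.Agent.Lib.Helper29.GrCompat Groth.Agent.Lib.Helper29.GrBC
  Groth.Agent.Lib.Helper29.GrComap

section Chart

variable {X Y : Scheme.{u}} (g : X ⟶ Y) (f : Y ⟶ X) (hf : f ≫ g = 𝟙 Y)

include hf in
/-- charts adapted to a section: `W' ⊆ g⁻¹ V` affine with `f⁻¹ W' = V`. -/
theorem exists_section_chart (y : Y) :
    ∃ (V : Y.Opens) (W' : X.Opens), IsAffineOpen V ∧ IsAffineOpen W' ∧ W' ≤ g ⁻¹ᵁ V ∧
      f ⁻¹ᵁ W' = V ∧ y ∈ V := by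
  have hgf : ∀ z : Y, g (f z) = z := by
    intro z
    rw [← Scheme.Hom.comp_apply, hf]
    rfl
  obtain ⟨_, ⟨V₀, hV₀, rfl⟩, hyV₀, -⟩ :=
    Y.isBasis_affineOpens.exists_subset_of_mem_open (Set.mem_univ y) isOpen_univ
  have h1 : f y ∈ g ⁻¹ᵁ V₀ := by
    change g (f y) ∈ V₀
    rw [hgf]
    exact hyV₀
  obtain ⟨_, ⟨W'₀, hW'₀, rfl⟩, hyW'₀, hW'₀le⟩ :=
    X.isBasis_affineOpens.exists_subset_of_mem_open h1 (g ⁻¹ᵁ V₀).isOpen
  have h2 : y ∈ f ⁻¹ᵁ W'₀ := hyW'₀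
  obtain ⟨a, ha1, ha2⟩ := hV₀.exists_basicOpen_le (V := f ⁻¹ᵁ W'₀) ⟨y, h2⟩ hyV₀
  refine ⟨Y.basicOpen a, W'₀ ⊓ g ⁻¹ᵁ (Y.basicOpen a), hV₀.basicOpen a, ?_, inf_le_right, ?_, ha2⟩
  · have h3 : W'₀ ⊓ g ⁻¹ᵁ (Y.basicOpen a) =
        X.basicOpen (X.presheaf.map (homOfLE hW'₀le).op (g.app V₀ a)) := by
      rw [Scheme.basicOpen_res, Scheme.preimage_basicOpen]
    rw [h3]
    exact hW'₀.basicOpen _
  · ext z
    constructor
    · rintro ⟨-, hz⟩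
      have : g (f z) ∈ Y.basicOpen a := hz
      rw [hgf] at this
      exact this
    · intro hz
      refine ⟨ha1 hz, ?_⟩
      change g (f z) ∈ Y.basicOpen a
      rw [hgf]
      exact hz

end Chart

section Square

variable {X Y X' Y' : Scheme.{u}} {g : X ⟶ Y} {f : Y ⟶ X} (hf : f ≫ g = 𝟙 Y)
  {u : Y' ⟶ Y} {v : X' ⟶ X} {g' : X' ⟶ Y'} (hsq : IsPullback v g' g u)
  {f' : Y' ⟶ X'} (hf' : f' ≫ g' = 𝟙 Y') (hf'v : f' ≫ v = u ≫ f)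

include hf hsq hf' hf'v in
/-- the square of the two sections is cartesian. -/
theorem isPullback_section : IsPullback f' u v f := by
  refine IsPullback.of_right ?_ hf'v hsq.flip
  rw [hf, hf']
  exact IsPullback.of_horiz_isIso ⟨by simp⟩

variable {V : Y.Opens} (hV : IsAffineOpen V) {W' : X.Opens} (hW' : IsAffineOpen W')
  (hW'V : W' ≤ g ⁻¹ᵁ V) (hfW' : f ⁻¹ᵁ W' = V) {V'' : Y'.Opens} (hV'' : IsAffineOpen V'')
  (hV''V : V'' ≤ u ⁻¹ᵁ V)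

include hsq hV hW' hW'V hV'' hV''V in
theorem isAffineOpen_chart : IsAffineOpen (v ⁻¹ᵁ W' ⊓ g' ⁻¹ᵁ V'') := by
  have : IsAffine V := hV
  have : IsAffine V'' := hV''
  have : IsAffine W' := hW'
  exact .of_isIso (Scheme.Hom.isPullback_resLE hsq hV''V hW'V rfl).isoPullback.hom

include hsq hV hW' hW'V hV'' hV''V in
theorem isPushout_chart :
    IsPushout (g.appLE V W' hW'V) (u.appLE V V'' hV''V)
      (v.appLE W' (v ⁻¹ᵁ W' ⊓ g' ⁻¹ᵁ V'') inf_le_left)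
      (g'.appLE V'' (v ⁻¹ᵁ W' ⊓ g' ⁻¹ᵁ V'') inf_le_right) :=
  (isIso_pushoutSection_iff hsq hV''V hW'V rfl).1
    (isIso_pushoutSection_of_isAffineOpen hsq hV''V hW'V rfl hV hV'' hW')

include hf' hf'v hfW' hV''V in
theorem preimage_chart : f' ⁻¹ᵁ (v ⁻¹ᵁ W' ⊓ g' ⁻¹ᵁ V'') = V'' := by
  have h1 : f' ⁻¹ᵁ (v ⁻¹ᵁ W') = u ⁻¹ᵁ V := by
    rw [← Scheme.Hom.comp_preimage, hf'v, Scheme.Hom.comp_preimage, hfW']
  have h2 : f' ⁻¹ᵁ (g' ⁻¹ᵁ V'') = V'' := by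
    rw [← Scheme.Hom.comp_preimage, hf']
    rfl
  rw [Scheme.Hom.preimage_inf, h1, h2]
  exact inf_eq_right.2 hV''V

include hf hsq hV hW' hW'V hfW' hV'' hV''V in
/-- the Tor-condition of `bijective_grMap_app` for the ideal of a section, on adapted charts. -/
theorem htor_one [IsClosedImmersion f] :
    letI := (v.appLE W' (v ⁻¹ᵁ W' ⊓ g' ⁻¹ᵁ V'') inf_le_left).hom.toAlgebra
    Function.Injective (LinearMap.lTensor Γ(X', v ⁻¹ᵁ W' ⊓ g' ⁻¹ᵁ V'')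
      (idealιLin (f.ker ^ 1) W')) := by
  subst hfW'
  have hmem : ∀ x : Γ(X, W'), x ∈ (f.ker ^ 1).ideal ⟨W', hW'⟩ ↔ (f.app W').hom x = 0 := by
    intro x
    change x ∈ (f.ker.ideal ⟨W', hW'⟩) ^ 1 ↔ _
    rw [pow_one, Scheme.Hom.ker_apply, RingHom.mem_ker]
  refine Groth.Agent.Lib.Helper29.GrSplitAlg.lTensor_injective_of_section
    (g.appLE (f ⁻¹ᵁ W') W' hW'V).hom (u.appLE (f ⁻¹ᵁ W') V'' hV''V).hom
    (v.appLE W' (v ⁻¹ᵁ W' ⊓ g' ⁻¹ᵁ V'') inf_le_left).hom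
    (g'.appLE V'' (v ⁻¹ᵁ W' ⊓ g' ⁻¹ᵁ V'') inf_le_right).hom
    (isPushout_chart hsq hV hW' hW'V hV'' hV''V) (f.app W').hom ?_
    (idealιLin (f.ker ^ 1) W') (idealιLin_injective _ _) ?_ ?_
  · intro a
    have h1 : g.appLE (f ⁻¹ᵁ W') W' hW'V ≫ f.app W' =
        (f ≫ g).appLE (f ⁻¹ᵁ W') (f ⁻¹ᵁ W') (by rw [hf]; exact le_rfl) := by
      rw [Scheme.Hom.app_eq_appLE, Scheme.Hom.appLE_comp_appLE]
    have h2 := congr($h1 a)
    rw [ConcreteCategory.comp_apply] at h2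
    exact h2.trans (Groth.Agent.Lib.Helper29.OmegaSplit.appLE_eq_of_eq_id (f ≫ g) hf _ _ a)
  · intro n
    rw [← hmem, ← range_idealιLin (f.ker ^ 1) hW']
    exact ⟨n, rfl⟩
  · intro x hx
    rw [← hmem, ← range_idealιLin (f.ker ^ 1) hW'] at hx
    exact hx

end Square

section Main

variable {X Y X' Y' : Scheme.{u}} {g : X ⟶ Y} {f : Y ⟶ X} (hf : f ≫ g = 𝟙 Y)
  {u : Y' ⟶ Y} {v : X' ⟶ X} {g' : X' ⟶ Y'} (hsq : IsPullback v g' g u)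
  {f' : Y' ⟶ X'} (hf' : f' ≫ g' = 𝟙 Y') (hf'v : f' ≫ v = u ≫ f)
  [IsClosedImmersion f] [IsClosedImmersion f']

/-- **base change of the conormal sheaf of a section is an isomorphism.** -/
theorem isIso_grMapPow_one_of_section :
    IsIso (grMapPow (isPullback_section hf hsq hf' hf'v) 1) := by
  have H := isPullback_section hf hsq hf' hf'v
  refine Groth.Agent.Lib.Helper28.TensorIso.isIso_of_bijective_on_basis _
    (fun U => ∃ (V : Y.Opens) (W' : X.Opens) (V'' : Y'.Opens) (_ : IsAffineOpen V)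
      (_ : IsAffineOpen W') (_ : W' ≤ g ⁻¹ᵁ V) (_ : f ⁻¹ᵁ W' = V) (_ : IsAffineOpen V'')
      (_ : V'' ≤ u ⁻¹ᵁ V), U = f' ⁻¹ᵁ (v ⁻¹ᵁ W' ⊓ g' ⁻¹ᵁ V'')) ?_ ?_
  · intro O z hz
    obtain ⟨V, W', hV, hW', hW'V, hfW', hyV⟩ := exists_section_chart g f hf (u z)
    have hz2 : z ∈ O ⊓ u ⁻¹ᵁ V := ⟨hz, hyV⟩
    obtain ⟨_, ⟨V'', hV'', rfl⟩, hzV'', hle⟩ :=
      Y'.isBasis_affineOpens.exists_subset_of_mem_open hz2 (O ⊓ u ⁻¹ᵁ V).isOpen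
    have hV''V : V'' ≤ u ⁻¹ᵁ V := fun a ha => (hle ha).2
    refine ⟨f' ⁻¹ᵁ (v ⁻¹ᵁ W' ⊓ g' ⁻¹ᵁ V''),
      ⟨V, W', V'', hV, hW', hW'V, hfW', hV'', hV''V, rfl⟩, ?_, ?_⟩
    · rw [preimage_chart hf' hf'v hfW' hV''V]
      exact hzV''
    · rw [preimage_chart hf' hf'v hfW' hV''V]
      exact fun a ha => (hle ha).1
  · rintro U ⟨V, W', V'', hV, hW', hW'V, hfW', hV'', hV''V, rfl⟩
    have hW := isAffineOpen_chart hsq hV hW' hW'V hV'' hV''V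
    have hU' : IsAffineOpen (f ⁻¹ᵁ W') := by rw [hfW']; exact hV
    have hU : IsAffineOpen (f' ⁻¹ᵁ (v ⁻¹ᵁ W' ⊓ g' ⁻¹ᵁ V'')) := by
      rw [preimage_chart hf' hf'v hfW' hV''V]; exact hV''
    obtain ⟨-, hsurj⟩ := affine_surjective_of_le_coborder f hW'
      (le_coborderRange_of_isClosedImmersion f W')
    exact bijective_grMap_app H (f'.ker ^ 1) (f.ker ^ 1)
      (compat_ker_pow f' f v u H.w.symm 1) hW' hW inf_le_left hU' hU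
      (ideal_pow_eq_map H 1 hW' hW inf_le_left hU' hsurj)
      (htor_one hf hsq hV hW' hW'V hfW' hV'' hV''V)

end Main

end Groth.Agent.Lib.Helper29.GrSection
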