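import Groth.Agent.Lib.Helper29.GrSection
import Groth.Agent.Lib.Helper29.GrFlatAlg
import Groth.Agent.Lib.Helper17.FlatDict2

set_option autoImplicit false
universe u
open CategoryTheory CategoryTheory.Limits AlgebraicGeometry TopologicalSpace Opposite

namespace Groth.Agent.Lib.Helper29.GrSection2

open Groth.Agent.Lib.Helper28.QCohLoc Groth.Agent.Lib.Helper29.ConormalMap
  Groth.Agent.Lib.Helper29.ConormalBC Groth.Agent.Lib.Helper29.GrMap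
  Groth.Agent.Lib.Helper29.GrCompat Groth.Agent.Lib.Helper29.GrBC
  Groth.Agent.Lib.Helper29.GrComap Groth.Agent.Lib.Helper29.GrSection
  Groth.Agent.Lib.Helper17.PullbackBC

section Square

variable {X Y X' Y' : Scheme.{u}} {g : X ⟶ Y} {f : Y ⟶ X} (hf : f ≫ g = 𝟙 Y)
  {u : Y' ⟶ Y} {v : X' ⟶ X} {g' : X' ⟶ Y'} (hsq : IsPullback v g' g u)
  {V : Y.Opens} (hV : IsAffineOpen V) {W' : X.Opens} (hW' : IsAffineOpen W')
  (hW'V : W' ≤ g ⁻¹ᵁ V) (hfW' : f ⁻¹ᵁ W' = V) {V'' : Y'.Opens} (hV'' : IsAffineOpen V'')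
  (hV''V : V'' ≤ u ⁻¹ᵁ V)

include hf hsq hV hW' hW'V hfW' hV'' hV''V in
/-- the Tor-condition of `bijective_grMap_app` for the `n`-th power of the ideal of a section whose lower
graded pieces are flat, on adapted charts. -/
theorem htor_pow [IsClosedImmersion f] (n : ℕ)
    (hfl : ∀ k < n, FlatMod.IsFlat (grK f (f.ker ^ k))) :
    letI := (v.appLE W' (v ⁻¹ᵁ W' ⊓ g' ⁻¹ᵁ V'') inf_le_left).hom.toAlgebra
    Function.Injective (LinearMap.lTensor Γ(X', v ⁻¹ᵁ W' ⊓ g' ⁻¹ᵁ V'')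
      (idealιLin (f.ker ^ n) W')) := by
  subst hfW'
  have hker : RingHom.ker (f.appLE W' (f ⁻¹ᵁ W') le_rfl).hom = f.ker.ideal ⟨W', hW'⟩ := by
    rw [Scheme.Hom.ker_apply, Scheme.Hom.app_eq_appLE]
  refine Groth.Agent.Lib.Helper29.GrFlatAlg.lTensor_injective_of_flat_gr
    (g.appLE (f ⁻¹ᵁ W') W' hW'V).hom (u.appLE (f ⁻¹ᵁ W') V'' hV''V).hom
    (v.appLE W' (v ⁻¹ᵁ W' ⊓ g' ⁻¹ᵁ V'') inf_le_left).hom
    (g'.appLE V'' (v ⁻¹ᵁ W' ⊓ g' ⁻¹ᵁ V'') inf_le_right).hom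
    (isPushout_chart hsq hV hW' hW'V hV'' hV''V) (f.appLE W' (f ⁻¹ᵁ W') le_rfl).hom ?_
    (fun k => (Γ(ClSub.idealMod (f.ker ^ k), W') : Type u))
    (fun k => idealιLin (f.ker ^ k) W') (fun k => idealιLin_injective _ _) ?_
    (fun k => (Γ(grK f (f.ker ^ k), f ⁻¹ᵁ W') : Type u))
    (fun k => c₁ (i' := f) (W' := W') (f.ker ^ k)) n ?_ ?_
  · intro a
    have h1 : g.appLE (f ⁻¹ᵁ W') W' hW'V ≫ f.appLE W' (f ⁻¹ᵁ W') le_rfl =
        (f ≫ g).appLE (f ⁻¹ᵁ W') (f ⁻¹ᵁ W') (by rw [hf]; exact le_rfl) := by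
      rw [Scheme.Hom.appLE_comp_appLE]
    have h2 := congr($h1 a)
    rw [ConcreteCategory.comp_apply] at h2
    exact h2.trans (Groth.Agent.Lib.Helper29.OmegaSplit.appLE_eq_of_eq_id (f ≫ g) hf _ _ a)
  · intro k
    rw [range_idealιLin (f.ker ^ k) hW', hker]
    rfl
  · intro k _
    exact isBC_pullback f hW' hV le_rfl (ClSub.idealMod (f.ker ^ k))
  · intro k hk
    exact (Groth.Agent.Lib.Helper17.FlatDict2.flat_sections_iff_isFlatAt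
      (grK f (f.ker ^ k)) hV).2 (fun x _ => hfl k hk x)

end Square

section Main

variable {X Y X' Y' : Scheme.{u}} {g : X ⟶ Y} {f : Y ⟶ X} (hf : f ≫ g = 𝟙 Y)
  {u : Y' ⟶ Y} {v : X' ⟶ X} {g' : X' ⟶ Y'} (hsq : IsPullback v g' g u)
  {f' : Y' ⟶ X'} (hf' : f' ≫ g' = 𝟙 Y') (hf'v : f' ≫ v = u ≫ f)
  [IsClosedImmersion f] [IsClosedImmersion f']

/-- **base change of the `n`-th graded piece of a section with flat lower graded pieces is an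
isomorphism.** -/
theorem isIso_grMapPow_of_section_of_flat (n : ℕ)
    (hfl : ∀ k < n, FlatMod.IsFlat (grK f (f.ker ^ k))) :
    IsIso (grMapPow (isPullback_section hf hsq hf' hf'v) n) := by
  have H := isPullback_section hf hsq hf' hf'v
  refine Groth.Agent.Lib.Helper28.TensorIso.isIso_of_bijective_on_basis _
    (fun U => ∃ (V : Y.Opens) (W' : X.Opens) (V'' : Y'.Opens) (_ : IsAffineOpen V)
      (_ : IsAffineOpen W') (_ : W' ≤ g ⁻¹ᵁ V) (_ : f ⁻¹ᵁ W' = V) (_ : IsAffineOpen V'')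
      (_ : V'' ≤ u ⁻¹ᵁ V), U = f' ⁻¹ᵁ (v ⁻¹ᵁ W' ⊓ g' ⁻¹ᵁ V'')) ?_ ?_
  · intro O z hz
    obtain ⟨V, W', hV, hW', hW'V, hfW', hyV⟩ := exists_section_chart g f hf (u z)
    have hz2 : z ∈ O ⊓ u ⁻¹ᵁ V := ⟨hz, hyV⟩
    obtain ⟨_, ⟨V'', hV'', rfl⟩, hzV'', hle⟩ :=
      Y'.isBasis_affineOpens.exists_subset_of_mem_open hz2 (O ⊓ u ⁻¹ᵁ V).isOpen
    have hV''V : V'' ≤ u ⁻¹ᵁ V := fun a ha => (hle ha).2
    refine ⟨f' ⁻¹ᵁ (v ⁻¹ᵁ W' ⊓ g' ⁻¹ᵁ V''),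
      ⟨V, W', V'', hV, hW', hW'V, hfW', hV'', hV''V, rfl⟩, ?_, ?_⟩
    · rw [preimage_chart hf' hf'v hfW' hV''V]
      exact hzV''
    · rw [preimage_chart hf' hf'v hfW' hV''V]
      exact fun a ha => (hle ha).1
  · rintro U ⟨V, W', V'', hV, hW', hW'V, hfW', hV'', hV''V, rfl⟩
    have hW := isAffineOpen_chart hsq hV hW' hW'V hV'' hV''V
    have hU' : IsAffineOpen (f ⁻¹ᵁ W') := by rw [hfW']; exact hV
    have hU : IsAffineOpen (f' ⁻¹ᵁ (v ⁻¹ᵁ W' ⊓ g' ⁻¹ᵁ V'')) := by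
      rw [preimage_chart hf' hf'v hfW' hV''V]; exact hV''
    obtain ⟨-, hsurj⟩ := affine_surjective_of_le_coborder f hW'
      (le_coborderRange_of_isClosedImmersion f W')
    exact bijective_grMap_app H (f'.ker ^ n) (f.ker ^ n)
      (compat_ker_pow f' f v u H.w.symm n) hW' hW inf_le_left hU' hU
      (ideal_pow_eq_map H n hW' hW inf_le_left hU' hsurj)
      (htor_pow hf hsq hV hW' hW'V hfW' hV'' hV''V n hfl)

end Main

end Groth.Agent.Lib.Helper29.GrSection2
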