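import Groth.Prelude.Def_Grpd
import Mathlib

set_option autoImplicit false
universe u
open CategoryTheory CategoryTheory.Limits AlgebraicGeometry

namespace Groth.Agent.Lib.Helper29.GrpdDiag

open Grpd

variable {S : Scheme.{u}} (G : GroupoidScheme S) {T : Scheme.{u}}

/-- composition of `T`-points. -/
noncomputable def m (α β : T ⟶ G.R) (h : α ≫ G.s = β ≫ G.t) : T ⟶ G.R :=
  pullback.lift α β h ≫ G.c

theorem m_congr {α α' β β' : T ⟶ G.R} (hα : α = α') (hβ : β = β') (h : α ≫ G.s = β ≫ G.t)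
    (h' : α' ≫ G.s = β' ≫ G.t) : m G α β h = m G α' β' h' := by
  subst hα hβ
  rfl

theorem m_s (α β : T ⟶ G.R) (h : α ≫ G.s = β ≫ G.t) : m G α β h ≫ G.s = β ≫ G.s :=
  G.comp_s α β h

theorem m_t (α β : T ⟶ G.R) (h : α ≫ G.s = β ≫ G.t) : m G α β h ≫ G.t = α ≫ G.t :=
  G.comp_t α β h

theorem m_assoc (α β γ : T ⟶ G.R) (h₁ : α ≫ G.s = β ≫ G.t) (h₂ : β ≫ G.s = γ ≫ G.t) :
    m G (m G α β h₁) γ ((m_s G α β h₁).trans h₂) =
      m G α (m G β γ h₂) (h₁.trans (m_t G β γ h₂).symm) :=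
  G.assoc α β γ h₁ h₂

theorem m_e_right (α : T ⟶ G.R) :
    m G α (α ≫ G.s ≫ G.e) (by rw [Category.assoc, Category.assoc, G.e_t, Category.comp_id]) = α :=
  G.comp_e α

theorem m_e_left (α : T ⟶ G.R) :
    m G (α ≫ G.t ≫ G.e) α (by rw [Category.assoc, Category.assoc, G.e_s, Category.comp_id]) = α :=
  G.e_comp α

theorem m_inv_right (α : T ⟶ G.R) :
    m G α (α ≫ G.i) (by rw [Category.assoc, G.i_t]) = α ≫ G.t ≫ G.e :=
  G.comp_i α

theorem m_inv_left (α : T ⟶ G.R) :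
    m G (α ≫ G.i) α (by rw [Category.assoc, G.i_s]) = α ≫ G.s ≫ G.e :=
  G.i_comp α

theorem comp_m {T' : Scheme.{u}} (b : T' ⟶ T) (α β : T ⟶ G.R) (h : α ≫ G.s = β ≫ G.t) :
    b ≫ m G α β h = m G (b ≫ α) (b ≫ β) (by rw [Category.assoc, Category.assoc, h]) := by
  unfold m
  rw [← Category.assoc]
  congr 1
  apply pullback.hom_ext
  · rw [Category.assoc, pullback.lift_fst, pullback.lift_fst]
  · rw [Category.assoc, pullback.lift_snd, pullback.lift_snd]

/-- `α⁻¹ ∘ (α ∘ γ) = γ`. -/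
theorem m_inv_m (α γ : T ⟶ G.R) (h : α ≫ G.s = γ ≫ G.t) :
    m G (α ≫ G.i) (m G α γ h) (by rw [Category.assoc, G.i_s, m_t]) = γ := by
  have h1 := m_assoc G (α ≫ G.i) α γ (by rw [Category.assoc, G.i_s]) h
  rw [← h1]
  have h2 : γ = m G (γ ≫ G.t ≫ G.e) γ
      (by rw [Category.assoc, Category.assoc, G.e_s, Category.comp_id]) := (m_e_left G γ).symm
  conv_rhs => rw [h2]
  refine m_congr G ?_ rfl _ _
  rw [m_inv_left, ← Category.assoc, h, Category.assoc]

/-- `α ∘ (α⁻¹ ∘ β) = β` when `t α = t β`. -/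
theorem m_m_inv (α β : T ⟶ G.R) (h : α ≫ G.t = β ≫ G.t) :
    m G α (m G (α ≫ G.i) β (by rw [Category.assoc, G.i_s, h]))
      (by rw [m_t, Category.assoc, G.i_t]) = β := by
  have h1 := m_assoc G α (α ≫ G.i) β (by rw [Category.assoc, G.i_t])
    (by rw [Category.assoc, G.i_s, h])
  rw [← h1]
  have h2 : β = m G (β ≫ G.t ≫ G.e) β
      (by rw [Category.assoc, Category.assoc, G.e_s, Category.comp_id]) := (m_e_left G β).symm
  conv_rhs => rw [h2]
  refine m_congr G ?_ rfl _ _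
  rw [m_inv_right, ← Category.assoc, h, Category.assoc]

/-- `ψ(α, β) = α⁻¹ ∘ β` on `R ×_{t,U,t} R`. -/
noncomputable def ψ : pullback G.t G.t ⟶ G.R :=
  m G (pullback.fst G.t G.t ≫ G.i) (pullback.snd G.t G.t)
    (by rw [Category.assoc, G.i_s, pullback.condition])

theorem comp_ψ (a : T ⟶ pullback G.t G.t) :
    a ≫ ψ G = m G ((a ≫ pullback.fst G.t G.t) ≫ G.i) (a ≫ pullback.snd G.t G.t)
      (by simp only [Category.assoc, G.i_s, pullback.condition]) := by
  unfold ψ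
  rw [comp_m]
  exact m_congr G (Category.assoc _ _ _).symm rfl _ _

theorem ψ_t : ψ G ≫ G.t = pullback.fst G.t G.t ≫ G.s := by
  unfold ψ
  rw [m_t, Category.assoc, G.i_t]

theorem eq_of_ψ (α β : T ⟶ G.R) (h : α ≫ G.t = β ≫ G.t) (u : T ⟶ G.U)
    (hψ : m G (α ≫ G.i) β (by rw [Category.assoc, G.i_s, h]) = u ≫ G.e) :
    β = α ∧ u = α ≫ G.s := by
  have hu : u = α ≫ G.s := by
    have h1 := congrArg (· ≫ G.t) hψ
    simp only [m_t, Category.assoc, G.i_t, G.e_t, Category.comp_id] at h1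
    exact h1.symm
  refine ⟨?_, hu⟩
  have h2 := m_m_inv G α β h
  rw [← h2]
  have h3 : m G α (α ≫ G.s ≫ G.e)
      (by rw [Category.assoc, Category.assoc, G.e_t, Category.comp_id]) = α := m_e_right G α
  conv_rhs => rw [← h3]
  refine m_congr G rfl ?_ _ _
  rw [hψ, hu, Category.assoc]

theorem diagonal_ψ : pullback.diagonal G.t ≫ ψ G = G.s ≫ G.e := by
  rw [comp_ψ]
  have h1 := m_inv_left G (𝟙 G.R)
  refine (m_congr G ?_ ?_ _ _).trans (h1.trans (Category.id_comp _))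
  · rw [pullback.diagonal_fst]
  · rw [pullback.diagonal_snd]

/-- the diagonal of `t` is the base change of the identity section `e` along `ψ`. -/
theorem isPullback_diagonal : IsPullback (pullback.diagonal G.t) G.s (ψ G) G.e := by
  refine ⟨⟨diagonal_ψ G⟩, ⟨PullbackCone.IsLimit.mk _ (fun c => c.fst ≫ pullback.fst G.t G.t) ?_ ?_ ?_⟩⟩
  · intro c
    have hc := c.condition
    rw [comp_ψ] at hc
    obtain ⟨h1, h2⟩ := eq_of_ψ G (c.fst ≫ pullback.fst G.t G.t) (c.fst ≫ pullback.snd G.t G.t)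
      (by rw [Category.assoc, Category.assoc, pullback.condition]) c.snd hc
    apply pullback.hom_ext
    · rw [Category.assoc, pullback.diagonal_fst, Category.comp_id]
    · rw [Category.assoc, pullback.diagonal_snd, Category.comp_id, h1]
  · intro c
    have hc := c.condition
    rw [comp_ψ] at hc
    obtain ⟨h1, h2⟩ := eq_of_ψ G (c.fst ≫ pullback.fst G.t G.t) (c.fst ≫ pullback.snd G.t G.t)
      (by rw [Category.assoc, Category.assoc, pullback.condition]) c.snd hc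
    exact h2.symm
  · intro c l hl₁ hl₂
    rw [← hl₁, Category.assoc, pullback.diagonal_fst, Category.comp_id]

/-- `(fst, ψ) : R ×_{t,t} R ≅ R ×_{s,t} R`. -/
theorem isPullback_fst_ψ : IsPullback (pullback.fst G.t G.t) (ψ G) G.s G.t := by
  refine ⟨⟨(ψ_t G).symm⟩, ⟨PullbackCone.IsLimit.mk _
    (fun c => pullback.lift c.fst (m G c.fst c.snd c.condition) (m_t G _ _ _).symm) ?_ ?_ ?_⟩⟩
  · intro c
    exact pullback.lift_fst _ _ _
  · intro c
    rw [comp_ψ]
    have h1 := m_inv_m G c.fst c.snd c.condition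
    conv_rhs => rw [← h1]
    refine m_congr G ?_ ?_ _ _
    · rw [pullback.lift_fst]
    · rw [pullback.lift_snd]
  · intro c l hl₁ hl₂
    apply pullback.hom_ext
    · rw [pullback.lift_fst, hl₁]
    · rw [pullback.lift_snd]
      rw [comp_ψ] at hl₂
      have h1 := m_m_inv G (l ≫ pullback.fst G.t G.t) (l ≫ pullback.snd G.t G.t)
        (by rw [Category.assoc, Category.assoc, pullback.condition])
      rw [← h1]
      refine m_congr G hl₁ hl₂ _ _

theorem flat_ψ [Flat G.s] : Flat (ψ G) :=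
  MorphismProperty.of_isPullback (isPullback_fst_ψ G) inferInstance

end Groth.Agent.Lib.Helper29.GrpdDiag
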