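import Mathlib
import Groth.Prelude.Def_CAlgX
import Groth.Agent.Lib.Helper26.H1Conormal

set_option autoImplicit false
universe u

namespace Groth.Agent.Lib.Helper29.H1Alg

open Groth.Agent.Lib.Helper26.H1Conormal

section Flat

variable {R R' : Type u} [CommRing R] [CommRing R'] [Algebra R R']

/-- the trivial relations of a sequence. -/
def triv {c : ℕ} (f : Fin c → R) : Set (Fin c → R) :=
  {v | ∃ i j : Fin c, v = Pi.single i (f j) - Pi.single j (f i)}

theorem isH1Regular_iff {c : ℕ} (f : Fin c → R) :
    CAlgX.IsH1Regular f ↔ ∀ a : Fin c → R, ∑ i, a i * f i = 0 → a ∈ Submodule.span R (triv f) :=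
  Iff.rfl

theorem map_mem_span_triv {c : ℕ} (f : Fin c → R) (v : Fin c → R)
    (hv : v ∈ Submodule.span R (triv f)) :
    (fun i => algebraMap R R' (v i)) ∈
      Submodule.span R' (triv (fun k => algebraMap R R' (f k))) := by
  induction hv using Submodule.span_induction with
  | mem w hw =>
    obtain ⟨i, j, rfl⟩ := hw
    refine Submodule.subset_span ⟨i, j, ?_⟩
    funext k
    simp only [Pi.sub_apply, Pi.single_apply, map_sub]
    split_ifs <;> simp
  | zero =>
    have : (fun i => algebraMap R R' ((0 : Fin c → R) i)) = 0 := by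
      funext i; simp
    rw [this]
    exact zero_mem _
  | add w w' _ _ hw hw' =>
    have : (fun i => algebraMap R R' ((w + w') i)) =
        (fun i => algebraMap R R' (w i)) + (fun i => algebraMap R R' (w' i)) := by
      funext i; simp
    rw [this]
    exact add_mem hw hw'
  | smul r w _ hw =>
    have : (fun i => algebraMap R R' ((r • w) i)) =
        algebraMap R R' r • (fun i => algebraMap R R' (w i)) := by
      funext i; simp
    rw [this]
    exact Submodule.smul_mem _ _ hw

/-- `H₁`-regularity is preserved by flat base change. -/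
theorem isH1Regular_map_of_flat [Module.Flat R R'] {c : ℕ} (f : Fin c → R)
    (hf : CAlgX.IsH1Regular f) : CAlgX.IsH1Regular (fun k => algebraMap R R' (f k)) := by
  intro a ha
  have h1 : ∑ i, f i • a i = 0 := by
    rw [← ha]
    refine Finset.sum_congr rfl (fun i _ => ?_)
    rw [Algebra.smul_def, mul_comm]
  obtain ⟨k, b, y, hb1, hb2⟩ := Module.Flat.isTrivialRelation_of_sum_smul_eq_zero
    (R := R) (M := R') (f := f) (x := a) h1
  have h2 : ∀ j : Fin k, (fun i => b i j) ∈ Submodule.span R (triv f) := by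
    intro j
    refine hf _ ?_
    rw [← hb2 j]
    refine Finset.sum_congr rfl (fun i _ => mul_comm _ _)
  have h3 : a = ∑ j, y j • (fun i => algebraMap R R' (b i j)) := by
    funext i
    rw [hb1 i, Finset.sum_apply]
    refine Finset.sum_congr rfl (fun j _ => ?_)
    rw [Pi.smul_apply, Algebra.smul_def, smul_eq_mul, mul_comm]
  rw [h3]
  refine Submodule.sum_mem _ (fun j _ => Submodule.smul_mem _ _ ?_)
  exact map_mem_span_triv f _ (h2 j)

end Flat

section Equiv

variable {R R' : Type u} [CommRing R] [CommRing R']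

theorem isH1Regular_ringEquiv (e : R ≃+* R') {c : ℕ} (f : Fin c → R)
    (hf : CAlgX.IsH1Regular f) : CAlgX.IsH1Regular (fun k => e (f k)) := by
  letI : Algebra R R' := e.toRingHom.toAlgebra
  haveI : Module.Flat R R' := by
    let L : R ≃ₗ[R] R' :=
      { e.toAddEquiv with
        map_smul' := fun r x => by
          change e (r * x) = e r * e x
          exact map_mul e r x }
    exact Module.Flat.of_linearEquiv L.symm
  exact isH1Regular_map_of_flat (R' := R') f hf

end Equiv

section Global

variable {A : Type u} [CommRing A] (I J : Ideal A)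

theorem mem_mul_of_h1_quot (hIJ : I ≤ J) {c : ℕ} (f : Fin c → A ⧸ I) (hf : CAlgX.IsH1Regular f)
    (hspan : Ideal.span (Set.range f) = J.map (Ideal.Quotient.mk I)) (x : A) (hxI : x ∈ I)
    (hxJ : x ∈ J * J) : x ∈ I * J := by
  have hxJ' : x ∈ J := hIJ hxI
  have hπ : piR I J (cl I J ⟨x, hxJ'⟩) = 0 := by
    rw [piR_cl]
    exact Ideal.Quotient.eq_zero_iff_mem.mpr hxI
  have hmem := cl_mem I J ⟨x, hxJ'⟩ hxJ
  rw [← hspan] at hmem
  have h0 := abstract (piR I J) (piR_sym I J) f hf
    (fun s => by rw [hspan]; exact piR_range I J s) _ hπ hmem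
  exact mem_of_cl_eq_zero I J ⟨x, hxJ'⟩ h0

end Global

section Surj

variable {A B C : Type u} [CommRing A] [CommRing B] [CommRing C]

/-- for surjections `A → B → C` with `ker (B → C)` generated by an `H₁`-regular sequence:
`I ∩ J² ⊆ I J` for `I = ker (A → B)`, `J = ker (A → C)`. -/
theorem mem_mul_of_h1 (π₁ : A →+* B) (hπ₁ : Function.Surjective π₁) (π₂ : B →+* C)
    {c : ℕ} (f : Fin c → B) (hf : CAlgX.IsH1Regular f)
    (hker : RingHom.ker π₂ = Ideal.span (Set.range f))
    (x : A) (hxI : x ∈ RingHom.ker π₁)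
    (hxJ : x ∈ RingHom.ker (π₂.comp π₁) * RingHom.ker (π₂.comp π₁)) :
    x ∈ RingHom.ker π₁ * RingHom.ker (π₂.comp π₁) := by
  set I := RingHom.ker π₁ with hI
  set J := RingHom.ker (π₂.comp π₁) with hJ
  have hIJ : I ≤ J := by
    intro a ha
    rw [hJ, RingHom.mem_ker, RingHom.comp_apply, (RingHom.mem_ker).1 ha, map_zero]
  let e : A ⧸ I ≃+* B := RingHom.quotientKerEquivOfSurjective hπ₁
  have he : ∀ a : A, e (Ideal.Quotient.mk I a) = π₁ a := fun a => rfl
  have hf' := isH1Regular_ringEquiv e.symm f hf
  refine mem_mul_of_h1_quot I J hIJ _ hf' ?_ x hxI hxJ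
  apply le_antisymm
  · rw [Ideal.span_le]
    rintro _ ⟨k, rfl⟩
    obtain ⟨a, ha⟩ := hπ₁ (f k)
    have h1 : e.symm (f k) = Ideal.Quotient.mk I a := by
      rw [← ha, ← he, RingEquiv.symm_apply_apply]
    change e.symm (f k) ∈ _
    rw [h1]
    refine Ideal.mem_map_of_mem _ ?_
    rw [hJ, RingHom.mem_ker, RingHom.comp_apply, ha, ← RingHom.mem_ker, hker]
    exact Ideal.subset_span ⟨k, rfl⟩
  · rw [Ideal.map_le_iff_le_comap]
    intro a ha
    rw [Ideal.mem_comap]
    have h2 : π₁ a ∈ Ideal.span (Set.range f) := by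
      rw [← hker, RingHom.mem_ker]
      exact ha
    have h3 : (Ideal.span (Set.range f)).map (e.symm : B →+* A ⧸ I) =
        Ideal.span (Set.range (fun k => e.symm (f k))) := by
      rw [Ideal.map_span]
      congr 1
      ext y
      constructor
      · rintro ⟨_, ⟨k, rfl⟩, rfl⟩
        exact ⟨k, rfl⟩
      · rintro ⟨k, rfl⟩
        exact ⟨_, ⟨k, rfl⟩, rfl⟩
    rw [← h3]
    have h4 : Ideal.Quotient.mk I a = e.symm (π₁ a) := by
      rw [← he, RingEquiv.symm_apply_apply]
    rw [h4]
    exact Ideal.mem_map_of_mem _ h2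

theorem range_get_eq {R : Type u} (l : List R) : Set.range l.get = {r | r ∈ l} := by
  ext r
  constructor
  · rintro ⟨k, rfl⟩
    exact List.get_mem l k
  · intro hr
    exact List.mem_iff_get.1 hr

/-- relations of an `H₁`-regular sequence have coefficients in the ideal. -/
theorem coeff_mem_of_h1 {R : Type u} [CommRing R] {c : ℕ} (f : Fin c → R) (hf : CAlgX.IsH1Regular f)
    (a : Fin c → R) (ha : ∑ i, a i * f i = 0) (i : Fin c) : a i ∈ Ideal.span (Set.range f) := by
  have h1 := hf a ha
  have h2 : ∀ v ∈ Submodule.span R {v : Fin c → R | ∃ i j : Fin c,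
      v = Pi.single i (f j) - Pi.single j (f i)}, ∀ i, v i ∈ Ideal.span (Set.range f) := by
    intro v hv
    induction hv using Submodule.span_induction with
    | mem w hw =>
      obtain ⟨p, q, rfl⟩ := hw
      intro i
      simp only [Pi.sub_apply, Pi.single_apply]
      refine sub_mem ?_ ?_
      · split_ifs
        · exact Ideal.subset_span ⟨q, rfl⟩
        · exact zero_mem _
      · split_ifs
        · exact Ideal.subset_span ⟨p, rfl⟩
        · exact zero_mem _
    | zero => intro i; exact zero_mem _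
    | add w w' _ _ hw hw' => intro i; exact add_mem (hw i) (hw' i)
    | smul r w _ hw => intro i; exact Ideal.mul_mem_left _ _ (hw i)
  exact h2 a h1 i

/-- for an `H₁`-regular sequence, a combination lying in the square of the ideal has
coefficients in the ideal. -/
theorem coeff_mem_of_sum_mem_sq {R : Type u} [CommRing R] {c : ℕ} (f : Fin c → R)
    (hf : CAlgX.IsH1Regular f) (a : Fin c → R)
    (ha : ∑ i, a i * f i ∈ Ideal.span (Set.range f) * Ideal.span (Set.range f)) (i : Fin c) :
    a i ∈ Ideal.span (Set.range f) := by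
  -- elements of `I * I` are combinations with coefficients in `I`
  have h1 : ∀ y ∈ Ideal.span (Set.range f) * Ideal.span (Set.range f),
      ∃ b : Fin c → R, (∀ i, b i ∈ Ideal.span (Set.range f)) ∧ ∑ i, b i * f i = y := by
    intro y hy
    refine Submodule.mul_induction_on hy ?_ ?_
    · intro u hu v hv
      obtain ⟨t, ht⟩ := (Ideal.mem_span_range_iff_exists_fun).1 hv
      refine ⟨fun i => u * t i, fun i => Ideal.mul_mem_right _ _ hu, ?_⟩
      rw [← ht, Finset.mul_sum]
      refine Finset.sum_congr rfl (fun i _ => ?_)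
      ring
    · rintro y z ⟨b, hb, rfl⟩ ⟨b', hb', rfl⟩
      refine ⟨fun i => b i + b' i, fun i => add_mem (hb i) (hb' i), ?_⟩
      rw [← Finset.sum_add_distrib]
      refine Finset.sum_congr rfl (fun i _ => ?_)
      ring
  obtain ⟨b, hb, hsum⟩ := h1 _ ha
  have h2 : ∑ j, (a j - b j) * f j = 0 := by
    simp_rw [sub_mul]
    rw [Finset.sum_sub_distrib, hsum, sub_self]
  have h3 := add_mem (coeff_mem_of_h1 f hf _ h2 i) (hb i)
  rwa [sub_add_cancel] at h3

end Surj

end Groth.Agent.Lib.Helper29.H1Alg
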