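import Mathlib
import Groth.Prelude.Def_RegImm
import Groth.Agent.Lib.Helper29.H1Alg
import Groth.Agent.Lib.Helper29.OmegaChart

set_option autoImplicit false
universe u
open CategoryTheory CategoryTheory.Limits AlgebraicGeometry TopologicalSpace Opposite

namespace Groth.Agent.Lib.Helper29.H1Chart

open Groth.Agent.Lib.Helper28.QCohLoc Groth.Agent.Lib.Helper29.ConormalMap
  Groth.Agent.Lib.Helper29.ConormalBC Groth.Agent.Lib.Helper29.ConormalChart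
  Groth.Agent.Lib.Helper29.OmegaChart Groth.Agent.Lib.Helper28.PullbackInv
  Groth.Agent.Lib.Helper29.H1Alg

section ChartComp

variable {Y' Y X : Scheme.{u}} (f : Y ⟶ X) [IsImmersion f] (j : Y' ⟶ Y) [IsImmersion j]

theorem exists_chart_comp' (O : Y'.Opens) (OY : Y.Opens) (z : Y') (hz : z ∈ O) (hzY : j z ∈ OY) :
    ∃ W : X.Opens, IsAffineOpen W ∧ W ≤ (j ≫ f).coborderRange ∧ W ≤ f.coborderRange ∧
      f ⁻¹ᵁ W ≤ j.coborderRange ∧ z ∈ j ⁻¹ᵁ (f ⁻¹ᵁ W) ∧ j ⁻¹ᵁ (f ⁻¹ᵁ W) ≤ O ∧ f ⁻¹ᵁ W ≤ OY := by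
  obtain ⟨O₁, hO₁, hO₁eq⟩ := ((j ≫ f).isEmbedding.isInducing.isOpen_iff).1 O.isOpen
  obtain ⟨O₂, hO₂, hO₂eq⟩ := (f.isEmbedding.isInducing.isOpen_iff).1 j.coborderRange.isOpen
  obtain ⟨O₃, hO₃, hO₃eq⟩ := (f.isEmbedding.isInducing.isOpen_iff).1 OY.isOpen
  have hcomp : ∀ y : Y', (j ≫ f) y = f (j y) := fun y => Scheme.Hom.comp_apply j f y
  have h1 : f (j z) ∈ (⟨O₁, hO₁⟩ : X.Opens) := by
    have : z ∈ ((j ≫ f) ⁻¹' O₁ : Set Y') := by rw [hO₁eq]; exact hz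
    have h2 : (j ≫ f) z ∈ O₁ := this
    rwa [hcomp] at h2
  have h2 : f (j z) ∈ (⟨O₂, hO₂⟩ : X.Opens) := by
    have : j z ∈ (f ⁻¹' O₂ : Set Y) := by
      rw [hO₂eq]
      exact subset_coborder ⟨z, rfl⟩
    exact this
  have h2' : f (j z) ∈ (⟨O₃, hO₃⟩ : X.Opens) := by
    have : j z ∈ (f ⁻¹' O₃ : Set Y) := by
      rw [hO₃eq]
      exact hzY
    exact this
  have h3 : f (j z) ∈ (j ≫ f).coborderRange := by
    rw [← hcomp]
    exact subset_coborder ⟨z, rfl⟩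
  have h4 : f (j z) ∈ f.coborderRange := subset_coborder ⟨j z, rfl⟩
  obtain ⟨W, hW, hzW, hWle⟩ := TopologicalSpace.Opens.isBasis_iff_nbhd.mp X.isBasis_affineOpens
    (show f (j z) ∈ (((⟨O₁, hO₁⟩ : X.Opens) ⊓ ⟨O₂, hO₂⟩) ⊓ ⟨O₃, hO₃⟩) ⊓
        ((j ≫ f).coborderRange ⊓ f.coborderRange) from
      ⟨⟨⟨h1, h2⟩, h2'⟩, ⟨h3, h4⟩⟩)
  refine ⟨W, hW, hWle.trans (inf_le_right.trans inf_le_left), hWle.trans (inf_le_right.trans inf_le_right),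
    ?_, hzW, ?_, ?_⟩
  · intro y hy
    have h5 : f y ∈ O₂ := (hWle hy).1.1.2
    have : y ∈ (f ⁻¹' O₂ : Set Y) := h5
    rw [hO₂eq] at this
    exact this
  · intro y hy
    have h5 : f (j y) ∈ O₁ := (hWle hy).1.1.1
    have : y ∈ ((j ≫ f) ⁻¹' O₁ : Set Y') := by
      change (j ≫ f) y ∈ O₁
      rw [hcomp]; exact h5
    rw [hO₁eq] at this
    exact this
  · intro y hy
    have h5 : f y ∈ O₃ := (hWle hy).1.2
    have : y ∈ (f ⁻¹' O₃ : Set Y) := h5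
    rw [hO₃eq] at this
    exact this

end ChartComp

section BasicOpen

variable {Z Y : Scheme.{u}} (i : Z ⟶ Y) [IsImmersion i] [QuasiCompact i]

theorem h1_basicOpen {U : Y.Opens} (hU : IsAffineOpen U) (h : Γ(Y, U)) {c : ℕ}
    (f : Fin c → Γ(Y, U)) (hf : CAlgX.IsH1Regular f)
    (hker : RingHom.ker (i.app U).hom = Ideal.span (Set.range f))
    (V : Y.Opens) (hV : V = Y.basicOpen h) :
    ∃ f' : Fin c → Γ(Y, V), CAlgX.IsH1Regular f' ∧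
      RingHom.ker (i.app V).hom = Ideal.span (Set.range f') := by
  subst hV
  haveI := hU.isLocalization_basicOpen h
  haveI : Module.Flat Γ(Y, U) Γ(Y, Y.basicOpen h) := IsLocalization.flat _ (Submonoid.powers h)
  refine ⟨fun k => algebraMap Γ(Y, U) Γ(Y, Y.basicOpen h) (f k),
    isH1Regular_map_of_flat f hf, ?_⟩
  have h1 := i.ker.map_ideal_basicOpen ⟨U, hU⟩ h
  have h2 : RingHom.ker (i.app (Y.basicOpen h)).hom =
      i.ker.ideal (Y.affineBasicOpen (U := ⟨U, hU⟩) h) :=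
    (Scheme.Hom.ker_apply i (Y.affineBasicOpen (U := ⟨U, hU⟩) h)).symm
  rw [h2, ← h1, Scheme.Hom.ker_apply, hker, Ideal.map_span]
  congr 1
  ext y
  constructor
  · rintro ⟨_, ⟨k, rfl⟩, rfl⟩
    exact ⟨k, rfl⟩
  · rintro ⟨k, rfl⟩
    exact ⟨_, ⟨k, rfl⟩, rfl⟩

end BasicOpen

section Chart

variable {Z Y X : Scheme.{u}} (i : Z ⟶ Y) (j : Y ⟶ X) [IsImmersion i] [IsImmersion j]
  [QuasiCompact i] [QuasiCompact j]

theorem exists_h1_chart (hi : RegImm.IsRegularImmersion .h1 i) (O : Z.Opens) (z : Z) (hz : z ∈ O) :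
    ∃ W : X.Opens, IsAffineOpen W ∧ W ≤ (i ≫ j).coborderRange ∧ W ≤ j.coborderRange ∧
      j ⁻¹ᵁ W ≤ i.coborderRange ∧ z ∈ i ⁻¹ᵁ (j ⁻¹ᵁ W) ∧ i ⁻¹ᵁ (j ⁻¹ᵁ W) ≤ O ∧
      ∃ (c : ℕ) (f : Fin c → Γ(Y, j ⁻¹ᵁ W)), CAlgX.IsH1Regular f ∧
        RingHom.ker (i.app (j ⁻¹ᵁ W)).hom = Ideal.span (Set.range f) := by
  obtain ⟨U, hzU, -, rs, hrs, hker⟩ := hi.2 z
  obtain ⟨W₀, hW₀, hc1, hc2, hc3, hzW₀, hW₀O, hW₀U⟩ := exists_chart_comp' j i O U.1 z hz hzU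
  obtain ⟨hV₀, hsurj⟩ := affine_surjective_of_le_coborder j hW₀ hc2
  obtain ⟨h, hh1, hh2⟩ := U.2.exists_basicOpen_le (V := j ⁻¹ᵁ W₀) ⟨i z, hzW₀⟩ hzU
  obtain ⟨b, hb⟩ := hsurj (Y.presheaf.map (homOfLE hW₀U).op h)
  have hpre : j ⁻¹ᵁ X.basicOpen b = Y.basicOpen h := by
    rw [Scheme.preimage_basicOpen, hb, Scheme.basicOpen_res]
    exact inf_eq_right.2 hh1
  have hle : X.basicOpen b ≤ W₀ := X.basicOpen_le b
  have hker' : RingHom.ker (i.app U.1).hom = Ideal.span (Set.range rs.get) := by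
    rw [hker, range_get_eq]
  obtain ⟨f', hf', hker''⟩ := h1_basicOpen i U.2 h rs.get hrs hker' (j ⁻¹ᵁ X.basicOpen b) hpre
  refine ⟨X.basicOpen b, hW₀.basicOpen b, hle.trans hc1, hle.trans hc2,
    (j.preimage_mono hle).trans hc3, ?_, ?_, rs.length, f', hf', hker''⟩
  · change i z ∈ j ⁻¹ᵁ X.basicOpen b
    rw [hpre]
    exact hh2
  · exact (i.preimage_mono (j.preimage_mono hle)).trans hW₀O

end Chart

end Groth.Agent.Lib.Helper29.H1Chart
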