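import Mathlib

/-!
# The class of a constant in `H¹(L_{B/A})`

For `a ∈ ker (A → B)` the constant polynomial `C a` of the standard presentation lies in the kernel
and is killed by the differential, so it defines a class `h1C a` in `Algebra.H1Cotangent A B`.
-/

set_option autoImplicit false
universe u

namespace Groth.Agent.Lib.Helper29.H1Cot

open Algebra MvPolynomial TensorProduct

section Basic

variable {A B : Type u} [CommRing A] [CommRing B] [Algebra A B]

theorem algebraMap_C (a : A) :
    algebraMap (Generators.self A B).toExtension.Ring B (MvPolynomial.C a) = algebraMap A B a := by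
  change algebraMap (Generators.self A B).Ring B (algebraMap A (Generators.self A B).Ring a) = _
  rw [← IsScalarTower.algebraMap_apply]

theorem C_mem_ker (a : A) (ha : algebraMap A B a = 0) :
    (MvPolynomial.C a : (Generators.self A B).toExtension.Ring) ∈
      (Generators.self A B).toExtension.ker := by
  exact (RingHom.mem_ker).2 ((algebraMap_C a).trans ha)

/-- the class of the constant `a ∈ ker (A → B)`. -/
noncomputable def h1C (a : A) (ha : algebraMap A B a = 0) : Algebra.H1Cotangent A B :=
  ⟨Extension.Cotangent.mk ⟨MvPolynomial.C a, C_mem_ker a ha⟩, by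
    rw [LinearMap.mem_ker, Extension.cotangentComplex_mk]
    have : (KaehlerDifferential.D A (Generators.self A B).toExtension.Ring)
        (MvPolynomial.C a) = 0 := by
      change (KaehlerDifferential.D A (Generators.self A B).toExtension.Ring)
        (algebraMap A _ a) = 0
      exact Derivation.map_algebraMap _ _
    rw [this, TensorProduct.tmul_zero]⟩

theorem h1C_val (a : A) (ha : algebraMap A B a = 0) :
    (h1C a ha).1 = Extension.Cotangent.mk ⟨MvPolynomial.C a, C_mem_ker a ha⟩ := rfl

theorem h1C_add (a a' : A) (ha : algebraMap A B a = 0) (ha' : algebraMap A B a' = 0) :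
    h1C (a + a') (by rw [map_add, ha, ha', add_zero]) = h1C a ha + h1C a' ha' := by
  apply Subtype.ext
  rw [Extension.H1Cotangent.val_add, h1C_val, h1C_val, h1C_val]
  have h1 : (⟨MvPolynomial.C (a + a'), C_mem_ker (a + a') (by rw [map_add, ha, ha', add_zero])⟩ :
      (Generators.self A B).toExtension.ker) =
      ⟨MvPolynomial.C a, C_mem_ker a ha⟩ + ⟨MvPolynomial.C a', C_mem_ker a' ha'⟩ :=
    Subtype.ext (map_add MvPolynomial.C a a')
  rw [h1, map_add]

theorem h1C_zero : h1C (0 : A) (map_zero (algebraMap A B)) = 0 := by
  apply Subtype.ext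
  rw [Extension.H1Cotangent.val_zero, h1C_val, Extension.Cotangent.mk_eq_zero_iff]
  change MvPolynomial.C (0 : A) ∈ _
  rw [map_zero]
  exact Ideal.zero_mem _

theorem h1C_mul (r a : A) (ha : algebraMap A B a = 0) :
    h1C (r * a) (by rw [map_mul, ha, mul_zero]) = algebraMap A B r • h1C a ha := by
  apply Subtype.ext
  rw [Extension.H1Cotangent.val_smul, h1C_val, h1C_val]
  let P := (Generators.self A B).toExtension
  let cr : P.Ring := MvPolynomial.C r
  have h1 : (⟨MvPolynomial.C (r * a), C_mem_ker (r * a) (by rw [map_mul, ha, mul_zero])⟩ : P.ker) =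
      cr • (⟨MvPolynomial.C a, C_mem_ker a ha⟩ : P.ker) := by
    apply Subtype.ext
    change MvPolynomial.C (r * a) = MvPolynomial.C r * MvPolynomial.C a
    rw [map_mul]
  rw [h1, map_smul, ← algebraMap_C (B := B) r, algebraMap_smul]

end Basic

section Map

variable {A B A' B' : Type u} [CommRing A] [CommRing B] [CommRing A'] [CommRing B']
  [Algebra A B] [Algebra A' B'] [Algebra A A'] [Algebra B B'] [Algebra A B']
  [IsScalarTower A A' B'] [IsScalarTower A B B']

theorem algebraMap_eq_zero (a : A) (ha : algebraMap A B a = 0) :
    algebraMap A' B' (algebraMap A A' a) = 0 := by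
  rw [← IsScalarTower.algebraMap_apply A A' B', IsScalarTower.algebraMap_apply A B B', ha, map_zero]

/-- the induced map on `H¹` sends the class of a constant to the class of its image. -/
theorem map_h1C (a : A) (ha : algebraMap A B a = 0) :
    Algebra.H1Cotangent.map A A' B B' (h1C a ha) =
      h1C (algebraMap A A' a) (algebraMap_eq_zero a ha) := by
  apply Subtype.ext
  rw [h1C_val]
  unfold Algebra.H1Cotangent.map
  rw [Extension.H1Cotangent.map_apply_coe, h1C_val, Extension.Cotangent.map_mk]
  congr 1
  apply Subtype.ext
  change ((Generators.defaultHom (Generators.self A B) (Generators.self A' B')).toExtensionHom).toRingHom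
    (algebraMap A (Generators.self A B).toExtension.Ring a) = _
  rw [Extension.Hom.toRingHom_algebraMap]
  rfl

end Map

section Surj

variable (A : Type u) {A' B : Type u} [CommRing A] [CommRing A'] [CommRing B] [Algebra A A'] [Algebra A' B]
  [Algebra A B] [IsScalarTower A A' B] (hs : Function.Surjective (algebraMap A' B))

/-- the extension `A' → B` of `A`-algebras. -/
noncomputable def P₀ : Extension.{u} A B :=
  Extension.ofSurjective (IsScalarTower.toAlgHom A A' B) hs

theorem P₀_ker : (P₀ A hs).ker = RingHom.ker (algebraMap A' B) := rfl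

/-- a morphism from the standard presentation. -/
noncomputable def toP₀ : (Generators.self A B).toExtension.Hom (P₀ A hs) where
  toRingHom := (MvPolynomial.aeval (P₀ A hs).σ).toRingHom
  toRingHom_algebraMap := (MvPolynomial.aeval (P₀ A hs).σ).commutes
  algebraMap_toRingHom := by
    intro x
    change algebraMap (P₀ A hs).Ring B (aeval (P₀ A hs).σ x) =
      algebraMap (Generators.self A B).Ring B x
    induction x using MvPolynomial.induction_on with
    | C a =>
      rw [aeval_C, ← IsScalarTower.algebraMap_apply, Generators.algebraMap_apply, aeval_C]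
    | add p q hp hq => rw [map_add, map_add, map_add, hp, hq]
    | mul_X p i hp =>
      rw [map_mul, map_mul, map_mul, hp, aeval_X, Extension.algebraMap_σ,
        Generators.algebraMap_apply _ (X i), aeval_X]
      rfl

variable {A} in
theorem algebraMap_mem_ker (a : A) (ha : algebraMap A B a = 0) :
    (algebraMap A A' a : (P₀ A hs).Ring) ∈ (P₀ A hs).ker := by
  refine (RingHom.mem_ker).2 ?_
  change algebraMap A' B (algebraMap A A' a) = 0
  rw [← IsScalarTower.algebraMap_apply, ha]

theorem P₀_smul_mk (x : A') (y : (P₀ A hs).ker) :
    algebraMap A' B x • (Extension.Cotangent.mk y : (P₀ A hs).Cotangent) =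
      Extension.Cotangent.mk ((show (P₀ A hs).Ring from x) • y) := by
  have h1 : algebraMap A' B x = algebraMap (P₀ A hs).Ring B (show (P₀ A hs).Ring from x) := rfl
  rw [h1, algebraMap_smul, map_smul]

variable [Algebra.FormallySmooth A A']

/-- `H¹(L_{B/A})` inside `ker (A' → B) / ker²`. -/
noncomputable def Ψ : Algebra.H1Cotangent A B →ₗ[B] (P₀ A hs).Cotangent :=
  Extension.h1Cotangentι ∘ₗ Extension.H1Cotangent.map (toP₀ A hs)

theorem Ψ_injective : Function.Injective (Ψ A hs) := by
  haveI : Algebra.FormallySmooth A (Generators.self A B).toExtension.Ring :=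
    inferInstanceAs (Algebra.FormallySmooth A (MvPolynomial B A))
  haveI : Algebra.FormallySmooth A (P₀ A hs).Ring := inferInstanceAs (Algebra.FormallySmooth A A')
  have h1 : Function.Injective (Extension.H1Cotangent.map (toP₀ A hs)) := by
    have := Extension.H1Cotangent.equivOfFormallySmooth_toLinearMap (toP₀ A hs)
    rw [← this]
    exact (Extension.H1Cotangent.equivOfFormallySmooth _ _).injective
  exact Extension.h1Cotangentι_injective.comp h1

variable {A} in
theorem Ψ_h1C (a : A) (ha : algebraMap A B a = 0) :
    Ψ A hs (h1C a ha) = Extension.Cotangent.mk ⟨algebraMap A A' a, algebraMap_mem_ker hs a ha⟩ := by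
  change (Extension.H1Cotangent.map (toP₀ A hs) (h1C a ha)).1 = _
  rw [Extension.H1Cotangent.map_apply_coe, h1C_val, Extension.Cotangent.map_mk]
  congr 1
  apply Subtype.ext
  change (toP₀ A hs).toRingHom (algebraMap A (Generators.self A B).toExtension.Ring a) = _
  rw [Extension.Hom.toRingHom_algebraMap]
  rfl

end Surj

end Groth.Agent.Lib.Helper29.H1Cot
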