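import Mathlib
import Groth.Agent.Lib.Helper29.H1Chart
import Groth.Agent.Lib.helper19.RestrUniv3

set_option autoImplicit false
universe u
open CategoryTheory CategoryTheory.Limits AlgebraicGeometry TopologicalSpace Opposite

namespace Groth.Agent.Lib.Helper29.H1Free

open Groth.Agent.Lib.Helper28.QCohLoc Groth.Agent.Lib.Helper29.ConormalMap
  Groth.Agent.Lib.Helper29.ConormalBC Groth.Agent.Lib.Helper29.ConormalChart
  Groth.Agent.Lib.Helper29.OmegaChart Groth.Agent.Lib.Helper28.PullbackInv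
  Groth.Agent.Lib.Helper29.H1Alg Groth.Agent.Lib.Helper29.H1Chart

section Free

variable {Z Y : Scheme.{u}} (i : Z ⟶ Y) [IsImmersion i] [QuasiCompact i]
  {V : Y.Opens} (hV : IsAffineOpen V) (hc : V ≤ i.coborderRange)

omit [IsImmersion i] in
theorem conormalSect_smul (b : Γ(Y, V)) (s : Γ(ClSub.idealMod i.ker, V)) :
    OmegaSh.conormalSect i V (b • s) = i.app V b • OmegaSh.conormalSect i V s :=
  pbs_smul i (ClSub.idealMod i.ker) V b s

omit [IsImmersion i] in
theorem conormalSect_sum {c : ℕ} (b : Fin c → Γ(Y, V)) (s : Fin c → Γ(ClSub.idealMod i.ker, V)) :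
    OmegaSh.conormalSect i V (∑ k, b k • s k) = ∑ k, i.app V (b k) • OmegaSh.conormalSect i V (s k) := by
  rw [map_sum]
  refine Finset.sum_congr rfl (fun k _ => ?_)
  exact conormalSect_smul i (b k) (s k)

omit [IsImmersion i] in
theorem idealSect_sum {c : ℕ} (b : Fin c → Γ(Y, V)) (s : Fin c → Γ(ClSub.idealMod i.ker, V)) :
    OmegaSh.idealSect i.ker V (∑ k, b k • s k) = ∑ k, b k * OmegaSh.idealSect i.ker V (s k) := by
  rw [map_sum]
  refine Finset.sum_congr rfl (fun k _ => ?_)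
  exact idealSect_smul i.ker V (b k) (s k)

include hV hc in
/-- on an affine chart where the ideal is generated by an `H₁`-regular sequence, the sections
of the conormal sheaf form a free module. -/
theorem free_sections_of_h1 {c : ℕ} (f : Fin c → Γ(Y, V)) (hf : CAlgX.IsH1Regular f)
    (hker : RingHom.ker (i.app V).hom = Ideal.span (Set.range f)) :
    Module.Free Γ(Z, i ⁻¹ᵁ V) Γ(Omega.conormal i, i ⁻¹ᵁ V) ∧
      Module.Finite Γ(Z, i ⁻¹ᵁ V) Γ(Omega.conormal i, i ⁻¹ᵁ V) := by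
  obtain ⟨hU, hsurj⟩ := affine_surjective_of_le_coborder i hV hc
  have hkerI : i.ker.ideal ⟨V, hV⟩ = Ideal.span (Set.range f) := by
    rw [Scheme.Hom.ker_apply, hker]
  have hsec : ∀ k, ∃ s : Γ(ClSub.idealMod i.ker, V), OmegaSh.idealSect i.ker V s = f k := by
    intro k
    have hk : f k ∈ i.ker.ideal ⟨V, hV⟩ := by
      rw [hkerI]
      exact Ideal.subset_span ⟨k, rfl⟩
    rw [← range_idealιLin i.ker hV] at hk
    obtain ⟨s, hs⟩ := hk
    exact ⟨s, hs⟩
  choose s hs using hsec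
  let v : Fin c → Γ(Omega.conormal i, i ⁻¹ᵁ V) := fun k => OmegaSh.conormalSect i V (s k)
  have hli : LinearIndependent Γ(Z, i ⁻¹ᵁ V) v := by
    rw [Fintype.linearIndependent_iff]
    intro w hw k
    choose b hb using fun k => hsurj (w k)
    have h1 : OmegaSh.conormalSect i V (∑ k, b k • s k) = 0 := by
      rw [conormalSect_sum, ← hw]
      refine Finset.sum_congr rfl (fun k _ => ?_)
      rw [hb k]
    rw [conormalSect_eq_zero_iff i hV hc, idealSect_sum, hkerI] at h1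
    have h2 : ∑ k, b k * OmegaSh.idealSect i.ker V (s k) = ∑ k, b k * f k :=
      Finset.sum_congr rfl (fun k _ => by rw [hs k])
    rw [h2] at h1
    have h3 := coeff_mem_of_sum_mem_sq f hf b h1 k
    rw [← hker, RingHom.mem_ker] at h3
    rw [← hb k]
    exact h3
  have hsp : ⊤ ≤ Submodule.span Γ(Z, i ⁻¹ᵁ V) (Set.range v) := by
    intro n _
    obtain ⟨t, rfl⟩ := conormalSect_surjective i hV hc n
    have ht : OmegaSh.idealSect i.ker V t ∈ Ideal.span (Set.range f) := by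
      rw [← hkerI, ← range_idealιLin i.ker hV]
      exact ⟨t, rfl⟩
    obtain ⟨a, ha⟩ := (Ideal.mem_span_range_iff_exists_fun).1 ht
    have h1 : t = ∑ k, a k • s k := by
      apply idealSect_injective
      rw [idealSect_sum, ← ha]
      exact Finset.sum_congr rfl (fun k _ => by rw [hs k])
    rw [h1, conormalSect_sum]
    refine Submodule.sum_mem _ (fun k _ => ?_)
    exact Submodule.smul_mem _ _ (Submodule.subset_span ⟨k, rfl⟩)
  let bas := Module.Basis.mk hli hsp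
  exact ⟨Module.Free.of_basis bas, Module.Finite.of_basis bas⟩

end Free

section LocFree

theorem isFinLocFree_conormal_of_h1 {Z Y X : Scheme.{u}} (i : Z ⟶ Y) (j : Y ⟶ X) [IsImmersion i]
    [IsImmersion j] [QuasiCompact i] [QuasiCompact j] (hi : RegImm.IsRegularImmersion .h1 i) :
    FlatMod.IsFinLocFree (Omega.conormal i) := by
  have hch : ∀ z : Z, ∃ W : X.Opens, IsAffineOpen W ∧ W ≤ (i ≫ j).coborderRange ∧ W ≤ j.coborderRange ∧
      j ⁻¹ᵁ W ≤ i.coborderRange ∧ z ∈ i ⁻¹ᵁ (j ⁻¹ᵁ W) ∧ i ⁻¹ᵁ (j ⁻¹ᵁ W) ≤ ⊤ ∧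
      ∃ (c : ℕ) (f : Fin c → Γ(Y, j ⁻¹ᵁ W)), CAlgX.IsH1Regular f ∧
        RingHom.ker (i.app (j ⁻¹ᵁ W)).hom = Ideal.span (Set.range f) :=
    fun z => exists_h1_chart i j hi ⊤ z trivial
  choose W hW hc1 hc2 hc3 hzW _ c f hf hker using hch
  have hV : ∀ z, IsAffineOpen (j ⁻¹ᵁ W z) := fun z => (affine_surjective_of_le_coborder j (hW z) (hc2 z)).1
  have hU : ∀ z, IsAffineOpen (i ⁻¹ᵁ (j ⁻¹ᵁ W z)) := fun z =>
    (affine_surjective_of_le_coborder i (hV z) (hc3 z)).1
  refine Groth.Agent.Lib.Helper19.RestrUniv3.isFinLocFree_of_projective_sections (Omega.conormal i)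
    (fun z : Z => i ⁻¹ᵁ (j ⁻¹ᵁ W z)) ?_ hU ?_ ?_
  · change (⨆ z : Z, i ⁻¹ᵁ (j ⁻¹ᵁ W z)) = ⊤
    rw [eq_top_iff]
    intro z _
    exact TopologicalSpace.Opens.mem_iSup.2 ⟨z, hzW z⟩
  · intro z
    exact (free_sections_of_h1 i (hV z) (hc3 z) (f z) (hf z) (hker z)).2
  · intro z
    haveI := (free_sections_of_h1 i (hV z) (hc3 z) (f z) (hf z) (hker z)).1
    exact Module.Projective.of_free

end LocFree

end Groth.Agent.Lib.Helper29.H1Free
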