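import Mathlib
import Groth.Agent.Lib.Helper29.H1Chart

set_option autoImplicit false
universe u
open CategoryTheory CategoryTheory.Limits AlgebraicGeometry TopologicalSpace Opposite

namespace Groth.Agent.Lib.Helper29.H1Mono

open Groth.Agent.Lib.Helper28.QCohLoc Groth.Agent.Lib.Helper29.ConormalMap
  Groth.Agent.Lib.Helper29.ConormalBC Groth.Agent.Lib.Helper29.ConormalChart
  Groth.Agent.Lib.Helper29.OmegaChart Groth.Agent.Lib.Helper28.PullbackInv
  Groth.Agent.Lib.Helper29.H1Alg Groth.Agent.Lib.Helper29.H1Chart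
  Groth.Agent.Lib.Helper17.PullbackBC Groth.Agent.Lib.Helper29.ConormalAlg

section Twice

variable {Z Y X : Scheme.{u}} (i : Z ⟶ Y) (j : Y ⟶ X) [IsImmersion i] [IsImmersion j]
  [QuasiCompact i] [QuasiCompact j]
  {W : X.Opens} (hW : IsAffineOpen W) (hcj : W ≤ j.coborderRange) (hci : j ⁻¹ᵁ W ≤ i.coborderRange)

/-- the twice pulled back class of a section of the ideal of `j`. -/
noncomputable def cc (s : Γ(ClSub.idealMod j.ker, W)) :
    Γ((Scheme.Modules.pullback i).obj (Omega.conormal j), i ⁻¹ᵁ (j ⁻¹ᵁ W)) :=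
  OmegaSh.pullSect i (Omega.conormal j) (j ⁻¹ᵁ W) (OmegaSh.conormalSect j W s)

include hW hcj hci in
theorem isBC_cc : IsBC ((i.app (j ⁻¹ᵁ W)).hom.comp (j.app W).hom) (cc i j (W := W)) := by
  obtain ⟨hV, -⟩ := affine_surjective_of_le_coborder j hW hcj
  obtain ⟨hU, -⟩ := affine_surjective_of_le_coborder i hV hci
  have h1 := isBC_conormalSect j hW hcj
  have h2 : IsBC (i.app (j ⁻¹ᵁ W)).hom (fun m : Γ(Omega.conormal j, j ⁻¹ᵁ W) =>
      (OmegaSh.pullSect i (Omega.conormal j) (j ⁻¹ᵁ W) m :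
        Γ((Scheme.Modules.pullback i).obj (Omega.conormal j), i ⁻¹ᵁ (j ⁻¹ᵁ W)))) := by
    have h := isBC_pullback i hV hU le_rfl (Omega.conormal j)
    have e1 : (fun m : Γ(Omega.conormal j, j ⁻¹ᵁ W) =>
        (OmegaSh.pullSect i (Omega.conormal j) (j ⁻¹ᵁ W) m :
          Γ((Scheme.Modules.pullback i).obj (Omega.conormal j), i ⁻¹ᵁ (j ⁻¹ᵁ W)))) =
        (fun m => res ((Scheme.Modules.pullback i).obj (Omega.conormal j))
          (le_refl (i ⁻¹ᵁ (j ⁻¹ᵁ W))) (pbs i (Omega.conormal j) (j ⁻¹ᵁ W) m)) := by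
      funext m
      rw [res_self]
      rfl
    rw [e1, Scheme.Hom.app_eq_appLE]
    exact h
  exact isBC_comp _ _ _ _ h1 h2

include hW hcj hci in
theorem cc_surjective (x : Γ((Scheme.Modules.pullback i).obj (Omega.conormal j), i ⁻¹ᵁ (j ⁻¹ᵁ W))) :
    ∃ s : Γ(ClSub.idealMod j.ker, W), cc i j s = x := by
  obtain ⟨hV, hs1⟩ := affine_surjective_of_le_coborder j hW hcj
  obtain ⟨hU, hs2⟩ := affine_surjective_of_le_coborder i hV hci
  have hsurj : Function.Surjective ((i.app (j ⁻¹ᵁ W)).hom.comp (j.app W).hom) := by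
    intro c
    obtain ⟨b, hb⟩ := hs2 c
    obtain ⟨a, ha⟩ := hs1 b
    exact ⟨a, by rw [RingHom.comp_apply]; exact (congrArg _ ha).trans hb⟩
  exact surjective_of_isBC_of_surjective ((i.app (j ⁻¹ᵁ W)).hom.comp (j.app W).hom) hsurj
    (cc i j) (isBC_cc i j hW hcj hci) x

include hW hcj hci in
theorem cc_eq_zero_of_mem (s : Γ(ClSub.idealMod j.ker, W))
    (h : OmegaSh.idealSect j.ker W s ∈
      RingHom.ker (j.app W).hom * RingHom.ker ((i.app (j ⁻¹ᵁ W)).hom.comp (j.app W).hom)) :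
    cc i j s = 0 := by
  obtain ⟨hV, hs1⟩ := affine_surjective_of_le_coborder j hW hcj
  obtain ⟨hU, hs2⟩ := affine_surjective_of_le_coborder i hV hci
  have hsurj : Function.Surjective ((i.app (j ⁻¹ᵁ W)).hom.comp (j.app W).hom) := by
    intro c
    obtain ⟨b, hb⟩ := hs2 c
    obtain ⟨a, ha⟩ := hs1 b
    exact ⟨a, by rw [RingHom.comp_apply]; exact (congrArg _ ha).trans hb⟩
  rw [eq_zero_iff_of_isBC_of_surjective ((i.app (j ⁻¹ᵁ W)).hom.comp (j.app W).hom) hsurj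
    (cc i j) (isBC_cc i j hW hcj hci) s]
  set K := RingHom.ker ((i.app (j ⁻¹ᵁ W)).hom.comp (j.app W).hom) with hK
  have hker : RingHom.ker (j.app W).hom = j.ker.ideal ⟨W, hW⟩ := (Scheme.Hom.ker_apply j ⟨W, hW⟩).symm
  rw [hker, mul_comm] at h
  set I := j.ker.ideal ⟨W, hW⟩ with hI
  have hrange : (LinearMap.range (idealιLin j.ker W) : Ideal Γ(X, W)) = I := range_idealιLin j.ker hW
  have hmap : (K • (⊤ : Submodule Γ(X, W) Γ(ClSub.idealMod j.ker, W))).map (idealιLin j.ker W) = K * I := by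
    rw [Submodule.map_smul'', Submodule.map_top, hrange]
    rfl
  rw [← hmap] at h
  obtain ⟨t, ht, hts⟩ := h
  have : t = s := idealιLin_injective j.ker W hts
  rwa [this] at ht

end Twice

section Mono

variable {Z Y X : Scheme.{u}} (i : Z ⟶ Y) (j : Y ⟶ X) [IsImmersion i] [IsImmersion j]
  [QuasiCompact i] [QuasiCompact j]

/-- for an `H₁`-regular immersion `i`, the canonical map `i^* C_{Y/X} → C_{Z/X}` is a monomorphism. -/
theorem mono_of_h1 (hi : RegImm.IsRegularImmersion .h1 i)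
    (a : (Scheme.Modules.pullback i).obj (Omega.conormal j) ⟶ Omega.conormal (i ≫ j))
    (ha : OmegaSh.IsConormalMap (i ≫ j) j (𝟙 X) i a) : Mono a := by
  have hsq₁ : i ≫ j = (i ≫ j) ≫ 𝟙 X := (Category.comp_id _).symm
  refine mono_of_injective a (fun U => ?_)
  rw [injective_iff_map_eq_zero]
  intro x hx
  have hloc : ∀ pt : U, ∃ V : Z.Opens, ∃ hV : V ≤ U, pt.1 ∈ V ∧
      res ((Scheme.Modules.pullback i).obj (Omega.conormal j)) hV x = 0 := by
    rintro ⟨pt, hpt⟩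
    obtain ⟨W, hW, hc1, hc2, hc3, hptW, hWU, c, f, hf, hker⟩ := exists_h1_chart i j hi U pt hpt
    obtain ⟨hV, hs1⟩ := affine_surjective_of_le_coborder j hW hc2
    refine ⟨i ⁻¹ᵁ (j ⁻¹ᵁ W), hWU, hptW, ?_⟩
    obtain ⟨s, hs⟩ := cc_surjective i j hW hc2 hc3
      (res ((Scheme.Modules.pullback i).obj (Omega.conormal j)) hWU x)
    rw [← hs]
    apply cc_eq_zero_of_mem i j hW hc2 hc3
    have h1 : a.app (i ⁻¹ᵁ (j ⁻¹ᵁ W)) (cc i j s) = 0 := by
      rw [hs, app_res, hx, res_zero]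
    have h2 := isConormalMap_app (i ≫ j) j (𝟙 X) i a ha hsq₁ W s
    rw [map_eqToHom_eq_res] at h2
    have h3 : OmegaSh.conormalSect (i ≫ j) ((𝟙 X) ⁻¹ᵁ W) (pushSect (i ≫ j) j (𝟙 X) i hsq₁ W s) = 0 :=
      res_injective_of_eq _ (preimage_eq (i ≫ j) j (𝟙 X) i hsq₁ W)
        ((h2.symm.trans h1).trans (res_zero _ _).symm)
    have hW' : IsAffineOpen ((𝟙 X : X ⟶ X) ⁻¹ᵁ W) := hW
    rw [conormalSect_eq_zero_iff (i ≫ j) hW' hc1, idealSect_pushSect] at h3
    have h4 : (𝟙 X : X ⟶ X).app W (OmegaSh.idealSect j.ker W s) = OmegaSh.idealSect j.ker W s := by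
      rw [Scheme.Hom.id_app]; rfl
    rw [h4] at h3
    have hJ : (i ≫ j).ker.ideal ⟨(𝟙 X : X ⟶ X) ⁻¹ᵁ W, hW'⟩ =
        RingHom.ker ((i.app (j ⁻¹ᵁ W)).hom.comp (j.app W).hom) := by
      have h5 := Scheme.Hom.ker_apply (i ≫ j) ⟨W, hW⟩
      have h6 : ((i ≫ j).app W).hom = (i.app (j ⁻¹ᵁ W)).hom.comp (j.app W).hom := by
        rw [Scheme.Hom.comp_app]
        rfl
      rw [h6] at h5
      exact h5
    rw [hJ] at h3
    have hxI : OmegaSh.idealSect j.ker W s ∈ RingHom.ker (j.app W).hom := by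
      rw [RingHom.mem_ker]
      exact app_eq_zero_of_subschemeι j W _ (subschemeι_app_idealSect j.ker W s)
    exact mem_mul_of_h1 (j.app W).hom hs1 (i.app (j ⁻¹ᵁ W)).hom f hf hker _ hxI h3
  choose V hV hpt hres using hloc
  refine eq_of_locally_eq _ V U hV ?_ x 0 ?_
  · intro q hq
    exact TopologicalSpace.Opens.mem_iSup.mpr ⟨⟨q, hq⟩, hpt ⟨q, hq⟩⟩
  · intro pt
    rw [hres pt, res_zero]

end Mono

end Groth.Agent.Lib.Helper29.H1Mono
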