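import Groth.Prelude.Def_SheafNL
import Groth.Agent.Lib.Helper29.H1Cot
import Groth.Agent.Lib.Helper29.ConormalChart
import Groth.Agent.Lib.Helper29.FPDict

/-!
# The conormal sheaf of a quasi-compact immersion as `H⁻¹` of the naive cotangent complex, chart form
-/

set_option autoImplicit false
universe u
open CategoryTheory CategoryTheory.Limits AlgebraicGeometry TopologicalSpace Opposite TensorProduct

namespace Groth.Agent.Lib.Helper29.H1Sh

open Groth.Agent.Lib.Helper28.QCohLoc Groth.Agent.Lib.Helper29.ConormalMap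
  Groth.Agent.Lib.Helper29.ConormalBC Groth.Agent.Lib.Helper29.ConormalChart
  Groth.Agent.Lib.Helper28.PullbackInv Groth.Agent.Lib.Helper17.PullbackBC
  Groth.Agent.Lib.Helper29.OmegaLoc Groth.Agent.Lib.Helper29.H1Cot
  Groth.Agent.Lib.Helper17.Serre

section Kappa

variable {Z X : Scheme.{u}} (i : Z ⟶ X)
  {U : Z.Opens} (hU : IsAffineOpen U) {V : X.Opens} (hV : IsAffineOpen V) (e : U ≤ i ⁻¹ᵁ V)

/-- the class in the conormal sheaf over `U` of a section of the ideal over `V`. -/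
noncomputable def cV (s : Γ(ClSub.idealMod i.ker, V)) : Γ(Omega.conormal i, U) :=
  res ((Scheme.Modules.pullback i).obj (ClSub.idealMod i.ker)) e (pbs i (ClSub.idealMod i.ker) V s)

theorem algebraMap_idealSect (s : Γ(ClSub.idealMod i.ker, V)) :
    letI := alg i e
    algebraMap Γ(X, V) Γ(Z, U) (OmegaSh.idealSect i.ker V s) = 0 := by
  letI := alg i e
  change (i.appLE V U e).hom (OmegaSh.idealSect i.ker V s) = 0
  have h1 : i.app V (OmegaSh.idealSect i.ker V s) = 0 :=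
    app_eq_zero_of_subschemeι i V _ (subschemeι_app_idealSect i.ker V s)
  change Z.presheaf.map (homOfLE e).op (i.app V (OmegaSh.idealSect i.ker V s)) = 0
  rw [h1, map_zero]

/-- `s ↦ [C s]`, linear over the base. -/
noncomputable def hLin : letI := alg i e
    Γ(ClSub.idealMod i.ker, V) →ₗ[Γ(X, V)] Algebra.H1Cotangent Γ(X, V) Γ(Z, U) :=
  letI := alg i e
  { toFun := fun s => h1C (OmegaSh.idealSect i.ker V s) (algebraMap_idealSect i e s)
    map_add' := fun s t => by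
      have := h1C_add (B := Γ(Z, U)) _ _ (algebraMap_idealSect i e s) (algebraMap_idealSect i e t)
      rw [← this]
      congr 1
      exact map_add _ _ _
    map_smul' := fun r s => by
      have := h1C_mul (B := Γ(Z, U)) r _ (algebraMap_idealSect i e s)
      have h2 : (r • h1C (OmegaSh.idealSect i.ker V s) (algebraMap_idealSect i e s) :
          Algebra.H1Cotangent Γ(X, V) Γ(Z, U)) =
          algebraMap Γ(X, V) Γ(Z, U) r • h1C (OmegaSh.idealSect i.ker V s)
            (algebraMap_idealSect i e s) := (algebraMap_smul Γ(Z, U) r _).symm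
      rw [RingHom.id_apply, h2, ← this]
      congr 1
      exact idealSect_smul i.ker V r s }

include hU hV in
theorem exists_equiv : letI := alg i e
    ∃ eqv : Γ(Omega.conormal i, U) ≃ₗ[Γ(Z, U)] Γ(Z, U) ⊗[Γ(X, V)] Γ(ClSub.idealMod i.ker, V),
      ∀ s, eqv (cV i e s) = 1 ⊗ₜ s :=
  (isBC_iff _ _).mp (isBC_pullback i hV hU e (ClSub.idealMod i.ker))

/-- sections of the conormal sheaf as a base change. -/
noncomputable def eqv : letI := alg i e
    Γ(Omega.conormal i, U) ≃ₗ[Γ(Z, U)] Γ(Z, U) ⊗[Γ(X, V)] Γ(ClSub.idealMod i.ker, V) :=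
  Classical.choose (exists_equiv i hU hV e)

theorem eqv_cV (s : Γ(ClSub.idealMod i.ker, V)) : letI := alg i e
    eqv i hU hV e (cV i e s) = 1 ⊗ₜ s :=
  Classical.choose_spec (exists_equiv i hU hV e) s

/-- the comparison map `Γ(C_{Z/X}, U) → H⁻¹(NL_{Γ(Z,U)/Γ(X,V)})`. -/
noncomputable def κ : letI := alg i e
    Γ(Omega.conormal i, U) →ₗ[Γ(Z, U)] Algebra.H1Cotangent Γ(X, V) Γ(Z, U) :=
  letI := alg i e
  (LinearMap.liftBaseChange Γ(Z, U) (hLin i e)) ∘ₗ (eqv i hU hV e).toLinearMap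

theorem κ_cV (s : Γ(ClSub.idealMod i.ker, V)) : letI := alg i e
    κ i hU hV e (cV i e s) = h1C (OmegaSh.idealSect i.ker V s) (algebraMap_idealSect i e s) := by
  letI := alg i e
  change LinearMap.liftBaseChange Γ(Z, U) (hLin i e) (eqv i hU hV e (cV i e s)) = _
  rw [eqv_cV, LinearMap.liftBaseChange_tmul, one_smul]
  rfl

include hU hV in
/-- induction principle for the sections of the conormal sheaf over a chart. -/
theorem induction_conormal {P : Γ(Omega.conormal i, U) → Prop} (h0 : P 0)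
    (hadd : ∀ x y, P x → P y → P (x + y))
    (hsm : ∀ (b : Γ(Z, U)) (s : Γ(ClSub.idealMod i.ker, V)), P (b • cV i e s))
    (m : Γ(Omega.conormal i, U)) : P m := by
  letI := alg i e
  have key : ∀ t : Γ(Z, U) ⊗[Γ(X, V)] Γ(ClSub.idealMod i.ker, V), P ((eqv i hU hV e).symm t) := by
    intro t
    induction t using TensorProduct.induction_on with
    | zero => rw [map_zero]; exact h0
    | add x y hx hy => rw [map_add]; exact hadd _ _ hx hy
    | tmul b s =>
      have h1 : (b ⊗ₜ[Γ(X, V)] s : Γ(Z, U) ⊗[Γ(X, V)] Γ(ClSub.idealMod i.ker, V)) =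
          b • ((1 : Γ(Z, U)) ⊗ₜ[Γ(X, V)] s) := by
        rw [TensorProduct.smul_tmul', smul_eq_mul, mul_one]
      rw [h1, map_smul, ← eqv_cV i hU hV e s, LinearEquiv.symm_apply_apply]
      exact hsm b s
  have := key (eqv i hU hV e m)
  rwa [LinearEquiv.symm_apply_apply] at this

end Kappa

section Nat

variable {Z X : Scheme.{u}} (i : Z ⟶ X)
  {U : Z.Opens} (hU : IsAffineOpen U) {V : X.Opens} (hV : IsAffineOpen V) (e : U ≤ i ⁻¹ᵁ V)
  {U' : Z.Opens} (hU' : IsAffineOpen U') {V' : X.Opens} (hV' : IsAffineOpen V')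
  (e' : U' ≤ i ⁻¹ᵁ V') (hUU : U' ≤ U) (hVV : V' ≤ V)

theorem cV_res (s : Γ(ClSub.idealMod i.ker, V)) :
    res (Omega.conormal i) hUU (cV i e s) = cV i e' (res (ClSub.idealMod i.ker) hVV s) := by
  unfold cV
  rw [pbs_res]
  change res ((Scheme.Modules.pullback i).obj (ClSub.idealMod i.ker)) hUU _ = _
  rw [res_res, res_res]

include hU hV in
/-- naturality of `κ` with respect to any semilinear map compatible with the classes of constants. -/
theorem κ_natural : letI := alg i e; letI := alg i e'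
    ∀ (Ψ : Algebra.H1Cotangent Γ(X, V) Γ(Z, U) →+ Algebra.H1Cotangent Γ(X, V') Γ(Z, U'))
      (_ : ∀ (b : Γ(Z, U)) (x : Algebra.H1Cotangent Γ(X, V) Γ(Z, U)),
        Ψ (b • x) = resO hUU b • Ψ x)
      (_ : ∀ (a : Γ(X, V)) (ha : algebraMap Γ(X, V) Γ(Z, U) a = 0)
        (ha' : algebraMap Γ(X, V') Γ(Z, U') (resO hVV a) = 0),
        Ψ (h1C a ha) = h1C (resO hVV a) ha')
      (m : Γ(Omega.conormal i, U)),
      κ i hU' hV' e' (res (Omega.conormal i) hUU m) = Ψ (κ i hU hV e m) := by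
  letI := alg i e
  letI := alg i e'
  intro Ψ hΨs hΨC m
  induction m using induction_conormal i hU hV e with
  | h0 => rw [res_zero, map_zero, map_zero, map_zero]
  | hadd x y hx hy => rw [res_add, map_add, map_add, map_add, hx, hy]
  | hsm b s =>
    rw [res_smul, map_smul, map_smul, hΨs, κ_cV, cV_res i e e' hUU hVV, κ_cV,
      hΨC _ _ (by rw [← idealSect_res]; exact algebraMap_idealSect i e' _)]
    congr 2
    exact idealSect_res i.ker hVV s

end Nat

section ChartRes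

variable {Z X : Scheme.{u}} (i : Z ⟶ X)
  {U U' : Z.affineOpens} {V V' : X.affineOpens}
  (e : (U : Z.Opens) ≤ i ⁻¹ᵁ (V : X.Opens)) (e' : (U' : Z.Opens) ≤ i ⁻¹ᵁ (V' : X.Opens))
  (hUU : (U' : Z.Opens) ≤ (U : Z.Opens)) (hVV : (V' : X.Opens) ≤ (V : X.Opens))

theorem chartRes_smul (b : Γ(Z, (U : Z.Opens))) (x : NLCx.ChartH1 i U V e) :
    NLCx.chartRes e e' hUU hVV (b • x) = resO hUU b • NLCx.chartRes e e' hUU hVV x := by
  letI := (i.appLE (V : X.Opens) (U : Z.Opens) e).hom.toAlgebra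
  letI := (i.appLE (V' : X.Opens) (U' : Z.Opens) e').hom.toAlgebra
  letI := (i.appLE (V : X.Opens) (U' : Z.Opens) (hUU.trans e)).hom.toAlgebra
  letI := (Z.presheaf.map (homOfLE hUU).op).hom.toAlgebra
  letI := (X.presheaf.map (homOfLE hVV).op).hom.toAlgebra
  haveI : IsScalarTower Γ(X, (V : X.Opens)) Γ(X, (V' : X.Opens)) Γ(Z, (U' : Z.Opens)) :=
    IsScalarTower.of_algebraMap_eq' (by
      change (i.appLE _ _ _).hom = (i.appLE _ _ _).hom.comp (X.presheaf.map _).hom
      rw [← CommRingCat.hom_comp, Scheme.Hom.map_appLE])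
  haveI : IsScalarTower Γ(X, (V : X.Opens)) Γ(Z, (U : Z.Opens)) Γ(Z, (U' : Z.Opens)) :=
    IsScalarTower.of_algebraMap_eq' (by
      change (i.appLE _ _ _).hom = (Z.presheaf.map _).hom.comp (i.appLE _ _ _).hom
      rw [← CommRingCat.hom_comp, Scheme.Hom.appLE_map])
  change Algebra.H1Cotangent.map Γ(X, (V : X.Opens)) Γ(X, (V' : X.Opens)) Γ(Z, (U : Z.Opens))
    Γ(Z, (U' : Z.Opens)) (b • x) = resO hUU b • Algebra.H1Cotangent.map Γ(X, (V : X.Opens))
      Γ(X, (V' : X.Opens)) Γ(Z, (U : Z.Opens)) Γ(Z, (U' : Z.Opens)) x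
  rw [map_smul]
  exact (algebraMap_smul Γ(Z, (U' : Z.Opens)) b _).symm

theorem chartRes_h1C : letI := alg i e; letI := alg i e'
    ∀ (a : Γ(X, (V : X.Opens))) (ha : algebraMap Γ(X, (V : X.Opens)) Γ(Z, (U : Z.Opens)) a = 0)
      (ha' : algebraMap Γ(X, (V' : X.Opens)) Γ(Z, (U' : Z.Opens)) (resO hVV a) = 0),
      NLCx.chartRes e e' hUU hVV (h1C a ha) = h1C (resO hVV a) ha' := by
  letI := (i.appLE (V : X.Opens) (U : Z.Opens) e).hom.toAlgebra
  letI := (i.appLE (V' : X.Opens) (U' : Z.Opens) e').hom.toAlgebra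
  letI := (i.appLE (V : X.Opens) (U' : Z.Opens) (hUU.trans e)).hom.toAlgebra
  letI := (Z.presheaf.map (homOfLE hUU).op).hom.toAlgebra
  letI := (X.presheaf.map (homOfLE hVV).op).hom.toAlgebra
  haveI : IsScalarTower Γ(X, (V : X.Opens)) Γ(X, (V' : X.Opens)) Γ(Z, (U' : Z.Opens)) :=
    IsScalarTower.of_algebraMap_eq' (by
      change (i.appLE _ _ _).hom = (i.appLE _ _ _).hom.comp (X.presheaf.map _).hom
      rw [← CommRingCat.hom_comp, Scheme.Hom.map_appLE])
  haveI : IsScalarTower Γ(X, (V : X.Opens)) Γ(Z, (U : Z.Opens)) Γ(Z, (U' : Z.Opens)) :=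
    IsScalarTower.of_algebraMap_eq' (by
      change (i.appLE _ _ _).hom = (Z.presheaf.map _).hom.comp (i.appLE _ _ _).hom
      rw [← CommRingCat.hom_comp, Scheme.Hom.appLE_map])
  intro a ha ha'
  exact map_h1C (A := Γ(X, (V : X.Opens))) (B := Γ(Z, (U : Z.Opens)))
    (A' := Γ(X, (V' : X.Opens))) (B' := Γ(Z, (U' : Z.Opens))) a ha

/-- compatibility of `κ` with restriction to a nested chart pair. -/
theorem κ_chartRes (m : Γ(Omega.conormal i, (U : Z.Opens))) :
    κ i U'.2 V'.2 e' (res (Omega.conormal i) hUU m) =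
      NLCx.chartRes e e' hUU hVV (κ i U.2 V.2 e m) :=
  κ_natural i U.2 V.2 e U'.2 V'.2 e' hUU hVV (NLCx.chartRes e e' hUU hVV)
    (chartRes_smul i e e' hUU hVV) (chartRes_h1C i e e' hUU hVV) m

end ChartRes

section Nice

variable {Z X : Scheme.{u}} (i : Z ⟶ X) [IsImmersion i] [QuasiCompact i]
  {V : X.Opens} (hV : IsAffineOpen V) (a : Γ(X, V)) (hc : X.basicOpen a ≤ i.coborderRange)
  (hU' : IsAffineOpen (i ⁻¹ᵁ X.basicOpen a)) (e' : i ⁻¹ᵁ X.basicOpen a ≤ i ⁻¹ᵁ V)

theorem cV_eq_conormalSect (s : Γ(ClSub.idealMod i.ker, V)) :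
    cV i e' s = OmegaSh.conormalSect i (X.basicOpen a)
      (res (ClSub.idealMod i.ker) (X.basicOpen_le a) s) := by
  change _ = pbs i (ClSub.idealMod i.ker) (X.basicOpen a) _
  rw [pbs_res]
  rfl

include hV hc in
theorem κ_bijective_nice : Function.Bijective (κ i hU' hV e') := by
  have hW : IsAffineOpen (X.basicOpen a) := hV.basicOpen a
  obtain ⟨-, hs0⟩ := affine_surjective_of_le_coborder i hW hc
  letI := alg i e'
  letI : Algebra Γ(X, X.basicOpen a) Γ(Z, i ⁻¹ᵁ X.basicOpen a) := (i.app (X.basicOpen a)).hom.toAlgebra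
  haveI : IsScalarTower Γ(X, V) Γ(X, X.basicOpen a) Γ(Z, i ⁻¹ᵁ X.basicOpen a) :=
    IsScalarTower.of_algebraMap_eq' (by
      change (i.appLE _ _ _).hom = (i.app _).hom.comp (X.presheaf.map _).hom
      rw [← CommRingCat.hom_comp, Scheme.Hom.app_eq_appLE, Scheme.Hom.map_appLE])
  haveI : IsLocalization.Away a Γ(X, X.basicOpen a) := hV.isLocalization_basicOpen a
  haveI : Algebra.FormallySmooth Γ(X, V) Γ(X, X.basicOpen a) :=
    Algebra.FormallySmooth.of_isLocalization (Submonoid.powers a)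
  have hs : Function.Surjective (algebraMap Γ(X, X.basicOpen a) Γ(Z, i ⁻¹ᵁ X.basicOpen a)) := hs0
  let Θ : Γ(Omega.conormal i, i ⁻¹ᵁ X.basicOpen a) →ₗ[Γ(Z, i ⁻¹ᵁ X.basicOpen a)]
      (P₀ Γ(X, V) hs).Cotangent := (Ψ Γ(X, V) hs) ∘ₗ (κ i hU' hV e')
  have hΘV : ∀ s : Γ(ClSub.idealMod i.ker, V), Θ (cV i e' s) =
      Algebra.Extension.Cotangent.mk ⟨algebraMap Γ(X, V) Γ(X, X.basicOpen a) (OmegaSh.idealSect i.ker V s),
        algebraMap_mem_ker hs _ (algebraMap_idealSect i e' s)⟩ := by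
    intro s
    change Ψ Γ(X, V) hs (κ i hU' hV e' (cV i e' s)) = _
    rw [κ_cV, Ψ_h1C]
  have hmem : ∀ s' : Γ(ClSub.idealMod i.ker, X.basicOpen a),
      (OmegaSh.idealSect i.ker (X.basicOpen a) s' : (P₀ Γ(X, V) hs).Ring) ∈ (P₀ Γ(X, V) hs).ker := by
    intro s'
    refine (RingHom.mem_ker).2 ?_
    change i.app (X.basicOpen a) (OmegaSh.idealSect i.ker (X.basicOpen a) s') = 0
    exact app_eq_zero_of_subschemeι i _ _ (subschemeι_app_idealSect i.ker _ s')
  have hΘW : ∀ s' : Γ(ClSub.idealMod i.ker, X.basicOpen a),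
      Θ (OmegaSh.conormalSect i (X.basicOpen a) s') =
        Algebra.Extension.Cotangent.mk ⟨OmegaSh.idealSect i.ker (X.basicOpen a) s', hmem s'⟩ := by
    intro s'
    obtain ⟨n, s, hns⟩ := (isLocOn_of_isQuasicoherent (ClSub.idealMod i.ker) hV).surj a s'
    set r : Γ(X, X.basicOpen a) := resO (X.basicOpen_le a) a with hrdef
    have hr : IsUnit r := RingedSpace.isUnit_res_basicOpen _ a
    have hu : IsUnit (algebraMap Γ(X, X.basicOpen a) Γ(Z, i ⁻¹ᵁ X.basicOpen a) (r ^ n)) :=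
      (hr.pow n).map _
    apply (hu.smul_left_cancel).1
    -- left side
    have hL : algebraMap Γ(X, X.basicOpen a) Γ(Z, i ⁻¹ᵁ X.basicOpen a) (r ^ n) •
        Θ (OmegaSh.conormalSect i (X.basicOpen a) s') = Θ (cV i e' s) := by
      rw [← map_smul, cV_eq_conormalSect i a e' s, ← hns]
      congr 1
      exact (pbs_smul i (ClSub.idealMod i.ker) (X.basicOpen a) (r ^ n) s').symm
    rw [hL, hΘV]
    -- right side
    let rn : (P₀ Γ(X, V) hs).Ring := r ^ n
    have hR : algebraMap Γ(X, X.basicOpen a) Γ(Z, i ⁻¹ᵁ X.basicOpen a) (r ^ n) •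
        (Algebra.Extension.Cotangent.mk ⟨OmegaSh.idealSect i.ker (X.basicOpen a) s', hmem s'⟩ :
          (P₀ Γ(X, V) hs).Cotangent) =
        Algebra.Extension.Cotangent.mk (rn •
          (⟨OmegaSh.idealSect i.ker (X.basicOpen a) s', hmem s'⟩ : (P₀ Γ(X, V) hs).ker)) := by
      exact P₀_smul_mk Γ(X, V) hs (r ^ n) _
    rw [hR]
    congr 1
    apply Subtype.ext
    change algebraMap Γ(X, V) Γ(X, X.basicOpen a) (OmegaSh.idealSect i.ker V s) =
      r ^ n * OmegaSh.idealSect i.ker (X.basicOpen a) s'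
    rw [← idealSect_smul, hns, idealSect_res]
    rfl
  have hKer : (P₀ Γ(X, V) hs).ker = i.ker.ideal ⟨X.basicOpen a, hW⟩ :=
    (Scheme.Hom.ker_apply i ⟨X.basicOpen a, hW⟩).symm
  constructor
  · rw [injective_iff_map_eq_zero]
    intro m hm
    obtain ⟨s', rfl⟩ := conormalSect_surjective i hW hc m
    have h1 : Θ (OmegaSh.conormalSect i (X.basicOpen a) s') = 0 := by
      change Ψ Γ(X, V) hs (κ i hU' hV e' _) = 0
      rw [hm, map_zero]
    rw [hΘW, Algebra.Extension.Cotangent.mk_eq_zero_iff] at h1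
    have h1' : OmegaSh.idealSect i.ker (X.basicOpen a) s' ∈ (P₀ Γ(X, V) hs).ker ^ 2 := h1
    rw [hKer, pow_two] at h1'
    exact (conormalSect_eq_zero_iff i hW hc s').2 h1'
  · intro y
    obtain ⟨⟨x, hx⟩, hxy⟩ := Algebra.Extension.Cotangent.mk_surjective (Ψ Γ(X, V) hs y)
    have hx' : x ∈ i.ker.ideal ⟨X.basicOpen a, hW⟩ := by rw [← hKer]; exact hx
    rw [← range_idealιLin i.ker hW] at hx'
    obtain ⟨s', hs'⟩ := hx'
    refine ⟨OmegaSh.conormalSect i (X.basicOpen a) s', Ψ_injective Γ(X, V) hs ?_⟩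
    have h2 := hΘW s'
    change Ψ Γ(X, V) hs (κ i hU' hV e' _) = _ at h2
    rw [h2, ← hxy]
    congr 1
    exact Subtype.ext hs'

end Nice

section Loc

open Groth.Agent.Lib.Helper29.FPDict

variable {Z X : Scheme.{u}} (i : Z ⟶ X) [IsImmersion i] [QuasiCompact i]
  {U : Z.Opens} (hU : IsAffineOpen U) {V : X.Opens} (hV : IsAffineOpen V) (e : U ≤ i ⁻¹ᵁ V)

include hV in
theorem κ_bijective_of_eq (a : Γ(X, V)) (hc : X.basicOpen a ≤ i.coborderRange) {U' : Z.Opens}
    (hU' : IsAffineOpen U') (e' : U' ≤ i ⁻¹ᵁ V) (h : U' = i ⁻¹ᵁ X.basicOpen a) :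
    Function.Bijective (κ i hU' hV e') := by
  subst h
  exact κ_bijective_nice i hV a hc hU' e'

omit [IsImmersion i] [QuasiCompact i] in
theorem basicOpen_algebraMap (a : Γ(X, V)) : letI := alg i e
    Z.basicOpen (algebraMap Γ(X, V) Γ(Z, U) a) = U ⊓ i ⁻¹ᵁ X.basicOpen a := by
  letI := alg i e
  change Z.basicOpen (Z.presheaf.map (homOfLE e).op (i.app V a)) = _
  rw [Scheme.basicOpen_res, Scheme.preimage_basicOpen]

omit [QuasiCompact i] in
include hV e in
theorem exists_nice (z : Z) (hz : z ∈ U) : ∃ a : Γ(X, V), i z ∈ X.basicOpen a ∧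
    X.basicOpen a ≤ i.coborderRange ∧ i ⁻¹ᵁ X.basicOpen a ≤ U := by
  obtain ⟨O₁, hO₁, hO₁eq⟩ := (i.isEmbedding.isInducing.isOpen_iff).1 U.isOpen
  have hzO₁ : i z ∈ (⟨O₁, hO₁⟩ : X.Opens) := by
    have : z ∈ (i ⁻¹' O₁ : Set Z) := by rw [hO₁eq]; exact hz
    exact this
  have hzc : i z ∈ i.coborderRange := subset_coborder ⟨z, rfl⟩
  obtain ⟨a, ha1, ha2⟩ := hV.exists_basicOpen_le
    (V := (⟨O₁, hO₁⟩ : X.Opens) ⊓ i.coborderRange) ⟨i z, ⟨hzO₁, hzc⟩⟩ (e hz)
  refine ⟨a, ha2, ha1.trans inf_le_right, ?_⟩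
  intro y hy
  have h2 : i y ∈ O₁ := (ha1 hy).1
  have : y ∈ (i ⁻¹' O₁ : Set Z) := h2
  rw [hO₁eq] at this
  exact this

theorem h1C_congr {A B : Type u} [CommRing A] [CommRing B] [Algebra A B] {a a' : A} (h : a = a')
    (ha : algebraMap A B a = 0) (ha' : algebraMap A B a' = 0) : h1C a ha = h1C a' ha' := by
  subst h; rfl

include hU hV in
/-- **`κ` is bijective for every affine chart pair.** -/
theorem κ_bijective : Function.Bijective (κ i hU hV e) := by
  letI := alg i e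
  let S : Set Γ(Z, U) := {b | ∃ a : Γ(X, V), b = algebraMap Γ(X, V) Γ(Z, U) a ∧
    X.basicOpen a ≤ i.coborderRange ∧ i ⁻¹ᵁ X.basicOpen a ≤ U}
  have hS : Ideal.span S = ⊤ := by
    rw [← hU.self_le_iSup_basicOpen_iff]
    intro z hz
    obtain ⟨a, hza, hac, haU⟩ := exists_nice i hV e z hz
    refine Opens.mem_iSup.mpr ⟨⟨algebraMap Γ(X, V) Γ(Z, U) a, a, rfl, hac, haU⟩, ?_⟩
    change z ∈ Z.basicOpen (algebraMap Γ(X, V) Γ(Z, U) a)
    rw [basicOpen_algebraMap]
    exact ⟨hz, hza⟩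
  have er : ∀ r : S, Z.basicOpen r.1 ≤ i ⁻¹ᵁ V := fun r => (Z.basicOpen_le r.1).trans e
  letI : ∀ r : S, Module Γ(Z, U) Γ(Omega.conormal i, Z.basicOpen r.1) :=
    fun r => modBasicOpen (Omega.conormal i) r.1
  haveI : ∀ r : S, IsLocalizedModule (Submonoid.powers r.1) (resLin (Omega.conormal i) r.1) :=
    fun r => isLocalizedModule_resLin (isLocOn_of_isQuasicoherent (Omega.conormal i) hU) r.1
  letI : ∀ r : S, Algebra Γ(X, V) Γ(Z, Z.basicOpen r.1) := fun r => alg i (er r)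
  haveI : ∀ r : S, IsScalarTower Γ(X, V) Γ(Z, U) Γ(Z, Z.basicOpen r.1) := fun r =>
    IsScalarTower.of_algebraMap_eq' (by
      change (i.appLE _ _ _).hom = (Z.presheaf.map _).hom.comp (i.appLE _ _ _).hom
      rw [← CommRingCat.hom_comp, Scheme.Hom.appLE_map])
  haveI : ∀ r : S, IsLocalization (Submonoid.powers r.1) Γ(Z, Z.basicOpen r.1) :=
    fun r => hU.isLocalization_basicOpen r.1
  refine bijective_of_isLocalized_span S hS (fun r => Γ(Omega.conormal i, Z.basicOpen r.1))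
    (fun r => resLin (Omega.conormal i) r.1)
    (fun r => Algebra.H1Cotangent Γ(X, V) Γ(Z, Z.basicOpen r.1))
    (fun r => Algebra.H1Cotangent.map Γ(X, V) Γ(X, V) Γ(Z, U) Γ(Z, Z.basicOpen r.1))
    (κ i hU hV e) ?_
  intro r
  obtain ⟨a, hra, hac, haU⟩ := r.2
  have hUr : IsAffineOpen (Z.basicOpen r.1) := hU.basicOpen r.1
  have hopen : Z.basicOpen r.1 = i ⁻¹ᵁ X.basicOpen a := by
    rw [hra, basicOpen_algebraMap]
    exact inf_eq_right.2 haU
  have hbij : Function.Bijective (κ i hUr hV (er r)) := κ_bijective_of_eq i hV a hac hUr (er r) hopen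
  -- `κ` over the smaller open, as a map linear over the sections over `U`
  let g' : Γ(Omega.conormal i, Z.basicOpen r.1) →ₗ[Γ(Z, U)]
      Algebra.H1Cotangent Γ(X, V) Γ(Z, Z.basicOpen r.1) :=
    { toFun := κ i hUr hV (er r)
      map_add' := map_add _
      map_smul' := fun b y => by
        change κ i hUr hV (er r) (algebraMap Γ(Z, U) Γ(Z, Z.basicOpen r.1) b • y) = _
        rw [map_smul]
        exact algebraMap_smul _ _ _ }
  have hres_self : ∀ x : Γ(X, V), resO (le_refl V) x = x := by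
    intro x
    change X.presheaf.map (𝟙 (op V)) x = x
    rw [X.presheaf.map_id]
    rfl
  have hcomp : IsLocalizedModule.map (Submonoid.powers r.1) (resLin (Omega.conormal i) r.1)
      (Algebra.H1Cotangent.map Γ(X, V) Γ(X, V) Γ(Z, U) Γ(Z, Z.basicOpen r.1)) (κ i hU hV e) = g' := by
    apply IsLocalizedModule.linearMap_ext (Submonoid.powers r.1) (resLin (Omega.conormal i) r.1)
      (Algebra.H1Cotangent.map Γ(X, V) Γ(X, V) Γ(Z, U) Γ(Z, Z.basicOpen r.1))
    rw [IsLocalizedModule.map_comp]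
    refine LinearMap.ext fun m => ?_
    change Algebra.H1Cotangent.map Γ(X, V) Γ(X, V) Γ(Z, U) Γ(Z, Z.basicOpen r.1) (κ i hU hV e m) =
      κ i hUr hV (er r) (res (Omega.conormal i) (Z.basicOpen_le r.1) m)
    refine (κ_natural i hU hV e hUr hV (er r) (Z.basicOpen_le r.1) (le_refl V)
      (Algebra.H1Cotangent.map Γ(X, V) Γ(X, V) Γ(Z, U) Γ(Z, Z.basicOpen r.1)).toAddMonoidHom
      ?_ ?_ m).symm
    · intro b x
      change Algebra.H1Cotangent.map Γ(X, V) Γ(X, V) Γ(Z, U) Γ(Z, Z.basicOpen r.1) (b • x) = _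
      rw [map_smul]
      exact (algebraMap_smul Γ(Z, Z.basicOpen r.1) b _).symm
    · intro x hx hx'
      change Algebra.H1Cotangent.map Γ(X, V) Γ(X, V) Γ(Z, U) Γ(Z, Z.basicOpen r.1) (h1C x hx) = _
      rw [map_h1C]
      exact h1C_congr (hres_self x).symm _ _
  rw [hcomp]
  exact hbij

end Loc

section Final

variable {Z X : Scheme.{u}} (i : Z ⟶ X) [IsImmersion i] [QuasiCompact i]

/-- the conormal sheaf of a quasi-compact immersion is `H⁻¹` of the naive cotangent complex. -/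
noncomputable def h1Sheaf : NLCx.H1Sheaf i (Omega.conormal i) where
  iso U V e := AddEquiv.ofBijective (κ i U.2 V.2 e).toAddMonoidHom (κ_bijective i U.2 V.2 e)
  map_smul U V e a m := map_smul (κ i U.2 V.2 e) a m
  map_res e e' hU hV m := κ_chartRes i e e' hU hV m

omit [QuasiCompact i] in
theorem subsingleton_kaehler :
    NLCx.OnCharts i (fun A B _ _ _ => Subsingleton (Ω[B⁄A])) := by
  intro U V e
  haveI : IsIso (pullback.diagonal i) := (pullback.isIso_diagonal_iff i).2 inferInstance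
  haveI : FormallyUnramified i := inferInstance
  have h := Scheme.Hom.formallyUnramified_appLE i V.2 U.2 e
  letI := (i.appLE (V : X.Opens) (U : Z.Opens) e).hom.toAlgebra
  have h' : Algebra.FormallyUnramified Γ(X, (V : X.Opens)) Γ(Z, (U : Z.Opens)) := h
  exact h'.subsingleton_kaehlerDifferential

end Final

end Groth.Agent.Lib.Helper29.H1Sh
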