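import Mathlib
import Groth.Prelude.Def_W4c2conddiscmodels

/-!
Continuants of Hirzebruch–Jung continued fractions, and the Casoratian identity for the
tridiagonal system `c_i μ_{i+1} = μ_i + μ_{i+2}`.
-/

set_option autoImplicit false

namespace Groth.Agent.Lib.Helper29.HJ

/-- the continuant pair `(P, Q)` of `[c 0, …, c (l-1)]`: `hjVal = P / Q`, `(P, Q) [] = (1, 0)`. -/
def PQ : ℕ → (ℕ → ℤ) → ℤ × ℤ
  | 0, _ => (1, 0)
  | l + 1, c => (c 0 * (PQ l (fun j => c (j + 1))).1 - (PQ l (fun j => c (j + 1))).2,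
      (PQ l (fun j => c (j + 1))).1)

lemma PQ_zero (c : ℕ → ℤ) : PQ 0 c = (1, 0) := rfl

lemma PQ_succ (l : ℕ) (c : ℕ → ℤ) :
    PQ (l + 1) c = (c 0 * (PQ l (fun j => c (j + 1))).1 - (PQ l (fun j => c (j + 1))).2,
      (PQ l (fun j => c (j + 1))).1) := rfl

lemma list_eq (l : ℕ) (c : ℕ → ℤ) :
    (List.range (l + 1)).map c = c 0 :: (List.range l).map (fun j => c (j + 1)) := by
  rw [List.range_succ_eq_map, List.map_cons, List.map_map]
  rfl

lemma PQ_pos (l : ℕ) (c : ℕ → ℤ) (hc : ∀ j < l, 2 ≤ c j) :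
    0 ≤ (PQ l c).2 ∧ (PQ l c).2 < (PQ l c).1 := by
  induction l generalizing c with
  | zero => simp [PQ]
  | succ l ih =>
    have h := ih (fun j => c (j + 1)) (fun j hj => hc (j + 1) (by omega))
    have h0 := hc 0 (by omega)
    rw [PQ_succ]
    dsimp only
    constructor
    · linarith [h.1, h.2]
    · nlinarith [h.1, h.2, mul_nonneg (sub_nonneg.mpr h0) (le_of_lt (lt_of_le_of_lt h.1 h.2))]

lemma PQ_coprime (l : ℕ) (c : ℕ → ℤ) : IsCoprime (PQ l c).1 (PQ l c).2 := by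
  induction l generalizing c with
  | zero => exact isCoprime_one_left
  | succ l ih =>
    have h := ih (fun j => c (j + 1))
    rw [PQ_succ]
    dsimp only
    have h1 : IsCoprime (-(PQ l (fun j => c (j + 1))).2 + c 0 * (PQ l (fun j => c (j + 1))).1)
        (PQ l (fun j => c (j + 1))).1 := (h.symm.neg_left).add_mul_right_left _
    have e : c 0 * (PQ l (fun j => c (j + 1))).1 - (PQ l (fun j => c (j + 1))).2 =
        -(PQ l (fun j => c (j + 1))).2 + c 0 * (PQ l (fun j => c (j + 1))).1 := by ring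
    rw [e]
    exact h1

lemma hjVal_eq (l : ℕ) (c : ℕ → ℤ) (hc : ∀ j < l, 2 ≤ c j) :
    HJFrac.hjVal ((List.range l).map c) = ((PQ l c).1 : ℚ) / ((PQ l c).2 : ℚ) := by
  induction l generalizing c with
  | zero => simp [PQ, HJFrac.hjVal]
  | succ l ih =>
    have hc' : ∀ j < l, 2 ≤ c (j + 1) := fun j hj => hc (j + 1) (by omega)
    rw [list_eq, HJFrac.hjVal, ih _ hc', PQ_succ]
    have hp := PQ_pos l (fun j => c (j + 1)) hc'
    have hne : ((PQ l (fun j => c (j + 1))).1 : ℚ) ≠ 0 := by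
      have : (0 : ℤ) < (PQ l (fun j => c (j + 1))).1 := lt_of_le_of_lt hp.1 hp.2
      exact_mod_cast this.ne'
    dsimp only
    rw [inv_div]
    push_cast
    field_simp

/-- Casoratian identity. -/
lemma casorati (l : ℕ) (c : ℕ → ℤ) (μ : ℕ → ℤ)
    (hs : ∀ i < l, c i * μ (i + 1) = μ i + μ (i + 2)) :
    μ 0 * (PQ l c).2 - μ 1 * (PQ l c).1 = -μ (l + 1) := by
  induction l generalizing c μ with
  | zero => simp [PQ]
  | succ l ih =>
    have h := ih (fun j => c (j + 1)) (fun i => μ (i + 1)) (fun i hi => hs (i + 1) (by omega))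
    have h0 := hs 0 (by omega)
    rw [PQ_succ]
    dsimp only at h ⊢
    linear_combination h - (PQ l (fun j => c (j + 1))).1 * h0

lemma sum_eq (l : ℕ) (c : ℕ → ℤ) (μ : ℕ → ℤ)
    (hs : ∀ i < l, c i * μ (i + 1) = μ i + μ (i + 2)) (hμ : ∀ i ≤ l + 1, μ i ≠ 0) :
    ∑ i ∈ Finset.range (l + 1), 1 / ((μ i : ℚ) * (μ (i + 1) : ℚ)) =
      ((PQ l c).1 : ℚ) / ((μ 0 : ℚ) * (μ (l + 1) : ℚ)) := by
  induction l generalizing c μ with
  | zero => simp [PQ]
  | succ l ih =>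
    have hs' : ∀ i < l, c (i + 1) * μ (i + 1 + 1) = μ (i + 1) + μ (i + 1 + 2) :=
      fun i hi => hs (i + 1) (by omega)
    have h := ih (fun j => c (j + 1)) (fun i => μ (i + 1)) hs' (fun i hi => hμ (i + 1) (by omega))
    have hB := casorati l (fun j => c (j + 1)) (fun i => μ (i + 1)) hs'
    have h0 := hs 0 (by omega)
    rw [Finset.sum_range_succ', h, PQ_succ]
    dsimp only at hB ⊢
    have hB' : (μ 1 : ℚ) * ((PQ l (fun j => c (j + 1))).2 : ℚ) -
        (μ 2 : ℚ) * ((PQ l (fun j => c (j + 1))).1 : ℚ) = -(μ (l + 2) : ℚ) := by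
      exact_mod_cast hB
    have h0' : (c 0 : ℚ) * (μ 1 : ℚ) = (μ 0 : ℚ) + (μ 2 : ℚ) := by exact_mod_cast h0
    have n0 : (μ 0 : ℚ) ≠ 0 := by exact_mod_cast hμ 0 (by omega)
    have n1 : (μ 1 : ℚ) ≠ 0 := by exact_mod_cast hμ 1 (by omega)
    have n2 : (μ (l + 1 + 1) : ℚ) ≠ 0 := by exact_mod_cast hμ (l + 1 + 1) (by omega)
    push_cast
    rw [div_add_div _ _ (mul_ne_zero n1 n2) (mul_ne_zero n0 n1),
      div_eq_div_iff (mul_ne_zero (mul_ne_zero n1 n2) (mul_ne_zero n0 n1)) (mul_ne_zero n0 n2)]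
    linear_combination ((μ 0 : ℚ) * (μ 1 : ℚ) * (μ (l + 1 + 1) : ℚ)) * hB' +
      (-(μ 0 : ℚ) * (μ 1 : ℚ) * (μ (l + 1 + 1) : ℚ) * ((PQ l (fun j => c (j + 1))).1 : ℚ)) * h0'

lemma P_eq (l : ℕ) (b : ℕ → ℤ) (hb : ∀ i, 1 ≤ i → i ≤ l → 2 ≤ b i) (n r : ℕ) (hr : 0 < r)
    (hrn : r < n) (hcop : Nat.Coprime r n)
    (hhj : (n : ℚ) / r = HJFrac.hjVal ((List.range l).map fun i => b (i + 1))) :
    (PQ l (fun j => b (j + 1))).1 = (n : ℤ) := by
  have hc : ∀ j < l, 2 ≤ (fun j => b (j + 1)) j := fun j hj => hb (j + 1) (by omega) (by omega)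
  rw [hjVal_eq l (fun j => b (j + 1)) hc] at hhj
  have hpos := PQ_pos l (fun j => b (j + 1)) hc
  have hcp := PQ_coprime l (fun j => b (j + 1))
  set P := (PQ l (fun j => b (j + 1))).1 with hP
  set Q := (PQ l (fun j => b (j + 1))).2 with hQ
  have hn : 0 < n := lt_trans hr hrn
  have hQ0 : Q ≠ 0 := by
    intro h0
    rw [h0] at hhj
    simp only [Int.cast_zero, div_zero] at hhj
    have : (n : ℚ) / r ≠ 0 := by positivity
    exact this hhj
  have hrq : (r : ℚ) ≠ 0 := by positivity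
  have hQq : (Q : ℚ) ≠ 0 := by exact_mod_cast hQ0
  rw [div_eq_div_iff hrq hQq] at hhj
  have hZ : (n : ℤ) * Q = P * (r : ℤ) := by exact_mod_cast hhj
  have hcop' : IsCoprime (n : ℤ) (r : ℤ) := (Nat.isCoprime_iff_coprime.mpr hcop).symm
  have d1 : (n : ℤ) ∣ P := hcop'.dvd_of_dvd_mul_right ⟨Q, hZ.symm⟩
  have d2 : P ∣ (n : ℤ) := hcp.dvd_of_dvd_mul_right ⟨(r : ℤ), hZ⟩
  exact Int.dvd_antisymm (by linarith [hpos.1, hpos.2]) (by positivity) d2 d1

end Groth.Agent.Lib.Helper29.HJ
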