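import Mathlib
import Groth.Agent.Lib.Helper29.HJFrac
import Groth.Prelude.Def_W4c2invhilbsl2HJ

/-!
Forward continuants `hjP`, `hjQ` of the Prelude versus the backward continuants `PQ`.
-/

set_option autoImplicit false

namespace Groth.Agent.Lib.Helper29.HJ

open W4c2invhilbsl2

/-- the digit function of a list. -/
def cf (c : List ℤ) (j : ℕ) : ℤ := c.getD j 0

lemma list_eq_map (c : List ℤ) : c = (List.range c.length).map (cf c) := by
  apply List.ext_getElem
  · simp
  · intro i h1 h2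
    simp [cf, List.getElem?_eq_getElem h1]

lemma cf_ge (c : List ℤ) (hc : ∀ x ∈ c, (2 : ℤ) ≤ x) (j : ℕ) (hj : j < c.length) : 2 ≤ cf c j := by
  rw [cf, List.getD_eq_getElem _ _ hj]
  exact hc _ (List.getElem_mem hj)

lemma hjP_succ_succ (c : List ℤ) (i : ℕ) : hjP c (i + 2) = cf c i * hjP c (i + 1) - hjP c i := rfl
lemma hjQ_succ_succ (c : List ℤ) (i : ℕ) : hjQ c (i + 2) = cf c i * hjQ c (i + 1) - hjQ c i := rfl

/-- transfer along the suffix continuants. -/
lemma fwd (cfun : ℕ → ℤ) (x : ℕ → ℤ) (hx : ∀ i, x (i + 2) = cfun i * x (i + 1) - x i) (k i : ℕ) :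
    x (i + 1) * (PQ k (fun j => cfun (j + i))).1 - x i * (PQ k (fun j => cfun (j + i))).2 =
      x (i + k + 1) := by
  induction k generalizing i with
  | zero => simp [PQ]
  | succ k ih =>
    rw [PQ_succ]
    have e : (fun j => (fun j => cfun (j + i)) (j + 1)) = (fun j => cfun (j + (i + 1))) := by
      funext j
      show cfun (j + 1 + i) = cfun (j + (i + 1))
      congr 1
      omega
    rw [e]
    have h := ih (i + 1)
    rw [hx i] at h
    have e2 : i + (k + 1) + 1 = i + 1 + k + 1 := by omega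
    rw [e2, ← h]
    simp only [Nat.zero_add]
    ring

/-- The Casoratian of `(hjP, hjQ)` is `1`. -/
lemma wronski (c : List ℤ) (i : ℕ) :
    hjQ c (i + 1) * hjP c i - hjP c (i + 1) * hjQ c i = 1 := by
  induction i with
  | zero => simp [hjP, hjQ]
  | succ i ih =>
    rw [hjP_succ_succ, hjQ_succ_succ]
    linear_combination ih

/-- the backward continuant of the suffix starting at `i`. -/
def suf (c : List ℤ) (i : ℕ) : ℤ × ℤ := PQ (c.length - i) (fun j => cf c (j + i))

lemma suf_pos (c : List ℤ) (hc : ∀ x ∈ c, (2 : ℤ) ≤ x) (i : ℕ) :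
    0 ≤ (suf c i).2 ∧ (suf c i).2 < (suf c i).1 := by
  apply PQ_pos
  intro j hj
  exact cf_ge c hc _ (by omega)

lemma suf_succ (c : List ℤ) (i : ℕ) (hi : i < c.length) :
    (suf c i).2 = (suf c (i + 1)).1 := by
  unfold suf
  have e : c.length - i = (c.length - (i + 1)) + 1 := by omega
  rw [e, PQ_succ]
  dsimp only
  congr 2
  funext j
  congr 1
  omega

lemma suf_len (c : List ℤ) : suf c c.length = (1, 0) := by
  unfold suf
  rw [Nat.sub_self]
  rfl

/-- `P_{r+1}` and `Q_{r+1}` are the backward continuants of the whole list. -/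
lemma hjP_last (c : List ℤ) : hjP c (c.length + 1) = (PQ c.length (cf c)).1 := by
  have h := fwd (cf c) (hjP c) (hjP_succ_succ c) c.length 0
  simp only [Nat.zero_add, Nat.add_zero] at h
  rw [← h]
  simp [hjP]

lemma hjQ_last (c : List ℤ) : hjQ c (c.length + 1) = (PQ c.length (cf c)).2 := by
  have h := fwd (cf c) (hjQ c) (hjQ_succ_succ c) c.length 0
  simp only [Nat.zero_add, Nat.add_zero] at h
  rw [← h]
  simp [hjQ]

/-- `s_i := Q_{r+1} P_i - P_{r+1} Q_i` equals the first suffix continuant, for `i ≤ r`. -/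
lemma s_eq_suf (c : List ℤ) (i : ℕ) (hi : i ≤ c.length) :
    hjQ c (c.length + 1) * hjP c i - hjP c (c.length + 1) * hjQ c i = (suf c i).1 := by
  have hP := fwd (cf c) (hjP c) (hjP_succ_succ c) (c.length - i) i
  have hQ := fwd (cf c) (hjQ c) (hjQ_succ_succ c) (c.length - i) i
  have e : i + (c.length - i) + 1 = c.length + 1 := by omega
  rw [e] at hP hQ
  have hW := wronski c i
  unfold suf
  rw [← hP, ← hQ]
  linear_combination (PQ (c.length - i) (fun j => cf c (j + i))).1 * hW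

/-- identification of the continuants with numerator and denominator of a reduced fraction. -/
lemma PQ_eq_of_div (l : ℕ) (cfun : ℕ → ℤ) (hc : ∀ j < l, 2 ≤ cfun j) (n r : ℕ) (hr : 0 < r)
    (hn : 0 < n) (hcop : Nat.Coprime r n)
    (hhj : HJFrac.hjVal ((List.range l).map cfun) = (n : ℚ) / r) :
    (PQ l cfun).1 = (n : ℤ) ∧ (PQ l cfun).2 = (r : ℤ) := by
  rw [hjVal_eq l cfun hc] at hhj
  have hpos := PQ_pos l cfun hc
  have hcp := PQ_coprime l cfun
  set P := (PQ l cfun).1 with hP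
  set Q := (PQ l cfun).2 with hQ
  have hQ0 : Q ≠ 0 := by
    intro h0
    rw [h0] at hhj
    simp only [Int.cast_zero, div_zero] at hhj
    have : (n : ℚ) / r ≠ 0 := by positivity
    exact this hhj.symm
  have hrq : (r : ℚ) ≠ 0 := by positivity
  have hQq : (Q : ℚ) ≠ 0 := by exact_mod_cast hQ0
  rw [div_eq_div_iff hQq hrq] at hhj
  have hZ : P * (r : ℤ) = (n : ℤ) * Q := by exact_mod_cast hhj
  have hcop' : IsCoprime (n : ℤ) (r : ℤ) := (Nat.isCoprime_iff_coprime.mpr hcop).symm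
  have d1 : (n : ℤ) ∣ P := hcop'.dvd_of_dvd_mul_right ⟨Q, hZ⟩
  have d2 : P ∣ (n : ℤ) := hcp.dvd_of_dvd_mul_right ⟨(r : ℤ), hZ.symm⟩
  have hPn : P = (n : ℤ) :=
    Int.dvd_antisymm (by linarith [hpos.1, hpos.2]) (by positivity) d2 d1
  refine ⟨hPn, ?_⟩
  rw [hPn] at hZ
  have hn' : (n : ℤ) ≠ 0 := by positivity
  exact (mul_left_cancel₀ hn' hZ).symm

section arith

variable (p q m : ℕ)

lemma g_pos (hm : 0 < m) : 0 < gcdK p q m := Nat.gcd_pos_of_pos_left _ hm

lemma g_mul_b : gcdK p q m * bB p q m = q - p :=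
  Nat.mul_div_cancel' (Nat.gcd_dvd_right _ _)

lemma g_dvd_beta : gcdK p q m ∣ m * p % (q - p) :=
  (Nat.dvd_mod_iff (Nat.gcd_dvd_right m (q - p))).mpr
    (Dvd.dvd.mul_right (Nat.gcd_dvd_left m (q - p)) p)

lemma g_mul_t : gcdK p q m * tT p q m = q - p - m * p % (q - p) :=
  Nat.mul_div_cancel' (Nat.dvd_sub (Nat.gcd_dvd_right _ _) (g_dvd_beta p q m))

lemma beta_lt (hpq : p < q) : m * p % (q - p) < q - p := Nat.mod_lt _ (by omega)

lemma t_pos (hpq : p < q) (hm : 0 < m) : 0 < tT p q m := by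
  have h := g_mul_t p q m
  have hb := beta_lt p q m hpq
  rcases Nat.eq_zero_or_pos (tT p q m) with h0 | h0
  · rw [h0, Nat.mul_zero] at h
    omega
  · exact h0

lemma b_pos (hpq : p < q) : 0 < bB p q m := by
  have h := g_mul_b p q m
  rcases Nat.eq_zero_or_pos (bB p q m) with h0 | h0
  · rw [h0, Nat.mul_zero] at h
    omega
  · exact h0

lemma coprime_t_b (hpq : p < q) (hcop : Nat.Coprime p q) (hm : 0 < m) :
    Nat.Coprime (tT p q m) (bB p q m) := by
  set g := gcdK p q m with hg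
  set k := Nat.gcd (tT p q m) (bB p q m) with hk
  have hgpos : 0 < g := g_pos p q m hm
  have h1 : g * k ∣ q - p - m * p % (q - p) := by
    rw [← g_mul_t p q m]
    exact Nat.mul_dvd_mul_left g (Nat.gcd_dvd_left _ _)
  have h2 : g * k ∣ q - p := by
    rw [← g_mul_b p q m]
    exact Nat.mul_dvd_mul_left g (Nat.gcd_dvd_right _ _)
  have hb := beta_lt p q m hpq
  have h3 : g * k ∣ m * p % (q - p) := by
    have : m * p % (q - p) = (q - p) - (q - p - m * p % (q - p)) := by omega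
    rw [this]
    exact Nat.dvd_sub h2 h1
  have h4 : g * k ∣ m * p := by
    rw [← Nat.div_add_mod (m * p) (q - p)]
    exact dvd_add (Dvd.dvd.mul_right h2 _) h3
  have hcp : Nat.Coprime (q - p) p := by
    have : Nat.Coprime q p := hcop.symm
    exact (Nat.coprime_sub_self_left hpq.le).mpr this
  have h5 : Nat.Coprime (g * k) p := Nat.Coprime.coprime_dvd_left h2 hcp
  have h6 : g * k ∣ m := h5.dvd_of_dvd_mul_right h4
  have h7 : g * k ∣ g := Nat.dvd_gcd h6 h2
  have h8 : k ∣ 1 := by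
    have : g * k ∣ g * 1 := by rwa [Nat.mul_one]
    exact (Nat.mul_dvd_mul_iff_left hgpos).mp this
  exact Nat.dvd_one.mp h8

lemma nN_eq (hpq : p < q) (c : List ℤ) (i : ℕ) :
    nN p q m c i = (gcdK p q m : ℤ) * ((tT p q m : ℤ) * hjP c i - (bB p q m : ℤ) * hjQ c i) := by
  obtain ⟨α, hα⟩ : ∃ α, α = m * p / (q - p) := ⟨_, rfl⟩
  obtain ⟨β, hβ⟩ : ∃ β, β = m * p % (q - p) := ⟨_, rfl⟩
  have h1 : ((gcdK p q m : ℕ) : ℤ) * (bB p q m : ℤ) = (q : ℤ) - p := by
    have := g_mul_b p q m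
    have h : ((gcdK p q m * bB p q m : ℕ) : ℤ) = ((q - p : ℕ) : ℤ) := by rw [this]
    rw [Nat.cast_sub hpq.le, Nat.cast_mul] at h
    exact h
  have hb : β < q - p := hβ ▸ beta_lt p q m hpq
  have h2 : ((gcdK p q m : ℕ) : ℤ) * (tT p q m : ℤ) = (q : ℤ) - p - (β : ℤ) := by
    have := g_mul_t p q m
    rw [← hβ] at this
    have h : ((gcdK p q m * tT p q m : ℕ) : ℤ) = ((q - p - β : ℕ) : ℤ) := by rw [this]
    rw [Nat.cast_sub hb.le, Nat.cast_sub hpq.le, Nat.cast_mul] at h
    exact h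
  have h3 : (m : ℤ) * p = ((q : ℤ) - p) * (α : ℤ) + (β : ℤ) := by
    have := Nat.div_add_mod (m * p) (q - p)
    rw [← hα, ← hβ] at this
    have h : (((q - p) * α + β : ℕ) : ℤ) = ((m * p : ℕ) : ℤ) := by rw [this]
    rw [Nat.cast_add, Nat.cast_mul, Nat.cast_sub hpq.le, Nat.cast_mul] at h
    exact h.symm
  unfold nN eE lL alpha
  rw [← hα]
  push_cast
  linear_combination (-(hjP c i)) * h2 + (hjQ c i) * h1 + (-(hjP c i)) * h3

end arith

/-- Under `IsHJDigits`, the continuants of the whole list are `(b, t)`. -/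
lemma PQ_of_isHJDigits (p q m : ℕ) (hpq : p < q) (hcop : Nat.Coprime p q) (hm : 0 < m)
    (c : List ℤ) (hc : IsHJDigits p q m c) :
    hjP c (c.length + 1) = (bB p q m : ℤ) ∧ hjQ c (c.length + 1) = (tT p q m : ℤ) := by
  rw [hjP_last, hjQ_last]
  apply PQ_eq_of_div c.length (cf c) (fun j hj => cf_ge c hc.1 j hj) _ _
    (t_pos p q m hpq hm) (b_pos p q m hpq) (coprime_t_b p q m hpq hcop hm)
  rw [← list_eq_map c]
  exact hc.2

end Groth.Agent.Lib.Helper29.HJ
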