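import Mathlib
import Groth.Agent.Lib.Helper29.HJFrac2

/-!
Best-approximation bounds for Hirzebruch–Jung continued fractions.
-/

set_option autoImplicit false

namespace Groth.Agent.Lib.Helper29.HJ

open W4c2invhilbsl2

/-- abstract lower bound in a unimodular basis. -/
lemma lattice_lower (P₀ P₁ s₀ s₁ A B : ℤ) (hP0 : 0 < P₀) (hP : P₀ < P₁) (hs1 : 0 < s₁)
    (hs : s₁ < s₀) (hx0 : 0 < A * P₀ + B * P₁) (hx1 : A * P₀ + B * P₁ < P₁)
    (hρ : 0 ≤ A * s₀ + B * s₁) : s₀ ≤ A * s₀ + B * s₁ := by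
  rcases le_or_gt A 0 with hA | hA
  · rcases le_or_gt B 0 with hB | hB
    · exfalso
      nlinarith [mul_nonneg (neg_nonneg.mpr hA) hP0.le,
        mul_nonneg (neg_nonneg.mpr hB) (hP0.le.trans hP.le)]
    · exfalso
      -- A ≤ 0, B ≥ 1
      have hAB : 1 ≤ A + B := by
        by_contra hcon
        push_neg at hcon
        have h1 : A + B ≤ 0 := by omega
        have h2 : A ≤ -1 := by omega
        nlinarith [mul_nonneg (neg_nonneg.mpr h1) hs1.le,
          mul_pos (show (0 : ℤ) < -A by omega) (show (0 : ℤ) < s₀ - s₁ by omega)]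
      nlinarith [mul_nonneg (show (0 : ℤ) ≤ A + B - 1 by omega) (hP0.le.trans hP.le),
        mul_nonneg (neg_nonneg.mpr hA) (show (0 : ℤ) ≤ P₁ - P₀ by omega)]
  · rcases le_or_gt 0 B with hB | hB
    · nlinarith [mul_nonneg (show (0 : ℤ) ≤ A - 1 by omega) (hs1.le.trans hs.le),
        mul_nonneg hB hs1.le]
    · -- A ≥ 1, B ≤ -1
      have hAB : 1 ≤ A + B := by
        by_contra hcon
        push_neg at hcon
        have h1 : A + B ≤ 0 := by omega
        nlinarith [mul_nonneg (neg_nonneg.mpr h1) hP0.le,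
          mul_pos (show (0 : ℤ) < -B by omega) (show (0 : ℤ) < P₁ - P₀ by omega)]
      nlinarith [mul_nonneg (show (0 : ℤ) ≤ A + B - 1 by omega) (hs1.le.trans hs.le),
        mul_nonneg (show (0 : ℤ) ≤ -B by omega) (show (0 : ℤ) ≤ s₀ - s₁ by omega)]

/-- abstract upper bound in a unimodular basis. -/
lemma lattice_upper (P₀ P₁ s₀ s₁ a β : ℤ) (hP0 : 0 < P₀) (hP : P₀ < P₁) (hs1 : 0 < s₁)
    (hs : s₁ < s₀) (hx1 : -P₀ < a * P₀ + β * P₁) (hx2 : a * P₀ + β * P₁ < P₁ - P₀)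
    (hρ : 0 < (a + 1) * s₀ + (β - 1) * s₁) : 0 ≤ a * s₀ + β * s₁ := by
  rcases le_or_gt 0 a with ha | ha
  · rcases le_or_gt 0 β with hb | hb
    · nlinarith [mul_nonneg ha (hs1.le.trans hs.le), mul_nonneg hb hs1.le]
    · -- a ≥ 0, β ≤ -1
      have hab : 0 ≤ a + β := by
        by_contra hcon
        push_neg at hcon
        have h1 : a + β + 1 ≤ 0 := by omega
        nlinarith [mul_nonneg (neg_nonneg.mpr h1) hP0.le,
          mul_pos (show (0 : ℤ) < -β by omega) (show (0 : ℤ) < P₁ - P₀ by omega)]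
      nlinarith [mul_nonneg hab (hs1.le.trans hs.le),
        mul_nonneg (show (0 : ℤ) ≤ -β by omega) (show (0 : ℤ) ≤ s₀ - s₁ by omega)]
  · rcases le_or_gt β 0 with hb | hb
    · exfalso
      nlinarith [mul_nonneg (show (0 : ℤ) ≤ -(a + 1) by omega) (hs1.le.trans hs.le),
        mul_nonneg (neg_nonneg.mpr hb) hs1.le]
    · exfalso
      -- a ≤ -1, β ≥ 1
      have hab : a + β ≤ -1 := by
        by_contra hcon
        push_neg at hcon
        have h1 : 0 ≤ a + β := by omega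
        nlinarith [mul_nonneg h1 hP0.le,
          mul_nonneg (show (0 : ℤ) ≤ β - 1 by omega) (show (0 : ℤ) ≤ P₁ - P₀ by omega)]
      nlinarith [mul_nonneg (show (0 : ℤ) ≤ -(a + β) - 1 by omega) hs1.le,
        mul_nonneg (show (0 : ℤ) ≤ -(a + 1) by omega) (show (0 : ℤ) ≤ s₀ - s₁ by omega)]

/-- `P_i` is strictly increasing and nonnegative up to index `r + 1`. -/
lemma hjP_mono (c : List ℤ) (hc : ∀ x ∈ c, (2 : ℤ) ≤ x) (i : ℕ) (hi : i ≤ c.length) :
    0 ≤ hjP c i ∧ hjP c i < hjP c (i + 1) := by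
  induction i with
  | zero => simp [hjP]
  | succ i ih =>
    have h := ih (by omega)
    have h2 := cf_ge c hc i (by omega)
    rw [hjP_succ_succ]
    constructor
    · linarith [h.1, h.2]
    · nlinarith [h.1, h.2, mul_nonneg (sub_nonneg.mpr h2) (h.1.trans h.2.le)]

/-- the sequence `s_i = (suf c i).1` is antitone on `[0, r]`. -/
lemma suf_anti (c : List ℤ) (hc : ∀ x ∈ c, (2 : ℤ) ≤ x) (i j : ℕ) (hij : i ≤ j)
    (hj : j ≤ c.length) : (suf c j).1 ≤ (suf c i).1 := by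
  induction j with
  | zero =>
    have : i = 0 := by omega
    subst this
    exact le_rfl
  | succ j ih =>
    rcases Nat.eq_or_lt_of_le hij with h | h
    · subst h; exact le_rfl
    · have h1 := ih (by omega) (by omega)
      have h2 := suf_succ c j (by omega)
      have h3 := suf_pos c hc j
      linarith [h3.2]

lemma suf_strict (c : List ℤ) (hc : ∀ x ∈ c, (2 : ℤ) ≤ x) (i : ℕ) (hi : i < c.length) :
    (suf c (i + 1)).1 < (suf c i).1 := by
  rw [← suf_succ c i hi]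
  exact (suf_pos c hc i).2

lemma suf_ge_one (c : List ℤ) (hc : ∀ x ∈ c, (2 : ℤ) ≤ x) (i : ℕ) (hi : i ≤ c.length) :
    1 ≤ (suf c i).1 := by
  have h := suf_anti c hc i c.length hi le_rfl
  rw [suf_len] at h
  exact h

lemma gb_eq (p q m : ℕ) (hpq : p < q) :
    ((gcdK p q m : ℕ) : ℤ) * (bB p q m : ℤ) = (q : ℤ) - p := by
  have := g_mul_b p q m
  have h : ((gcdK p q m * bB p q m : ℕ) : ℤ) = ((q - p : ℕ) : ℤ) := by rw [this]
  rw [Nat.cast_sub hpq.le, Nat.cast_mul] at h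
  exact h

lemma pm_eq (p q m : ℕ) (hpq : p < q) :
    ∃ K : ℤ, (p : ℤ) * m = ((q : ℤ) - p) * K - ((gcdK p q m : ℕ) : ℤ) * (tT p q m : ℤ) := by
  obtain ⟨α, hα⟩ : ∃ α, α = m * p / (q - p) := ⟨_, rfl⟩
  obtain ⟨β, hβ⟩ : ∃ β, β = m * p % (q - p) := ⟨_, rfl⟩
  have hb : β < q - p := hβ ▸ beta_lt p q m hpq
  have h2 : ((gcdK p q m : ℕ) : ℤ) * (tT p q m : ℤ) = (q : ℤ) - p - (β : ℤ) := by
    have := g_mul_t p q m
    rw [← hβ] at this
    have h : ((gcdK p q m * tT p q m : ℕ) : ℤ) = ((q - p - β : ℕ) : ℤ) := by rw [this]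
    rw [Nat.cast_sub hb.le, Nat.cast_sub hpq.le, Nat.cast_mul] at h
    exact h
  have h3 : (m : ℤ) * p = ((q : ℤ) - p) * (α : ℤ) + (β : ℤ) := by
    have := Nat.div_add_mod (m * p) (q - p)
    rw [← hα, ← hβ] at this
    have h : (((q - p) * α + β : ℕ) : ℤ) = ((m * p : ℕ) : ℤ) := by rw [this]
    rw [Nat.cast_add, Nat.cast_mul, Nat.cast_sub hpq.le, Nat.cast_mul] at h
    exact h.symm
  refine ⟨(α : ℤ) + 1, ?_⟩
  linear_combination h3 + h2

/-- Best-approximation bounds: for `0 < x < P_{k+1}` (`1 ≤ k`, `k + 1 ≤ r`), the remainder of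
`t x` modulo `b` lies in `[s_k, b + s_{k+1} - s_k]`, where `s_i = t P_i - b Q_i`. -/
lemma bounds (c : List ℤ) (hc : ∀ x ∈ c, (2 : ℤ) ≤ x) (b t : ℤ)
    (hPl : hjP c (c.length + 1) = b) (hQl : hjQ c (c.length + 1) = t)
    (k : ℕ) (hk1 : 1 ≤ k) (hkr : k + 1 ≤ c.length) (x : ℤ) (hx0 : 0 < x) (hx : x < hjP c (k + 1)) :
    (t * hjP c k - b * hjQ c k) ≤ (t * x) % b ∧
      (t * x) % b ≤ b + (t * hjP c (k + 1) - b * hjQ c (k + 1)) - (t * hjP c k - b * hjQ c k) := by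
  have hs0 : t * hjP c k - b * hjQ c k = (suf c k).1 := by
    rw [← hPl, ← hQl]; exact s_eq_suf c k (by omega)
  have hs1 : t * hjP c (k + 1) - b * hjQ c (k + 1) = (suf c (k + 1)).1 := by
    rw [← hPl, ← hQl]; exact s_eq_suf c (k + 1) hkr
  have hb0 : b = (suf c 0).1 := by
    have := s_eq_suf c 0 (by omega)
    rw [hPl, hQl] at this
    simp only [hjP, hjQ] at this
    linarith
  have hbpos : 0 < b := by
    rw [hb0]; exact suf_ge_one c hc 0 (by omega)
  set P₀ := hjP c k with hP₀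
  set P₁ := hjP c (k + 1) with hP₁
  set Q₀ := hjQ c k with hQ₀
  set Q₁ := hjQ c (k + 1) with hQ₁
  have hdet : Q₁ * P₀ - P₁ * Q₀ = 1 := wronski c k
  have hP0pos : 0 < P₀ := by
    obtain ⟨j, rfl⟩ : ∃ j, k = j + 1 := ⟨k - 1, by omega⟩
    have := hjP_mono c hc j (by omega)
    linarith [this.1, this.2]
  have hPlt : P₀ < P₁ := (hjP_mono c hc k (by omega)).2
  have hs1pos : 0 < t * P₁ - b * Q₁ := by
    rw [hs1]; exact suf_ge_one c hc (k + 1) hkr
  have hslt : t * P₁ - b * Q₁ < t * P₀ - b * Q₀ := by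
    rw [hs1, hs0]; exact suf_strict c hc k (by omega)
  set ρ := (t * x) % b with hρ
  set y := (t * x) / b with hy
  have hdiv : t * x = b * y + ρ := (Int.mul_ediv_add_emod (t * x) b).symm
  have hρ0 : 0 ≤ ρ := Int.emod_nonneg _ hbpos.ne'
  have hρb : ρ < b := Int.emod_lt_of_pos _ hbpos
  set A := x * Q₁ - y * P₁ with hA
  set B := y * P₀ - x * Q₀ with hB
  have hxAB : A * P₀ + B * P₁ = x := by
    rw [hA, hB]; linear_combination x * hdet
  have hρAB : A * (t * P₀ - b * Q₀) + B * (t * P₁ - b * Q₁) = ρ := by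
    rw [hA, hB]; linear_combination (t * x - b * y) * hdet + hdiv
  have hbdet : P₁ * (t * P₀ - b * Q₀) - P₀ * (t * P₁ - b * Q₁) = b := by
    linear_combination b * hdet
  constructor
  · have := lattice_lower P₀ P₁ (t * P₀ - b * Q₀) (t * P₁ - b * Q₁) A B hP0pos hPlt hs1pos hslt
      (by rw [hxAB]; exact hx0) (by rw [hxAB]; exact hx) (by rw [hρAB]; exact hρ0)
    rw [hρAB] at this
    exact this
  · have h1 : (P₁ - A - 1) * P₀ + (1 - P₀ - B) * P₁ = -x + P₁ - P₀ := by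
      linear_combination -hxAB
    have h2 : (P₁ - A - 1 + 1) * (t * P₀ - b * Q₀) + (1 - P₀ - B - 1) * (t * P₁ - b * Q₁) = b - ρ := by
      linear_combination hbdet - hρAB
    have h3 : (P₁ - A - 1) * (t * P₀ - b * Q₀) + (1 - P₀ - B) * (t * P₁ - b * Q₁) =
        b - ρ - (t * P₀ - b * Q₀) + (t * P₁ - b * Q₁) := by
      linear_combination hbdet - hρAB
    have := lattice_upper P₀ P₁ (t * P₀ - b * Q₀) (t * P₁ - b * Q₁) (P₁ - A - 1) (1 - P₀ - B)
      hP0pos hPlt hs1pos hslt (by rw [h1]; linarith) (by rw [h1]; linarith)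
      (by rw [h2]; linarith)
    rw [h3] at this
    linarith

end Groth.Agent.Lib.Helper29.HJ
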