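import Mathlib
import Groth.Agent.Lib.Helper29.HJFrac3
import Groth.Agent.S15733

/-!
The arithmetic claim behind the generators of the weight-`(n_i, 0)` piece.
-/

set_option autoImplicit false

namespace Groth.Agent.Lib.Helper29.HJ

open W4c2invhilbsl2

/-- `D l_i = n_i + p m P_i` and `e_i = l_i + m P_i`. -/
lemma eE_eq (p q m : ℕ) (c : List ℤ) (i : ℕ) :
    eE p q m c i = lL p q m c i + (m : ℤ) * hjP c i := by
  unfold eE lL
  push_cast
  ring

lemma D_lL (p q m : ℕ) (c : List ℤ) (i : ℕ) :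
    ((q : ℤ) - p) * lL p q m c i = nN p q m c i + (p : ℤ) * m * hjP c i := by
  unfold nN
  rw [eE_eq]
  ring

lemma nN_lt_D (p q m : ℕ) (hpq : p < q) (hcop : Nat.Coprime p q) (hm : 0 < m)
    (c : List ℤ) (hc : IsHJDigits p q m c) (i : ℕ) (hi : 1 ≤ i) (hir : i ≤ c.length) :
    0 < nN p q m c i ∧ nN p q m c i < (q : ℤ) - p := by
  obtain ⟨hPl, hQl⟩ := PQ_of_isHJDigits p q m hpq hcop hm c hc
  have hgpos : (0 : ℤ) < (gcdK p q m : ℤ) := by exact_mod_cast g_pos p q m hm
  have hs : (tT p q m : ℤ) * hjP c i - (bB p q m : ℤ) * hjQ c i = (suf c i).1 := by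
    rw [← hPl, ← hQl]; exact s_eq_suf c i hir
  have hb0 : (bB p q m : ℤ) = (suf c 0).1 := by
    have := s_eq_suf c 0 (by omega)
    rw [hPl, hQl] at this
    simp only [hjP, hjQ] at this
    linarith
  have h1 : 1 ≤ (suf c i).1 := suf_ge_one c hc.1 i hir
  have h2 : (suf c i).1 < (suf c 0).1 := by
    have h3 := suf_anti c hc.1 1 i hi hir
    have h4 := suf_strict c hc.1 0 (by omega)
    linarith
  rw [nN_eq p q m hpq c i, hs, ← gb_eq p q m hpq, hb0]
  constructor
  · positivity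
  · exact mul_lt_mul_of_pos_left h2 hgpos

lemma hjP_nonneg (c : List ℤ) (hc : ∀ x ∈ c, (2 : ℤ) ≤ x) (i : ℕ) (hi : i ≤ c.length) :
    0 ≤ hjP c i := (hjP_mono c hc i hi).1

/-- The key dichotomy for monomials of weight `(n_i, 0)`. -/
lemma dichotomy (p q m : ℕ) (hp : 0 < p) (hpq : p < q) (hcop : Nat.Coprime p q) (hm : 0 < m)
    (hnt : ¬ (q - p ∣ m)) (c : List ℤ) (hc : IsHJDigits p q m c) (i : ℕ) (hi : 1 ≤ i)
    (hir : i ≤ c.length) (d0 d1 d2 : ℕ)
    (h1 : (d0 : ℤ) - p * d1 + q * d2 = nN p q m c i) (h2 : (m : ℤ) ∣ (d2 : ℤ) - d1) :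
    nN p q m c i ≤ d0 ∨ (eE p q m c i ≤ d1 ∧ lL p q m c i ≤ d2) := by
  by_contra hcon
  push_neg at hcon
  obtain ⟨hd0, hcon⟩ := hcon
  obtain ⟨hn0, hnD⟩ := nN_lt_D p q m hpq hcop hm c hc i hi hir
  have hDpos : (0 : ℤ) < (q : ℤ) - p := by
    have : (p : ℤ) < q := by exact_mod_cast hpq
    linarith
  have hpz : (0 : ℤ) < p := by exact_mod_cast hp
  have hmz : (1 : ℤ) ≤ m := by exact_mod_cast hm
  obtain ⟨u, hu⟩ := h2
  -- d0 + D d1 + q m u = n_i
  have e1 : (d0 : ℤ) + ((q : ℤ) - p) * d1 + q * m * u = nN p q m c i := by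
    have : (d2 : ℤ) = d1 + m * u := by linarith
    rw [← h1, this]; ring
  have hd0' : (0 : ℤ) ≤ d0 := by positivity
  have hd1' : (0 : ℤ) ≤ d1 := by positivity
  have hd2' : (0 : ℤ) ≤ d2 := by positivity
  -- u ≤ 0
  have hu0 : u ≤ 0 := by
    by_contra hcu
    push_neg at hcu
    have hq : (p : ℤ) < q := by exact_mod_cast hpq
    have : (q : ℤ) * m * u ≥ q := by
      have h3 : (1 : ℤ) ≤ m * u := by nlinarith
      nlinarith
    nlinarith [mul_nonneg hDpos.le hd1']
  set x : ℤ := -u with hx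
  have hx0 : 0 ≤ x := by omega
  have e2 : (d0 : ℤ) + ((q : ℤ) - p) * d1 = nN p q m c i + q * m * x := by
    rw [hx]; linarith
  have hPnn : 0 ≤ hjP c i := hjP_nonneg c hc.1 i hir
  -- x ≥ P_i
  have hxP : hjP c i ≤ x := by
    by_contra hcx
    push_neg at hcx
    rcases hx0.eq_or_lt with hx00 | hxpos
    · -- x = 0
      rw [← hx00] at e2
      have : ((q : ℤ) - p) * d1 > 0 := by linarith
      have hd1pos : (1 : ℤ) ≤ d1 := by
        by_contra hh
        push_neg at hh
        have : (d1 : ℤ) = 0 := by omega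
        rw [this] at e2
        linarith
      nlinarith
    · -- 0 < x < P_i, so i > 1
      have hi1 : 1 < i := by
        by_contra hh
        push_neg at hh
        have : i = 1 := by omega
        subst this
        simp only [hjP] at hcx
        omega
      have hmod := Groth.Agent.S15733.result p q m hp hpq hcop hm hnt c hc i hi1 hir x hxpos hcx
      -- d0 ≡ n_i + p m x mod D and 0 ≤ d0 < D
      have hd0mod : ((p : ℤ) * m * x + nN p q m c i) % ((q : ℤ) - p) = d0 := by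
        have : (p : ℤ) * m * x + nN p q m c i = d0 + ((q : ℤ) - p) * (d1 - m * x) := by
          linarith [e2]
        rw [this, Int.add_mul_emod_self_left, Int.emod_eq_of_lt hd0' (by linarith)]
      have hnn : 0 ≤ Int.emod ((p : ℤ) * m * x) ((q : ℤ) - p) := Int.emod_nonneg _ hDpos.ne'
      have : Int.emod ((p : ℤ) * m * x + nN p q m c i) ((q : ℤ) - p) = d0 := hd0mod
      rw [this] at hmod
      linarith
  -- d2 ≥ l_i
  have hDl := D_lL p q m c i
  have e3 : ((q : ℤ) - p) * d2 = nN p q m c i + p * m * x - d0 := by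
    have : (d2 : ℤ) = d1 - m * x := by rw [hx]; linarith
    rw [this]
    linarith [e2]
  have hl : lL p q m c i ≤ d2 := by
    by_contra hh
    push_neg at hh
    have h3 : (d2 : ℤ) + 1 ≤ lL p q m c i := by omega
    have h4 : ((q : ℤ) - p) * ((d2 : ℤ) + 1) ≤ ((q : ℤ) - p) * lL p q m c i :=
      mul_le_mul_of_nonneg_left h3 hDpos.le
    have h5 : (0 : ℤ) ≤ (p : ℤ) * m * (x - hjP c i) := by
      apply mul_nonneg (by positivity) (by linarith)
    nlinarith
  refine absurd (hcon ?_) (not_lt.mpr hl)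
  rw [eE_eq]
  have : (d1 : ℤ) = d2 + m * x := by rw [hx]; linarith
  rw [this]
  have : (m : ℤ) * hjP c i ≤ m * x := mul_le_mul_of_nonneg_left hxP (by positivity)
  linarith

end Groth.Agent.Lib.Helper29.HJ
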