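import Mathlib
import Groth.Agent.Lib.Helper29.HJFrac4

/-!
Monomials `X₁^b X₂^c` of weight `(a, 0)` with `0 < a < n_{i-1}` are divisible by
`X₁^(e_i) X₂^(l_i)`.
-/

set_option autoImplicit false

namespace Groth.Agent.Lib.Helper29.HJ

open W4c2invhilbsl2

/-- `n_j ≤ q - p` for `j ≤ r`. -/
lemma nN_le_D (p q m : ℕ) (hpq : p < q) (hcop : Nat.Coprime p q) (hm : 0 < m)
    (c : List ℤ) (hc : IsHJDigits p q m c) (j : ℕ) (hjr : j ≤ c.length) :
    0 < nN p q m c j ∧ nN p q m c j ≤ (q : ℤ) - p := by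
  rcases Nat.eq_zero_or_pos j with h0 | h0
  · subst h0
    have : nN p q m c 0 = (q : ℤ) - p := by
      unfold nN eE lL
      simp only [hjP, hjQ]
      push_cast
      ring
    rw [this]
    have : (p : ℤ) < q := by exact_mod_cast hpq
    constructor <;> linarith
  · have := nN_lt_D p q m hpq hcop hm c hc j h0 hjr
    exact ⟨this.1, this.2.le⟩

lemma claimA (p q m : ℕ) (hp : 0 < p) (hpq : p < q) (hcop : Nat.Coprime p q) (hm : 0 < m)
    (c : List ℤ) (hc : IsHJDigits p q m c) (i : ℕ) (hi : 1 ≤ i)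
    (hir : i ≤ c.length) (d1 d2 : ℕ) (a : ℤ)
    (h1 : -(p : ℤ) * d1 + q * d2 = a) (h2 : (m : ℤ) ∣ (d2 : ℤ) - d1) (ha0 : 0 < a)
    (ha : a < nN p q m c (i - 1)) :
    eE p q m c i ≤ d1 ∧ lL p q m c i ≤ d2 := by
  obtain ⟨hn0, hnD⟩ := nN_lt_D p q m hpq hcop hm c hc i hi hir
  obtain ⟨hn0', hnD'⟩ := nN_le_D p q m hpq hcop hm c hc (i - 1) (by omega)
  have hDpos : (0 : ℤ) < (q : ℤ) - p := by
    have : (p : ℤ) < q := by exact_mod_cast hpq
    linarith
  have hpz : (0 : ℤ) < p := by exact_mod_cast hp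
  have hmz : (1 : ℤ) ≤ m := by exact_mod_cast hm
  have haD : a < (q : ℤ) - p := lt_of_lt_of_le ha hnD'
  obtain ⟨u, hu⟩ := h2
  have e1 : ((q : ℤ) - p) * d1 + q * m * u = a := by
    have : (d2 : ℤ) = d1 + m * u := by linarith
    rw [← h1, this]; ring
  have hd1' : (0 : ℤ) ≤ d1 := by positivity
  have hd2' : (0 : ℤ) ≤ d2 := by positivity
  have hu0 : u ≤ 0 := by
    by_contra hcu
    push Not at hcu
    have hq : (p : ℤ) < q := by exact_mod_cast hpq
    have : (q : ℤ) * m * u ≥ q := by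
      have h3 : (1 : ℤ) ≤ m * u := by nlinarith
      nlinarith
    nlinarith [mul_nonneg hDpos.le hd1']
  set x : ℤ := -u with hx
  have hx0 : 0 ≤ x := by omega
  have e2 : ((q : ℤ) - p) * d1 = a + q * m * x := by
    rw [hx]; linarith
  have e3 : ((q : ℤ) - p) * d2 = a + p * m * x := by
    have : (d2 : ℤ) = d1 - m * x := by rw [hx]; linarith
    rw [this]
    linarith [e2]
  have hxpos : 0 < x := by
    rcases hx0.eq_or_lt with hx00 | hxpos
    · exfalso
      rw [← hx00] at e2
      have h3 : ((q : ℤ) - p) * d1 = a := by linarith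
      have hd1pos : (1 : ℤ) ≤ d1 := by
        by_contra hh
        push Not at hh
        have : (d1 : ℤ) = 0 := by omega
        rw [this] at h3
        linarith
      nlinarith
    · exact hxpos
  have hPnn : 0 ≤ hjP c i := hjP_nonneg c hc.1 i hir
  have hxP : hjP c i ≤ x := by
    by_contra hcx
    push Not at hcx
    have hi1 : 1 < i := by
      by_contra hh
      push Not at hh
      have : i = 1 := by omega
      subst this
      simp only [hjP] at hcx
      omega
    obtain ⟨k, rfl⟩ : ∃ k, i = k + 1 := ⟨i - 1, by omega⟩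
    obtain ⟨hPl, hQl⟩ := PQ_of_isHJDigits p q m hpq hcop hm c hc
    have hb := (bounds c hc.1 _ _ hPl hQl k (by omega) hir x hxpos hcx).1
    have hgpos : (0 : ℤ) < (gcdK p q m : ℤ) := by exact_mod_cast g_pos p q m hm
    have hbpos : (0 : ℤ) < (bB p q m : ℤ) := by exact_mod_cast b_pos p q m hpq
    have hgb := gb_eq p q m hpq
    obtain ⟨K, hK⟩ := pm_eq p q m hpq
    -- a ≡ g t x mod g b
    have hcong : a = (gcdK p q m : ℤ) * ((tT p q m : ℤ) * x) +
        ((q : ℤ) - p) * (d2 - K * x) := by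
      linear_combination (-1 : ℤ) * e3 - x * hK
    -- a = g * a'
    have hga : (gcdK p q m : ℤ) ∣ a := by
      rw [hcong, ← hgb]
      exact dvd_add (dvd_mul_right _ _) (Dvd.dvd.mul_right (dvd_mul_right _ _) _)
    obtain ⟨a', ha'⟩ := hga
    have ha'mod : a' = ((tT p q m : ℤ) * x) % (bB p q m : ℤ) := by
      have h5 : a' = (tT p q m : ℤ) * x + (bB p q m : ℤ) * (d2 - K * x) := by
        apply mul_left_cancel₀ hgpos.ne'
        rw [← ha', hcong, ← hgb]; ring
      have h6 : 0 ≤ a' := by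
        by_contra hh
        push Not at hh
        nlinarith
      have h7 : a' < (bB p q m : ℤ) := by
        by_contra hh
        push Not at hh
        have : (gcdK p q m : ℤ) * (bB p q m : ℤ) ≤ (gcdK p q m : ℤ) * a' :=
          mul_le_mul_of_nonneg_left hh hgpos.le
        rw [hgb, ← ha'] at this
        linarith
      have h8 : (tT p q m : ℤ) * x = a' + (bB p q m : ℤ) * (-(d2 - K * x)) := by
        rw [h5]; ring
      rw [h8, Int.add_mul_emod_self_left, Int.emod_eq_of_lt h6 h7]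
    have hnk : nN p q m c k = (gcdK p q m : ℤ) * ((tT p q m : ℤ) * hjP c k - (bB p q m : ℤ) * hjQ c k) :=
      nN_eq p q m hpq c k
    have : nN p q m c k ≤ a := by
      rw [hnk, ha']
      apply mul_le_mul_of_nonneg_left _ hgpos.le
      rw [ha'mod]; exact hb
    simp only [Nat.add_sub_cancel] at ha
    linarith
  have hDl := D_lL p q m c i
  have hl : lL p q m c i ≤ d2 := by
    by_contra hh
    push Not at hh
    have h3 : (d2 : ℤ) + 1 ≤ lL p q m c i := by omega
    have h4 : ((q : ℤ) - p) * ((d2 : ℤ) + 1) ≤ ((q : ℤ) - p) * lL p q m c i :=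
      mul_le_mul_of_nonneg_left h3 hDpos.le
    have h5 : (0 : ℤ) ≤ (p : ℤ) * m * (x - hjP c i) := by
      apply mul_nonneg (by positivity) (by linarith)
    nlinarith
  refine ⟨?_, hl⟩
  rw [eE_eq]
  have : (d1 : ℤ) = d2 + m * x := by rw [hx]; linarith
  rw [this]
  have : (m : ℤ) * hjP c i ≤ m * x := mul_le_mul_of_nonneg_left hxP (by positivity)
  linarith

end Groth.Agent.Lib.Helper29.HJ
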