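import Groth.Agent.Lib.Helper29.HyperFinite
import Groth.Agent.Lib.Helper29.HyperVanish

/-!
# Hypercohomology of a bounded below complex with acyclic terms (helper29)

`hyperEquiv`: for an object `T` of an abelian category `C` and a bounded below cochain complex `K`
all of whose terms `K^p` satisfy `Hom_{D(C)}(T[0], K^p[q]) = 0` for `q > 0`, the group
`Hom_{D(C)}(T[0], K⟦n⟧)` is the `n`-th cohomology of the complex `Hom_C(T, K^•)`
(`classEquiv`: cocycles modulo coboundaries).  Method: the functor `Qh` from the homotopy category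
is bijective on `Hom(T[0], K)`, by the four lemma along the stupid filtration.
-/

universe w' w v u

open CategoryTheory CategoryTheory.Limits Pretriangulated

namespace Groth.Agent.Lib.Helper29.HyperAcyclic

variable {C : Type u} [Category.{v} C] [Abelian C] [HasDerivedCategory.{w} C]

open DerivedCategory Groth.Agent.Lib.Helper29.HyperVanish Groth.Agent.Lib.Helper29.HyperFinite

/-- the homotopy category -/
abbrev Kh (C : Type u) [Category.{v} C] [Abelian C] := HomotopyCategory C (ComplexShape.up ℤ)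

/-- the quotient functor -/
noncomputable abbrev qh : CochainComplex C ℤ ⥤ Kh C := HomotopyCategory.quotient C (ComplexShape.up ℤ)


def Inj (A B : Kh C) : Prop := Function.Injective (fun f : A ⟶ B => Qh.map f)
def Surj (A B : Kh C) : Prop := Function.Surjective (fun f : A ⟶ B => Qh.map f)

lemma Inj.of_iso {A B B' : Kh C} (e : B ≅ B') (h : Inj A B) : Inj A B' := by
  intro f g hfg
  have : f ≫ e.inv = g ≫ e.inv := by
    apply h
    change Qh.map (f ≫ e.inv) = Qh.map (g ≫ e.inv)
    rw [Functor.map_comp, Functor.map_comp]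
    exact congrArg (· ≫ Qh.map e.inv) hfg
  calc f = (f ≫ e.inv) ≫ e.hom := by simp
    _ = (g ≫ e.inv) ≫ e.hom := by rw [this]
    _ = g := by simp

lemma Surj.of_iso {A B B' : Kh C} (e : B ≅ B') (h : Surj A B) : Surj A B' := by
  intro φ
  obtain ⟨f, hf⟩ := h (φ ≫ Qh.map e.inv)
  refine ⟨f ≫ e.hom, ?_⟩
  change Qh.map (f ≫ e.hom) = φ
  have hf' : Qh.map f = φ ≫ Qh.map e.inv := hf
  rw [Functor.map_comp, hf', Category.assoc, ← Functor.map_comp, e.inv_hom_id,
    CategoryTheory.Functor.map_id, Category.comp_id]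

lemma inj_of_allZero {A B : Kh C} (h : ∀ f : A ⟶ B, f = 0) : Inj A B := by
  intro f g _
  rw [h f, h g]

lemma surj_of_allZero {A B : Kh C} (h : ∀ φ : Qh.obj A ⟶ Qh.obj B, φ = 0) : Surj A B := by
  intro φ
  exact ⟨0, by change Qh.map 0 = φ; rw [h φ, Functor.map_zero]⟩

/-- four lemma, injective part -/
theorem inj_mid (A : Kh C) (Δ : Triangle (Kh C)) (hΔ : Δ ∈ distTriang (Kh C))
    (h1 : Inj A Δ.obj₁) (h3 : Inj A Δ.obj₃) (h0 : Surj A (Δ.obj₃⟦(-1 : ℤ)⟧)) : Inj A Δ.obj₂ := by
  have key : ∀ f : A ⟶ Δ.obj₂, Qh.map f = 0 → f = 0 := by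
    intro f hf
    have hfg : f ≫ Δ.mor₂ = 0 := by
      apply h3
      change Qh.map (f ≫ Δ.mor₂) = Qh.map 0
      rw [Functor.map_comp, hf, zero_comp, Functor.map_zero]
    obtain ⟨x, hx⟩ := Triangle.coyoneda_exact₂ Δ hΔ f hfg
    have hΔ' := inv_rot_of_distTriang _ hΔ
    have hD := Functor.map_distinguished Qh _ hΔ'
    have hx0 : Qh.map x ≫ (Qh.mapTriangle.obj Δ.invRotate).mor₂ = 0 := by
      change Qh.map x ≫ Qh.map Δ.mor₁ = 0
      rw [← Functor.map_comp, ← hx, hf]
    obtain ⟨w', hw'⟩ := Triangle.coyoneda_exact₂ _ hD (Qh.map x) hx0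
    let m₁ : Δ.obj₃⟦(-1 : ℤ)⟧ ⟶ Δ.obj₁ := Δ.invRotate.mor₁
    have hw'' : Qh.map x = (w' : Qh.obj A ⟶ Qh.obj (Δ.obj₃⟦(-1 : ℤ)⟧)) ≫ Qh.map m₁ := hw'
    obtain ⟨w, hw⟩ := h0 w'
    have hw2 : Qh.map w = w' := hw
    have hxw : x = w ≫ m₁ := by
      apply h1
      change Qh.map x = Qh.map (w ≫ m₁)
      rw [Functor.map_comp, hw2]
      exact hw''
    rw [hx, hxw, Category.assoc]
    have : m₁ ≫ Δ.mor₁ = 0 := comp_distTriang_mor_zero₁₂ _ hΔ'
    rw [this, comp_zero]
  intro f g hfg
  have : f - g = 0 := by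
    apply key
    rw [Functor.map_sub]
    exact sub_eq_zero.mpr hfg
  exact sub_eq_zero.mp this

/-- four lemma, surjective part -/
theorem surj_mid (A : Kh C) (Δ : Triangle (Kh C)) (hΔ : Δ ∈ distTriang (Kh C))
    (h1 : Surj A Δ.obj₁) (h3 : Surj A Δ.obj₃) (h4 : Inj A (Δ.obj₁⟦(1 : ℤ)⟧)) : Surj A Δ.obj₂ := by
  intro φ
  have hD := Functor.map_distinguished Qh _ hΔ
  obtain ⟨z, hz⟩ := h3 (φ ≫ Qh.map Δ.mor₂)
  have hz' : Qh.map z = φ ≫ Qh.map Δ.mor₂ := hz
  have hzδ : z ≫ Δ.mor₃ = 0 := by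
    apply h4
    change Qh.map (z ≫ Δ.mor₃) = Qh.map 0
    rw [Functor.map_comp, hz', Category.assoc, ← Functor.map_comp,
      comp_distTriang_mor_zero₂₃ _ hΔ, Functor.map_zero, Functor.map_zero, comp_zero]
  obtain ⟨y, hy⟩ := Triangle.coyoneda_exact₃ Δ hΔ z hzδ
  have h0 : (φ - Qh.map y) ≫ (Qh.mapTriangle.obj Δ).mor₂ = 0 := by
    change (φ - Qh.map y) ≫ Qh.map Δ.mor₂ = 0
    rw [Preadditive.sub_comp, ← Functor.map_comp, ← hy, hz', sub_self]
  obtain ⟨ξ₀, hξ₀⟩ := Triangle.coyoneda_exact₂ _ hD (φ - Qh.map y) h0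
  let ξ : Qh.obj A ⟶ Qh.obj Δ.obj₁ := ξ₀
  have hξ : φ - Qh.map y = ξ ≫ Qh.map Δ.mor₁ := hξ₀
  obtain ⟨x, hx⟩ := h1 ξ
  have hx' : Qh.map x = ξ := hx
  refine ⟨y + x ≫ Δ.mor₁, ?_⟩
  change Qh.map (y + x ≫ Δ.mor₁) = φ
  rw [Functor.map_add, Functor.map_comp, hx', ← hξ]
  abel

variable (T : C)

/-- `T` in degree `0`, in the homotopy category -/
noncomputable abbrev Tb : Kh C := qh.obj ((HomologicalComplex.single C (ComplexShape.up ℤ) 0).obj T)


omit [HasDerivedCategory.{w} C] in
lemma hom_eq_zero_of_isZero (K : CochainComplex C ℤ) (hK : IsZero (K.X 0)) (f : Tb T ⟶ qh.obj K) :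
    f = 0 := by
  obtain ⟨g, rfl⟩ := (HomotopyCategory.quotient C (ComplexShape.up ℤ)).map_surjective f
  have : g = 0 := by
    apply HomologicalComplex.from_single_hom_ext
    exact hK.eq_of_tgt _ _
  rw [this, Functor.map_zero]

/-- acyclicity relative to `T`: `Hom_D(T[0], B[q]) = 0` for `q > 0` (written with `B` placed in degree `p < 0`) -/
def Acyc (B : C) : Prop :=
  ∀ p : ℤ, p < 0 → AllZero ((singleFunctor C 0).obj T) ((singleFunctor C p).obj B)

lemma Acyc.of_iso {B B' : C} (e : B ≅ B') (h : Acyc T B) : Acyc T B' := by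
  intro p hp
  exact (h p hp).of_iso (Iso.refl _) ((singleFunctor C p).mapIso e)

lemma acyc_of_isZero {B : C} (hB : IsZero B) : Acyc T B := by
  intro p _ φ
  exact ((singleFunctor C p).map_isZero hB).eq_of_tgt _ _

lemma acyc_of_ext [HasExt.{w'} C] (B : C)
    (h : ∀ q : ℕ, 0 < q → Subsingleton (Abelian.Ext.{w'} T B q)) : Acyc T B := by
  intro p hp
  obtain ⟨q, hq⟩ : ∃ q : ℕ, (q : ℤ) = -p := ⟨(-p).toNat, by omega⟩
  obtain rfl : p = -(q : ℤ) := by omega
  haveI := h q (by omega)
  exact (allZero_of_subsingleton_ext T B q).of_iso (Iso.refl _)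
    (((singleFunctors C).shiftIso (q : ℤ) (-(q : ℤ)) 0 (by omega)).app B)

lemma surj_single_of_ne (B : C) (hB : Acyc T B) (p : ℤ) (hp : p ≠ 0) :
    Surj (Tb T) (qh.obj ((HomologicalComplex.single C (ComplexShape.up ℤ) p).obj B)) := by
  apply surj_of_allZero
  intro φ
  rcases lt_or_gt_of_ne hp with h | h
  · exact hB p h φ
  · let φ' : (singleFunctor C 0).obj T ⟶ (singleFunctor C p).obj B := φ
    have : φ' = 0 := TStructure.t.zero_of_isLE_of_isGE φ' 0 p h inferInstance inferInstance
    exact this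

lemma inj_single_of_ne (B : C) (p : ℤ) (hp : p ≠ 0) :
    Inj (Tb T) (qh.obj ((HomologicalComplex.single C (ComplexShape.up ℤ) p).obj B)) := by
  apply inj_of_allZero
  intro f
  refine hom_eq_zero_of_isZero T _ ?_ f
  exact HomologicalComplex.isZero_single_obj_X (ComplexShape.up ℤ) p B 0 (Ne.symm hp)

lemma inj_single_zero (B : C) :
    Inj (Tb T) (qh.obj ((HomologicalComplex.single C (ComplexShape.up ℤ) 0).obj B)) := by
  intro f g hfg
  obtain ⟨f', rfl⟩ := (HomotopyCategory.quotient C (ComplexShape.up ℤ)).map_surjective f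
  obtain ⟨g', rfl⟩ := (HomotopyCategory.quotient C (ComplexShape.up ℤ)).map_surjective g
  obtain ⟨u, rfl⟩ := (HomologicalComplex.single C (ComplexShape.up ℤ) 0).map_surjective f'
  obtain ⟨v, rfl⟩ := (HomologicalComplex.single C (ComplexShape.up ℤ) 0).map_surjective g'
  have h : (singleFunctor C 0).map u = (singleFunctor C 0).map v := hfg
  rw [(singleFunctor C 0).map_injective h]

lemma surj_single_zero (B : C) :
    Surj (Tb T) (qh.obj ((HomologicalComplex.single C (ComplexShape.up ℤ) 0).obj B)) := by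
  intro φ
  obtain ⟨u, hu⟩ := (singleFunctor C 0).map_surjective
    (φ : (singleFunctor C 0).obj T ⟶ (singleFunctor C 0).obj B)
  exact ⟨qh.map ((HomologicalComplex.single C (ComplexShape.up ℤ) 0).map u), hu⟩

lemma inj_single (B : C) (p : ℤ) :
    Inj (Tb T) (qh.obj ((HomologicalComplex.single C (ComplexShape.up ℤ) p).obj B)) := by
  by_cases hp : p = 0
  · subst hp; exact inj_single_zero T B
  · exact inj_single_of_ne T B p hp

lemma surj_single (B : C) (hB : Acyc T B) (p : ℤ) :
    Surj (Tb T) (qh.obj ((HomologicalComplex.single C (ComplexShape.up ℤ) p).obj B)) := by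
  by_cases hp : p = 0
  · subst hp; exact surj_single_zero T B
  · exact surj_single_of_ne T B hB p hp


section Induction

/-- the degreewise splitting of the bottom-peeling sequence -/
noncomputable def botSplit (K : CochainComplex C ℤ) (a : ℤ) (ha : IsZero (K.X (a - 1))) (n : ℤ) :
    ((botSC K a ha).map (HomologicalComplex.eval C (ComplexShape.up ℤ) n)).Splitting :=
  if h : n = a then
    ShortComplex.Splitting.ofIsZeroOfIsIso _ (by subst h; exact isZero_ker_self K n ha)
      (by subst h; exact botπ_f_self K n ha)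
  else
    ShortComplex.Splitting.ofIsIsoOfIsZero _ (isIso_ker_of_ne K a ha n h)
      (HomologicalComplex.isZero_single_obj_X (ComplexShape.up ℤ) a (K.X a) n h)

omit [HasDerivedCategory.{w} C] in
lemma botTriangle_distinguished (K : CochainComplex C ℤ) (a : ℤ) (ha : IsZero (K.X (a - 1))) :
    CochainComplex.trianglehOfDegreewiseSplit (botSC K a ha) (botSplit K a ha) ∈
      distTriang (Kh C) :=
  (HomotopyCategory.distinguished_iff_iso_trianglehOfDegreewiseSplit _).2 ⟨_, _, ⟨Iso.refl _⟩⟩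

/-- bounded below by `a` with `T`-acyclic terms -/
structure Nice (K : CochainComplex C ℤ) (a : ℤ) : Prop where
  lo : ∀ p, p < a → IsZero (K.X p)
  acyc : ∀ p, Acyc T (K.X p)

lemma Nice.ker {K : CochainComplex C ℤ} {a : ℤ} (h : Nice T K a) (ha : IsZero (K.X (a - 1))) :
    Nice T (kernel (botπ K a ha)) (a + 1) where
  lo p hp := by
    by_cases hpa : p = a
    · subst hpa; exact isZero_ker_self K p ha
    · exact isZero_ker_of_isZero K a ha p (h.lo p (by omega))
  acyc p := by
    by_cases hpa : p = a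
    · subst hpa; exact acyc_of_isZero T (isZero_ker_self K p ha)
    · haveI := isIso_kerι_of_ne K a ha p hpa
      exact (h.acyc p).of_iso T (asIso ((kernel.ι (botπ K a ha)).f p)).symm

lemma Nice.shift {K : CochainComplex C ℤ} {a : ℤ} (h : Nice T K a) (n : ℤ) :
    Nice T (K⟦n⟧) (a - n) where
  lo p hp := h.lo (p + n) (by omega)
  acyc p := h.acyc (p + n)

lemma inj_of_pos (K : CochainComplex C ℤ) (a : ℤ) (h : Nice T K a) (ha : 0 < a) :
    Inj (Tb T) (qh.obj K) :=
  inj_of_allZero (hom_eq_zero_of_isZero T K (h.lo 0 ha))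

lemma surj_of_pos (K : CochainComplex C ℤ) (a : ℤ) (h : Nice T K a) (ha : 0 < a) :
    Surj (Tb T) (qh.obj K) := by
  apply surj_of_allZero
  intro φ
  haveI : K.IsStrictlyGE a := by
    rw [CochainComplex.isStrictlyGE_iff]
    exact h.lo
  haveI : (Q.obj K).IsGE a := inferInstance
  let φ' : (singleFunctor C 0).obj T ⟶ Q.obj K := φ
  have : φ' = 0 := TStructure.t.zero_of_isLE_of_isGE φ' 0 a ha inferInstance inferInstance
  exact this

/-- `(B in degree a)[-1] ≅ (B in degree a+1)` in the homotopy category -/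
noncomputable def shiftSingleIso (B : C) (a : ℤ) :
    (qh.obj ((HomologicalComplex.single C (ComplexShape.up ℤ) a).obj B))⟦(-1 : ℤ)⟧ ≅
      qh.obj ((HomologicalComplex.single C (ComplexShape.up ℤ) (a + 1)).obj B) :=
  (((HomotopyCategory.quotient C (ComplexShape.up ℤ)).commShiftIso (-1 : ℤ)).app _).symm ≪≫
    qh.mapIso (((CochainComplex.singleFunctors C).shiftIso (-1) (a + 1) a (by omega)).app B)

theorem inj_aux (N : ℕ) : ∀ (K : CochainComplex C ℤ) (a : ℤ), Nice T K a → 0 < a + N →
    Inj (Tb T) (qh.obj K) := by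
  induction N with
  | zero =>
    intro K a h ha
    exact inj_of_pos T K a h (by simpa using ha)
  | succ N ih =>
    intro K a h haN
    by_cases ha0 : 0 < a
    · exact inj_of_pos T K a h ha0
    have ha : IsZero (K.X (a - 1)) := h.lo _ (by omega)
    refine inj_mid (Tb T) _ (botTriangle_distinguished K a ha) ?_ ?_ ?_
    · exact ih (kernel (botπ K a ha)) (a + 1) (h.ker T ha) (by push_cast at haN; omega)
    · exact inj_single T (K.X a) a
    · exact (surj_single T (K.X a) (h.acyc a) (a + 1)).of_iso (shiftSingleIso (K.X a) a).symm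

theorem inj_main (K : CochainComplex C ℤ) (a : ℤ) (h : Nice T K a) : Inj (Tb T) (qh.obj K) :=
  inj_aux T (1 - a).toNat K a h (by omega)

theorem surj_aux (N : ℕ) : ∀ (K : CochainComplex C ℤ) (a : ℤ), Nice T K a → 0 < a + N →
    Surj (Tb T) (qh.obj K) := by
  induction N with
  | zero =>
    intro K a h ha
    exact surj_of_pos T K a h (by simpa using ha)
  | succ N ih =>
    intro K a h haN
    by_cases ha0 : 0 < a
    · exact surj_of_pos T K a h ha0
    have ha : IsZero (K.X (a - 1)) := h.lo _ (by omega)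
    refine surj_mid (Tb T) _ (botTriangle_distinguished K a ha) ?_ ?_ ?_
    · exact ih (kernel (botπ K a ha)) (a + 1) (h.ker T ha) (by push_cast at haN; omega)
    · exact surj_single T (K.X a) (h.acyc a) a
    · exact (inj_main T ((kernel (botπ K a ha))⟦(1 : ℤ)⟧) (a + 1 - 1) ((h.ker T ha).shift T 1)).of_iso
        (((HomotopyCategory.quotient C (ComplexShape.up ℤ)).commShiftIso (1 : ℤ)).app _)

theorem surj_main (K : CochainComplex C ℤ) (a : ℤ) (h : Nice T K a) : Surj (Tb T) (qh.obj K) :=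
  surj_aux T (1 - a).toNat K a h (by omega)

end Induction

section Final

open CochainComplex.HomComplex

/-- **Hypercohomology of a bounded below complex with `T`-acyclic terms**: morphisms
`T[0] ⟶ K⟦n⟧` in the derived category are the cohomology classes of the complex `Hom(T, K^•)`. -/
noncomputable def hyperEquiv (K : CochainComplex C ℤ) (a : ℤ) (h : Nice T K a) (n : ℤ) :
    ((singleFunctor C 0).obj T ⟶ (Q.obj K)⟦n⟧) ≃+
      CohomologyClass ((CochainComplex.singleFunctor C 0).obj T) K n := by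
  have hN : Nice T (K⟦n⟧) (a - n) := h.shift T n
  let e1 : (Tb T ⟶ qh.obj (K⟦n⟧)) ≃+ ((singleFunctor C 0).obj T ⟶ Q.obj (K⟦n⟧)) :=
    AddEquiv.ofBijective (Qh.mapAddHom (X := Tb T) (Y := qh.obj (K⟦n⟧)))
      ⟨inj_main T _ _ hN, surj_main T _ _ hN⟩
  let e2 : ((singleFunctor C 0).obj T ⟶ Q.obj (K⟦n⟧)) ≃+
      ((singleFunctor C 0).obj T ⟶ (Q.obj K)⟦n⟧) :=
    { toFun := fun φ => φ ≫ ((Q.commShiftIso n).app K).hom
      invFun := fun φ => φ ≫ ((Q.commShiftIso n).app K).inv
      left_inv := fun φ => by simp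
      right_inv := fun φ => by simp
      map_add' := fun φ ψ => Preadditive.add_comp _ _ _ _ _ _ }
  exact (e2.symm.trans e1.symm).trans (CohomologyClass.homAddEquiv (K := (CochainComplex.singleFunctor C 0).obj T)
    (L := K) (n := n)).symm

/-- cocycles of `Hom(T, K^•)` in degree `n` -/
def cocycleSub (K : CochainComplex C ℤ) (n : ℤ) : AddSubgroup (T ⟶ K.X n) where
  carrier := {f | f ≫ K.d n (n + 1) = 0}
  zero_mem' := zero_comp
  add_mem' := by
    intro f g hf hg
    change (f + g) ≫ _ = 0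
    rw [Preadditive.add_comp, hf, hg, add_zero]
  neg_mem' := by
    intro f hf
    change (-f) ≫ _ = 0
    rw [Preadditive.neg_comp, hf, neg_zero]

/-- coboundaries of `Hom(T, K^•)` in degree `n`, inside the cocycles -/
def coboundSub (K : CochainComplex C ℤ) (j n : ℤ) : AddSubgroup (cocycleSub T K n) where
  carrier := {f | ∃ g : T ⟶ K.X j, g ≫ K.d j n = f.1}
  zero_mem' := ⟨0, zero_comp⟩
  add_mem' := by
    rintro f g ⟨f', hf⟩ ⟨g', hg⟩
    exact ⟨f' + g', by rw [Preadditive.add_comp, hf, hg]; rfl⟩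
  neg_mem' := by
    rintro f ⟨f', hf⟩
    exact ⟨-f', by rw [Preadditive.neg_comp, hf]; rfl⟩

/-- the class of a cocycle -/
noncomputable def classHom (K : CochainComplex C ℤ) (n : ℤ) :
    cocycleSub T K n →+ CohomologyClass ((CochainComplex.singleFunctor C 0).obj T) K n where
  toFun f := CohomologyClass.mk (Cocycle.fromSingleMk f.1 (zero_add n) (n + 1) rfl f.2)
  map_zero' := by
    have : Cocycle.fromSingleMk (0 : T ⟶ K.X n) (zero_add n) (n + 1) rfl (by simp) = 0 :=
      Cocycle.fromSingleMk_zero T K (zero_add n) (n + 1) rfl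
    change CohomologyClass.mk (Cocycle.fromSingleMk (0 : T ⟶ K.X n) (zero_add n) (n + 1) rfl _) = 0
    rw [this, CohomologyClass.mk_zero]
  map_add' f g := by
    change CohomologyClass.mk (Cocycle.fromSingleMk (f.1 + g.1) (zero_add n) (n + 1) rfl _) = _
    rw [Cocycle.fromSingleMk_add f.1 g.1 (zero_add n) (n + 1) rfl f.2 g.2, CohomologyClass.mk_add]

omit [HasDerivedCategory.{w} C] in
lemma classHom_surjective (K : CochainComplex C ℤ) (n : ℤ) :
    Function.Surjective (classHom T K n) := by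
  intro x
  obtain ⟨α, rfl⟩ := CohomologyClass.mk_surjective x
  obtain ⟨f, hf, rfl⟩ := Cocycle.fromSingleMk_surjective α n (zero_add n) (n + 1) rfl
  exact ⟨⟨f, hf⟩, rfl⟩

omit [HasDerivedCategory.{w} C] in
lemma classHom_ker (K : CochainComplex C ℤ) (j n : ℤ) (hj : j + 1 = n) :
    (classHom T K n).ker = coboundSub T K j n := by
  ext f
  rw [AddMonoidHom.mem_ker]
  change CohomologyClass.mk _ = 0 ↔ _
  rw [CohomologyClass.mk_eq_zero_iff,
    Cocycle.fromSingleMk_mem_coboundaries_iff f.1 (zero_add n) (n + 1) rfl f.2 j hj]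
  rfl

/-- cohomology classes as cocycles modulo coboundaries -/
noncomputable def classEquiv (K : CochainComplex C ℤ) (j n : ℤ) (hj : j + 1 = n) :
    (cocycleSub T K n ⧸ coboundSub T K j n) ≃+
      CohomologyClass ((CochainComplex.singleFunctor C 0).obj T) K n :=
  (QuotientAddGroup.quotientAddEquivOfEq (classHom_ker T K j n hj).symm).trans
    (QuotientAddGroup.quotientKerEquivOfSurjective (classHom T K n) (classHom_surjective T K n))

/-- **Hypercohomology as cocycles modulo coboundaries** of `Hom(T, K^•)`. -/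
noncomputable def hyperQuotEquiv (K : CochainComplex C ℤ) (a : ℤ) (h : Nice T K a) (j n : ℤ)
    (hj : j + 1 = n) :
    ((singleFunctor C 0).obj T ⟶ (Q.obj K)⟦n⟧) ≃+ (cocycleSub T K n ⧸ coboundSub T K j n) :=
  (hyperEquiv T K a h n).trans (classEquiv T K j n hj).symm

/-- a quotient of the cocycles by the coboundaries from a surjection with the right kernel -/
noncomputable def quotEquivOfSurjective (K : CochainComplex C ℤ) (j n : ℤ) {H : Type*}
    [AddCommGroup H] (π : cocycleSub T K n →+ H) (hπ : Function.Surjective π)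
    (hker : ∀ x, π x = 0 ↔ x ∈ coboundSub T K j n) :
    (cocycleSub T K n ⧸ coboundSub T K j n) ≃+ H :=
  (QuotientAddGroup.quotientAddEquivOfEq (show coboundSub T K j n = π.ker by
    ext x; rw [AddMonoidHom.mem_ker]; exact (hker x).symm)).trans
    (QuotientAddGroup.quotientKerEquivOfSurjective π hπ)

end Final

end Groth.Agent.Lib.Helper29.HyperAcyclic
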