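import Groth.Prelude.Def_KLinDR

/-!
# Noetherian dévissage for hypercohomology with a ring action (helper29)

For a bounded below cochain complex `K` in an abelian category with an action `ρ : R →+* End K`
of a ring `R`, the `R`-module `KLinDR.HTρ T K ρ m = Hom_D(T, K⟦m⟧)` is Noetherian as soon as all the
modules `Hom_D(T, K^p[-p]⟦m⟧)` are.
-/

universe w' w v u u'

open CategoryTheory CategoryTheory.Limits Pretriangulated KLinDR

namespace Groth.Agent.Lib.Helper29.HyperFinite

variable {C : Type u} [Category.{v} C] [Abelian C]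

section Bot

/-- the projection onto the bottom term -/
noncomputable def botπ (K : CochainComplex C ℤ) (a : ℤ) (ha : IsZero (K.X (a - 1))) :
    K ⟶ (HomologicalComplex.single C (ComplexShape.up ℤ) a).obj (K.X a) :=
  HomologicalComplex.mkHomToSingle (𝟙 _) (by
    intro k hk
    have : k = a - 1 := by
      have : k + 1 = a := hk
      omega
    subst this
    exact ha.eq_of_src _ _)

lemma botπ_f_self (K : CochainComplex C ℤ) (a : ℤ) (ha : IsZero (K.X (a - 1))) :
    IsIso ((botπ K a ha).f a) := by
  rw [botπ, HomologicalComplex.mkHomToSingle_f]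
  infer_instance

instance (K : CochainComplex C ℤ) (a : ℤ) (ha : IsZero (K.X (a - 1))) : Epi (botπ K a ha) := by
  apply HomologicalComplex.epi_of_epi_f
  intro p
  by_cases hp : p = a
  · subst hp
    haveI := botπ_f_self K p ha
    infer_instance
  · exact ⟨fun {Z} g h _ =>
      (HomologicalComplex.isZero_single_obj_X (ComplexShape.up ℤ) a (K.X a) p hp).eq_of_src _ _⟩

/-- the short exact sequence `σ_{>a} K → K → K^a[-a]` -/
noncomputable def botSC (K : CochainComplex C ℤ) (a : ℤ) (ha : IsZero (K.X (a - 1))) :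
    ShortComplex (CochainComplex C ℤ) :=
  ShortComplex.mk (kernel.ι (botπ K a ha)) (botπ K a ha) (kernel.condition _)

lemma botSC_shortExact (K : CochainComplex C ℤ) (a : ℤ) (ha : IsZero (K.X (a - 1))) :
    (botSC K a ha).ShortExact where
  exact := ShortComplex.exact_kernel _
  mono_f := by dsimp [botSC]; infer_instance
  epi_g := by dsimp [botSC]; infer_instance

lemma botSC_eval_shortExact (K : CochainComplex C ℤ) (a : ℤ) (ha : IsZero (K.X (a - 1))) (p : ℤ) :
    ((botSC K a ha).map (HomologicalComplex.eval C (ComplexShape.up ℤ) p)).ShortExact :=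
  (botSC_shortExact K a ha).map_of_exact _

lemma isZero_ker_self (K : CochainComplex C ℤ) (a : ℤ) (ha : IsZero (K.X (a - 1))) :
    IsZero ((botSC K a ha).X₁.X a) := by
  have h := botSC_eval_shortExact K a ha a
  exact h.isIso_g_iff.1 (botπ_f_self K a ha)

lemma isZero_ker_of_isZero (K : CochainComplex C ℤ) (a : ℤ) (ha : IsZero (K.X (a - 1))) (p : ℤ)
    (hp : IsZero (K.X p)) : IsZero ((botSC K a ha).X₁.X p) := by
  have h := botSC_eval_shortExact K a ha p
  haveI : Mono ((botSC K a ha).f.f p) := h.mono_f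
  rw [IsZero.iff_id_eq_zero, ← cancel_mono ((botSC K a ha).f.f p)]
  exact hp.eq_of_tgt _ _

lemma isIso_ker_of_ne (K : CochainComplex C ℤ) (a : ℤ) (ha : IsZero (K.X (a - 1))) (p : ℤ)
    (hp : p ≠ a) : IsIso ((botSC K a ha).f.f p) := by
  have h := botSC_eval_shortExact K a ha p
  exact h.isIso_f_iff.2
    (HomologicalComplex.isZero_single_obj_X (ComplexShape.up ℤ) a (K.X a) p hp)

end Bot

section Act

variable {R : Type u'} [Ring R]

/-- the ring homomorphism on endomorphisms induced by an additive functor -/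
def mapEnd {D D' : Type*} [Category D] [Category D'] [Preadditive D] [Preadditive D']
    (F : D ⥤ D') [F.Additive] (X : D) : End X →+* End (F.obj X) where
  toFun f := F.map f
  map_one' := F.map_id X
  map_mul' f g := F.map_comp g f
  map_zero' := F.map_zero X X
  map_add' f g := F.map_add

/-- evaluation of endomorphisms of a complex in degree `p` -/
def evalEnd (K : CochainComplex C ℤ) (p : ℤ) : End K →+* End (K.X p) where
  toFun f := f.f p
  map_one' := rfl
  map_mul' _ _ := rfl
  map_zero' := rfl
  map_add' _ _ := rfl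

/-- the action on the `p`-th term placed in degree `p` -/
noncomputable def termAct (K : CochainComplex C ℤ) (ρ : R →+* End K) (p : ℤ) :
    R →+* End ((HomologicalComplex.single C (ComplexShape.up ℤ) p).obj (K.X p)) :=
  (mapEnd (HomologicalComplex.single C (ComplexShape.up ℤ) p) (K.X p)).comp ((evalEnd K p).comp ρ)

lemma termAct_apply (K : CochainComplex C ℤ) (ρ : R →+* End K) (p : ℤ) (r : R) :
    (termAct K ρ p r : _ ⟶ _) =
      (HomologicalComplex.single C (ComplexShape.up ℤ) p).map ((ρ r : K ⟶ K).f p) := rfl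

lemma commutes_botπ (K : CochainComplex C ℤ) (a : ℤ) (ha : IsZero (K.X (a - 1)))
    (ρ : R →+* End K) : Commutes ρ (termAct K ρ a) (botπ K a ha) := by
  intro r
  apply HomologicalComplex.to_single_hom_ext
  rw [HomologicalComplex.comp_f, HomologicalComplex.comp_f, termAct_apply,
    HomologicalComplex.single_map_f_self, botπ, HomologicalComplex.mkHomToSingle_f]
  simp

/-- an action restricted along a monomorphism -/
def restrictAct {K' K : CochainComplex C ℤ} (ι : K' ⟶ K) [Mono ι] (ρ : R →+* End K)
    (l : R → End K') (hl : ∀ r, (l r : K' ⟶ K') ≫ ι = ι ≫ (ρ r : K ⟶ K)) : R →+* End K' where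
  toFun := l
  map_one' := by
    rw [← cancel_mono ι]
    change (l 1 : K' ⟶ K') ≫ ι = 𝟙 _ ≫ ι
    rw [hl, map_one]
    change ι ≫ 𝟙 _ = _
    simp
  map_mul' r s := by
    rw [← cancel_mono ι]
    change (l (r * s) : K' ⟶ K') ≫ ι = ((l s : K' ⟶ K') ≫ (l r : K' ⟶ K')) ≫ ι
    rw [hl, Category.assoc, hl, ← Category.assoc, hl, Category.assoc, map_mul]
    rfl
  map_zero' := by
    rw [← cancel_mono ι]
    change (l 0 : K' ⟶ K') ≫ ι = (0 : K' ⟶ K') ≫ ι
    rw [hl, map_zero, zero_comp]
    exact comp_zero
  map_add' r s := by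
    rw [← cancel_mono ι]
    change (l (r + s) : K' ⟶ K') ≫ ι = ((l r : K' ⟶ K') + (l s : K' ⟶ K')) ≫ ι
    rw [Preadditive.add_comp, hl, hl, hl, map_add]
    exact Preadditive.comp_add _ _ _ _ _ _

/-- the action on the kernel of `botπ` -/
noncomputable def kerAct (K : CochainComplex C ℤ) (a : ℤ) (ha : IsZero (K.X (a - 1)))
    (ρ : R →+* End K) : R →+* End (kernel (botπ K a ha)) :=
  restrictAct (kernel.ι (botπ K a ha)) ρ
    (fun r => kernel.lift (botπ K a ha) (kernel.ι (botπ K a ha) ≫ (ρ r : K ⟶ K)) (by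
      rw [Category.assoc, commutes_botπ K a ha ρ r, ← Category.assoc, kernel.condition, zero_comp]))
    (fun r => kernel.lift_ι _ _ _)

lemma commutes_ker (K : CochainComplex C ℤ) (a : ℤ) (ha : IsZero (K.X (a - 1)))
    (ρ : R →+* End K) : Commutes (kerAct K a ha ρ) ρ (kernel.ι (botπ K a ha)) :=
  fun r => kernel.lift_ι _ _ _

lemma isIso_kerι_of_ne (K : CochainComplex C ℤ) (a : ℤ) (ha : IsZero (K.X (a - 1))) (p : ℤ)
    (hp : p ≠ a) : IsIso ((kernel.ι (botπ K a ha)).f p) :=
  isIso_ker_of_ne K a ha p hp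

lemma commutes_single_kerι (K : CochainComplex C ℤ) (a : ℤ) (ha : IsZero (K.X (a - 1)))
    (ρ : R →+* End K) (p : ℤ) :
    Commutes (termAct (kernel (botπ K a ha)) (kerAct K a ha ρ) p) (termAct K ρ p)
      ((HomologicalComplex.single C (ComplexShape.up ℤ) p).map ((kernel.ι (botπ K a ha)).f p)) := by
  intro r
  rw [termAct_apply, termAct_apply, ← Functor.map_comp, ← Functor.map_comp]
  congr 1
  have hc := congrArg (fun φ => φ.f p) (commutes_ker K a ha ρ r)
  simpa only [HomologicalComplex.comp_f] using hc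

lemma Commutes.symm_iso {K L : CochainComplex C ℤ} {ρ : R →+* End K} {ρ' : R →+* End L} (e : K ≅ L)
    (h : Commutes ρ ρ' e.hom) : Commutes ρ' ρ e.inv := by
  intro r
  rw [← cancel_mono e.hom, Category.assoc, Category.assoc, e.inv_hom_id, Category.comp_id,
    h r, e.inv_hom_id_assoc]

end Act

section Main

variable [HasDerivedCategory.{w} C] {R : Type u'} [Ring R] (T : C)

open DerivedCategory

/-- exactness in the middle of `Hom(T, -⟦n⟧)` applied to a short exact sequence of complexes -/
lemma exists_lift_of_shortExact (S : ShortComplex (CochainComplex C ℤ)) (hS : S.ShortExact) (n : ℤ)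
    (y : E1Deg.HT T S.X₂ n) (hy : E1Deg.HTmap T S.g n y = 0) :
    ∃ x : E1Deg.HT T S.X₁ n, E1Deg.HTmap T S.f n x = y := by
  have hT := Triangle.shift_distinguished _ (triangleOfSES_distinguished hS) n
  have h0 : y ≫ ((Triangle.shiftFunctor (DerivedCategory C) n).obj (triangleOfSES hS)).mor₂ = 0 := by
    change y ≫ (n.negOnePow • (shiftFunctor (DerivedCategory C) n).map (Q.map S.g)) = 0
    rw [Units.smul_def, Preadditive.comp_zsmul]
    have : y ≫ (shiftFunctor (DerivedCategory C) n).map (Q.map S.g) = 0 := hy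
    rw [this, smul_zero]
  obtain ⟨x, hx⟩ := Triangle.coyoneda_exact₂ _ hT y h0
  let x' : E1Deg.HT T S.X₁ n := x
  have hx' : y = x' ≫ (n.negOnePow • (shiftFunctor (DerivedCategory C) n).map (Q.map S.f)) := hx
  refine ⟨n.negOnePow • x', ?_⟩
  change (n.negOnePow • x') ≫ (shiftFunctor (DerivedCategory C) n).map (Q.map S.f) = y
  rw [hx', Units.smul_def, Units.smul_def, Preadditive.comp_zsmul, Preadditive.zsmul_comp]

/-- the middle term of a short exact sequence of complexes with compatible actions has Noetherian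
hypercohomology if the outer ones do. -/
theorem isNoetherian_mid (S : ShortComplex (CochainComplex C ℤ)) (hS : S.ShortExact)
    (ρ₁ : R →+* End S.X₁) (ρ₂ : R →+* End S.X₂) (ρ₃ : R →+* End S.X₃)
    (h₁ : Commutes ρ₁ ρ₂ S.f) (h₂ : Commutes ρ₂ ρ₃ S.g) (n : ℤ)
    [IsNoetherian R (HTρ T S.X₁ ρ₁ n)] [IsNoetherian R (HTρ T S.X₃ ρ₃ n)] :
    IsNoetherian R (HTρ T S.X₂ ρ₂ n) := by
  refine isNoetherian_of_range_eq_ker (HTρmap T S.f h₁ n) (HTρmap T S.g h₂ n) ?_
  apply le_antisymm
  · rintro _ ⟨x, rfl⟩
    rw [LinearMap.mem_ker]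
    change (x ≫ (shiftFunctor (DerivedCategory C) n).map (Q.map S.f)) ≫
      (shiftFunctor (DerivedCategory C) n).map (Q.map S.g) = 0
    rw [Category.assoc, ← Functor.map_comp, ← Functor.map_comp, S.zero, Functor.map_zero,
      Functor.map_zero, comp_zero]
  · intro y hy
    rw [LinearMap.mem_ker] at hy
    obtain ⟨x, hx⟩ := exists_lift_of_shortExact T S hS n y hy
    exact ⟨x, hx⟩

/-- transport along an equivariant isomorphism -/
theorem isNoetherian_of_iso {K L : CochainComplex C ℤ} (e : K ≅ L) (ρ : R →+* End K) (ρ' : R →+* End L)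
    (h : Commutes ρ ρ' e.hom) (n : ℤ) (hN : IsNoetherian R (HTρ T K ρ n)) :
    IsNoetherian R (HTρ T L ρ' n) := by
  refine isNoetherian_of_surjective (HTρmap T e.hom h n) ?_
  rw [LinearMap.range_eq_top]
  intro y
  refine ⟨(y : E1Deg.HT T L n) ≫ (shiftFunctor (DerivedCategory C) n).map (Q.map e.inv), ?_⟩
  change ((y : E1Deg.HT T L n) ≫ (shiftFunctor (DerivedCategory C) n).map (Q.map e.inv)) ≫
    (shiftFunctor (DerivedCategory C) n).map (Q.map e.hom) = y
  rw [Category.assoc, ← Functor.map_comp, ← Functor.map_comp, e.inv_hom_id]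
  erw [CategoryTheory.Functor.map_id, CategoryTheory.Functor.map_id]
  exact Category.comp_id _

/-- below the lower bound of the complex, there is nothing -/
lemma subsingleton_of_lt (K : CochainComplex C ℤ) (a : ℤ) (hlo : ∀ p, p < a → IsZero (K.X p))
    (ρ : R →+* End K) (m : ℤ) (hm : m < a) : Subsingleton (HTρ T K ρ m) := by
  haveI : K.IsStrictlyGE a := by
    rw [CochainComplex.isStrictlyGE_iff]
    exact hlo
  haveI : (Q.obj K).IsGE a := inferInstance
  haveI : ((shiftFunctor (DerivedCategory C) m).obj (Q.obj K)).IsGE (a - m) :=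
    TStructure.t.isGE_shift (Q.obj K) a m (a - m) (by omega)
  refine subsingleton_of_forall_eq 0 fun φ => ?_
  exact TStructure.t.zero_of_isLE_of_isGE (φ : E1Deg.HT T K m) 0 (a - m) (by omega) inferInstance inferInstance

lemma subsingleton_of_isZero (K : CochainComplex C ℤ) (hK : IsZero K) (ρ : R →+* End K) (m : ℤ) :
    Subsingleton (HTρ T K ρ m) := by
  refine subsingleton_of_forall_eq 0 fun φ => ?_
  exact (((shiftFunctor (DerivedCategory C) m).map_isZero (Q.map_isZero hK))).eq_of_tgt
    (φ : E1Deg.HT T K m) 0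

theorem isNoetherian_aux (m : ℤ) (N : ℕ) : ∀ (K : CochainComplex C ℤ) (a : ℤ)
    (_ : ∀ p, p < a → IsZero (K.X p)) (ρ : R →+* End K), m < a + N →
    (∀ p, IsNoetherian R (HTρ T ((HomologicalComplex.single C (ComplexShape.up ℤ) p).obj (K.X p))
      (termAct K ρ p) m)) →
    IsNoetherian R (HTρ T K ρ m) := by
  induction N with
  | zero =>
    intro K a hlo ρ hm _
    haveI := subsingleton_of_lt T K a hlo ρ m (by simpa using hm)
    exact isNoetherian_of_finite R _
  | succ N ih =>
    intro K a hlo ρ hm hterm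
    by_cases hma : m < a
    · haveI := subsingleton_of_lt T K a hlo ρ m hma
      exact isNoetherian_of_finite R _
    have ha : IsZero (K.X (a - 1)) := hlo _ (by omega)
    have hS := botSC_shortExact K a ha
    haveI h1 : IsNoetherian R (HTρ T (botSC K a ha).X₁ (kerAct K a ha ρ) m) := by
      refine ih (kernel (botπ K a ha)) (a + 1) ?_ (kerAct K a ha ρ) (by push_cast at hm; omega) ?_
      · intro p hp
        by_cases hpa : p = a
        · subst hpa
          exact isZero_ker_self K p ha
        · exact isZero_ker_of_isZero K a ha p (hlo p (by omega))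
      · intro p
        by_cases hpa : p = a
        · subst hpa
          refine @isNoetherian_of_finite R _ _ _ _ (@Finite.of_subsingleton _ ?_)
          exact subsingleton_of_isZero T _
            ((HomologicalComplex.single C (ComplexShape.up ℤ) p).map_isZero (isZero_ker_self K p ha))
            (termAct (kernel (botπ K p ha)) (kerAct K p ha ρ) p) m
        · haveI := isIso_kerι_of_ne K a ha p hpa
          exact isNoetherian_of_iso T
            ((HomologicalComplex.single C (ComplexShape.up ℤ) p).mapIso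
              (asIso ((kernel.ι (botπ K a ha)).f p))).symm (termAct K ρ p) _
            (Commutes.symm_iso ((HomologicalComplex.single C (ComplexShape.up ℤ) p).mapIso
              (asIso ((kernel.ι (botπ K a ha)).f p))) (commutes_single_kerι K a ha ρ p)) m (hterm p)
    haveI h3 : IsNoetherian R (HTρ T (botSC K a ha).X₃ (termAct K ρ a) m) := hterm a
    exact isNoetherian_mid T (botSC K a ha) hS (kerAct K a ha ρ) ρ (termAct K ρ a)
      (commutes_ker K a ha ρ) (commutes_botπ K a ha ρ) m

/-- **Noetherian dévissage.** -/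
theorem isNoetherian_HTρ (K : CochainComplex C ℤ) (a : ℤ) (hlo : ∀ p, p < a → IsZero (K.X p))
    (ρ : R →+* End K) (m : ℤ)
    (hterm : ∀ p, a ≤ p → p ≤ m →
      IsNoetherian R (HTρ T ((HomologicalComplex.single C (ComplexShape.up ℤ) p).obj (K.X p))
        (termAct K ρ p) m)) :
    IsNoetherian R (HTρ T K ρ m) := by
  refine isNoetherian_aux T m (m - a + 1).toNat K a hlo ρ (by omega) ?_
  intro p
  by_cases h1 : p < a
  · haveI := subsingleton_of_isZero T _
      ((HomologicalComplex.single C (ComplexShape.up ℤ) p).map_isZero (hlo p h1)) (termAct K ρ p) m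
    exact isNoetherian_of_finite R _
  · by_cases h2 : m < p
    · haveI := subsingleton_of_lt T ((HomologicalComplex.single C (ComplexShape.up ℤ) p).obj (K.X p)) p
        (fun q hq => HomologicalComplex.isZero_single_obj_X (ComplexShape.up ℤ) p (K.X p) q (by omega))
        (termAct K ρ p) m h2
      exact isNoetherian_of_finite R _
    · exact hterm p (by omega) (by omega)

end Main

section Base

variable [HasDerivedCategory.{w} C] [HasExt.{w'} C] {R : Type u'} [Ring R] (T : C)

open DerivedCategory

/-- the natural identification of `A[0]⟦q⟧` with `A[-p]⟦m⟧` for `q + p = m` -/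
noncomputable def θ (p m : ℤ) (q : ℕ) (h : (q : ℤ) + p = m) :
    singleFunctor C 0 ⋙ shiftFunctor (DerivedCategory C) (q : ℤ) ≅
      HomologicalComplex.single C (ComplexShape.up ℤ) p ⋙ Q ⋙ shiftFunctor (DerivedCategory C) m :=
  Functor.isoWhiskerLeft (singleFunctor C 0)
      (shiftFunctorAdd' (DerivedCategory C) (-p) m (q : ℤ) (by omega)) ≪≫
    (Functor.associator _ _ _).symm ≪≫
    Functor.isoWhiskerRight ((singleFunctors C).shiftIso (-p) p 0 (by omega) ≪≫
      singleFunctorIsoCompQ C p) (shiftFunctor (DerivedCategory C) m) ≪≫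
    Functor.associator _ _ _

theorem isNoetherian_single {B A' : C} (ε : B ≅ A') (α : R →+* End B) (s : R → (A' ⟶ A'))
    (hs : ∀ r, (α r : B ⟶ B) = ε.hom ≫ s r ≫ ε.inv)
    (p m : ℤ) (q : ℕ) (hq : (q : ℤ) + p = m)
    {M : Type*} [AddCommGroup M] [Module R M] [IsNoetherian R M]
    (ψ : M →+ Abelian.Ext.{w'} T A' q) (hψ : Function.Surjective ψ)
    (hψs : ∀ (r : R) (x : M), ψ (r • x) = (ψ x).comp (Abelian.Ext.mk₀ (s r)) (add_zero q)) :
    IsNoetherian R (HTρ T ((HomologicalComplex.single C (ComplexShape.up ℤ) p).obj B)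
      ((mapEnd (HomologicalComplex.single C (ComplexShape.up ℤ) p) B).comp α) m) := by
  let Λ₀ : M → E1Deg.HT T ((HomologicalComplex.single C (ComplexShape.up ℤ) p).obj B) m := fun x =>
    (ψ x).hom ≫ (shiftFunctor (DerivedCategory C) (q : ℤ)).map ((singleFunctor C 0).map ε.inv) ≫
      (θ p m q hq).hom.app B
  have hnat : ∀ g : B ⟶ B,
      (shiftFunctor (DerivedCategory C) (q : ℤ)).map ((singleFunctor C 0).map g) ≫
        (θ p m q hq).hom.app B = (θ p m q hq).hom.app B ≫
        (shiftFunctor (DerivedCategory C) m).map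
          (Q.map ((HomologicalComplex.single C (ComplexShape.up ℤ) p).map g)) :=
    fun g => (θ p m q hq).hom.naturality g
  let Λ : M →ₗ[R] HTρ T ((HomologicalComplex.single C (ComplexShape.up ℤ) p).obj B)
      ((mapEnd (HomologicalComplex.single C (ComplexShape.up ℤ) p) B).comp α) m :=
    { toFun := fun x => HTρ.toHT.symm (Λ₀ x)
      map_add' := fun x y => by
        change Λ₀ (x + y) = Λ₀ x + Λ₀ y
        simp only [Λ₀, map_add, Abelian.Ext.add_hom, Preadditive.add_comp]
      map_smul' := fun r x => by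
        change Λ₀ (r • x) = Λ₀ x ≫ (shiftFunctor (DerivedCategory C) m).map
          (Q.map ((HomologicalComplex.single C (ComplexShape.up ℤ) p).map (α r)))
        simp only [Λ₀, hψs, Abelian.Ext.comp_hom, Abelian.Ext.mk₀_hom, ShiftedHom.comp_mk₀,
          Category.assoc]
        rw [← hnat (α r), ← Functor.map_comp_assoc, ← Functor.map_comp_assoc, ← Functor.map_comp,
          ← Functor.map_comp]
        congr 4
        rw [hs r, Iso.inv_hom_id_assoc] }
  refine isNoetherian_of_surjective Λ ?_
  rw [LinearMap.range_eq_top]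
  intro y
  let z : ShiftedHom ((singleFunctor C 0).obj T) ((singleFunctor C 0).obj A') (q : ℤ) :=
    (y : E1Deg.HT T _ m) ≫ (θ p m q hq).inv.app B ≫
      (shiftFunctor (DerivedCategory C) (q : ℤ)).map ((singleFunctor C 0).map ε.hom)
  obtain ⟨e, he⟩ := (Abelian.Ext.homEquiv (X := T) (Y := A') (n := q)).surjective z
  obtain ⟨x, hx⟩ := hψ e
  refine ⟨x, ?_⟩
  change Λ₀ x = y
  have he' : (ψ x).hom = z := by rw [hx]; exact he
  simp only [Λ₀, he', z, Category.assoc]
  rw [← Functor.map_comp_assoc, ← Functor.map_comp, ε.hom_inv_id]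
  erw [CategoryTheory.Functor.map_id, CategoryTheory.Functor.map_id]
  rw [Category.id_comp, Iso.inv_hom_id_app]
  exact Category.comp_id _

end Base

end Groth.Agent.Lib.Helper29.HyperFinite
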