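import Mathlib
import Groth.Agent.Lib.Helper4.SmoothRed

/-!
# Integral elements of smooth algebras over a field have zero differential
-/

open Polynomial TensorProduct

namespace Groth.Agent.Lib.Helper29.IntegralD

universe u

theorem separable_minpoly (k A K : Type*) [Field k] [CommRing A] [Algebra k A] [Field K]
    [Algebra k K] [IsAlgClosed K] [IsReduced (K ⊗[k] A)] (t : A) (ht : IsIntegral k t) :
    (minpoly k t).Separable := by
  set p := minpoly k t with hp
  rw [← Polynomial.separable_map (algebraMap k K), PerfectField.separable_iff_squarefree]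
  intro g hg
  obtain ⟨h, hh⟩ := hg
  set t' : K ⊗[k] A := 1 ⊗ₜ t with ht'
  have hP0 : aeval t' (p.map (algebraMap k K)) = 0 := by
    rw [aeval_map_algebraMap]
    have h1 : aeval t' p = (Algebra.TensorProduct.includeRight : A →ₐ[k] K ⊗[k] A) (aeval t p) :=
      aeval_algHom_apply (Algebra.TensorProduct.includeRight : A →ₐ[k] K ⊗[k] A) t p
    rw [h1, hp, minpoly.aeval, map_zero]
  have hQ : aeval t' (g * h) = 0 := by
    apply IsNilpotent.eq_zero
    refine ⟨2, ?_⟩
    rw [← map_pow, show (g * h) ^ 2 = (g * g * h) * h by ring, ← hh, map_mul, hP0, zero_mul]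
  have hPne : p.map (algebraMap k K) ≠ 0 := Polynomial.map_ne_zero (minpoly.ne_zero ht)
  have hg0 : g ≠ 0 := by
    rintro rfl
    exact hPne (by simpa using hh)
  have hh0 : h ≠ 0 := by
    rintro rfl
    exact hPne (by simpa using hh)
  have hli := Module.Flat.linearIndependent_one_tmul (S := K) (linearIndependent_pow (K := k) t)
  by_contra hgu
  have hgd : 0 < g.natDegree := by
    rw [Polynomial.natDegree_pos_iff_degree_pos]
    exact Polynomial.degree_pos_of_ne_zero_of_nonunit hg0 hgu
  have hdeg : (g * h).natDegree < p.natDegree := by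
    have h1 : (p.map (algebraMap k K)).natDegree = p.natDegree := natDegree_map _
    rw [← h1, hh, natDegree_mul (mul_ne_zero hg0 hg0) hh0, natDegree_mul hg0 hg0,
      natDegree_mul hg0 hh0]
    omega
  have hQ0 : g * h ≠ 0 := mul_ne_zero hg0 hh0
  apply hQ0
  rw [Fintype.linearIndependent_iff] at hli
  ext i
  by_cases hi : i < p.natDegree
  · have h2 := hli (fun j => (g * h).coeff j) ?_ ⟨i, hi⟩
    · simpa using h2
    · rw [aeval_eq_sum_range' hdeg, Finset.sum_range] at hQ
      rw [← hQ]
      refine Finset.sum_congr rfl fun j _ => ?_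
      rw [ht', Algebra.TensorProduct.tmul_pow, one_pow]
  · rw [coeff_zero]
    exact coeff_eq_zero_of_natDegree_lt (by omega)

theorem D_eq_zero_of_separable {k A : Type*} [CommRing k] [CommRing A] [Algebra k A] (t : A)
    (p : k[X]) (hp : p.Separable) (h0 : aeval t p = 0) : KaehlerDifferential.D k A t = 0 := by
  obtain ⟨a, b, hab⟩ := hp
  have h1 : aeval t (derivative p) • KaehlerDifferential.D k A t = 0 := by
    rw [← Derivation.map_aeval, h0, map_zero]
  have h2 : aeval t b * aeval t (derivative p) = 1 := by
    have := congrArg (aeval t) hab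
    simpa [h0] using this
  calc KaehlerDifferential.D k A t = (1 : A) • KaehlerDifferential.D k A t := (one_smul _ _).symm
    _ = 0 := by rw [← h2, mul_smul, h1, smul_zero]

/-- An element of a smooth algebra over a field which is integral over the field has zero
differential. -/
theorem D_eq_zero_of_isIntegral (k A : Type u) [Field k] [CommRing A] [Algebra k A]
    [Algebra.Smooth k A] (t : A) (ht : IsIntegral k t) : KaehlerDifferential.D k A t = 0 := by
  haveI : Algebra.Smooth (AlgebraicClosure k) (AlgebraicClosure k ⊗[k] A) := inferInstance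
  haveI : IsReduced (AlgebraicClosure k ⊗[k] A) :=
    Groth.Agent.Lib.Helper4.SmoothRed.isReduced_of_smooth_field (AlgebraicClosure k) _
  exact D_eq_zero_of_separable t (minpoly k t)
    (separable_minpoly k A (AlgebraicClosure k) t ht) (minpoly.aeval k t)

end Groth.Agent.Lib.Helper29.IntegralD
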