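import Groth.Agent.Lib.Helper29.QCohStalk2
import Groth.Agent.Lib.Helper17.StalkExact
import Groth.Agent.Lib.Helper28.FinType

set_option autoImplicit false
set_option linter.unusedVariables false
set_option linter.style.haveILetI false
universe u

/-!
# The locus where a morphism of coherent modules is bijective on stalks is open (helper29)
-/

namespace Groth.Agent.Lib.Helper29.IsoOpen

open CategoryTheory AlgebraicGeometry Opposite TopologicalSpace
open Groth.Agent.Lib.Helper28.QCohLoc Groth.Agent.Lib.Helper29.QCohStalk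
open Groth.Agent.Lib.Helper17.StalkExact

variable {X : Scheme.{u}} [IsLocallyNoetherian X] {F G : X.Modules} (φ : F ⟶ G)
  [F.IsQuasicoherent] [SheafOfModules.IsFiniteType.{u} (R := X.ringCatSheaf) F]
  [G.IsQuasicoherent] [SheafOfModules.IsFiniteType.{u} (R := X.ringCatSheaf) G]

omit [IsLocallyNoetherian X] [F.IsQuasicoherent] [SheafOfModules.IsFiniteType.{u} (R := X.ringCatSheaf) F]
  [G.IsQuasicoherent] [SheafOfModules.IsFiniteType.{u} (R := X.ringCatSheaf) G] in
theorem stalkLinearMap_gm (x : X) (U : X.Opens) (hx : x ∈ U) (m : Γ(F, U)) :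
    stalkLinearMap φ x (gm F U x hx m) = gm G U x hx (φ.app U m) :=
  stalkHom_germ φ x U hx m

/-- the sections map as a linear map -/
noncomputable def appLin (W : X.Opens) : Γ(F, W) →ₗ[Γ(X, W)] Γ(G, W) :=
  { toFun := φ.app W
    map_add' := fun a b => map_add _ a b
    map_smul' := fun r m => Scheme.Modules.Hom.app_smul φ r m }

theorem exists_open_bijective (x : X) (h : Function.Bijective (stalkLinearMap φ x)) :
    ∃ W : X.Opens, x ∈ W ∧ ∀ y ∈ W, Function.Bijective (stalkLinearMap φ y) := by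
  obtain ⟨W₀, hW₀, hxW₀, -⟩ := exists_isAffineOpen_mem_and_subset (U := (⊤ : X.Opens)) (x := x) trivial
  haveI : IsNoetherianRing Γ(X, W₀) := IsLocallyNoetherian.component_noetherian ⟨W₀, hW₀⟩
  haveI : Module.Finite Γ(X, W₀) Γ(F, W₀) :=
    Groth.Agent.Lib.Helper28.FinType.finite_of_isAffineOpen F hW₀
  haveI : Module.Finite Γ(X, W₀) Γ(G, W₀) :=
    Groth.Agent.Lib.Helper28.FinType.finite_of_isAffineOpen G hW₀
  have hlocF := isLocOn_of_isQuasicoherent F hW₀
  have hlocG := isLocOn_of_isQuasicoherent G hW₀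
  set f := appLin φ W₀ with hf
  have hfapp : ∀ m, f m = φ.app W₀ m := fun m => rfl
  let P : PrimeSpectrum Γ(X, W₀) := ⟨germPrime W₀ x hxW₀, inferInstance⟩
  -- the kernel is killed by a function invertible at `x`
  have hK : ∃ g : Γ(X, W₀), g ∉ germPrime W₀ x hxW₀ ∧ ∀ k : Γ(F, W₀), f k = 0 → g • k = 0 := by
    by_contra hcon
    push Not at hcon
    have hle : Module.annihilator Γ(X, W₀) (LinearMap.ker f) ≤ P.asIdeal := by
      intro g hg
      by_contra hgP
      obtain ⟨k, hk, hgk⟩ := hcon g hgP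
      apply hgk
      have := Module.mem_annihilator.1 hg ⟨k, hk⟩
      exact congrArg Subtype.val this
    have hsupp : P ∈ Module.support Γ(X, W₀) (LinearMap.ker f) :=
      Module.mem_support_iff_of_finite.2 hle
    obtain ⟨k, hk⟩ := Module.mem_support_iff_exists_annihilator.1 hsupp
    have hgk : gm F W₀ x hxW₀ k.1 = 0 := by
      apply h.1
      rw [stalkLinearMap_gm, map_zero, ← hfapp, k.2]
      exact gm_zero G W₀ x hxW₀
    obtain ⟨g, hg, hgk'⟩ := (gm_eq_zero_iff hW₀ hlocF x hxW₀ k.1).1 hgk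
    apply hg
    apply hk
    rw [Submodule.mem_annihilator_span_singleton]
    exact Subtype.ext hgk'
  -- the cokernel is killed by a function invertible at `x`
  have hC : ∃ g : Γ(X, W₀), g ∉ germPrime W₀ x hxW₀ ∧ ∀ n : Γ(G, W₀), ∃ m, g • n = f m := by
    by_contra hcon
    push Not at hcon
    have hle : Module.annihilator Γ(X, W₀) (Γ(G, W₀) ⧸ LinearMap.range f) ≤ P.asIdeal := by
      intro g hg
      by_contra hgP
      obtain ⟨n, hn⟩ := hcon g hgP
      have h1 := Module.mem_annihilator.1 hg (Submodule.Quotient.mk n)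
      rw [← Submodule.Quotient.mk_smul, Submodule.Quotient.mk_eq_zero] at h1
      obtain ⟨m, hm⟩ := h1
      exact hn m hm.symm
    have hsupp : P ∈ Module.support Γ(X, W₀) (Γ(G, W₀) ⧸ LinearMap.range f) :=
      Module.mem_support_iff_of_finite.2 hle
    obtain ⟨nbar, hn⟩ := Module.mem_support_iff_exists_annihilator.1 hsupp
    obtain ⟨n, rfl⟩ := Submodule.Quotient.mk_surjective _ nbar
    obtain ⟨ν, hν⟩ := h.2 (gm G W₀ x hxW₀ n)
    obtain ⟨s, m, hs, hsm⟩ := exists_germ_smul_eq F hW₀ hlocF x hxW₀ ν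
    have hz : gm G W₀ x hxW₀ (s • n - f m) = 0 := by
      have h4 : gm G W₀ x hxW₀ (s • n - f m) = gm G W₀ x hxW₀ (s • n) - gm G W₀ x hxW₀ (f m) :=
        map_sub _ _ _
      rw [h4, gm_smul, hfapp, ← stalkLinearMap_gm, ← hsm, map_smul, hν, sub_self]
    obtain ⟨s', hs', hs'0⟩ := (gm_eq_zero_iff hW₀ hlocG x hxW₀ _).1 hz
    have hmem : s' * s ∈ P.asIdeal := by
      apply hn
      rw [Submodule.mem_annihilator_span_singleton, ← Submodule.Quotient.mk_smul,
        Submodule.Quotient.mk_eq_zero]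
      refine ⟨s' • m, ?_⟩
      rw [smul_sub, sub_eq_zero] at hs'0
      rw [map_smul, mul_smul, hs'0]
    rcases (inferInstance : (germPrime W₀ x hxW₀).IsPrime).mem_or_mem hmem with h5 | h5
    · exact hs' h5
    · exact (notMem_germPrime_iff W₀ x hxW₀ s).2 hs h5
  obtain ⟨g, hg, hgK⟩ := hK
  obtain ⟨g', hg', hgC⟩ := hC
  have hxg : x ∈ X.basicOpen (g * g') := by
    rw [Scheme.basicOpen_mul]
    exact ⟨by_contra fun hh => hg ((mem_germPrime_iff_notMem_basicOpen W₀ x hxW₀ g).2 hh),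
      by_contra fun hh => hg' ((mem_germPrime_iff_notMem_basicOpen W₀ x hxW₀ g').2 hh)⟩
  refine ⟨X.basicOpen (g * g'), hxg, fun y hy => ?_⟩
  have hyW₀ : y ∈ W₀ := X.basicOpen_le _ hy
  rw [Scheme.basicOpen_mul] at hy
  have hgy : g ∉ germPrime W₀ y hyW₀ := fun hh =>
    (mem_germPrime_iff_notMem_basicOpen W₀ y hyW₀ g).1 hh hy.1
  have hgy' : g' ∉ germPrime W₀ y hyW₀ := fun hh =>
    (mem_germPrime_iff_notMem_basicOpen W₀ y hyW₀ g').1 hh hy.2
  constructor
  · rw [← LinearMap.ker_eq_bot, LinearMap.ker_eq_bot']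
    intro μ hμ
    obtain ⟨s, m, hs, hsm⟩ := exists_germ_smul_eq F hW₀ hlocF y hyW₀ μ
    have h1 : gm G W₀ y hyW₀ (f m) = 0 := by
      rw [hfapp, ← stalkLinearMap_gm, ← hsm, map_smul, hμ, smul_zero]
    obtain ⟨s', hs', hs'0⟩ := (gm_eq_zero_iff hW₀ hlocG y hyW₀ _).1 h1
    have h2 : g • (s' • m) = 0 := hgK (s' • m) (by rw [map_smul, hs'0])
    have h3 : gm F W₀ y hyW₀ m = 0 := by
      rw [gm_eq_zero_iff hW₀ hlocF y hyW₀]
      refine ⟨g * s', ?_, by rw [mul_smul]; exact h2⟩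
      intro hh
      rcases (inferInstance : (germPrime W₀ y hyW₀).IsPrime).mem_or_mem hh with h5 | h5
      · exact hgy h5
      · exact hs' h5
    rw [h3] at hsm
    exact eq_zero_of_isUnit_smul hs hsm
  · intro τ
    obtain ⟨s, n, hs, hsn⟩ := exists_germ_smul_eq G hW₀ hlocG y hyW₀ τ
    obtain ⟨m, hm⟩ := hgC n
    have hu : IsUnit (X.presheaf.germ W₀ y hyW₀ g' * X.presheaf.germ W₀ y hyW₀ s) :=
      ((notMem_germPrime_iff W₀ y hyW₀ g').1 hgy').mul hs
    obtain ⟨v, hv⟩ := hu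
    refine ⟨(↑v⁻¹ : X.presheaf.stalk y) • gm F W₀ y hyW₀ m, ?_⟩
    rw [map_smul, stalkLinearMap_gm, ← hfapp, ← hm, gm_smul, ← hsn, smul_smul, smul_smul, mul_assoc,
      ← hv, Units.inv_mul, one_smul]

end Groth.Agent.Lib.Helper29.IsoOpen
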