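import Groth.Agent.S5752
import Groth.Agent.Lib.Helper21.DepthKit1

set_option autoImplicit false
set_option linter.unusedVariables false
set_option linter.style.haveILetI false
universe u

/-!
# Algebra behind Cartier divisors on locally Noetherian schemes (helper29)

`R` Noetherian, `a b : R`, `b` a nonzerodivisor, `p` a prime.  If `b ∤ a` in `R_p` then there is a
prime `q ≤ p`, associated to `R/bR`, with `b ∤ a` in `R_q`; and `depth R_q = 1` for such `q`.
-/

namespace Groth.Agent.Lib.Helper29.MeroAlg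

open IsLocalRing Module

section dvd

variable {R : Type u} [CommRing R] (q : Ideal R) [q.IsPrime] (B : Type u) [CommRing B] [Algebra R B]
  [IsLocalization.AtPrime B q]

/-- divisibility in the localization at a prime -/
theorem dvd_map_iff (a b : R) :
    algebraMap R B b ∣ algebraMap R B a ↔ ∃ s, s ∉ q ∧ b ∣ s * a := by
  constructor
  · rintro ⟨β, hβ⟩
    obtain ⟨r, t, rfl⟩ := IsLocalization.exists_mk'_eq q.primeCompl β
    have h1 : algebraMap R B (a * t) = algebraMap R B (b * r) := by
      rw [map_mul, hβ, mul_assoc, IsLocalization.mk'_spec, map_mul]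
    obtain ⟨c, hc⟩ := (IsLocalization.eq_iff_exists q.primeCompl B).1 h1
    refine ⟨c * t, ?_, ⟨c * r, ?_⟩⟩
    · exact fun h => (‹q.IsPrime›.mem_or_mem h).elim c.2 t.2
    · calc (c : R) * t * a = c * (a * t) := by ring
        _ = c * (b * r) := hc
        _ = b * (c * r) := by ring
  · rintro ⟨s, hs, r, hr⟩
    have hu : IsUnit (algebraMap R B s) :=
      IsLocalization.map_units B (⟨s, hs⟩ : q.primeCompl)
    obtain ⟨u, hu'⟩ := hu
    refine ⟨algebraMap R B r * (u⁻¹ : Bˣ), ?_⟩
    have h2 : algebraMap R B s * algebraMap R B a = algebraMap R B b * algebraMap R B r := by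
      rw [← map_mul, hr, map_mul]
    rw [← hu'] at h2
    calc algebraMap R B a = (u⁻¹ : Bˣ) * (u * algebraMap R B a) := by
          rw [← mul_assoc, Units.inv_mul, one_mul]
      _ = (u⁻¹ : Bˣ) * (algebraMap R B b * algebraMap R B r) := by rw [h2]
      _ = _ := by ring

end dvd

section core

variable {R : Type u} [CommRing R] [IsNoetherianRing R]

/-- if `q = (bR : c)` then `depth R_q = 1` (for `b` a nonzerodivisor) -/
theorem depth_eq_one_of_colon (b c : R) (hb : b ∈ nonZeroDivisors R) (q : Ideal R) [q.IsPrime]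
    (hq : ∀ r, r ∈ q ↔ b ∣ r * c)
    (B : Type u) [CommRing B] [IsLocalRing B] [Algebra R B] [IsLocalization.AtPrime B q] :
    LocCoh.depth B B = 1 := by
  haveI : IsNoetherianRing B := IsLocalization.isNoetherianRing q.primeCompl B inferInstance
  set b' := algebraMap R B b with hb'
  set c' := algebraMap R B c with hc'
  have hbq : b ∈ q := (hq b).2 ⟨c, rfl⟩
  have hbm : b' ∈ maximalIdeal B := (IsLocalization.AtPrime.to_map_mem_maximal_iff B q b).2 hbq
  have hbnzd : b' ∈ nonZeroDivisors B :=
    IsLocalization.map_nonZeroDivisors_le q.primeCompl B (Submonoid.mem_map_of_mem _ hb)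
  have hreg : IsSMulRegular B b' := by
    rw [isSMulRegular_iff_right_eq_zero_of_smul]
    intro x hx
    exact (mem_nonZeroDivisors_iff.1 hbnzd).1 x hx
  have hass : maximalIdeal B ∈ associatedPrimes B (QuotSMulTop b' B) := by
    rw [AssociatedPrimes.mem_iff, isAssociatedPrime_iff]
    refine ⟨inferInstance, Submodule.Quotient.mk c', ?_⟩
    ext β
    rw [Submodule.mem_colon_singleton, Submodule.mem_bot, ← Submodule.Quotient.mk_smul,
      Submodule.Quotient.mk_eq_zero, Submodule.mem_smul_pointwise_iff_exists]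
    constructor
    · intro hβ
      obtain ⟨r, t, rfl⟩ := IsLocalization.exists_mk'_eq q.primeCompl β
      rw [IsLocalization.AtPrime.mk'_mem_maximal_iff B q] at hβ
      obtain ⟨d, hd⟩ := (hq r).1 hβ
      refine ⟨IsLocalization.mk' B d t, trivial, ?_⟩
      rw [smul_eq_mul, smul_eq_mul, hb', hc', mul_comm _ (algebraMap R B c),
        IsLocalization.mul_mk'_eq_mk'_of_mul, IsLocalization.mul_mk'_eq_mk'_of_mul,
        mul_comm c r, hd]
    · rintro ⟨δ, -, hδ⟩
      by_contra hβ
      have hu : IsUnit β := by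
        by_contra h
        exact hβ ((IsLocalRing.mem_maximalIdeal β).2 h)
      obtain ⟨u, rfl⟩ := hu
      have h1 : b' ∣ c' := by
        refine ⟨(u⁻¹ : Bˣ) * δ, ?_⟩
        simp only [smul_eq_mul] at hδ
        calc c' = (u⁻¹ : Bˣ) * (u * c') := by rw [← mul_assoc, Units.inv_mul, one_mul]
          _ = (u⁻¹ : Bˣ) * (b' * δ) := by rw [hδ]
          _ = _ := by ring
      obtain ⟨s, hs, hsc⟩ := (dvd_map_iff q B c b).1 h1
      exact hs ((hq s).2 hsc)
  have h0 : LocCoh.depth B (QuotSMulTop b' B) = 0 :=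
    (Groth.Agent.S5752.result B (QuotSMulTop b' B)).2 hass
  have h1 := Groth.Agent.Lib.Helper21.DepthKit.depth_quotSMulTop (A := B) (M := B) b' hbm hreg
  rw [h0, zero_add] at h1
  exact h1.symm

/-- the core lemma -/
theorem exists_prime_depth_one (a b : R) (hb : b ∈ nonZeroDivisors R) (p : Ideal R) [p.IsPrime]
    (h : ∀ s, s ∉ p → ¬ b ∣ s * a) :
    ∃ (q : Ideal R) (_ : q.IsPrime), q ≤ p ∧ (∀ s, s ∉ q → ¬ b ∣ s * a) ∧
      ∀ (B : Type u) [CommRing B] [IsLocalRing B] [Algebra R B] [IsLocalization.AtPrime B q],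
        LocCoh.depth B B = 1 := by
  set M := R ⧸ Ideal.span {b} with hM
  set Rp := Localization.AtPrime p with hRp
  set f := LocalizedModule.mkLinearMap p.primeCompl M with hf
  haveI : IsNoetherianRing Rp := IsLocalization.isNoetherianRing p.primeCompl Rp inferInstance
  have hmk : ∀ r : R, (Ideal.Quotient.mk (Ideal.span {b}) r = 0) ↔ b ∣ r := fun r => by
    rw [Ideal.Quotient.eq_zero_iff_mem, Ideal.mem_span_singleton]
  have hn : f (Ideal.Quotient.mk _ a) ≠ 0 := by
    intro h0
    obtain ⟨c, hc⟩ := (IsLocalizedModule.eq_zero_iff p.primeCompl f).1 h0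
    apply h c.1 c.2
    rw [← hmk, map_mul]
    exact hc
  obtain ⟨Q, hQ, hle⟩ := exists_le_isAssociatedPrime_of_isNoetherianRing Rp _ hn
  haveI := hQ.isPrime
  have hq : Q.comap (algebraMap R Rp) ∈ associatedPrimes R M :=
    Module.associatedPrimes.comap_mem_associatedPrimes_of_mem_associatedPrimes_of_isLocalizedModule_of_fg
      p.primeCompl f Q hQ ((isNoetherianRing_iff_ideal_fg R).mp inferInstance _)
  set q := Q.comap (algebraMap R Rp) with hqdef
  haveI : q.IsPrime := Ideal.IsPrime.comap _
  refine ⟨q, inferInstance, ?_, ?_, ?_⟩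
  · intro r hr
    by_contra hrp
    have : IsUnit (algebraMap R Rp r) := IsLocalization.map_units Rp (⟨r, hrp⟩ : p.primeCompl)
    exact hQ.isPrime.ne_top (Ideal.eq_top_of_isUnit_mem _ hr this)
  · intro s hs hdvd
    apply hs
    rw [hqdef, Ideal.mem_comap]
    apply hle
    rw [Submodule.mem_colon_singleton, Submodule.mem_bot, algebraMap_smul, ← map_smul]
    have : s • (Ideal.Quotient.mk (Ideal.span {b}) a) = 0 := by
      have h2 : s • (Ideal.Quotient.mk (Ideal.span {b}) a) = Ideal.Quotient.mk _ (s * a) := rfl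
      rw [h2, hmk]
      exact hdvd
    rw [this, map_zero]
  · rw [AssociatedPrimes.mem_iff, isAssociatedPrime_iff] at hq
    obtain ⟨-, x, hx⟩ := hq
    obtain ⟨c, rfl⟩ := Ideal.Quotient.mk_surjective x
    intro B _ _ _ _
    refine depth_eq_one_of_colon b c hb q (fun r => ?_) B
    rw [hx, Submodule.mem_colon_singleton, Submodule.mem_bot]
    have h2 : r • (Ideal.Quotient.mk (Ideal.span {b}) c) = Ideal.Quotient.mk _ (r * c) := rfl
    rw [h2, hmk]

end core

end Groth.Agent.Lib.Helper29.MeroAlg
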