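import Mathlib

set_option autoImplicit false
set_option linter.unusedVariables false
set_option linter.style.haveILetI false
universe u

/-!
# Zero-divisors in localizations of a Noetherian ring and associated primes (helper29)
-/

namespace Groth.Agent.Lib.Helper29.MeroAlg

open IsLocalRing Module

variable {R : Type u} [CommRing R] [IsNoetherianRing R]

/-- if `t` becomes a zero-divisor in `R_p`, it lies in an associated prime of `R` contained in `p` -/
theorem exists_ass_le_of_not_nzd (p : Ideal R) [p.IsPrime] (B : Type u) [CommRing B] [Algebra R B]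
    [IsLocalization.AtPrime B p] (t : R) (ht : algebraMap R B t ∉ nonZeroDivisors B) :
    ∃ q : Ideal R, q ∈ associatedPrimes R R ∧ q ≤ p ∧ t ∈ q := by
  haveI : IsNoetherianRing B := IsLocalization.isNoetherianRing p.primeCompl B inferInstance
  rw [mem_nonZeroDivisors_iff_right] at ht
  push Not at ht
  obtain ⟨c, hc, hc0⟩ := ht
  obtain ⟨Q, hQ, hle⟩ := exists_le_isAssociatedPrime_of_isNoetherianRing B c hc0
  haveI := hQ.isPrime
  have hq : Q.comap (algebraMap R B) ∈ associatedPrimes R R :=
    Module.associatedPrimes.comap_mem_associatedPrimes_of_mem_associatedPrimes_of_isLocalizedModule_of_fg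
      p.primeCompl (Algebra.linearMap R B) Q hQ ((isNoetherianRing_iff_ideal_fg R).mp inferInstance _)
  refine ⟨_, hq, ?_, ?_⟩
  · intro r hr
    by_contra hrp
    have : IsUnit (algebraMap R B r) := IsLocalization.map_units B (⟨r, hrp⟩ : p.primeCompl)
    exact hQ.isPrime.ne_top (Ideal.eq_top_of_isUnit_mem _ hr this)
  · rw [Ideal.mem_comap]
    apply hle
    rw [Submodule.mem_colon_singleton, Submodule.mem_bot, smul_eq_mul, mul_comm]
    exact hc

/-- the maximal ideal of `R_q` is associated when `q` is -/
theorem maximalIdeal_mem_ass (q : Ideal R) [q.IsPrime] (hq : q ∈ associatedPrimes R R)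
    (B : Type u) [CommRing B] [IsLocalRing B] [Algebra R B] [IsLocalization.AtPrime B q] :
    IsAssociatedPrime (maximalIdeal B) B := by
  apply Module.associatedPrimes.mem_associatedPrimes_of_comap_mem_associatedPrimes_of_isLocalizedModule
    q.primeCompl (Algebra.linearMap R B) (maximalIdeal B)
  have h1 : Ideal.comap (algebraMap R B) (maximalIdeal B) = q :=
    IsLocalization.AtPrime.comap_maximalIdeal B q
  rw [h1]
  exact hq

end Groth.Agent.Lib.Helper29.MeroAlg
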