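import Groth.Agent.Lib.Helper29.MeroDiv
import Groth.Agent.Lib.Helper29.MeroAlg2

set_option autoImplicit false
set_option linter.unusedVariables false
set_option linter.style.haveILetI false
universe u

namespace Groth.Agent.Lib.Helper29.MeroDiv

open AlgebraicGeometry TopologicalSpace CategoryTheory Opposite Mero

variable {X : Scheme.{u}}

/-- on a locally Noetherian scheme, a section whose germ at `x` is a zero-divisor is a non-unit at an
associated point `z ⤳ x` of the structure sheaf -/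
theorem exists_assPoint_of_not_nzd [IsLocallyNoetherian X] {V : X.Opens} (t : Γ(X, V)) (x : X)
    (hx : x ∈ V) (ht : X.presheaf.germ V x hx t ∉ nonZeroDivisors (X.presheaf.stalk x)) :
    ∃ (z : X) (hzx : z ⤳ x),
      IsAssociatedPrime (IsLocalRing.maximalIdeal (X.presheaf.stalk z)) (X.presheaf.stalk z) ∧
        ¬ IsUnit (X.presheaf.germ V z (hzx.mem_open V.2 hx) t) := by
  obtain ⟨_, ⟨W, hW, rfl⟩, hxW, hWV⟩ := X.isBasis_affineOpens.exists_subset_of_mem_open hx V.2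
  have hWV' : W ≤ V := hWV
  haveI : IsNoetherianRing Γ(X, W) := IsLocallyNoetherian.component_noetherian ⟨W, hW⟩
  set t' := X.presheaf.map (homOfLE hWV').op t with ht'
  letI := X.presheaf.algebra_section_stalk ⟨x, hxW⟩
  haveI := hW.isLocalization_stalk ⟨x, hxW⟩
  have h1 : algebraMap Γ(X, W) (X.presheaf.stalk x) t' ∉ nonZeroDivisors (X.presheaf.stalk x) := by
    change X.presheaf.germ W x hxW t' ∉ _
    rw [ht', TopCat.Presheaf.germ_res_apply]
    exact ht
  obtain ⟨q, hq, hqle, htq⟩ := Groth.Agent.Lib.Helper29.MeroAlg.exists_ass_le_of_not_nzd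
    (hW.primeIdealOf ⟨x, hxW⟩).asIdeal (X.presheaf.stalk x) t' h1
  haveI hqp : q.IsPrime := hq.isPrime
  have hz : hW.fromSpec ⟨q, hqp⟩ ∈ W := fromSpec_mem' hW _
  have hpz : hW.primeIdealOf ⟨hW.fromSpec ⟨q, hqp⟩, hz⟩ = ⟨q, hqp⟩ := primeIdealOf_fromSpec hW _
  have hzx : hW.fromSpec ⟨q, hqp⟩ ⤳ x := by
    have h1 : hW.fromSpec (hW.primeIdealOf ⟨x, hxW⟩) = x := hW.fromSpec_primeIdealOf ⟨x, hxW⟩
    rw [← h1]
    apply Specializes.map _ hW.fromSpec.continuous
    exact (PrimeSpectrum.le_iff_specializes (⟨q, hqp⟩ : PrimeSpectrum Γ(X, W))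
      (hW.primeIdealOf ⟨x, hxW⟩)).1 hqle
  letI := X.presheaf.algebra_section_stalk ⟨hW.fromSpec ⟨q, hqp⟩, hz⟩
  haveI : IsLocalization.AtPrime (X.presheaf.stalk (hW.fromSpec ⟨q, hqp⟩)) q := by
    have := hW.isLocalization_stalk ⟨hW.fromSpec ⟨q, hqp⟩, hz⟩
    rw [hpz] at this
    exact this
  refine ⟨hW.fromSpec ⟨q, hqp⟩, hzx, ?_, ?_⟩
  · exact Groth.Agent.Lib.Helper29.MeroAlg.maximalIdeal_mem_ass q hq _
  · have h2 : algebraMap Γ(X, W) (X.presheaf.stalk (hW.fromSpec ⟨q, hqp⟩)) t' ∈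
        IsLocalRing.maximalIdeal (X.presheaf.stalk (hW.fromSpec ⟨q, hqp⟩)) :=
      (IsLocalization.AtPrime.to_map_mem_maximal_iff _ q t').2 htq
    have h3 : algebraMap Γ(X, W) (X.presheaf.stalk (hW.fromSpec ⟨q, hqp⟩)) t' =
        X.presheaf.germ V _ (hzx.mem_open V.2 hx) t := by
      change X.presheaf.germ W _ hz t' = _
      rw [ht', TopCat.Presheaf.germ_res_apply]
    rw [h3] at h2
    exact (IsLocalRing.mem_maximalIdeal _).1 h2

end Groth.Agent.Lib.Helper29.MeroDiv
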