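import Groth.Agent.Lib.Helper29.MeroDiv2

set_option autoImplicit false
set_option linter.unusedVariables false
set_option linter.style.haveILetI false
universe u

namespace Groth.Agent.Lib.Helper29.MeroDiv

open AlgebraicGeometry TopologicalSpace CategoryTheory Opposite Mero

variable {X : Scheme.{u}}

/-- restriction of a unit of `Γ(U, K_X)` -/
noncomputable def resUnit {U V : X.Opens} (i : V ⟶ U) (f : (Γ(kmod X, U))ˣ) : (Γ(kmod X, V))ˣ :=
  Units.map ((kring X).obj.map i.op).hom.toMonoidHom f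

theorem resUnit_val_apply {U V : X.Opens} (i : V ⟶ U) (f : (Γ(kmod X, U))ˣ) (y : V) :
    ((resUnit i f : (Γ(kmod X, V))ˣ) : Γ(kmod X, V)).1 y = (f : Γ(kmod X, U)).1 ⟨y.1, i.le y.2⟩ := rfl

theorem resUnit_inv_apply {U V : X.Opens} (i : V ⟶ U) (f : (Γ(kmod X, U))ˣ) (y : V) :
    (((resUnit i f)⁻¹ : (Γ(kmod X, V))ˣ) : Γ(kmod X, V)).1 y =
      ((f⁻¹ : (Γ(kmod X, U))ˣ) : Γ(kmod X, U)).1 ⟨y.1, i.le y.2⟩ := rfl

theorem germOf_resUnit {U V : X.Opens} (i : V ⟶ U) (f : (Γ(kmod X, U))ˣ) (y : V) :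
    germOf (resUnit i f) y = germOf f ⟨y.1, i.le y.2⟩ :=
  congrArg _ (Units.ext rfl)

/-- two divisors are given by units on a common neighbourhood -/
theorem exists_common_unit (D D' : Divisor X) (x : X) :
    ∃ (V : X.Opens) (hx : x ∈ V) (f f' : (Γ(kmod X, V))ˣ),
      (∀ y : V, D.1 y.1 = germOf f y) ∧ (∀ y : V, D'.1 y.1 = germOf f' y) := by
  obtain ⟨U, hxU, f, hf⟩ := D.2 x
  obtain ⟨U', hxU', f', hf'⟩ := D'.2 x
  refine ⟨U ⊓ U', ⟨hxU, hxU'⟩, resUnit (homOfLE inf_le_left) f, resUnit (homOfLE inf_le_right) f',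
    fun y => ?_, fun y => ?_⟩
  · rw [germOf_resUnit]; exact hf ⟨y.1, y.2.1⟩
  · rw [germOf_resUnit]; exact hf' ⟨y.1, y.2.2⟩

/-- the condition cutting out `O_X(D)` where `D` is the divisor of `f` -/
theorem divCond_iff {V : X.Opens} (f : (Γ(kmod X, V))ˣ) (D : Divisor X) (y : V)
    (hD : D.1 y.1 = germOf f y) (t : KStalk X y.1) :
    DivCond D y.1 t ↔
      t * (f : Γ(kmod X, V)).1 y ∈ (algebraMap (X.presheaf.stalk y.1) (KStalk X y.1)).range := by
  constructor
  · intro h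
    exact h (Units.map (evalK X V y).toMonoidHom f) hD
  · intro h g hg
    rw [hD, germOf, QuotientGroup.eq] at hg
    obtain ⟨u, hu⟩ := hg
    have h1 : (g : KStalk X y.1) = (f : Γ(kmod X, V)).1 y *
        algebraMap (X.presheaf.stalk y.1) (KStalk X y.1) u := by
      have := congrArg (fun w : (KStalk X y.1)ˣ =>
        ((Units.map (evalK X V y).toMonoidHom f : (KStalk X y.1)ˣ) : KStalk X y.1) * w) hu
      simp only [Units.val_mul, Units.mul_inv_cancel_left] at this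
      exact this.symm
    rw [h1, ← mul_assoc]
    exact mul_mem h ⟨u, rfl⟩

end Groth.Agent.Lib.Helper29.MeroDiv
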