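import Groth.Agent.Lib.Helper29.MeroDiv

set_option autoImplicit false
set_option linter.unusedVariables false
set_option linter.style.haveILetI false
universe u

namespace Groth.Agent.Lib.Helper29.MeroDiv

open AlgebraicGeometry TopologicalSpace CategoryTheory Opposite Mero

variable {X : Scheme.{u}}

/-- the section `1/s` of `K_X` for `s` regular -/
noncomputable def invReg {U : X.Opens} (s : regSub X U) : Γ(kmod X, U) :=
  ⟨fun y => LocalizedModule.mk 1 (regGerm y s), fun y => ⟨U, y.2, 𝟙 _, 1, s, fun z =>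
    mk_congr (map_one _).symm rfl⟩⟩

theorem invReg_apply {U : X.Opens} (s : regSub X U) (y : U) :
    (invReg s).1 y = LocalizedModule.mk 1 (regGerm y s) := rfl

/-- a regular section as a unit of `Γ(U, K_X)` -/
noncomputable def regUnit {U : X.Opens} (s : regSub X U) : (Γ(kmod X, U))ˣ where
  val := toK X U s.1
  inv := invReg s
  val_inv := by
    refine Subtype.ext (funext fun y => ?_)
    rw [kmod_mul_apply, kmod_one_apply, toK_apply, invReg_apply, mk_mul_mk, mk_eq_one_iff]
    simp
  inv_val := by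
    refine Subtype.ext (funext fun y => ?_)
    rw [kmod_mul_apply, kmod_one_apply, toK_apply, invReg_apply, mk_mul_mk, mk_eq_one_iff]
    simp

theorem germOf_regUnit_eq_one_iff {U : X.Opens} (s : regSub X U) (y : U) :
    germOf (regUnit s) y = 1 ↔ IsUnit (X.presheaf.germ U y.1 y.2 s.1) := by
  have hg : ((Units.map (evalK X U y).toMonoidHom (regUnit s) : (KStalk X y.1)ˣ) : KStalk X y.1) =
      LocalizedModule.mk (X.presheaf.germ U y.1 y.2 s.1) 1 := rfl
  rw [germOf, mk_eq_one_iff_exists_unit y.1 _ _ _ hg]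
  constructor
  · rintro ⟨u, hu⟩
    rw [← hu]
    simp
  · rintro ⟨u, hu⟩
    exact ⟨u, by rw [hu]; simp⟩

/-- where `D` is non-trivial the local ring has a non-unit nonzerodivisor -/
theorem exists_nonunit_of_ne_one (D : Divisor X) (z : X) (hz : D.1 z ≠ 1) :
    ∃ t : X.presheaf.stalk z, t ∈ nonZeroDivisors (X.presheaf.stalk z) ∧ ¬ IsUnit t := by
  obtain ⟨W, hW, hzW, a, b, ha, hb, hab⟩ := exists_presentation D z
  obtain ⟨g, hDg, hg⟩ := hab z hzW
  rw [hDg, Ne, mk_eq_one_iff_dvd z g _ _ hg] at hz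
  by_contra hcon
  push Not at hcon
  exact hz ⟨(hcon _ (hb ⟨z, hzW⟩)).dvd, (hcon _ (ha ⟨z, hzW⟩)).dvd⟩

/-- if all nonzerodivisors of `O_{X,x}` are units, every divisor is trivial at the generizations
of `x` -/
theorem eq_one_of_specializes (D : Divisor X) (x : X)
    (hx : ∀ t ∈ nonZeroDivisors (X.presheaf.stalk x), IsUnit t) (y : X) (hyx : y ⤳ x) :
    D.1 y = 1 := by
  obtain ⟨W, hW, hxW, a, b, ha, hb, hab⟩ := exists_presentation D x
  have hyW : y ∈ W := hyx.mem_open W.2 hxW
  obtain ⟨g, hDg, hg⟩ := hab y hyW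
  rw [hDg, mk_eq_one_iff_dvd y g _ _ hg]
  have key : ∀ c : Γ(X, W), c ∈ regSub X W → IsUnit (X.presheaf.germ W y hyW c) := by
    intro c hc
    have h1 := hx _ (hc ⟨x, hxW⟩)
    have h2 : X.presheaf.stalkSpecializes hyx (X.presheaf.germ W x hxW c) =
        X.presheaf.germ W y hyW c :=
      TopCat.Presheaf.germ_stalkSpecializes_apply X.presheaf hxW hyx c
    rw [← h2]
    exact h1.map _
  exact ⟨(key b hb).dvd, (key a ha).dvd⟩

end Groth.Agent.Lib.Helper29.MeroDiv
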