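import Groth.Agent.Lib.Helper29.MeroWeak
import Groth.Agent.Lib.Helper29.MeroDiv3
import Groth.Agent.S10851
import Groth.Agent.S8863

set_option autoImplicit false
set_option linter.unusedVariables false
set_option linter.style.haveILetI false
universe u

namespace Groth.Agent.Lib.Helper29.MeroDiv

open AlgebraicGeometry TopologicalSpace CategoryTheory Opposite Mero

variable {C : Scheme.{u}}

/-- on an absolute curve, a point whose local ring has a non-unit nonzerodivisor is closed -/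
theorem isClosed_of_nonunit_nzd [IsNoetherian C]
    (hC : ∀ x : C, IsClosed ({x} : Set C) → ringKrullDim (C.presheaf.stalk x) = 1)
    (y : C) (t : C.presheaf.stalk y) (ht : t ∈ nonZeroDivisors (C.presheaf.stalk y))
    (hu : ¬ IsUnit t) : IsClosed ({y} : Set C) := by
  obtain ⟨z, hz, hzc⟩ := IsClosed.exists_closed_singleton (isClosed_closure (s := ({y} : Set C)))
    ⟨y, subset_closure rfl⟩
  have hyz : y ⤳ z := specializes_iff_mem_closure.2 hz
  rcases eq_or_ne y z with rfl | hne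
  · exact hzc
  exfalso
  obtain ⟨W, hW, hzW, -⟩ := exists_isAffineOpen_mem_and_subset (x := z) (U := ⊤) trivial
  have hyW : y ∈ W := hyz.mem_open W.isOpen hzW
  set py := hW.primeIdealOf ⟨y, hyW⟩ with hpy
  set pz := hW.primeIdealOf ⟨z, hzW⟩ with hpz
  have hle : py.asIdeal ≤ pz.asIdeal := by
    rw [← fromSpec_specializes_iff hW, hpy, hpz, hW.fromSpec_primeIdealOf, hW.fromSpec_primeIdealOf]
    exact hyz
  have hne' : py.asIdeal ≠ pz.asIdeal := by
    intro h
    apply hne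
    have h1 : py = pz := PrimeSpectrum.ext h
    have h2 := congrArg hW.fromSpec h1
    rw [hpy, hpz, hW.fromSpec_primeIdealOf, hW.fromSpec_primeIdealOf] at h2
    exact h2
  have hlt : py.asIdeal < pz.asIdeal := lt_of_le_of_ne hle hne'
  letI := C.presheaf.algebra_section_stalk ⟨z, hzW⟩
  haveI := hW.isLocalization_stalk ⟨z, hzW⟩
  have hdz : ringKrullDim (C.presheaf.stalk z) = pz.asIdeal.height :=
    IsLocalization.AtPrime.ringKrullDim_eq_height pz.asIdeal (C.presheaf.stalk z)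
  letI := C.presheaf.algebra_section_stalk ⟨y, hyW⟩
  haveI := hW.isLocalization_stalk ⟨y, hyW⟩
  have hdy : ringKrullDim (C.presheaf.stalk y) = py.asIdeal.height :=
    IsLocalization.AtPrime.ringKrullDim_eq_height py.asIdeal (C.presheaf.stalk y)
  have h1 : pz.asIdeal.height = 1 := by
    have := hC z hzc
    rw [hdz] at this
    exact_mod_cast this
  haveI : pz.asIdeal.FiniteHeight := by
    rw [Ideal.finiteHeight_iff]
    right
    rw [h1]
    exact ENat.one_ne_top
  have h2 : py.asIdeal.height < pz.asIdeal.height :=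
    Ideal.height_strict_mono_of_isPrime_of_isPrime hlt
  rw [h1] at h2
  have h3 : py.asIdeal.height = 0 := Order.lt_one_iff.1 h2
  have h4 := Groth.Agent.S10851.one_le_ringKrullDim_of_nonunit_nzd t ht hu
  rw [hdy, h3] at h4
  exact absurd h4 (by decide)

/-- a germ is a unit iff the section is outside the prime -/
theorem isUnit_germ_iff_notMem {W : C.Opens} (hW : IsAffineOpen W) (a : Γ(C, W)) (y : C) (hy : y ∈ W) :
    IsUnit (C.presheaf.germ W y hy a) ↔ a ∉ (hW.primeIdealOf ⟨y, hy⟩).asIdeal := by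
  rw [← Scheme.mem_basicOpen C a y hy]
  have h1 : y ∈ C.basicOpen a ↔ hW.primeIdealOf ⟨y, hy⟩ ∈ hW.fromSpec ⁻¹ᵁ C.basicOpen a := by
    change _ ↔ hW.fromSpec (hW.primeIdealOf ⟨y, hy⟩) ∈ C.basicOpen a
    rw [hW.fromSpec_primeIdealOf]
  rw [h1, hW.fromSpec_preimage_basicOpen]
  rfl

/-- on an absolute curve, a regular function on an affine open is a unit outside finitely many points -/
theorem finite_nonunit_locus [IsNoetherian C]
    (hC : ∀ x : C, IsClosed ({x} : Set C) → ringKrullDim (C.presheaf.stalk x) = 1)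
    {W : C.Opens} (hW : IsAffineOpen W) (a : Γ(C, W)) (ha : a ∈ regSub C W) :
    {y : C | ∃ hy : y ∈ W, ¬ IsUnit (C.presheaf.germ W y hy a)}.Finite := by
  haveI : IsNoetherianRing Γ(C, W) := IsLocallyNoetherian.component_noetherian ⟨W, hW⟩
  have hM := Ideal.finite_minimalPrimes_of_isNoetherianRing Γ(C, W) (Ideal.span {a})
  have hM' : {p : PrimeSpectrum Γ(C, W) | p.asIdeal ∈ (Ideal.span {a}).minimalPrimes}.Finite :=
    hM.preimage (fun p _ q _ h => PrimeSpectrum.ext h)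
  refine (hM'.image (fun p => hW.fromSpec p)).subset ?_
  rintro y ⟨hy, hyu⟩
  have hyc : IsClosed ({y} : Set C) := isClosed_of_nonunit_nzd hC y _ (ha ⟨y, hy⟩) hyu
  rw [isUnit_germ_iff_notMem hW, not_not] at hyu
  have hle : Ideal.span {a} ≤ (hW.primeIdealOf ⟨y, hy⟩).asIdeal := by
    rw [Ideal.span_le]
    intro b hb
    rw [Set.mem_singleton_iff] at hb
    rw [hb]
    exact hyu
  obtain ⟨q, hq, hqle⟩ := Ideal.exists_minimalPrimes_le hle
  haveI := hq.1.1
  let q' : PrimeSpectrum Γ(C, W) := ⟨q, hq.1.1⟩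
  have haq : a ∈ q := hq.1.2 (Ideal.subset_span rfl)
  have hy'W := fromSpec_mem' hW q'
  have hy'u : ¬ IsUnit (C.presheaf.germ W (hW.fromSpec q') hy'W a) := by
    rw [isUnit_germ_iff_notMem hW, not_not, primeIdealOf_fromSpec]
    exact haq
  have hy'c : IsClosed ({hW.fromSpec q'} : Set C) :=
    isClosed_of_nonunit_nzd hC _ _ (ha ⟨_, hy'W⟩) hy'u
  have hsp : hW.fromSpec q' ⤳ y := by
    have := (fromSpec_specializes_iff hW q' (hW.primeIdealOf ⟨y, hy⟩)).2 hqle
    rw [hW.fromSpec_primeIdealOf] at this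
    exact this
  have heq : y = hW.fromSpec q' := by
    have := specializes_iff_mem_closure.1 hsp
    rw [hy'c.closure_eq] at this
    exact this
  exact ⟨q', hq, heq.symm⟩

/-- a unit of `K_{X,y}` is `α/β` with `α` a nonzerodivisor -/
theorem exists_mk_eq_unit {X : Scheme.{u}} (y : X) (q : (KStalk X y)ˣ) :
    ∃ (α : X.presheaf.stalk y) (β : regStalk X y), (q : KStalk X y) = LocalizedModule.mk α β ∧
      α ∈ nonZeroDivisors (X.presheaf.stalk y) := by
  obtain ⟨α, β, h⟩ := IsLocalization.exists_mk'_eq (regStalk X y) (q : KStalk X y)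
  obtain ⟨α', β', h'⟩ := IsLocalization.exists_mk'_eq (regStalk X y)
    ((q⁻¹ : (KStalk X y)ˣ) : KStalk X y)
  rw [← mk_eq_mk'] at h h'
  refine ⟨α, β, h.symm, ?_⟩
  have h1 : (LocalizedModule.mk α β : KStalk X y) * LocalizedModule.mk α' β' = 1 := by
    rw [h, h', Units.mul_inv]
  rw [mk_mul_mk, mk_eq_one_iff] at h1
  have h2 : α * α' ∈ nonZeroDivisors (X.presheaf.stalk y) := by
    rw [h1]
    exact regStalk_le_nonZeroDivisors y (β * β').2
  exact (mul_mem_nonZeroDivisors.1 h2).1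

/-- where all nonzerodivisors are units the group of germs of divisors is trivial -/
theorem germ_eq_one_of_forall_isUnit {X : Scheme.{u}} (y : X)
    (h : ∀ t ∈ nonZeroDivisors (X.presheaf.stalk y), IsUnit t) (g : Germ X y) : g = 1 := by
  obtain ⟨q, rfl⟩ := QuotientGroup.mk_surjective g
  obtain ⟨α, β, hq, hα⟩ := exists_mk_eq_unit y q
  rw [mk_eq_one_iff_exists_unit y q α β hq]
  obtain ⟨uα, huα⟩ := h α hα
  obtain ⟨uβ, huβ⟩ := h β (regStalk_le_nonZeroDivisors y β.2)
  refine ⟨uα * uβ⁻¹, ?_⟩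
  rw [← huα, ← huβ, Units.val_mul, mul_assoc, Units.inv_mul, mul_one]

theorem germ_eq_one_of_not_isClosed [IsNoetherian C]
    (hC : ∀ x : C, IsClosed ({x} : Set C) → ringKrullDim (C.presheaf.stalk x) = 1)
    (y : C) (hy : ¬ IsClosed ({y} : Set C)) (g : Germ C y) : g = 1 := by
  refine germ_eq_one_of_forall_isUnit y (fun t ht => ?_) g
  by_contra hu
  exact hy (isClosed_of_nonunit_nzd hC y t ht hu)

/-- divisors on an absolute curve have finite support -/
theorem finite_supp [IsNoetherian C]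
    (hC : ∀ x : C, IsClosed ({x} : Set C) → ringKrullDim (C.presheaf.stalk x) = 1)
    (D : Divisor C) : {x : C | D.1 x ≠ 1}.Finite := by
  choose W hW hxW a b ha hb hab using exists_presentation D
  obtain ⟨t, ht⟩ := CompactSpace.elim_nhds_subcover (fun x => ((W x : C.Opens) : Set C))
    (fun x => (W x).isOpen.mem_nhds (hxW x))
  have hfin : (⋃ x ∈ t, ({y : C | ∃ hy : y ∈ W x, ¬ IsUnit (C.presheaf.germ (W x) y hy (a x))} ∪
      {y : C | ∃ hy : y ∈ W x, ¬ IsUnit (C.presheaf.germ (W x) y hy (b x))})).Finite :=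
    Set.Finite.biUnion t.finite_toSet (fun x _ =>
      (finite_nonunit_locus hC (hW x) (a x) (ha x)).union
        (finite_nonunit_locus hC (hW x) (b x) (hb x)))
  refine hfin.subset ?_
  intro y hy
  have hy' : y ∈ (⋃ x ∈ t, ((W x : C.Opens) : Set C)) := by rw [ht]; trivial
  simp only [Set.mem_iUnion] at hy' ⊢
  obtain ⟨x, hxt, hyW⟩ := hy'
  refine ⟨x, hxt, ?_⟩
  obtain ⟨g, hDg, hg⟩ := hab x y hyW
  have hy1 : D.1 y ≠ 1 := hy
  rw [hDg, Ne, mk_eq_one_iff_dvd y g _ _ hg] at hy1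
  by_contra hcon
  rw [Set.mem_union, not_or] at hcon
  have h1 : IsUnit (C.presheaf.germ (W x) y hyW (a x)) := by
    by_contra h
    exact hcon.1 ⟨hyW, h⟩
  have h2 : IsUnit (C.presheaf.germ (W x) y hyW (b x)) := by
    by_contra h
    exact hcon.2 ⟨hyW, h⟩
  exact hy1 ⟨h2.dvd, h1.dvd⟩

theorem regUnit_div_apply {X : Scheme.{u}} {U : X.Opens} (s s' : regSub X U) (y : U) :
    ((regUnit s * (regUnit s')⁻¹ : (Γ(kmod X, U))ˣ) : Γ(kmod X, U)).1 y =
      LocalizedModule.mk (X.presheaf.germ U y.1 y.2 s.1) (regGerm y s') := by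
  change (toK X U s.1).1 y * (invReg s').1 y = _
  rw [toK_apply, invReg_apply, mk_mul_mk, mul_one, one_mul]

/-- a family of germs on an absolute curve, trivial outside finitely many closed points, is a
divisor -/
theorem mem_divisorGroup_of_finite [IsNoetherian C]
    (hC : ∀ x : C, IsClosed ({x} : Set C) → ringKrullDim (C.presheaf.stalk x) = 1)
    (g : ∀ x : C, Germ C x) (hfin : {x : C | g x ≠ 1}.Finite)
    (hcl : ∀ x : C, ¬ IsClosed ({x} : Set C) → g x = 1) : g ∈ divisorGroup C := by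
  intro x
  obtain ⟨q, hq⟩ := QuotientGroup.mk_surjective (g x)
  obtain ⟨α, β, hqαβ, hα⟩ := exists_mk_eq_unit x q
  have hα' : α ∈ regStalk C x := by rw [Groth.Agent.S8863.result C x]; exact hα
  obtain ⟨Ua, hxUa, a, ha, haα⟩ := hα'
  obtain ⟨Ub, hxUb, b, hb, hbβ⟩ := β.2
  obtain ⟨W, hW, hxW, hWle⟩ := exists_isAffineOpen_mem_and_subset (x := x) (U := Ua ⊓ Ub)
    ⟨hxUa, hxUb⟩
  have hWa : W ≤ Ua := hWle.trans inf_le_left
  have hWb : W ≤ Ub := hWle.trans inf_le_right
  obtain ⟨a', ha'def⟩ : ∃ a' : Γ(C, W), a' = C.presheaf.map (homOfLE hWa).op a := ⟨_, rfl⟩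
  obtain ⟨b', hb'def⟩ : ∃ b' : Γ(C, W), b' = C.presheaf.map (homOfLE hWb).op b := ⟨_, rfl⟩
  have ha' : a' ∈ regSub C W := by rw [ha'def]; exact regSub_res _ ha
  have hb' : b' ∈ regSub C W := by rw [hb'def]; exact regSub_res _ hb
  have hga' : ∀ (y : C) (hy : y ∈ W), C.presheaf.germ W y hy a' = C.presheaf.germ Ua y (hWa hy) a := by
    intro y hy
    rw [ha'def, TopCat.Presheaf.germ_res_apply]
  have hgb' : ∀ (y : C) (hy : y ∈ W), C.presheaf.germ W y hy b' = C.presheaf.germ Ub y (hWb hy) b := by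
    intro y hy
    rw [hb'def, TopCat.Presheaf.germ_res_apply]
  set B : Set C := ({y : C | ∃ hy : y ∈ W, ¬ IsUnit (C.presheaf.germ W y hy a')} ∪
      {y : C | ∃ hy : y ∈ W, ¬ IsUnit (C.presheaf.germ W y hy b')} ∪ {y : C | g y ≠ 1}) \ {x}
    with hBdef
  have hBfin : B.Finite :=
    (((finite_nonunit_locus hC hW a' ha').union (finite_nonunit_locus hC hW b' hb')).union
      hfin).subset Set.diff_subset
  have hBcl : ∀ y ∈ B, IsClosed ({y} : Set C) := by
    rintro y ⟨hy, -⟩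
    rcases hy with (⟨hyW, hyu⟩ | ⟨hyW, hyu⟩) | hy
    · exact isClosed_of_nonunit_nzd hC y _ (ha' ⟨y, hyW⟩) hyu
    · exact isClosed_of_nonunit_nzd hC y _ (hb' ⟨y, hyW⟩) hyu
    · by_contra hc
      exact hy (hcl y hc)
  have hBclosed : IsClosed B := by
    rw [← Set.biUnion_of_singleton B]
    exact hBfin.isClosed_biUnion hBcl
  let U : C.Opens := W ⊓ ⟨Bᶜ, hBclosed.isOpen_compl⟩
  have hxU : x ∈ U := ⟨hxW, fun h => h.2 rfl⟩
  have hUW : U ≤ W := inf_le_left
  obtain ⟨a'', ha''def⟩ : ∃ a'' : Γ(C, U), a'' = C.presheaf.map (homOfLE hUW).op a' := ⟨_, rfl⟩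
  obtain ⟨b'', hb''def⟩ : ∃ b'' : Γ(C, U), b'' = C.presheaf.map (homOfLE hUW).op b' := ⟨_, rfl⟩
  have ha'' : a'' ∈ regSub C U := by rw [ha''def]; exact regSub_res _ ha'
  have hb'' : b'' ∈ regSub C U := by rw [hb''def]; exact regSub_res _ hb'
  have hga'' : ∀ (y : C) (hy : y ∈ U), C.presheaf.germ U y hy a'' = C.presheaf.germ W y (hUW hy) a' := by
    intro y hy
    rw [ha''def, TopCat.Presheaf.germ_res_apply]
  have hgb'' : ∀ (y : C) (hy : y ∈ U), C.presheaf.germ U y hy b'' = C.presheaf.germ W y (hUW hy) b' := by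
    intro y hy
    rw [hb''def, TopCat.Presheaf.germ_res_apply]
  refine ⟨U, hxU, regUnit ⟨a'', ha''⟩ * (regUnit ⟨b'', hb''⟩)⁻¹, fun y => ?_⟩
  have hval := regUnit_div_apply (⟨a'', ha''⟩ : regSub C U) ⟨b'', hb''⟩ y
  by_cases hyx : y.1 = x
  · obtain ⟨y, hy⟩ := y
    simp only at hyx
    subst hyx
    rw [← hq]
    refine congrArg _ (Units.ext ?_)
    change (q : KStalk C y) = _
    rw [hqαβ]
    refine Eq.trans (mk_congr ?_ ?_) hval.symm
    · change α = C.presheaf.germ U y hy a''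
      rw [hga'', hga']
      exact haα.symm
    · change (β : C.presheaf.stalk y) = C.presheaf.germ U y hy b''
      rw [hgb'', hgb']
      exact hbβ.symm
  · have hyB : y.1 ∉ B := y.2.2
    have hyW : y.1 ∈ W := y.2.1
    have h1 : ¬ ((y.1 ∈ {y : C | ∃ hy : y ∈ W, ¬ IsUnit (C.presheaf.germ W y hy a')} ∪
      {y : C | ∃ hy : y ∈ W, ¬ IsUnit (C.presheaf.germ W y hy b')} ∪ {y : C | g y ≠ 1})) :=
      fun h => hyB ⟨h, hyx⟩
    rw [Set.mem_union, Set.mem_union, not_or, not_or] at h1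
    obtain ⟨⟨h1a, h1b⟩, h1g⟩ := h1
    have hua : IsUnit (C.presheaf.germ W y.1 hyW a') := by
      by_contra h; exact h1a ⟨hyW, h⟩
    have hub : IsUnit (C.presheaf.germ W y.1 hyW b') := by
      by_contra h; exact h1b ⟨hyW, h⟩
    have hgy : g y.1 = 1 := by
      by_contra h; exact h1g h
    rw [hgy, eq_comm, germOf, mk_eq_one_iff_exists_unit y.1 _ _ _ hval]
    obtain ⟨ua, hua⟩ := hua
    obtain ⟨ub, hub⟩ := hub
    refine ⟨ua * ub⁻¹, ?_⟩
    change _ * C.presheaf.germ U y.1 y.2 b'' = C.presheaf.germ U y.1 y.2 a''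
    rw [hga'', hgb'', ← hua, ← hub, Units.val_mul, mul_assoc, Units.inv_mul, mul_one]

end Groth.Agent.Lib.Helper29.MeroDiv
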