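import Groth.Agent.Lib.Helper29.MeroCurve
import Groth.Agent.S12513

set_option autoImplicit false
set_option linter.unusedVariables false
set_option linter.style.haveILetI false
universe u

namespace Groth.Agent.Lib.Helper29.MeroDiv

open AlgebraicGeometry TopologicalSpace CategoryTheory Opposite Mero

variable {C : Scheme.{u}}

theorem primeIdealOf_lt {W : C.Opens} (hW : IsAffineOpen W) (y z : C) (hy : y ∈ W) (hz : z ∈ W)
    (hyz : y ⤳ z) (hne : y ≠ z) :
    (hW.primeIdealOf ⟨y, hy⟩).asIdeal < (hW.primeIdealOf ⟨z, hz⟩).asIdeal := by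
  have hle : (hW.primeIdealOf ⟨y, hy⟩).asIdeal ≤ (hW.primeIdealOf ⟨z, hz⟩).asIdeal := by
    rw [← fromSpec_specializes_iff hW, hW.fromSpec_primeIdealOf, hW.fromSpec_primeIdealOf]
    exact hyz
  refine lt_of_le_of_ne hle fun h => hne ?_
  have h1 : hW.primeIdealOf ⟨y, hy⟩ = hW.primeIdealOf ⟨z, hz⟩ := PrimeSpectrum.ext h
  have h2 := congrArg hW.fromSpec h1
  rw [hW.fromSpec_primeIdealOf, hW.fromSpec_primeIdealOf] at h2
  exact h2

/-- on an absolute curve, a point with a proper generization is closed -/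
theorem isClosed_of_generization [IsNoetherian C]
    (hC : ∀ x : C, IsClosed ({x} : Set C) → ringKrullDim (C.presheaf.stalk x) = 1)
    (x η : C) (h : η ⤳ x) (hne : η ≠ x) : IsClosed ({x} : Set C) := by
  obtain ⟨z, hz, hzc⟩ := IsClosed.exists_closed_singleton (isClosed_closure (s := ({x} : Set C)))
    ⟨x, subset_closure rfl⟩
  have hxz : x ⤳ z := specializes_iff_mem_closure.2 hz
  rcases eq_or_ne x z with rfl | hne'
  · exact hzc
  exfalso
  obtain ⟨W, hW, hzW, -⟩ := exists_isAffineOpen_mem_and_subset (x := z) (U := ⊤) trivial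
  have hxW : x ∈ W := hxz.mem_open W.isOpen hzW
  have hηW : η ∈ W := h.mem_open W.isOpen hxW
  haveI : IsNoetherianRing Γ(C, W) := IsLocallyNoetherian.component_noetherian ⟨W, hW⟩
  have h1 := primeIdealOf_lt hW η x hηW hxW h hne
  have h2 := primeIdealOf_lt hW x z hxW hzW hxz hne'
  letI := C.presheaf.algebra_section_stalk ⟨z, hzW⟩
  haveI := hW.isLocalization_stalk ⟨z, hzW⟩
  have hdz : ringKrullDim (C.presheaf.stalk z) = (hW.primeIdealOf ⟨z, hzW⟩).asIdeal.height :=
    IsLocalization.AtPrime.ringKrullDim_eq_height _ (C.presheaf.stalk z)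
  have h3 : (hW.primeIdealOf ⟨z, hzW⟩).asIdeal.height = 1 := by
    have := hC z hzc
    rw [hdz] at this
    exact_mod_cast this
  have h4 := Ideal.height_strict_mono_of_isPrime_of_isPrime h1
  have h5 := Ideal.height_strict_mono_of_isPrime_of_isPrime h2
  rw [h3] at h5
  have h6 : (hW.primeIdealOf ⟨x, hxW⟩).asIdeal.height = 0 := Order.lt_one_iff.1 h5
  rw [h6] at h4
  exact absurd h4 (not_lt_zero')

/-- a maximal ideal of a Noetherian ring which is not associated contains a nonzerodivisor -/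
theorem exists_nzd_mem_of_isMaximal {A : Type u} [CommRing A] [IsNoetherianRing A] (m : Ideal A)
    [m.IsMaximal] (hm : m ∉ associatedPrimes A A) : ∃ a ∈ m, a ∈ nonZeroDivisors A := by
  by_contra h
  push Not at h
  have hfin : (associatedPrimes A A).Finite := associatedPrimes.finite A A
  have h1 : (m : Set A) ⊆ ⋃ i ∈ (↑hfin.toFinset : Set (Ideal A)), ((id i : Ideal A) : Set A) := by
    intro a ha
    have h2 : a ∈ ((nonZeroDivisors A : Set A))ᶜ := h a ha
    rw [← biUnion_associatedPrimes_eq_compl_nonZeroDivisors] at h2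
    simp only [Set.mem_iUnion, exists_prop] at h2 ⊢
    obtain ⟨Q, hQ, haQ⟩ := h2
    exact ⟨Q, by simpa using hQ, haQ⟩
  have h1' := (Ideal.subset_union_prime (s := hfin.toFinset) (f := fun i : Ideal A => i) m m
    (fun i hi _ _ => (hfin.mem_toFinset.1 hi).isPrime) (I := m)).1 h1
  obtain ⟨Q, hQ, hmQ⟩ := h1'
  have hQ' := hfin.mem_toFinset.1 hQ
  have hQp : Q.IsPrime := hQ'.isPrime
  have : m = Q := Ideal.IsMaximal.eq_of_le inferInstance hQp.ne_top hmQ
  exact hm (this ▸ hQ')

/-- a point closed in the scheme gives a maximal ideal of any affine open containing it -/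
theorem isMaximal_primeIdealOf_of_isClosed {W : C.Opens} (hW : IsAffineOpen W) (x : C) (hx : x ∈ W)
    (hxc : IsClosed ({x} : Set C)) : (hW.primeIdealOf ⟨x, hx⟩).asIdeal.IsMaximal := by
  rw [← PrimeSpectrum.isClosed_singleton_iff_isMaximal]
  have h1 : ({hW.primeIdealOf ⟨x, hx⟩} : Set (PrimeSpectrum Γ(C, W))) = hW.fromSpec ⁻¹' {x} := by
    ext p
    simp only [Set.mem_singleton_iff]
    constructor
    · rintro rfl
      exact hW.fromSpec_primeIdealOf ⟨x, hx⟩
    · intro h
      apply hW.fromSpec.isOpenEmbedding.injective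
      rw [hW.fromSpec_primeIdealOf]
      exact h
  rw [h1]
  exact hxc.preimage hW.fromSpec.continuous

/-- on an absolute curve without open points, every irreducible component meets a dense open in
a closed point whose local ring has a non-unit regular germ -/
theorem exists_good_point [IsNoetherian C]
    (hC : ∀ x : C, IsClosed ({x} : Set C) → ringKrullDim (C.presheaf.stalk x) = 1)
    (hpt : ∀ x : C, ¬ IsOpen ({x} : Set C)) (U : C.Opens) (hU : Dense (U : Set C))
    (Z : Set C) (hZ : Z ∈ irreducibleComponents C) :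
    ∃ x ∈ Z, x ∈ U ∧ IsClosed ({x} : Set C) ∧
      ∃ t : regStalk C x, ¬ IsUnit (t : C.presheaf.stalk x) := by
  have hZirr : IsIrreducible Z := hZ.1
  have hZcl : IsClosed Z := isClosed_of_mem_irreducibleComponents Z hZ
  have hη := hZirr.isGenericPoint_genericPoint hZcl
  set η := hZirr.genericPoint with hηdef
  have hηZ : η ∈ Z := by rw [← hη.def]; exact subset_closure rfl
  have hfinZ : (irreducibleComponents C).Finite := NoetherianSpace.finite_irreducibleComponents
  -- the union of the other components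
  set O : Set C := ⋃₀ (irreducibleComponents C \ {Z}) with hOdef
  have hOcl : IsClosed O := by
    rw [hOdef, Set.sUnion_eq_biUnion]
    exact (hfinZ.subset Set.diff_subset).isClosed_biUnion
      (fun Z' hZ' => isClosed_of_mem_irreducibleComponents Z' hZ'.1)
  have hηO : η ∉ O := by
    rintro ⟨Z', ⟨hZ', hne⟩, hηZ'⟩
    have hsub : Z ⊆ Z' := by
      rw [← hη.def]
      exact (isClosed_of_mem_irreducibleComponents Z' hZ').closure_subset_iff.2
        (Set.singleton_subset_iff.2 hηZ')
    exact hne (Set.Subset.antisymm (hZ.2 hZ'.1 hsub) hsub)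
  have hOZ : ∀ x : C, x ∉ O → x ∈ Z := by
    intro x hx
    by_contra hxZ
    refine hx ⟨irreducibleComponent x, ⟨irreducibleComponent_mem_irreducibleComponents x, ?_⟩,
      mem_irreducibleComponent⟩
    rintro (h : irreducibleComponent x = Z)
    exact hxZ (h ▸ mem_irreducibleComponent)
  have hηU : η ∈ U := by
    obtain ⟨y, hyO, hyU⟩ := hU.inter_open_nonempty Oᶜ hOcl.isOpen_compl ⟨η, hηO⟩
    exact (hη.specializes (hOZ y hyO)).mem_open U.isOpen hyU
  obtain ⟨W, hW, hηW, hWle⟩ := exists_isAffineOpen_mem_and_subset (x := η)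
    (U := U ⊓ ⟨Oᶜ, hOcl.isOpen_compl⟩) ⟨hηU, hηO⟩
  have hWU : W ≤ U := fun y hy => (hWle hy).1
  have hWZ : ∀ y ∈ W, y ∈ Z := fun y hy => hOZ y (hWle hy).2
  have hclosed : ∀ x ∈ W, x ≠ η → IsClosed ({x} : Set C) := fun x hx hne =>
    isClosed_of_generization hC x η (hη.specializes (hWZ x hx)) (Ne.symm hne)
  haveI : IsNoetherianRing Γ(C, W) := IsLocallyNoetherian.component_noetherian ⟨W, hW⟩
  have hfin : (associatedPrimes Γ(C, W) Γ(C, W)).Finite := associatedPrimes.finite _ _
  -- a point of `W` other than `η` which is not associated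
  have hex : ∃ x : C, ∃ hx : x ∈ W, x ≠ η ∧
      (hW.primeIdealOf ⟨x, hx⟩).asIdeal ∉ associatedPrimes Γ(C, W) Γ(C, W) := by
    by_contra hcon
    push Not at hcon
    have hfin' : {p : PrimeSpectrum Γ(C, W) | p.asIdeal ∈ associatedPrimes Γ(C, W) Γ(C, W)}.Finite :=
      hfin.preimage (fun p _ q _ h => PrimeSpectrum.ext h)
    have hB : ((W : Set C) \ {η}).Finite := by
      refine (hfin'.image (fun p => hW.fromSpec p)).subset ?_
      rintro x ⟨hxW, hxη⟩
      exact ⟨hW.primeIdealOf ⟨x, hxW⟩, hcon x hxW hxη, hW.fromSpec_primeIdealOf ⟨x, hxW⟩⟩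
    have hBcl : IsClosed ((W : Set C) \ {η}) := by
      rw [← Set.biUnion_of_singleton ((W : Set C) \ {η})]
      exact hB.isClosed_biUnion (fun x hx => hclosed x hx.1 hx.2)
    refine hpt η ?_
    have : ({η} : Set C) = (W : Set C) ∩ ((W : Set C) \ {η})ᶜ := by
      ext y
      simp only [Set.mem_singleton_iff, Set.mem_inter_iff, Set.mem_compl_iff, Set.mem_diff,
        not_and, not_not]
      constructor
      · rintro rfl
        exact ⟨hηW, fun _ => rfl⟩
      · rintro ⟨hy, h⟩
        exact h hy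
    rw [this]
    exact W.isOpen.inter hBcl.isOpen_compl
  obtain ⟨x, hxW, hxη, hxass⟩ := hex
  have hxc := hclosed x hxW hxη
  haveI := isMaximal_primeIdealOf_of_isClosed hW x hxW hxc
  obtain ⟨a, hax, hanzd⟩ := exists_nzd_mem_of_isMaximal _ hxass
  have ha : a ∈ regSub C W := by rw [Groth.Agent.S12513.result C W hW]; exact hanzd
  refine ⟨x, hWZ x hxW, hWU hxW, hxc, ⟨C.presheaf.germ W x hxW a, ⟨W, hxW, a, ha, rfl⟩⟩, ?_⟩
  change ¬ IsUnit (C.presheaf.germ W x hxW a)
  rw [isUnit_germ_iff_notMem hW, not_not]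
  exact hax

end Groth.Agent.Lib.Helper29.MeroDiv
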