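import Groth.Agent.Lib.Helper29.MeroGen

set_option autoImplicit false
set_option linter.unusedVariables false
set_option linter.style.haveILetI false
universe u

namespace Groth.Agent.Lib.Helper29.MeroDenom

open AlgebraicGeometry TopologicalSpace CategoryTheory Opposite Mero
open Groth.Agent.Lib.Helper28.QCohLoc Groth.Agent.Lib.Helper29.FreeIso
  Groth.Agent.Lib.Helper29.QCohStalk Groth.Agent.Lib.Helper29.MeroDiv
  Groth.Agent.Lib.Helper29.MeroGen

variable {X : Scheme.{u}} {L : X.Modules}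

theorem resO_mul {U V : X.Opens} (h : V ≤ U) (a b : Γ(X, U)) :
    resO h (a * b) = resO h a * resO h b := map_mul _ _ _

theorem resO_sub {U V : X.Opens} (h : V ≤ U) (a b : Γ(X, U)) :
    resO h (a - b) = resO h a - resO h b := map_sub _ _ _

theorem resO_pow' {U V : X.Opens} (h : V ≤ U) (a : Γ(X, U)) (n : ℕ) :
    resO h (a ^ n) = resO h a ^ n := map_pow _ _ _

/-- global coefficients with respect to a generator -/
theorem IsGen.exists_coeff {U : X.Opens} {e : Γ(L, U)} (h : IsGen L U e) {T : X.Opens} (hT : T ≤ U)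
    (t : Γ(L, T)) : ∃ a : Γ(X, T), t = a • res L hT e := by
  have h1 : ∀ pt : T, ∃ (T₁ : X.Opens) (h1 : T₁ ≤ T), pt.1 ∈ T₁ ∧ ∃ c : Γ(X, T₁),
      res L h1 t = c • res L (h1.trans hT) e := fun pt => h.gen hT t pt.1 pt.2
  choose T₁ hT₁ hpt c hc using h1
  have hcompat : TopCat.Presheaf.IsCompatible X.presheaf T₁ c := by
    intro p p'
    have h2 : ((resO (inf_le_left : T₁ p ⊓ T₁ p' ≤ T₁ p) (c p) -
        resO (inf_le_right : T₁ p ⊓ T₁ p' ≤ T₁ p') (c p')) •
          res L ((inf_le_left : T₁ p ⊓ T₁ p' ≤ T₁ p).trans ((hT₁ p).trans hT)) e :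
            Γ(L, T₁ p ⊓ T₁ p')) = 0 := by
      have e1 := congrArg (res L (inf_le_left : T₁ p ⊓ T₁ p' ≤ T₁ p)) (hc p)
      have e2 := congrArg (res L (inf_le_right : T₁ p ⊓ T₁ p' ≤ T₁ p')) (hc p')
      rw [res_res, res_smul, res_res] at e1 e2
      rw [sub_smul, ← e1, ← e2, sub_self]
    have h3 := h.indep _ _ h2
    exact sub_eq_zero.1 h3
  obtain ⟨a₀, ha₀, -⟩ := X.sheaf.existsUnique_gluing' T₁ T (fun p => homOfLE (hT₁ p))
    (fun y hy => Opens.mem_iSup.2 ⟨⟨y, hy⟩, hpt ⟨y, hy⟩⟩) c hcompat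
  let a : Γ(X, T) := a₀
  have ha' : ∀ p, resO (hT₁ p) a = c p := ha₀
  refine ⟨a, ?_⟩
  refine TopCat.Presheaf.section_ext (⟨L.presheaf, L.isSheaf⟩ : TopCat.Sheaf Ab X) T _ _
    (fun y hy => ?_)
  have e1 := congrArg (gm L (T₁ ⟨y, hy⟩) y (hpt ⟨y, hy⟩)) (hc ⟨y, hy⟩)
  rw [gm_res, gm_smul, gm_res, ← ha', germ_resO] at e1
  change gm L T y hy t = gm L T y hy (a • res L hT e)
  rw [gm_smul, gm_res]
  exact e1

/-- sections of an invertible module inject into the meromorphic sections, stalkwise -/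
theorem mkLinearMap_injective (hL : PicF.IsInvertible L) (y : X) :
    Function.Injective (LocalizedModule.mkLinearMap (regStalk X y) (L.presheaf.stalk y)) := by
  obtain ⟨U, hyU, e, he⟩ := exists_isGen hL y
  intro μ μ' hμ
  obtain ⟨r, rfl⟩ := he.stalk_gen y hyU μ
  obtain ⟨r', rfl⟩ := he.stalk_gen y hyU μ'
  rw [LocalizedModule.mkLinearMap_apply, LocalizedModule.mkLinearMap_apply,
    LocalizedModule.mk_eq] at hμ
  obtain ⟨w, hw⟩ := hμ
  rw [one_smul, one_smul] at hw
  have h1 : ((w : X.presheaf.stalk y) * (r - r')) • gm L U y hyU e = 0 := by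
    rw [mul_smul, sub_smul, smul_sub]
    exact sub_eq_zero.2 hw
  have h2 := he.stalk_indep y hyU _ h1
  have h3 : r - r' = 0 :=
    (mem_nonZeroDivisors_iff.1 (regStalk_le_nonZeroDivisors y w.2)).1 _ h2
  rw [sub_eq_zero.1 h3]

theorem mem_denomIdeal_iff (s : Γ(merMod L, ⊤)) (T : X.Opens) (f : Γ(X, T)) :
    f ∈ denomIdeal L s T ↔ ∃ m : Γ(L, T), ∀ x : T,
      X.presheaf.germ T x.1 x.2 f • s.1 ⟨x.1, Opens.mem_top x.1⟩ =
        LocalizedModule.mkLinearMap (regStalk X x.1) _ (L.presheaf.germ T x.1 x.2 m) := Iff.rfl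

/-- denominators restrict -/
theorem resO_mem_denomIdeal (s : Γ(merMod L, ⊤)) {T T' : X.Opens} (h : T' ≤ T) (f : Γ(X, T))
    (hf : f ∈ denomIdeal L s T) : resO h f ∈ denomIdeal L s T' := by
  obtain ⟨m, hm⟩ := hf
  refine ⟨res L h m, fun x => ?_⟩
  have h1 := hm ⟨x.1, h x.2⟩
  rw [germ_resO]
  refine h1.trans ?_
  congr 1
  exact (gm_res L h x.1 x.2 m).symm

/-- denominators form a sheaf -/
theorem mem_denomIdeal_of_cover (hL : PicF.IsInvertible L) (s : Γ(merMod L, ⊤)) {U : X.Opens}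
    (f : Γ(X, U))
    (h : ∀ x ∈ U, ∃ (T : X.Opens) (hT : T ≤ U), x ∈ T ∧ resO hT f ∈ denomIdeal L s T) :
    f ∈ denomIdeal L s U := by
  have h1 : ∀ x : U, ∃ (T : X.Opens) (hT : T ≤ U), x.1 ∈ T ∧ resO hT f ∈ denomIdeal L s T :=
    fun x => h x.1 x.2
  choose T hT hxT hmem using h1
  choose m hm using hmem
  have hcompat : TopCat.Presheaf.IsCompatible L.presheaf T m := by
    intro p p'
    refine TopCat.Presheaf.section_ext (⟨L.presheaf, L.isSheaf⟩ : TopCat.Sheaf Ab X) _ _ _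
      (fun y hy => ?_)
    change gm L (T p ⊓ T p') y hy (res L inf_le_left (m p)) =
      gm L (T p ⊓ T p') y hy (res L inf_le_right (m p'))
    rw [gm_res, gm_res]
    apply mkLinearMap_injective hL y
    have e1 := hm p ⟨y, hy.1⟩
    have e2 := hm p' ⟨y, hy.2⟩
    rw [germ_resO] at e1 e2
    exact e1.symm.trans e2
  obtain ⟨m₀, hm₀, -⟩ := TopCat.Sheaf.existsUnique_gluing'
    (⟨L.presheaf, L.isSheaf⟩ : TopCat.Sheaf Ab X) T U (fun p => homOfLE (hT p))
    (fun y hy => Opens.mem_iSup.2 ⟨⟨y, hy⟩, hxT ⟨y, hy⟩⟩) m hcompat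
  have hm₀' : ∀ p, res L (hT p) m₀ = m p := hm₀
  refine ⟨m₀, fun x => ?_⟩
  have e1 := hm x ⟨x.1, hxT x⟩
  rw [germ_resO] at e1
  refine e1.trans ?_
  congr 1
  rw [← hm₀' x]
  exact gm_res L (hT x) x.1 (hxT x) m₀

section local_form

variable {s : Γ(merMod L, ⊤)} {V : X.Opens} {e : Γ(L, V)} {c b : regSub X V}

/-- local criterion: where `s = (c • e) / b`, `f` is a denominator iff `b ∣ f * c` -/
theorem mem_denomIdeal_iff_local (he : IsGen L V e)
    (hform : ∀ y : V, s.1 ⟨y.1, trivial⟩ =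
      LocalizedModule.mk (gm L V y.1 y.2 (c.1 • e)) (regGerm y b))
    {T : X.Opens} (hT : T ≤ V) (f : Γ(X, T)) :
    f ∈ denomIdeal L s T ↔ ∃ a : Γ(X, T), f * resO hT c.1 = a * resO hT b.1 := by
  constructor
  · rintro ⟨m, hm⟩
    obtain ⟨a, rfl⟩ := IsGen.exists_coeff he hT m
    refine ⟨a, ?_⟩
    refine TopCat.Presheaf.section_ext X.sheaf T _ _ (fun x hx => ?_)
    change X.presheaf.germ T x hx (f * resO hT c.1) = X.presheaf.germ T x hx (a * resO hT b.1)
    rw [map_mul, map_mul, germ_resO, germ_resO]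
    have h1 := hm ⟨x, hx⟩
    rw [hform ⟨x, hT hx⟩, LocalizedModule.smul'_mk, LocalizedModule.mkLinearMap_apply,
      LocalizedModule.mk_eq] at h1
    obtain ⟨w, hw⟩ := h1
    have hw' : (w : X.presheaf.stalk x) • (X.presheaf.germ T x hx f •
        (X.presheaf.germ V x (hT hx) c.1 • gm L V x (hT hx) e)) =
        (w : X.presheaf.stalk x) • (X.presheaf.germ V x (hT hx) b.1 •
          (X.presheaf.germ T x hx a • gm L V x (hT hx) e)) := by
      have e1 : gm L V x (hT hx) (c.1 • e) =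
          X.presheaf.germ V x (hT hx) c.1 • gm L V x (hT hx) e := gm_smul L V x (hT hx) c.1 e
      have e2 : gm L T x hx (a • res L hT e) =
          X.presheaf.germ T x hx a • gm L V x (hT hx) e := by
        rw [gm_smul, gm_res]
      rw [← e1, ← e2]
      simpa [Submonoid.smul_def] using hw
    have h2 : ((w : X.presheaf.stalk x) * (X.presheaf.germ T x hx f * X.presheaf.germ V x (hT hx) c.1 -
        X.presheaf.germ T x hx a * X.presheaf.germ V x (hT hx) b.1)) • gm L V x (hT hx) e = 0 := by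
      rw [mul_smul, sub_smul, smul_sub, mul_smul, mul_comm (X.presheaf.germ T x hx a), mul_smul]
      exact sub_eq_zero.2 hw'
    have h3 := he.stalk_indep x (hT hx) _ h2
    have h4 := (mem_nonZeroDivisors_iff.1 (regStalk_le_nonZeroDivisors x w.2)).1 _ h3
    exact sub_eq_zero.1 h4
  · rintro ⟨a, ha⟩
    refine ⟨a • res L hT e, fun x => ?_⟩
    rw [hform ⟨x.1, hT x.2⟩, LocalizedModule.smul'_mk, LocalizedModule.mkLinearMap_apply,
      LocalizedModule.mk_eq]
    refine ⟨1, ?_⟩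
    have hk : X.presheaf.germ T x.1 x.2 f * X.presheaf.germ V x.1 (hT x.2) c.1 =
        X.presheaf.germ T x.1 x.2 a * X.presheaf.germ V x.1 (hT x.2) b.1 := by
      have := congrArg (X.presheaf.germ T x.1 x.2) ha
      rw [map_mul, map_mul, germ_resO, germ_resO] at this
      exact this
    have e1 : gm L V x.1 (hT x.2) (c.1 • e) =
        X.presheaf.germ V x.1 (hT x.2) c.1 • gm L V x.1 (hT x.2) e := gm_smul L V x.1 (hT x.2) c.1 e
    have e2 : gm L T x.1 x.2 (a • res L hT e) =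
        X.presheaf.germ T x.1 x.2 a • gm L V x.1 (hT x.2) e := by
      rw [gm_smul, gm_res]
    have goal' : X.presheaf.germ T x.1 x.2 f • gm L V x.1 (hT x.2) (c.1 • e) =
        X.presheaf.germ V x.1 (hT x.2) b.1 • gm L T x.1 x.2 (a • res L hT e) := by
      rw [e1, e2, ← mul_smul, ← mul_smul, hk, mul_comm]
    simpa [Submonoid.smul_def] using goal'

end local_form

section local_form2

variable {s : Γ(merMod L, ⊤)} {V : X.Opens} {e : Γ(L, V)} {c b : regSub X V}

/-- affine local step: a denominator over `D(f)` times a power of `f` is a denominator -/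
theorem exists_pow_mul_mem_denomIdeal_local (he : IsGen L V e)
    (hform : ∀ y : V, s.1 ⟨y.1, trivial⟩ =
      LocalizedModule.mk (gm L V y.1 y.2 (c.1 • e)) (regGerm y b))
    {T : X.Opens} (hTaff : IsAffineOpen T) (hT : T ≤ V) (f : Γ(X, T))
    (η : Γ(X, X.basicOpen f)) (hη : η ∈ denomIdeal L s (X.basicOpen f)) (φ : Γ(X, T)) (k : ℕ)
    (hrel : η * resO (X.basicOpen_le f) f ^ k = resO (X.basicOpen_le f) φ) :
    ∃ N : ℕ, f ^ N * φ ∈ denomIdeal L s T := by
  have hD : X.basicOpen f ≤ T := X.basicOpen_le f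
  obtain ⟨a, ha⟩ := (mem_denomIdeal_iff_local he hform (hD.trans hT) η).1 hη
  haveI := hTaff.isLocalization_basicOpen f
  obtain ⟨⟨a', ⟨_, k', rfl⟩⟩, hk'⟩ := IsLocalization.surj (Submonoid.powers f)
    (show Γ(X, X.basicOpen f) from a)
  have hk'' : a * resO hD f ^ k' = resO hD a' := by
    have : (show Γ(X, X.basicOpen f) from a) * algebraMap Γ(X, T) Γ(X, X.basicOpen f) (f ^ k') =
        algebraMap Γ(X, T) Γ(X, X.basicOpen f) a' := hk'
    rw [map_pow] at this
    exact this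
  set cT := resO hT c.1 with hcT
  set bT := resO hT b.1 with hbT
  have hc' : resO (hD.trans hT) c.1 = resO hD cT := (resO_resO hT hD c.1).symm
  have hb' : resO (hD.trans hT) b.1 = resO hD bT := (resO_resO hT hD b.1).symm
  rw [hc', hb'] at ha
  have hz : algebraMap Γ(X, T) Γ(X, X.basicOpen f) (φ * cT * f ^ k' - a' * bT * f ^ k) = 0 := by
    change resO hD (φ * cT * f ^ k' - a' * bT * f ^ k) = 0
    rw [resO_sub, resO_mul, resO_mul, resO_mul, resO_mul, resO_pow', resO_pow', ← hrel, ← hk'']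
    have : η * resO hD f ^ k * resO hD cT * resO hD f ^ k' =
        (η * resO hD cT) * resO hD f ^ k * resO hD f ^ k' := by ring
    rw [this, ha]
    ring
  obtain ⟨⟨_, M, rfl⟩, hM⟩ := (IsLocalization.map_eq_zero_iff (Submonoid.powers f)
    Γ(X, X.basicOpen f) _).1 hz
  refine ⟨M + k', (mem_denomIdeal_iff_local he hform hT _).2 ⟨f ^ (M + k) * a', ?_⟩⟩
  have hM' : f ^ M * (φ * cT * f ^ k' - a' * bT * f ^ k) = 0 := hM
  rw [← hcT, ← hbT]
  have : f ^ (M + k') * φ * cT - f ^ (M + k) * a' * bT =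
      f ^ M * (φ * cT * f ^ k' - a' * bT * f ^ k) := by ring
  exact sub_eq_zero.1 (this.trans hM')

end local_form2

/-- global step over an affine open -/
theorem exists_pow_mul_mem_denomIdeal (hL : PicF.IsInvertible L) (s : Γ(merMod L, ⊤))
    (hs : IsRegularMero L s) {U : X.Opens} (hU : IsAffineOpen U) (f : Γ(X, U))
    (h : Γ(X, X.basicOpen f)) (hh : h ∈ denomIdeal L s (X.basicOpen f)) (h' : Γ(X, U)) (k : ℕ)
    (hrel : h * resO (X.basicOpen_le f) f ^ k = resO (X.basicOpen_le f) h') :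
    ∃ N : ℕ, f ^ N * h' ∈ denomIdeal L s U := by
  have step1 : ∀ x : U, ∃ (T : X.Opens) (hT : T ≤ U) (N : ℕ), x.1 ∈ T ∧
      ∀ n, N ≤ n → resO hT (f ^ n * h') ∈ denomIdeal L s T := by
    intro x
    obtain ⟨V, hxV, e, c, b, he, hform⟩ := exists_local_form hL s hs x.1
    obtain ⟨g, hgV, hxg⟩ := hU.exists_basicOpen_le (V := V) ⟨x.1, hxV⟩ x.2
    have hTU : X.basicOpen g ≤ U := X.basicOpen_le g
    have hTaff : IsAffineOpen (X.basicOpen g) := hU.basicOpen g
    set fT := resO hTU f with hfT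
    have hDle : X.basicOpen fT ≤ X.basicOpen f := by
      rw [hfT, Scheme.basicOpen_res]
      exact inf_le_right
    have hDT : X.basicOpen fT ≤ X.basicOpen g := X.basicOpen_le fT
    obtain ⟨N, hN⟩ := exists_pow_mul_mem_denomIdeal_local he hform hTaff hgV fT
      (resO hDle h) (resO_mem_denomIdeal s hDle h hh) (resO hTU h') k (by
        have h1 := congrArg (resO hDle) hrel
        rw [resO_mul, resO_pow', resO_resO, resO_resO] at h1
        have e1 : resO (X.basicOpen_le fT) fT = resO ((X.basicOpen_le fT).trans hTU) f :=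
          resO_resO hTU _ f
        rw [e1, resO_resO]
        exact h1)
    refine ⟨X.basicOpen g, hTU, N, hxg, fun n hn => ?_⟩
    have h2 : resO hTU (f ^ n * h') = fT ^ (n - N) * (fT ^ N * resO hTU h') := by
      rw [← mul_assoc, ← pow_add, Nat.sub_add_cancel hn, resO_mul, resO_pow']
    rw [h2]
    exact Ideal.mul_mem_left _ _ hN
  choose T hT N hxT hN using step1
  obtain ⟨t, ht⟩ := hU.isCompact.elim_nhds_subcover' (fun x hx => (T ⟨x, hx⟩ : Set X))
    (fun x hx => (T ⟨x, hx⟩).2.mem_nhds (hxT ⟨x, hx⟩))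
  refine ⟨t.sup N, mem_denomIdeal_of_cover hL s _ (fun y hy => ?_)⟩
  have hy' := ht hy
  simp only [Set.mem_iUnion] at hy'
  obtain ⟨x, hxt, hyx⟩ := hy'
  exact ⟨T ⟨x.1, x.2⟩, hT _, hyx, hN _ _ (Finset.le_sup (f := N) hxt)⟩

/-- the ideals of denominators are compatible with localization -/
theorem map_denomIdeal_basicOpen (hL : PicF.IsInvertible L) (s : Γ(merMod L, ⊤))
    (hs : IsRegularMero L s) {U : X.Opens} (hU : IsAffineOpen U) (f : Γ(X, U)) :
    (denomIdeal L s U).map (X.presheaf.map (homOfLE (X.basicOpen_le f)).op).hom =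
      denomIdeal L s (X.basicOpen f) := by
  apply le_antisymm
  · rw [Ideal.map_le_iff_le_comap]
    intro g hg
    exact resO_mem_denomIdeal s (X.basicOpen_le f) g hg
  · intro h hh
    haveI := hU.isLocalization_basicOpen f
    obtain ⟨⟨h', ⟨_, k, rfl⟩⟩, hk⟩ := IsLocalization.surj (Submonoid.powers f)
      (show Γ(X, X.basicOpen f) from h)
    have hk' : h * resO (X.basicOpen_le f) f ^ k = resO (X.basicOpen_le f) h' := by
      have : (show Γ(X, X.basicOpen f) from h) * algebraMap Γ(X, U) Γ(X, X.basicOpen f) (f ^ k) =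
          algebraMap Γ(X, U) Γ(X, X.basicOpen f) h' := hk
      rw [map_pow] at this
      exact this
    obtain ⟨N, hN⟩ := exists_pow_mul_mem_denomIdeal hL s hs hU f h hh h' k hk'
    have h1 : resO (X.basicOpen_le f) (f ^ N * h') ∈
        (denomIdeal L s U).map (X.presheaf.map (homOfLE (X.basicOpen_le f)).op).hom :=
      Ideal.mem_map_of_mem _ hN
    have hu : IsUnit (resO (X.basicOpen_le f) f) := X.toRingedSpace.isUnit_res_basicOpen f
    have h2 : resO (X.basicOpen_le f) (f ^ N * h') = resO (X.basicOpen_le f) f ^ (N + k) * h := by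
      rw [resO_mul, resO_pow', ← hk', pow_add]
      ring
    rw [h2] at h1
    exact (Ideal.unit_mul_mem_iff_mem _ (hu.pow (N + k))).1 h1

/-- the ideal sheaf of denominators of a regular meromorphic section of an invertible module -/
noncomputable def denomIdealSheaf (hL : PicF.IsInvertible L) (s : Γ(merMod L, ⊤))
    (hs : IsRegularMero L s) : X.IdealSheafData where
  ideal U := denomIdeal L s U.1
  map_ideal_basicOpen U f := map_denomIdeal_basicOpen hL s hs U.2 f

/-- the support of the ideal of denominators is nowhere dense -/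
theorem interior_support_eq_empty (hL : PicF.IsInvertible L) (s : Γ(merMod L, ⊤))
    (hs : IsRegularMero L s) (I : X.IdealSheafData)
    (hI : ∀ U : X.affineOpens, I.ideal U = denomIdeal L s U.1) :
    interior (I.support : Set ↥X) = ∅ := by
  rw [Set.eq_empty_iff_forall_notMem]
  intro x hx
  obtain ⟨O, hOsub, hOopen, hxO⟩ := mem_interior.1 hx
  obtain ⟨V, hxV, e, c, b, he, hform⟩ := exists_local_form hL s hs x
  obtain ⟨_, ⟨T, hTaff, rfl⟩, hxT, hTsub⟩ := X.isBasis_affineOpens.exists_subset_of_mem_open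
    (show x ∈ (V : Set X) ∩ O from ⟨hxV, hxO⟩) (V.2.inter hOopen)
  have hTV : T ≤ V := fun y hy => (hTsub hy).1
  have hbmem : resO hTV b.1 ∈ denomIdeal L s T :=
    (mem_denomIdeal_iff_local he hform hTV _).2 ⟨resO hTV c.1, mul_comm _ _⟩
  have hbot : X.basicOpen (resO hTV b.1) = ⊥ := by
    rw [eq_bot_iff]
    intro y hy
    have hyT : y ∈ T := X.basicOpen_le _ hy
    have hys : y ∈ I.support := hOsub (hTsub hyT).2
    rw [Scheme.IdealSheafData.mem_support_iff] at hys
    have h1 := hys ⟨T, hTaff⟩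
    rw [Scheme.mem_zeroLocus_iff] at h1
    exact (h1 _ (by rw [SetLike.mem_coe, hI]; exact hbmem) hy).elim
  obtain ⟨n, hn⟩ := (Scheme.isNilpotent_iff_basicOpen_eq_bot_of_isCompact hTaff.isCompact _).2 hbot
  have h2 := congrArg (X.presheaf.germ T x hxT) hn
  rw [map_pow, map_zero, germ_resO] at h2
  have h3 : X.presheaf.germ V x hxV b.1 ^ n ∈ nonZeroDivisors (X.presheaf.stalk x) :=
    pow_mem (b.2 ⟨x, hxV⟩) n
  rw [h2] at h3
  exact zero_notMem_nonZeroDivisors h3

end Groth.Agent.Lib.Helper29.MeroDenom
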