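import Groth.Agent.Lib.Helper29.MeroWeak

set_option autoImplicit false
set_option linter.unusedVariables false
set_option linter.style.haveILetI false
universe u

namespace Groth.Agent.Lib.Helper29.MeroDiv

open AlgebraicGeometry TopologicalSpace CategoryTheory Opposite Mero

variable {X : Scheme.{u}}

/-- key density lemma: if `V ∩ W` is schematically dense in the affine open `W`, and the zero-divisors of
`Γ(W)` lie in finitely many primes each killing a nonzero element, then `V` contains a basic open `D(t)`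
of `W` with `t` a nonzerodivisor. -/
theorem exists_regular_basicOpen_le {W : X.Opens} (hW : IsAffineOpen W) (V : X.Opens)
    (hdense : Function.Injective (X.presheaf.map (homOfLE (inf_le_left : W ⊓ V ≤ W)).op))
    (P : Finset (Ideal Γ(X, W))) (hprime : ∀ Q ∈ P, Q.IsPrime)
    (hzd : ∀ b : Γ(X, W), b ∉ nonZeroDivisors Γ(X, W) → ∃ Q ∈ P, b ∈ Q)
    (hann : ∀ Q ∈ P, ∃ c : Γ(X, W), c ≠ 0 ∧ ∀ r ∈ Q, r * c = 0) :
    ∃ t : Γ(X, W), t ∈ nonZeroDivisors Γ(X, W) ∧ X.basicOpen t ≤ V := by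
  let J : Ideal Γ(X, W) :=
    { carrier := {r | X.basicOpen r ≤ V}
      zero_mem' := by
        change X.basicOpen (0 : Γ(X, W)) ≤ V
        rw [Scheme.basicOpen_zero]; exact bot_le
      add_mem' := by
        intro r r' hr hr'
        exact (X.basicOpen_add_le r r').trans (sup_le hr hr')
      smul_mem' := by
        intro c r hr
        change X.basicOpen (c * r) ≤ V
        rw [Scheme.basicOpen_mul]
        exact inf_le_right.trans hr }
  by_contra hcon
  push Not at hcon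
  have hJ : (J : Set Γ(X, W)) ⊆ ⋃ i ∈ (↑P : Set (Ideal Γ(X, W))), ((id i : Ideal _) : Set _) := by
    intro b hb
    have hb' : b ∉ nonZeroDivisors Γ(X, W) := fun h => hcon b h hb
    obtain ⟨Q, hQ, hbQ⟩ := hzd b hb'
    simp only [Set.mem_iUnion, exists_prop]
    exact ⟨Q, by simpa using hQ, hbQ⟩
  obtain ⟨Q, hQ, hJQ⟩ := (Ideal.subset_union_prime (s := P) (f := id) ⊥ ⊥
    (fun i hi _ _ => hprime i hi)).1 hJ
  obtain ⟨c, hc0, hc⟩ := hann Q hQ
  apply hc0
  apply hdense
  rw [map_zero]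
  apply TopCat.Presheaf.section_ext X.sheaf (W ⊓ V)
  intro y hy
  change X.presheaf.germ (W ⊓ V) y hy (X.presheaf.map (homOfLE inf_le_left).op c) =
    X.presheaf.germ (W ⊓ V) y hy 0
  rw [TopCat.Presheaf.germ_res_apply, map_zero]
  obtain ⟨r, hrV, hyr⟩ := hW.exists_basicOpen_le (V := V) ⟨y, hy.2⟩ hy.1
  have hrJ : r ∈ J := hrV
  have hrc := hc r (hJQ hrJ)
  have hu : IsUnit (X.presheaf.germ W y hy.1 r) := (X.mem_basicOpen r y hy.1).1 hyr
  have h1 : X.presheaf.germ W y hy.1 r * X.presheaf.germ W y hy.1 c = 0 := by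
    rw [← map_mul, hrc, map_zero]
  exact (hu.mul_right_eq_zero).1 h1

/-- Noetherian case -/
theorem exists_regular_basicOpen_le_of_noetherian [IsLocallyNoetherian X] {W : X.Opens}
    (hW : IsAffineOpen W) (V : X.Opens)
    (hdense : Function.Injective (X.presheaf.map (homOfLE (inf_le_left : W ⊓ V ≤ W)).op)) :
    ∃ t : Γ(X, W), t ∈ nonZeroDivisors Γ(X, W) ∧ X.basicOpen t ≤ V := by
  haveI : IsNoetherianRing Γ(X, W) := IsLocallyNoetherian.component_noetherian ⟨W, hW⟩
  have hfin : (associatedPrimes Γ(X, W) Γ(X, W)).Finite := associatedPrimes.finite _ _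
  refine exists_regular_basicOpen_le hW V hdense hfin.toFinset
    (fun Q hQ => (hfin.mem_toFinset.1 hQ).isPrime) ?_ ?_
  · intro b hb
    have h1 : b ∈ ((nonZeroDivisors Γ(X, W) : Set Γ(X, W)))ᶜ := hb
    rw [← biUnion_associatedPrimes_eq_compl_nonZeroDivisors] at h1
    simp only [Set.mem_iUnion, exists_prop] at h1
    obtain ⟨Q, hQ, hbQ⟩ := h1
    exact ⟨Q, hfin.mem_toFinset.2 hQ, hbQ⟩
  · intro Q hQ
    have hQ' : IsAssociatedPrime Q Γ(X, W) := hfin.mem_toFinset.1 hQ
    rw [isAssociatedPrime_iff] at hQ'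
    obtain ⟨hQp, c, hc⟩ := hQ'
    refine ⟨c, ?_, fun r hr => ?_⟩
    · rintro rfl
      apply hQp.ne_top
      rw [hc, Ideal.eq_top_iff_one, Submodule.mem_colon_singleton]
      simp
    · rw [hc, Submodule.mem_colon_singleton, Submodule.mem_bot] at hr
      exact hr

/-- reduced case with finitely many minimal primes -/
theorem exists_regular_basicOpen_le_of_reduced [IsReduced X] {W : X.Opens}
    (hW : IsAffineOpen W) (hfin : (minimalPrimes Γ(X, W)).Finite) (V : X.Opens)
    (hdense : Function.Injective (X.presheaf.map (homOfLE (inf_le_left : W ⊓ V ≤ W)).op)) :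
    ∃ t : Γ(X, W), t ∈ nonZeroDivisors Γ(X, W) ∧ X.basicOpen t ≤ V := by
  classical
  have ha : ∀ x : ↥X, Curv2.IsWeakAssPoint (Coh.structureModule X) x → ∀ y : ↥X, y ⤳ x → y = x :=
    fun x hx => (Groth.Agent.S8869.result X x).1 hx
  refine exists_regular_basicOpen_le hW V hdense hfin.toFinset
    (fun Q hQ => (hfin.mem_toFinset.1 hQ).1.1) ?_ ?_
  · intro b hb
    rw [← Groth.Agent.S12513.result X W hW] at hb
    have : ∃ y : W, X.presheaf.germ W y.1 y.2 b ∉ nonZeroDivisors (X.presheaf.stalk y.1) := by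
      by_contra hall
      push Not at hall
      exact hb hall
    obtain ⟨y, hy⟩ := this
    obtain ⟨Q, hQmin, -, hbQ⟩ := exists_minimalPrime_of_not_nzd ha hW b y.1 y.2 hy
    exact ⟨Q, hfin.mem_toFinset.2 hQmin, hbQ⟩
  · intro Q₁ hQ₁
    have hQ₁min : Q₁ ∈ minimalPrimes Γ(X, W) := hfin.mem_toFinset.1 hQ₁
    haveI hQ₁p : Q₁.IsPrime := hQ₁min.1.1
    have hchoice : ∀ q : Ideal Γ(X, W), ∃ h : Γ(X, W), (¬ q ≤ Q₁ → h ∈ q ∧ h ∉ Q₁) := by
      intro q
      by_cases hq : q ≤ Q₁
      · exact ⟨0, fun h => absurd hq h⟩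
      · obtain ⟨h, hhq, hhp⟩ := Set.not_subset.1 hq
        exact ⟨h, fun _ => ⟨hhq, hhp⟩⟩
    choose hq hhq using hchoice
    let S₂ : Finset (Ideal Γ(X, W)) := hfin.toFinset.filter (fun q => ¬ q ≤ Q₁)
    set c := ∏ q ∈ S₂, hq q with hc
    have hcQ₁ : c ∉ Q₁ := by
      intro hmem
      rw [hc, hQ₁p.prod_mem_iff] at hmem
      obtain ⟨q, hqS, hqp⟩ := hmem
      exact (hhq q (Finset.mem_filter.1 hqS).2).2 hqp
    refine ⟨c, fun h0 => hcQ₁ (h0 ▸ Q₁.zero_mem), fun r hr => ?_⟩
    have hmem : r * c ∈ sInf (minimalPrimes Γ(X, W)) := by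
      rw [Ideal.mem_sInf]
      intro q hqmin
      by_cases hqQ₁ : q ≤ Q₁
      · have : Q₁ ≤ q := hQ₁min.2 hqmin.1 hqQ₁
        exact Ideal.mul_mem_right _ _ (this hr)
      · have hqS : q ∈ S₂ := Finset.mem_filter.2 ⟨hfin.mem_toFinset.2 hqmin, hqQ₁⟩
        obtain ⟨d, hd⟩ := Finset.dvd_prod_of_mem hq hqS
        rw [hc, hd]
        exact Ideal.mul_mem_left _ _ (Ideal.mul_mem_right _ _ (hhq q hqQ₁).1)
    have h2 : sInf (minimalPrimes Γ(X, W)) = ⊥ := by
      have : sInf (minimalPrimes Γ(X, W)) = (⊥ : Ideal Γ(X, W)).radical := Ideal.sInf_minimalPrimes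
      rw [this]
      exact nilradical_eq_zero _
    rw [h2] at hmem
    exact hmem

/-- finitely many minimal primes from finitely many irreducible components of the open subscheme -/
theorem finite_minimalPrimes_of_finite_components {W : X.Opens} (hW : IsAffineOpen W)
    (h1 : (irreducibleComponents ↥(W : Scheme.{u})).Finite) : (minimalPrimes Γ(X, W)).Finite := by
  let e : ↥(W : Scheme.{u}) ≃ₜ PrimeSpectrum Γ(X, W) := Scheme.homeoOfIso hW.isoSpec
  have eq := irreducibleComponentsEquivOfIsPreirreducibleFiber e e.continuous e.isOpenMap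
    (fun x => (Set.subsingleton_singleton.preimage e.injective).isPreirreducible) e.surjective
  have h2 : (irreducibleComponents (PrimeSpectrum Γ(X, W))).Finite := by
    haveI : Finite ↑(irreducibleComponents ↥(W : Scheme.{u})) := h1.to_subtype
    haveI : Finite ↑(irreducibleComponents (PrimeSpectrum Γ(X, W))) := Finite.of_equiv _ eq.symm.toEquiv
    exact Set.toFinite _
  rw [← PrimeSpectrum.vanishingIdeal_irreducibleComponents]
  exact h2.image _

/-- (T) local finiteness of the irreducible components gives finitely many components on small opens -/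
theorem finite_components_of_locallyFinite {W' W : X.Opens} (hWW' : W ≤ W')
    (hfin : {Z : Set X | Z ∈ irreducibleComponents X ∧ (Z ∩ (W' : Set X)).Nonempty}.Finite) :
    (irreducibleComponents ↥(W : Scheme.{u})).Finite := by
  have hf : Topology.IsOpenEmbedding (W.ι : ↥(W : Scheme.{u}) → X) := W.ι.isOpenEmbedding
  have hrange : Set.range (W.ι : ↥(W : Scheme.{u}) → X) = (W : Set X) := Scheme.Opens.range_ι W
  refine (hfin.image (fun Z => (W.ι : ↥(W : Scheme.{u}) → X) ⁻¹' Z)).subset ?_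
  intro T hT
  have hTirr : IsIrreducible T := hT.1
  have himg : IsIrreducible ((W.ι : ↥(W : Scheme.{u}) → X) '' T) :=
    hTirr.image _ hf.continuous.continuousOn
  obtain ⟨Z, hZ, hTZ⟩ := exists_mem_irreducibleComponents_subset_of_isIrreducible _ himg
  have hne : (Z ∩ Set.range (W.ι : ↥(W : Scheme.{u}) → X)).Nonempty := by
    obtain ⟨x, hx⟩ := hTirr.1
    exact ⟨W.ι x, hTZ ⟨x, hx, rfl⟩, ⟨x, rfl⟩⟩
  have hpre := preimage_mem_irreducibleComponents hZ hf hne
  have hsub : T ⊆ (W.ι : ↥(W : Scheme.{u}) → X) ⁻¹' Z := fun x hx => hTZ ⟨x, hx, rfl⟩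
  have heq : T = (W.ι : ↥(W : Scheme.{u}) → X) ⁻¹' Z :=
    (hT.2 hpre.1 hsub).antisymm' hsub |>.symm ▸ rfl
  refine ⟨Z, ⟨hZ, ?_⟩, heq.symm⟩
  obtain ⟨x, hxZ, hxr⟩ := hne
  rw [hrange] at hxr
  exact ⟨x, hxZ, hWW' hxr⟩

end Groth.Agent.Lib.Helper29.MeroDiv
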