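import Groth.Prelude.Def_MeroDiv
import Groth.Agent.S8863
import Groth.Agent.S12513
import Groth.Agent.Lib.Helper29.MeroAlg

set_option autoImplicit false
set_option linter.unusedVariables false
set_option linter.style.haveILetI false
universe u

namespace Groth.Agent.Lib.Helper29.MeroDiv

open AlgebraicGeometry TopologicalSpace CategoryTheory Opposite Mero

variable {X : Scheme.{u}}

theorem mk_eq_mk' (x : X) (a : X.presheaf.stalk x) (s : regStalk X x) :
    (LocalizedModule.mk a s : KStalk X x) = IsLocalization.mk' (KStalk X x) a s := by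
  rw [← Localization.mk_eq_mk']
  rfl

/-- `u = a / s` in `K_{X,x}` iff `u s = a` in `O_{X,x}` -/
theorem algebraMap_eq_mk_iff (x : X) (u a : X.presheaf.stalk x) (s : regStalk X x) :
    algebraMap (X.presheaf.stalk x) (KStalk X x) u = LocalizedModule.mk a s ↔ u * s = a := by
  rw [mk_eq_mk', IsLocalization.eq_mk'_iff_mul_eq, ← map_mul]
  exact (algebraMap_KStalk_injective x).eq_iff

theorem mk_mul_mk (x : X) (a a' : X.presheaf.stalk x) (s s' : regStalk X x) :
    (LocalizedModule.mk a s : KStalk X x) * LocalizedModule.mk a' s' =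
      LocalizedModule.mk (a * a') (s * s') := 
  LocalizedModule.mk_mul_mk

theorem mk_eq_one_iff (x : X) (a : X.presheaf.stalk x) (s : regStalk X x) :
    (LocalizedModule.mk a s : KStalk X x) = 1 ↔ a = s := by
  rw [← map_one (algebraMap (X.presheaf.stalk x) (KStalk X x)), eq_comm, algebraMap_eq_mk_iff,
    one_mul, eq_comm]

/-- the value at `y` of a section of `K_X` -/
theorem kmod_units_mul_inv {U : X.Opens} (f : (Γ(kmod X, U))ˣ) (y : U) :
    (f : Γ(kmod X, U)).1 y * ((f⁻¹ : (Γ(kmod X, U))ˣ) : Γ(kmod X, U)).1 y = 1 := by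
  rw [← kmod_mul_apply, Units.mul_inv, kmod_one_apply]

/-- local presentation of a unit of `Γ(U, K_X)` as a quotient of two regular sections on an affine
neighbourhood -/
theorem exists_presentation_unit {U : X.Opens} (f : (Γ(kmod X, U))ˣ) (x : X) (hx : x ∈ U) :
    ∃ (W : X.Opens) (hW : IsAffineOpen W) (hxW : x ∈ W) (hWU : W ≤ U) (a b : Γ(X, W))
      (ha : a ∈ regSub X W) (hb : b ∈ regSub X W),
      ∀ (y : X) (hy : y ∈ W), (f : Γ(kmod X, U)).1 ⟨y, hWU hy⟩ =
        LocalizedModule.mk (X.presheaf.germ W y hy a) (regGerm ⟨y, hy⟩ ⟨b, hb⟩) := by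
  obtain ⟨V, hxV, i, a, b, hab⟩ := (f : Γ(kmod X, U)).2 ⟨x, hx⟩
  obtain ⟨V', hxV', i', a', b', hab'⟩ := ((f⁻¹ : (Γ(kmod X, U))ˣ) : Γ(kmod X, U)).2 ⟨x, hx⟩
  obtain ⟨_, ⟨W, hW, rfl⟩, hxW, hWV⟩ := X.isBasis_affineOpens.exists_subset_of_mem_open
    (show x ∈ ((V ⊓ V' : X.Opens) : Set X) from ⟨hxV, hxV'⟩) (V ⊓ V').2
  have hWV1 : W ≤ V := fun y hy => (hWV hy).1
  have hWV2 : W ≤ V' := fun y hy => (hWV hy).2
  have hanzd : ∀ (y : X) (hy : y ∈ W),
      X.presheaf.germ V y (hWV1 hy) a ∈ nonZeroDivisors (X.presheaf.stalk y) := by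
    intro y hy
    have h1 := kmod_units_mul_inv f ⟨y, i.le (hWV1 hy)⟩
    have h2 := hab ⟨y, hWV1 hy⟩
    have h3 := hab' ⟨y, hWV2 hy⟩
    dsimp only at h2 h3
    change (f : Γ(kmod X, U)).1 ⟨y, _⟩ = _ at h2
    change ((f⁻¹ : (Γ(kmod X, U))ˣ) : Γ(kmod X, U)).1 ⟨y, _⟩ = _ at h3
    rw [h2, h3, mk_mul_mk, mk_eq_one_iff] at h1
    have h4 : ((regGerm ⟨y, hWV1 hy⟩ b * regGerm ⟨y, hWV2 hy⟩ b' : regStalk X y) :
        X.presheaf.stalk y) ∈ nonZeroDivisors (X.presheaf.stalk y) :=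
      regStalk_le_nonZeroDivisors y (SetLike.coe_mem _)
    rw [← h1] at h4
    exact (mul_mem_nonZeroDivisors.1 h4).1
  refine ⟨W, hW, hxW, fun y hy => i.le (hWV1 hy), X.presheaf.map (homOfLE hWV1).op a,
    X.presheaf.map (homOfLE hWV1).op b.1, ?_, regSub_res _ b.2, ?_⟩
  · intro y
    change X.presheaf.germ W y.1 y.2 (X.presheaf.map (homOfLE hWV1).op a) ∈ _
    rw [TopCat.Presheaf.germ_res_apply]
    exact hanzd y.1 y.2
  · intro y hy
    have h2 := hab ⟨y, hWV1 hy⟩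
    dsimp only at h2
    change (f : Γ(kmod X, U)).1 ⟨y, _⟩ = _ at h2
    rw [h2]
    exact mk_congr (TopCat.Presheaf.germ_res_apply X.presheaf _ y hy a).symm
      (TopCat.Presheaf.germ_res_apply X.presheaf _ y hy b.1).symm

/-- local presentation of a divisor as the class of a quotient of two regular sections on an affine
neighbourhood -/
theorem exists_presentation (D : Divisor X) (x : X) :
    ∃ (W : X.Opens) (hW : IsAffineOpen W) (hxW : x ∈ W) (a b : Γ(X, W))
      (ha : a ∈ regSub X W) (hb : b ∈ regSub X W),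
      ∀ (y : X) (hy : y ∈ W), ∃ g : (KStalk X y)ˣ, D.1 y = QuotientGroup.mk g ∧
        (g : KStalk X y) =
          LocalizedModule.mk (X.presheaf.germ W y hy a) (regGerm ⟨y, hy⟩ ⟨b, hb⟩) := by
  obtain ⟨U, hxU, f, hf⟩ := D.2 x
  obtain ⟨W, hW, hxW, hWU, a, b, ha, hb, hab⟩ := exists_presentation_unit f x hxU
  refine ⟨W, hW, hxW, a, b, ha, hb, fun y hy => ?_⟩
  exact ⟨Units.map (evalK X U ⟨y, hWU hy⟩).toMonoidHom f, hf ⟨y, hWU hy⟩, hab y hy⟩

section germ

variable (y : X) (g : (KStalk X y)ˣ) (α : X.presheaf.stalk y) (β : regStalk X y)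
  (hg : (g : KStalk X y) = LocalizedModule.mk α β)

include hg

theorem mk_eq_one_iff_exists_unit :
    (QuotientGroup.mk g : Germ X y) = 1 ↔ ∃ u : (X.presheaf.stalk y)ˣ, (u : X.presheaf.stalk y) * β = α := by
  rw [QuotientGroup.eq_one_iff]
  constructor
  · rintro ⟨u, hu⟩
    refine ⟨u, ?_⟩
    rw [← algebraMap_eq_mk_iff, ← hg, ← hu]
    rfl
  · rintro ⟨u, hu⟩
    refine ⟨u, Units.ext ?_⟩
    rw [hg]
    exact (algebraMap_eq_mk_iff y u α β).2 hu

theorem mk_eq_one_iff_dvd :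
    (QuotientGroup.mk g : Germ X y) = 1 ↔
      ((β : X.presheaf.stalk y) ∣ α ∧ α ∣ (β : X.presheaf.stalk y)) := by
  rw [mk_eq_one_iff_exists_unit y g α β hg]
  constructor
  · rintro ⟨u, rfl⟩
    exact ⟨Dvd.intro_left _ rfl, ⟨((u⁻¹ : (X.presheaf.stalk y)ˣ) : X.presheaf.stalk y), by
      rw [mul_comm, ← mul_assoc, Units.inv_mul, one_mul]⟩⟩
  · rintro ⟨⟨c, hc⟩, ⟨d, hd⟩⟩
    have hβ : (β : X.presheaf.stalk y) ∈ nonZeroDivisors (X.presheaf.stalk y) :=
      regStalk_le_nonZeroDivisors y β.2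
    have h1 : (c * d - 1) * (β : X.presheaf.stalk y) = 0 := by
      have : c * d * (β : X.presheaf.stalk y) = β := by
        calc c * d * (β : X.presheaf.stalk y) = (β * c) * d := by ring
          _ = β := by rw [← hc, ← hd]
      rw [sub_mul, this, one_mul, sub_self]
    have h2 : c * d = 1 := sub_eq_zero.1 ((mem_nonZeroDivisors_iff.1 hβ).2 _ h1)
    exact ⟨⟨c, d, h2, by rw [mul_comm]; exact h2⟩, by rw [hc, mul_comm]⟩

end germ

/-- effectivity of a germ `α/β`, on a locally Noetherian scheme -/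
theorem isEffectiveAt_iff_dvd [IsLocallyNoetherian X] (D : Divisor X) (y : X) (g : (KStalk X y)ˣ)
    (hD : D.1 y = QuotientGroup.mk g) (α : X.presheaf.stalk y) (β : regStalk X y)
    (hα : α ∈ nonZeroDivisors (X.presheaf.stalk y))
    (hg : (g : KStalk X y) = LocalizedModule.mk α β) :
    IsEffectiveAt D y ↔ (β : X.presheaf.stalk y) ∣ α := by
  constructor
  · rintro ⟨c, hc⟩
    rw [hD, QuotientGroup.eq] at hc
    obtain ⟨u, hu⟩ := hc
    have h1 : (g : KStalk X y) * algebraMap _ _ (u : X.presheaf.stalk y) =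
        algebraMap _ _ (c : X.presheaf.stalk y) := by
      have := congrArg (fun t : (KStalk X y)ˣ => (g : KStalk X y) * (t : KStalk X y)) hu
      simp only [Units.val_mul, Units.mul_inv_cancel_left] at this
      exact this
    rw [hg, mul_comm, eq_comm] at h1
    have h2 : algebraMap _ (KStalk X y) ((c : X.presheaf.stalk y) *
        ((u⁻¹ : (X.presheaf.stalk y)ˣ) : X.presheaf.stalk y)) = LocalizedModule.mk α β := by
      rw [map_mul, h1, mul_comm, ← mul_assoc, ← map_mul, Units.inv_mul, map_one, one_mul]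
    have h3 := (algebraMap_eq_mk_iff y _ α β).1 h2
    exact ⟨(c : X.presheaf.stalk y) * ((u⁻¹ : (X.presheaf.stalk y)ˣ) : X.presheaf.stalk y),
      by rw [← h3]; ring⟩
  · rintro ⟨c, hc⟩
    have hc' : c ∈ nonZeroDivisors (X.presheaf.stalk y) := by
      rw [hc] at hα
      exact (mul_mem_nonZeroDivisors.1 hα).2
    rw [← Groth.Agent.S8863.result X y] at hc'
    refine ⟨⟨c, hc'⟩, ?_⟩
    rw [hD]
    congr 1
    refine Units.ext ?_
    rw [hg]
    refine ((algebraMap_eq_mk_iff y c α β).2 ?_).symm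
    rw [hc, mul_comm]

theorem fromSpec_mem' {W : X.Opens} (hW : IsAffineOpen W) (p : PrimeSpectrum Γ(X, W)) :
    hW.fromSpec p ∈ W := by
  have : hW.fromSpec p ∈ Set.range hW.fromSpec := ⟨p, rfl⟩
  rw [hW.range_fromSpec] at this
  exact this

theorem primeIdealOf_fromSpec {W : X.Opens} (hW : IsAffineOpen W) (p : PrimeSpectrum Γ(X, W)) :
    hW.primeIdealOf ⟨hW.fromSpec p, fromSpec_mem' hW p⟩ = p := by
  apply hW.fromSpec.isOpenEmbedding.injective
  exact hW.fromSpec_primeIdealOf ⟨hW.fromSpec p, fromSpec_mem' hW p⟩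

/-- divisibility of germs on an affine open, in terms of the coordinate ring -/
theorem germ_dvd_iff {W : X.Opens} (hW : IsAffineOpen W) (a b : Γ(X, W)) (y : X) (hy : y ∈ W) :
    X.presheaf.germ W y hy b ∣ X.presheaf.germ W y hy a ↔
      ∃ s, s ∉ (hW.primeIdealOf ⟨y, hy⟩).asIdeal ∧ b ∣ s * a := by
  letI := X.presheaf.algebra_section_stalk ⟨y, hy⟩
  haveI := hW.isLocalization_stalk ⟨y, hy⟩
  exact Groth.Agent.Lib.Helper29.MeroAlg.dvd_map_iff (hW.primeIdealOf ⟨y, hy⟩).asIdeal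
    (X.presheaf.stalk y) a b

/-- if `b_x ∤ a_x` at a point of an affine open of a locally Noetherian scheme (`b` regular), then
the same happens at a generization `z` of `x` with `depth O_{X,z} = 1`. -/
theorem exists_generization_depth_one [IsLocallyNoetherian X] {W : X.Opens} (hW : IsAffineOpen W)
    (a b : Γ(X, W)) (hb : b ∈ regSub X W) (x : X) (hx : x ∈ W)
    (h : ¬ X.presheaf.germ W x hx b ∣ X.presheaf.germ W x hx a) :
    ∃ (z : X) (hz : z ∈ W), z ⤳ x ∧ ¬ (X.presheaf.germ W z hz b ∣ X.presheaf.germ W z hz a) ∧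
      LocCoh.depth (X.presheaf.stalk z) (X.presheaf.stalk z) = 1 := by
  haveI : IsNoetherianRing Γ(X, W) := IsLocallyNoetherian.component_noetherian ⟨W, hW⟩
  have hb' : b ∈ nonZeroDivisors Γ(X, W) := by
    rw [← Groth.Agent.S12513.result X W hW]; exact hb
  rw [germ_dvd_iff hW] at h
  obtain ⟨q, hqp, hqle, hq, hdepth⟩ := Groth.Agent.Lib.Helper29.MeroAlg.exists_prime_depth_one a b hb'
    (hW.primeIdealOf ⟨x, hx⟩).asIdeal (fun s hs hd => h ⟨s, hs, hd⟩)
  have hz : hW.fromSpec ⟨q, hqp⟩ ∈ W := fromSpec_mem' hW _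
  have hpz : hW.primeIdealOf ⟨hW.fromSpec ⟨q, hqp⟩, hz⟩ = ⟨q, hqp⟩ := primeIdealOf_fromSpec hW _
  refine ⟨hW.fromSpec ⟨q, hqp⟩, hz, ?_, ?_, ?_⟩
  · have h1 : hW.fromSpec (hW.primeIdealOf ⟨x, hx⟩) = x := hW.fromSpec_primeIdealOf ⟨x, hx⟩
    rw [← h1]
    apply Specializes.map _ hW.fromSpec.continuous
    exact (PrimeSpectrum.le_iff_specializes (⟨q, hqp⟩ : PrimeSpectrum Γ(X, W))
      (hW.primeIdealOf ⟨x, hx⟩)).1 hqle
  · rw [germ_dvd_iff hW, hpz]
    rintro ⟨s, hs, hd⟩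
    exact hq s hs hd
  · letI := X.presheaf.algebra_section_stalk ⟨hW.fromSpec ⟨q, hqp⟩, hz⟩
    haveI : IsLocalization.AtPrime (X.presheaf.stalk (hW.fromSpec ⟨q, hqp⟩)) q := by
      have := hW.isLocalization_stalk ⟨hW.fromSpec ⟨q, hqp⟩, hz⟩
      rw [hpz] at this
      exact this
    exact hdepth (X.presheaf.stalk (hW.fromSpec ⟨q, hqp⟩))

/-- if the germ of `D` at `x` is not trivial, it is not trivial at some generization of depth one -/
theorem exists_generization_depth_one_of_ne_one [IsLocallyNoetherian X] (D : Divisor X) (x : X)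
    (hx : D.1 x ≠ 1) :
    ∃ z : X, z ⤳ x ∧ D.1 z ≠ 1 ∧
      LocCoh.depth (X.presheaf.stalk z) (X.presheaf.stalk z) = 1 := by
  obtain ⟨W, hW, hxW, a, b, ha, hb, hab⟩ := exists_presentation D x
  obtain ⟨g, hDg, hg⟩ := hab x hxW
  rw [hDg, Ne, mk_eq_one_iff_dvd x g _ _ hg, not_and_or] at hx
  rcases hx with hx | hx
  · obtain ⟨z, hz, hzx, hndvd, hdepth⟩ := exists_generization_depth_one hW a b hb x hxW hx
    refine ⟨z, hzx, ?_, hdepth⟩
    obtain ⟨g', hDg', hg'⟩ := hab z hz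
    rw [hDg', Ne, mk_eq_one_iff_dvd z g' _ _ hg']
    exact fun h => hndvd h.1
  · obtain ⟨z, hz, hzx, hndvd, hdepth⟩ := exists_generization_depth_one hW b a ha x hxW hx
    refine ⟨z, hzx, ?_, hdepth⟩
    obtain ⟨g', hDg', hg'⟩ := hab z hz
    rw [hDg', Ne, mk_eq_one_iff_dvd z g' _ _ hg']
    exact fun h => hndvd h.2

/-- if `D` is not effective at `x`, it is not effective at some generization of depth one -/
theorem exists_generization_depth_one_of_not_effective [IsLocallyNoetherian X] (D : Divisor X)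
    (x : X) (hx : ¬ IsEffectiveAt D x) :
    ∃ z : X, z ⤳ x ∧ ¬ IsEffectiveAt D z ∧
      LocCoh.depth (X.presheaf.stalk z) (X.presheaf.stalk z) = 1 := by
  obtain ⟨W, hW, hxW, a, b, ha, hb, hab⟩ := exists_presentation D x
  obtain ⟨g, hDg, hg⟩ := hab x hxW
  rw [isEffectiveAt_iff_dvd D x g hDg _ _ (ha ⟨x, hxW⟩) hg] at hx
  obtain ⟨z, hz, hzx, hndvd, hdepth⟩ := exists_generization_depth_one hW a b hb x hxW hx
  refine ⟨z, hzx, ?_, hdepth⟩
  obtain ⟨g', hDg', hg'⟩ := hab z hz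
  rw [isEffectiveAt_iff_dvd D z g' hDg' _ _ (ha ⟨z, hz⟩) hg']
  exact hndvd

end Groth.Agent.Lib.Helper29.MeroDiv
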