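import Groth.Agent.Lib.Helper29.MeroGen

set_option autoImplicit false
set_option linter.unusedVariables false
set_option linter.style.haveILetI false
universe u

namespace Groth.Agent.Lib.Helper29.MeroGen

open AlgebraicGeometry TopologicalSpace CategoryTheory Opposite Mero
open Groth.Agent.Lib.Helper28.QCohLoc Groth.Agent.Lib.Helper29.FreeIso
  Groth.Agent.Lib.Helper29.QCohStalk Groth.Agent.Lib.Helper29.MeroDiv

variable {X : Scheme.{u}}

section homToModOf

variable {T : X → Type u} [∀ x, AddCommGroup (T x)] [∀ x, Module (X.presheaf.stalk x) (T x)]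
  (P : TopCat.LocalPredicate T) [IsModPred P] (M : X.Modules)
  (φ : ∀ x, M.presheaf.stalk x →ₗ[X.presheaf.stalk x] T x)
  (h : ∀ (U : X.Opens) (m : Γ(M, U)), P.pred (fun x : U => φ x.1 (gm M U x.1 x.2 m)))

/-- a morphism into a `modOf` sheaf given stalkwise -/
noncomputable def homToModOf : M ⟶ modOf P :=
  ⟨PresheafOfModules.homMk (M₁ := M.val) (M₂ := (modOf P).val)
    { app := fun U => AddCommGrpCat.ofHom
        { toFun := fun (m : Γ(M, U.unop)) =>
            (⟨fun x => φ x.1 (gm M U.unop x.1 x.2 m), h _ m⟩ : Γ(modOf P, U.unop))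
          map_zero' := Subtype.ext (funext fun x => by
            change φ x.1 (gm M U.unop x.1 x.2 0) = 0
            rw [gm_zero, map_zero])
          map_add' := fun m m' => Subtype.ext (funext fun x => by
            change φ x.1 (gm M U.unop x.1 x.2 (m + m')) = φ x.1 _ + φ x.1 _
            rw [← map_add]
            congr 1
            exact map_add _ _ _) }
      naturality := fun {U V} i => by
        ext m
        refine Subtype.ext (funext fun x => ?_)
        exact congrArg (φ x.1) (TopCat.Presheaf.germ_res_apply' M.presheaf i x.1 x.2 m) }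
    (fun U r m => Subtype.ext <| funext fun x =>
      (congrArg (φ x.1) (gm_smul M U.unop x.1 x.2 r m)).trans (map_smul (φ x.1) _ _))⟩

theorem homToModOf_app_apply (U : X.Opens) (m : Γ(M, U)) (x : U) :
    ((homToModOf P M φ h).app U m).1 x = φ x.1 (gm M U x.1 x.2 m) := rfl

end homToModOf

variable (L : X.Modules) (s : Γ(merMod L, ⊤))

/-- local data for a regular meromorphic section: `s = (c • e) / b` on `V` -/
structure LocData (x : X) where
  V : X.Opens
  hxV : x ∈ V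
  e : Γ(L, V)
  c : regSub X V
  b : regSub X V
  he : IsGen L V e
  hform : ∀ y : V, s.1 ⟨y.1, trivial⟩ =
    LocalizedModule.mk (gm L V y.1 y.2 (c.1 • e)) (regGerm y b)

variable {L s}

namespace LocData

variable {x : X} (d : LocData L s x)

/-- the same data at another point of `V` -/
def at' (y : X) (hy : y ∈ d.V) : LocData L s y :=
  { V := d.V, hxV := hy, e := d.e, c := d.c, b := d.b, he := d.he, hform := d.hform }

/-- the unit `c / b` of `K_X(V)` -/
noncomputable def f : (Γ(kmod X, d.V))ˣ := regUnit d.c * (regUnit d.b)⁻¹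

theorem f_apply (y : d.V) : (d.f : Γ(kmod X, d.V)).1 y =
    LocalizedModule.mk (X.presheaf.germ d.V y.1 y.2 d.c.1) (regGerm y d.b) := by
  change (toK X d.V d.c.1).1 y * (invReg d.b).1 y = _
  rw [toK_apply, invReg_apply, mk_mul_mk, mul_one, one_mul]

theorem finv_apply (y : d.V) : ((d.f⁻¹ : (Γ(kmod X, d.V))ˣ) : Γ(kmod X, d.V)).1 y =
    LocalizedModule.mk (X.presheaf.germ d.V y.1 y.2 d.b.1) (regGerm y d.c) := by
  have h1 : d.f⁻¹ = regUnit d.b * (regUnit d.c)⁻¹ := by
    unfold f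
    rw [mul_inv_rev, inv_inv]
  rw [h1]
  change (toK X d.V d.b.1).1 y * (invReg d.c).1 y = _
  rw [toK_apply, invReg_apply, mk_mul_mk, mul_one, one_mul]

theorem finv_mul_f (y : d.V) : ((d.f⁻¹ : (Γ(kmod X, d.V))ˣ) : Γ(kmod X, d.V)).1 y *
    (d.f : Γ(kmod X, d.V)).1 y = 1 := by
  have := congrArg (fun z : Γ(kmod X, d.V) => z.1 y) d.f.inv_mul
  exact this

/-- `s = f • e` -/
theorem s_eq (y : d.V) : s.1 ⟨y.1, trivial⟩ =
    (d.f : Γ(kmod X, d.V)).1 y • (LocalizedModule.mk (gm L d.V y.1 y.2 d.e) 1 : MStalk L y.1) := by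
  rw [d.hform y, f_apply, kmk_smul_mk, mul_one, gm_smul]

/-- the quotient `t / s` for `t = r • e` -/
theorem q_spec (y : d.V) (r : X.presheaf.stalk y.1) :
    (algebraMap _ (KStalk X y.1) r * ((d.f⁻¹ : (Γ(kmod X, d.V))ˣ) : Γ(kmod X, d.V)).1 y) •
      s.1 ⟨y.1, trivial⟩ =
    (LocalizedModule.mk (r • gm L d.V y.1 y.2 d.e) 1 : MStalk L y.1) := by
  rw [d.s_eq y, ← mul_smul, mul_assoc, finv_mul_f, mul_one, algebraMap_smul_mk]

end LocData

theorem nonempty_locData (hL : PicF.IsInvertible L) (hs : IsRegularMero L s) (x : X) :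
    Nonempty (LocData L s x) := by
  obtain ⟨V, hxV, e, c, b, he, hform⟩ := exists_local_form hL s hs x
  exact ⟨⟨V, hxV, e, c, b, he, hform⟩⟩

theorem exists_q (hL : PicF.IsInvertible L) (hs : IsRegularMero L s) (y : X)
    (t : L.presheaf.stalk y) :
    ∃ q : KStalk X y, q • s.1 ⟨y, trivial⟩ = (LocalizedModule.mk t 1 : MStalk L y) := by
  obtain ⟨d⟩ := nonempty_locData hL hs y
  obtain ⟨r, rfl⟩ := d.he.stalk_gen y d.hxV t
  exact ⟨_, d.q_spec ⟨y, d.hxV⟩ r⟩

theorem q_unique (hs : IsRegularMero L s) (y : X) (q q' : KStalk X y)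
    (h : q • s.1 ⟨y, trivial⟩ = q' • s.1 ⟨y, trivial⟩) : q = q' := by
  have h1 : (q - q') • s.1 ⟨y, trivial⟩ = 0 := by rw [sub_smul, h, sub_self]
  exact sub_eq_zero.1 (hs y _ h1)

/-- the stalkwise map `t ↦ t / s` -/
noncomputable def phi (hL : PicF.IsInvertible L) (hs : IsRegularMero L s) (y : X) :
    L.presheaf.stalk y →ₗ[X.presheaf.stalk y] KStalk X y where
  toFun t := (exists_q hL hs y t).choose
  map_add' t t' := by
    apply q_unique hs y
    rw [add_smul, (exists_q hL hs y t).choose_spec, (exists_q hL hs y t').choose_spec,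
      (exists_q hL hs y (t + t')).choose_spec, LocalizedModule.mk_add_mk]
    simp
  map_smul' r t := by
    apply q_unique hs y
    rw [(exists_q hL hs y (r • t)).choose_spec, RingHom.id_apply, smul_assoc,
      (exists_q hL hs y t).choose_spec, LocalizedModule.smul'_mk]

theorem phi_spec (hL : PicF.IsInvertible L) (hs : IsRegularMero L s) (y : X)
    (t : L.presheaf.stalk y) :
    phi hL hs y t • s.1 ⟨y, trivial⟩ = (LocalizedModule.mk t 1 : MStalk L y) :=
  (exists_q hL hs y t).choose_spec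

theorem phi_eq (hL : PicF.IsInvertible L) (hs : IsRegularMero L s) {x : X} (d : LocData L s x)
    (y : d.V) (r : X.presheaf.stalk y.1) :
    phi hL hs y.1 (r • gm L d.V y.1 y.2 d.e) =
      algebraMap _ (KStalk X y.1) r * ((d.f⁻¹ : (Γ(kmod X, d.V))ˣ) : Γ(kmod X, d.V)).1 y := by
  apply q_unique hs y.1
  rw [phi_spec, d.q_spec]

section construction

variable (hL : PicF.IsInvertible L) (hs : IsRegularMero L s)

/-- chosen local data at every point -/
noncomputable def locData (x : X) : LocData L s x := (nonempty_locData hL hs x).some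

theorem germOf_f_eq {x x' : X} (d : LocData L s x) (d' : LocData L s x') (y : X) (hy : y ∈ d.V)
    (hy' : y ∈ d'.V) : germOf d.f ⟨y, hy⟩ = germOf d'.f ⟨y, hy'⟩ := by
  refine germ_class_eq d.he d'.he y hy hy' _ _ ?_
  exact (d.s_eq ⟨y, hy⟩).symm.trans (d'.s_eq ⟨y, hy'⟩)

/-- the divisor of the regular meromorphic section `s` -/
noncomputable def divOf : Divisor X :=
  ⟨fun y => germOf (locData hL hs y).f ⟨y, (locData hL hs y).hxV⟩, fun x =>
    ⟨(locData hL hs x).V, (locData hL hs x).hxV, (locData hL hs x).f, fun y =>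
      germOf_f_eq (locData hL hs y.1) (locData hL hs x) y.1 (locData hL hs y.1).hxV y.2⟩⟩

theorem divOf_apply {x : X} (d : LocData L s x) (y : d.V) :
    (divOf hL hs).1 y.1 = germOf d.f y :=
  germOf_f_eq (locData hL hs y.1) d y.1 (locData hL hs y.1).hxV y.2

theorem phi_pred (U : X.Opens) (m : Γ(L, U)) :
    (divLoc X (divOf hL hs)).pred (fun x : U => phi hL hs x.1 (gm L U x.1 x.2 m)) := by
  constructor
  · intro x
    let d := locData hL hs x.1
    obtain ⟨T₁, h1, hxT₁, r, hr⟩ := d.he.gen (inf_le_right : U ⊓ d.V ≤ d.V) (res L inf_le_left m)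
      x.1 ⟨x.2, d.hxV⟩
    have hTU : T₁ ≤ U := h1.trans inf_le_left
    have hTV : T₁ ≤ d.V := h1.trans inf_le_right
    refine ⟨T₁, hxT₁, homOfLE hTU, r * resO hTV d.b.1,
      ⟨resO hTV d.c.1, regSub_res (homOfLE hTV) d.c.2⟩, fun y => ?_⟩
    change phi hL hs y.1 (gm L U y.1 (hTU y.2) m) = _
    have h2 : gm L U y.1 (hTU y.2) m =
        X.presheaf.germ T₁ y.1 y.2 r • gm L d.V y.1 (hTV y.2) d.e := by
      have h3 := congrArg (gm L T₁ y.1 y.2) hr
      rw [gm_res, gm_res, gm_smul, gm_res] at h3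
      exact h3
    rw [h2, phi_eq hL hs d ⟨y.1, hTV y.2⟩, d.finv_apply, algebraMap_mul_mk]
    refine mk_congr ?_ ?_
    · rw [map_mul, germ_resO]
    · exact (germ_resO hTV y.1 y.2 d.c.1).symm
  · intro y
    let d := locData hL hs y.1
    rw [divCond_iff d.f (divOf hL hs) ⟨y.1, d.hxV⟩ (divOf_apply hL hs d ⟨y.1, d.hxV⟩)]
    obtain ⟨r, hr⟩ := d.he.stalk_gen y.1 d.hxV (gm L U y.1 y.2 m)
    refine ⟨r, ?_⟩
    change _ = phi hL hs y.1 (gm L U y.1 y.2 m) * (d.f : Γ(kmod X, d.V)).1 ⟨y.1, d.hxV⟩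
    rw [hr, phi_eq hL hs d ⟨y.1, d.hxV⟩, mul_assoc, d.finv_mul_f, mul_one]

/-- the morphism `L ⟶ O_X(D)`, `t ↦ t / s` -/
noncomputable def psi : L ⟶ divMod (divOf hL hs) :=
  homToModOf (divLoc X (divOf hL hs)) L (phi hL hs) (phi_pred hL hs)

theorem psi_app_apply (U : X.Opens) (m : Γ(L, U)) (x : U) :
    ((psi hL hs).app U m).1 x = phi hL hs x.1 (gm L U x.1 x.2 m) := rfl

theorem phi_injective (y : X) : Function.Injective (phi hL hs y) := by
  intro t t' h
  let d := locData hL hs y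
  obtain ⟨r, rfl⟩ := d.he.stalk_gen y d.hxV t
  obtain ⟨r', rfl⟩ := d.he.stalk_gen y d.hxV t'
  rw [phi_eq hL hs d ⟨y, d.hxV⟩, phi_eq hL hs d ⟨y, d.hxV⟩] at h
  have h1 := congrArg (fun z => z * (d.f : Γ(kmod X, d.V)).1 ⟨y, d.hxV⟩) h
  simp only [mul_assoc] at h1
  rw [d.finv_mul_f, mul_one, mul_one] at h1
  rw [algebraMap_KStalk_injective y h1]

theorem psi_app_injective (W : X.Opens) : Function.Injective ((psi hL hs).app W) := by
  intro m m' h
  apply TopCat.Presheaf.section_ext (⟨L.presheaf, L.isSheaf⟩ : TopCat.Sheaf Ab X) W m m'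
  intro y hy
  apply phi_injective hL hs y
  have h1 := congrArg (fun z : Γ(divMod (divOf hL hs), W) => z.1 ⟨y, hy⟩) h
  exact h1

theorem psi_locally_surjective (U : X.Opens) (t : Γ(divMod (divOf hL hs), U)) (x : X) (hx : x ∈ U) :
    ∃ (V : X.Opens) (hV : V ≤ U), x ∈ V ∧
      ∃ m : Γ(L, V), (psi hL hs).app V m = res (divMod (divOf hL hs)) hV t := by
  let d := locData hL hs x
  have hTU : U ⊓ d.V ≤ U := inf_le_left
  have hTV : U ⊓ d.V ≤ d.V := inf_le_right
  let tK : Γ(kmod X, U) := ⟨t.1, t.2.1⟩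
  let tK' : Γ(kmod X, U ⊓ d.V) := (kmod X).presheaf.map (homOfLE hTU).op tK
  let z : Γ(kmod X, U ⊓ d.V) := tK' *
    ((resUnit (homOfLE hTV) d.f : (Γ(kmod X, U ⊓ d.V))ˣ) : Γ(kmod X, U ⊓ d.V))
  have hz : ∀ y : (U ⊓ d.V : X.Opens), z.1 y =
      t.1 ⟨y.1, hTU y.2⟩ * (d.f : Γ(kmod X, d.V)).1 ⟨y.1, hTV y.2⟩ := fun y => rfl
  have hzx : z.1 ⟨x, ⟨hx, d.hxV⟩⟩ ∈ (algebraMap (X.presheaf.stalk x) (KStalk X x)).range := by
    rw [hz]
    exact (divCond_iff d.f (divOf hL hs) ⟨x, d.hxV⟩ (divOf_apply hL hs d ⟨x, d.hxV⟩) _).mp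
      (t.2.2 ⟨x, hx⟩)
  obtain ⟨T₁, h1, hxT₁, r, hr⟩ := exists_section_of_mem_range z ⟨x, ⟨hx, d.hxV⟩⟩ hzx
  refine ⟨T₁, h1.trans hTU, hxT₁, r • res L (h1.trans hTV) d.e, ?_⟩
  refine Subtype.ext (funext fun y => ?_)
  change phi hL hs y.1 (gm L T₁ y.1 y.2 (r • res L (h1.trans hTV) d.e)) = t.1 ⟨y.1, (h1.trans hTU) y.2⟩
  rw [gm_smul, gm_res, phi_eq hL hs d ⟨y.1, (h1.trans hTV) y.2⟩, ← hr y, hz, mul_assoc]
  have h2 : (d.f : Γ(kmod X, d.V)).1 ⟨y.1, (h1.trans hTV) y.2⟩ *
      ((d.f⁻¹ : (Γ(kmod X, d.V))ˣ) : Γ(kmod X, d.V)).1 ⟨y.1, (h1.trans hTV) y.2⟩ = 1 := by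
    rw [mul_comm]; exact d.finv_mul_f _
  rw [h2, mul_one]

theorem isIso_psi : IsIso (psi hL hs) :=
  isIso_of_injective_of_locally_surjective (psi hL hs) (fun _ => True)
    (fun U x hx => ⟨U, trivial, hx, le_rfl⟩) (fun W _ => psi_app_injective hL hs W)
    (psi_locally_surjective hL hs)

end construction

/-- an invertible module with a regular meromorphic section is `O_X(D)` for a divisor `D` -/
theorem exists_iso_divMod_of_isRegularMero (hL : PicF.IsInvertible L) (hs : IsRegularMero L s) :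
    ∃ D : Divisor X, Nonempty (L ≅ divMod D) := by
  haveI := isIso_psi hL hs
  exact ⟨divOf hL hs, ⟨asIso (psi hL hs)⟩⟩

end Groth.Agent.Lib.Helper29.MeroGen
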