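import Groth.Agent.Lib.Helper29.MeroGen2
import Groth.Agent.Lib.Helper28.QCohGen

set_option autoImplicit false
set_option linter.unusedVariables false
set_option linter.style.haveILetI false
universe u

namespace Groth.Agent.Lib.Helper29.MeroGen

open AlgebraicGeometry TopologicalSpace CategoryTheory Opposite Mero
open Groth.Agent.Lib.Helper28.QCohLoc Groth.Agent.Lib.Helper29.FreeIso
  Groth.Agent.Lib.Helper29.QCohStalk Groth.Agent.Lib.Helper29.MeroDiv

variable {X : Scheme.{u}} {L : X.Modules} (D : Divisor X) (i : L ≅ divMod D)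

/-- local data for the section `1` of `O_X(D)`: `D = div (a / b)` on `W` -/
structure OneData (x : X) where
  W : X.Opens
  hxW : x ∈ W
  a : regSub X W
  b : regSub X W
  g : ∀ y : W, (KStalk X y.1)ˣ
  hg : ∀ y : W, D.1 y.1 = QuotientGroup.mk (g y)
  hgab : ∀ y : W, ((g y : (KStalk X y.1)ˣ) : KStalk X y.1) =
    LocalizedModule.mk (X.presheaf.germ W y.1 y.2 a.1) (regGerm y b)

theorem nonempty_oneData (x : X) : Nonempty (OneData D x) := by
  obtain ⟨U, hxU, f, hf⟩ := D.2 x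
  obtain ⟨W, hW, hxW, hWU, a, b, ha, hb, hab⟩ := exists_presentation_unit f x hxU
  exact ⟨⟨W, hxW, ⟨a, ha⟩, ⟨b, hb⟩, fun y => Units.map (evalK X U ⟨y.1, hWU y.2⟩).toMonoidHom f,
    fun y => hf ⟨y.1, hWU y.2⟩, fun y => hab y.1 y.2⟩⟩

variable {D}

namespace OneData

variable {x : X} (d : OneData D x)

/-- the function `b` as a section of `O_X(D)` -/
noncomputable def β : Γ(divMod D, d.W) :=
  ⟨(toK X d.W d.b.1).1, (toK X d.W d.b.1).2, fun y g hg => by
    have h1 := d.hg y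
    rw [hg, QuotientGroup.eq] at h1
    obtain ⟨u, hu⟩ := h1
    have h2 : ((d.g y : (KStalk X y.1)ˣ) : KStalk X y.1) = (g : KStalk X y.1) *
        algebraMap (X.presheaf.stalk y.1) (KStalk X y.1) u := by
      have := congrArg (fun w : (KStalk X y.1)ˣ => (g : KStalk X y.1) * (w : KStalk X y.1)) hu
      simp only [Units.val_mul, Units.mul_inv_cancel_left] at this
      exact this.symm
    have h3 : (g : KStalk X y.1) = (d.g y : KStalk X y.1) *
        algebraMap (X.presheaf.stalk y.1) (KStalk X y.1) ((u⁻¹ : (X.presheaf.stalk y.1)ˣ) : _) := by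
      rw [h2, mul_assoc, ← map_mul, Units.mul_inv, map_one, mul_one]
    rw [h3, d.hgab y, toK_val_apply, ← mul_assoc, algebraMap_mul_mk]
    have h4 : (LocalizedModule.mk (X.presheaf.germ d.W y.1 y.2 d.b.1 * X.presheaf.germ d.W y.1 y.2 d.a.1)
        (regGerm y d.b) : KStalk X y.1) =
        algebraMap _ _ (X.presheaf.germ d.W y.1 y.2 d.a.1) := by
      rw [eq_comm, algebraMap_eq_mk_iff, mul_comm]
    rw [h4, ← map_mul]
    exact ⟨_, rfl⟩⟩

theorem β_apply (y : d.W) : d.β.1 y =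
    algebraMap (X.presheaf.stalk y.1) (KStalk X y.1) (X.presheaf.germ d.W y.1 y.2 d.b.1) :=
  toK_val_apply d.b.1 y

/-- the section of `L` corresponding to `b ∈ O_X(D)` -/
noncomputable def σ : Γ(L, d.W) := i.inv.app d.W d.β

theorem hom_σ : i.hom.app d.W (d.σ i) = d.β := by
  change (i.inv ≫ i.hom).app d.W d.β = d.β
  rw [Iso.inv_hom_id]
  rfl

/-- `r • σ_x = 0` forces `r = 0` -/
theorem smul_gm_σ_eq_zero (y : d.W) (r : X.presheaf.stalk y.1)
    (hr : r • gm L d.W y.1 y.2 (d.σ i) = 0) : r = 0 := by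
  obtain ⟨T, hyT, ρ, rfl⟩ := TopCat.Presheaf.exists_germ_eq X.presheaf r
  have h1 : gm L (T ⊓ d.W) y.1 ⟨hyT, y.2⟩
      (resO (inf_le_left : T ⊓ d.W ≤ T) ρ • res L inf_le_right (d.σ i)) = 0 := by
    rw [gm_smul, gm_res, germ_resO]
    exact hr
  rw [← gm_zero L (T ⊓ d.W) y.1 ⟨hyT, y.2⟩] at h1
  obtain ⟨T₁, hyT₁, j₁, j₂, h2⟩ := TopCat.Presheaf.germ_eq L.presheaf y.1 _ _ _ _ h1
  have hT₁T : T₁ ≤ T := j₁.le.trans inf_le_left
  have hT₁W : T₁ ≤ d.W := j₁.le.trans inf_le_right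
  have h3 : (resO hT₁T ρ • res L hT₁W (d.σ i) : Γ(L, T₁)) = 0 := by
    have e1 : L.presheaf.map j₁.op (resO (inf_le_left : T ⊓ d.W ≤ T) ρ • res L inf_le_right (d.σ i)) =
        resO hT₁T ρ • res L hT₁W (d.σ i) := by
      have := res_smul L j₁.le (resO (inf_le_left : T ⊓ d.W ≤ T) ρ) (res L inf_le_right (d.σ i))
      rw [resO_resO, res_res] at this
      exact this
    rw [← e1, h2]
    exact map_zero _
  have h4 := congrArg (i.hom.app T₁) h3
  rw [Scheme.Modules.Hom.app_smul, app_res, d.hom_σ i] at h4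
  have h5 := congrArg (fun z : Γ(divMod D, T₁) => z.1 ⟨y.1, hyT₁⟩) h4
  have h6 : X.presheaf.germ T₁ y.1 hyT₁ (resO hT₁T ρ) • d.β.1 ⟨y.1, hT₁W hyT₁⟩ = (0 : KStalk X y.1) := by
    refine Eq.trans ?_ (h5.trans ?_)
    · rfl
    · exact congrArg (fun z : Γ(divMod D, T₁) => z.1 ⟨y.1, hyT₁⟩) (map_zero (i.hom.app T₁).hom)
  rw [d.β_apply, Algebra.smul_def, ← map_mul, germ_resO,
    ← map_zero (algebraMap (X.presheaf.stalk y.1) (KStalk X y.1))] at h6
  have h7 := algebraMap_KStalk_injective y.1 h6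
  exact (mem_nonZeroDivisors_iff_right.1 (d.b.2 y)) _ h7

end OneData

/-- compatibility of the local sections `σ / b` -/
theorem OneData.compat {x x' : X} (d : OneData D x) (d' : OneData D x') (y : X) (hy : y ∈ d.W)
    (hy' : y ∈ d'.W) :
    (LocalizedModule.mk (gm L d.W y hy (d.σ i)) (regGerm ⟨y, hy⟩ d.b) : MStalk L y) =
      LocalizedModule.mk (gm L d'.W y hy' (d'.σ i)) (regGerm ⟨y, hy'⟩ d'.b) := by
  rw [LocalizedModule.mk_eq]
  refine ⟨1, ?_⟩
  rw [one_smul, one_smul]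
  change X.presheaf.germ d'.W y hy' d'.b.1 • gm L d.W y hy (d.σ i) =
    X.presheaf.germ d.W y hy d.b.1 • gm L d'.W y hy' (d'.σ i)
  have hl : d.W ⊓ d'.W ≤ d.W := inf_le_left
  have hr : d.W ⊓ d'.W ≤ d'.W := inf_le_right
  have key : (resO hr d'.b.1 • res L hl (d.σ i) : Γ(L, d.W ⊓ d'.W)) =
      resO hl d.b.1 • res L hr (d'.σ i) := by
    have e1 : (resO hr d'.b.1 • res (divMod D) hl d.β : Γ(divMod D, d.W ⊓ d'.W)) =
        resO hl d.b.1 • res (divMod D) hr d'.β := by
      refine Subtype.ext (funext fun z => ?_)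
      change X.presheaf.germ _ z.1 z.2 (resO hr d'.b.1) • d.β.1 ⟨z.1, hl z.2⟩ =
        X.presheaf.germ _ z.1 z.2 (resO hl d.b.1) • d'.β.1 ⟨z.1, hr z.2⟩
      rw [d.β_apply, d'.β_apply, Algebra.smul_def, Algebra.smul_def, germ_resO, germ_resO,
        mul_comm]
    have e2 := congrArg (i.inv.app (d.W ⊓ d'.W)) e1
    rw [Scheme.Modules.Hom.app_smul, Scheme.Modules.Hom.app_smul, app_res, app_res] at e2
    exact e2
  have h1 := congrArg (gm L (d.W ⊓ d'.W) y ⟨hy, hy'⟩) key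
  rw [gm_smul, gm_smul, gm_res, gm_res, germ_resO, germ_resO] at h1
  exact h1

/-- the meromorphic section `1` of `L ≅ O_X(D)` -/
noncomputable def oneSection : Γ(merMod L, ⊤) :=
  ⟨fun y => LocalizedModule.mk
      (gm L (nonempty_oneData D y.1).some.W y.1 (nonempty_oneData D y.1).some.hxW
        ((nonempty_oneData D y.1).some.σ i))
      (regGerm ⟨y.1, (nonempty_oneData D y.1).some.hxW⟩ (nonempty_oneData D y.1).some.b),
    fun x => by
      let d := (nonempty_oneData D x.1).some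
      refine ⟨d.W, d.hxW, homOfLE le_top, d.σ i, d.b, fun y => ?_⟩
      exact OneData.compat i (nonempty_oneData D y.1).some d y.1 _ y.2⟩

theorem isRegularMero_oneSection : IsRegularMero L (oneSection i) := by
  intro x q hq
  let d := (nonempty_oneData D x).some
  have h1 : (oneSection i).1 ⟨x, trivial⟩ =
      LocalizedModule.mk (gm L d.W x d.hxW (d.σ i)) (regGerm ⟨x, d.hxW⟩ d.b) := rfl
  rw [h1] at hq
  obtain ⟨α, γ, rfl⟩ := IsLocalization.exists_mk'_eq (regStalk X x) q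
  rw [← mk_eq_mk', kmk_smul_mk, ← LocalizedModule.zero_mk (1 : regStalk X x),
    LocalizedModule.mk_eq] at hq
  obtain ⟨u, hu⟩ := hq
  rw [smul_zero, smul_zero, one_smul] at hu
  have h2 : ((u : X.presheaf.stalk x) * α) • gm L d.W x d.hxW (d.σ i) = 0 := by
    rw [mul_smul]; exact hu
  have h3 := d.smul_gm_σ_eq_zero i ⟨x, d.hxW⟩ _ h2
  have h4 : α = 0 :=
    (mem_nonZeroDivisors_iff.1 (regStalk_le_nonZeroDivisors x u.2)).1 α h3
  rw [h4, IsLocalization.mk'_zero]

/-- a module isomorphic to `O_X(D)` has a regular meromorphic section -/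
theorem hasRegularMero_of_iso_divMod {D : Divisor X} (i : L ≅ divMod D) : HasRegularMero L :=
  ⟨oneSection i, isRegularMero_oneSection i⟩

end Groth.Agent.Lib.Helper29.MeroGen
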