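import Groth.Agent.Lib.Helper29.MeroDiv3

set_option autoImplicit false
set_option linter.unusedVariables false
set_option linter.style.haveILetI false
universe u

namespace Groth.Agent.Lib.Helper29.MeroDiv

open AlgebraicGeometry TopologicalSpace CategoryTheory Opposite Mero

variable {X : Scheme.{u}}

section modOfHom

variable {T T' : X → Type u} [∀ x, AddCommGroup (T x)] [∀ x, Module (X.presheaf.stalk x) (T x)]
  [∀ x, AddCommGroup (T' x)] [∀ x, Module (X.presheaf.stalk x) (T' x)]
  (P : TopCat.LocalPredicate T) [IsModPred P] (Q : TopCat.LocalPredicate T') [IsModPred Q]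
  (φ : ∀ x, T x →ₗ[X.presheaf.stalk x] T' x)
  (h : ∀ (U : X.Opens) (f : ∀ x : U, T x.1), P.pred f → Q.pred (fun x => φ x.1 (f x)))

/-- a morphism `modOf P ⟶ modOf Q` given pointwise -/
noncomputable def modOfHom : modOf P ⟶ modOf Q :=
  ⟨PresheafOfModules.homMk (M₁ := (modOf P).val) (M₂ := (modOf Q).val)
    { app := fun U => AddCommGrpCat.ofHom
        { toFun := fun (f : Γ(modOf P, U.unop)) =>
            (⟨fun x => φ x.1 (f.1 x), h _ _ f.2⟩ : Γ(modOf Q, U.unop))
          map_zero' := Subtype.ext (funext fun x => (φ x.1).map_zero)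
          map_add' := fun _ _ => Subtype.ext (funext fun x => (φ x.1).map_add _ _) }
      naturality := by intros; rfl }
    (fun U r f => Subtype.ext (funext fun x => (φ x.1).map_smul _ _))⟩

theorem modOfHom_app_apply (U : X.Opens) (f : Γ(modOf P, U)) (x : U) :
    ((modOfHom P Q φ h).app U f).1 x = φ x.1 (f.1 x) := rfl

end modOfHom

section modOfIso

variable {T T' : X → Type u} [∀ x, AddCommGroup (T x)] [∀ x, Module (X.presheaf.stalk x) (T x)]
  [∀ x, AddCommGroup (T' x)] [∀ x, Module (X.presheaf.stalk x) (T' x)]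
  (P : TopCat.LocalPredicate T) [IsModPred P] (Q : TopCat.LocalPredicate T') [IsModPred Q]
  (e : ∀ x, T x ≃ₗ[X.presheaf.stalk x] T' x)
  (h : ∀ (U : X.Opens) (f : ∀ x : U, T x.1), P.pred f → Q.pred (fun x => e x.1 (f x)))
  (h' : ∀ (U : X.Opens) (f : ∀ x : U, T' x.1), Q.pred f → P.pred (fun x => (e x.1).symm (f x)))

/-- an isomorphism `modOf P ≅ modOf Q` given pointwise -/
noncomputable def modOfIso : modOf P ≅ modOf Q where
  hom := modOfHom P Q (fun x => (e x).toLinearMap) h
  inv := modOfHom Q P (fun x => (e x).symm.toLinearMap) h'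
  hom_inv_id := by
    ext U f
    refine Subtype.ext (funext fun x => ?_)
    exact (e x.1).symm_apply_apply _
  inv_hom_id := by
    ext U f
    refine Subtype.ext (funext fun x => ?_)
    exact (e x.1).apply_symm_apply _

end modOfIso

end Groth.Agent.Lib.Helper29.MeroDiv
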