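import Groth.Agent.Lib.Helper29.MeroLoc
import Groth.Agent.Lib.Helper29.MeroAss

set_option autoImplicit false
set_option linter.unusedVariables false
set_option linter.style.haveILetI false
universe u

namespace Groth.Agent.Lib.Helper29.MeroDiv

open AlgebraicGeometry TopologicalSpace CategoryTheory Opposite Mero

variable {X : Scheme.{u}}

theorem toK_injective (U : X.Opens) : Function.Injective (toK X U) := by
  rw [injective_iff_map_eq_zero]
  intro a ha
  apply TopCat.Presheaf.section_ext X.sheaf U a 0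
  intro y hy
  change X.presheaf.germ U y hy a = X.presheaf.germ U y hy 0
  rw [map_zero]
  have h1 : (toK X U a).1 ⟨y, hy⟩ = 0 := by rw [ha]; rfl
  rw [toK_val_apply, ← map_zero (algebraMap (X.presheaf.stalk y) (KStalk X y))] at h1
  exact algebraMap_KStalk_injective y h1

/-- local denominators: near a point of an affine open, a meromorphic function is `a/b` with `a, b`
sections over the whole affine open, `b` a nonzerodivisor at the point -/
theorem exists_local_denominator {U : X.Opens} (hU : IsAffineOpen U) (z : Γ(kmod X, U)) (x : X)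
    (hx : x ∈ U) :
    ∃ (h b a : Γ(X, U)), x ∈ X.basicOpen h ∧
      X.presheaf.germ U x hx b ∈ nonZeroDivisors (X.presheaf.stalk x) ∧
      ∀ (y : X) (hy : y ∈ X.basicOpen h),
        algebraMap (X.presheaf.stalk y) (KStalk X y) (X.presheaf.germ U y (X.basicOpen_le h hy) b) *
          z.1 ⟨y, X.basicOpen_le h hy⟩ =
        algebraMap (X.presheaf.stalk y) (KStalk X y) (X.presheaf.germ U y (X.basicOpen_le h hy) a) := by
  obtain ⟨W₀, hxW₀, i, a₀, b₀, hab⟩ := z.2 ⟨x, hx⟩
  obtain ⟨h, hhW₀, hxh⟩ := hU.exists_basicOpen_le ⟨x, hxW₀⟩ hx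
  haveI := hU.isLocalization_basicOpen h
  obtain ⟨⟨b₁, ⟨_, k, rfl⟩⟩, hb₁⟩ := IsLocalization.surj (Submonoid.powers h)
    (X.presheaf.map (homOfLE hhW₀).op b₀.1)
  obtain ⟨⟨a₁, ⟨_, l, rfl⟩⟩, ha₁⟩ := IsLocalization.surj (Submonoid.powers h)
    (X.presheaf.map (homOfLE hhW₀).op a₀)
  simp only at hb₁ ha₁
  -- germ versions
  have hb₁' : ∀ (y : X) (hy : y ∈ X.basicOpen h),
      X.presheaf.germ W₀ y (hhW₀ hy) b₀.1 * X.presheaf.germ U y (X.basicOpen_le h hy) h ^ k =
        X.presheaf.germ U y (X.basicOpen_le h hy) b₁ := by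
    intro y hy
    have := congrArg (X.presheaf.germ (X.basicOpen h) y hy) hb₁
    rw [map_mul, TopCat.Presheaf.germ_res_apply] at this
    change _ * X.presheaf.germ (X.basicOpen h) y hy
      (X.presheaf.map (homOfLE (X.basicOpen_le h)).op (h ^ k)) =
      X.presheaf.germ (X.basicOpen h) y hy (X.presheaf.map (homOfLE (X.basicOpen_le h)).op b₁) at this
    rw [TopCat.Presheaf.germ_res_apply, TopCat.Presheaf.germ_res_apply, map_pow] at this
    exact this
  have ha₁' : ∀ (y : X) (hy : y ∈ X.basicOpen h),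
      X.presheaf.germ W₀ y (hhW₀ hy) a₀ * X.presheaf.germ U y (X.basicOpen_le h hy) h ^ l =
        X.presheaf.germ U y (X.basicOpen_le h hy) a₁ := by
    intro y hy
    have := congrArg (X.presheaf.germ (X.basicOpen h) y hy) ha₁
    rw [map_mul, TopCat.Presheaf.germ_res_apply] at this
    change _ * X.presheaf.germ (X.basicOpen h) y hy
      (X.presheaf.map (homOfLE (X.basicOpen_le h)).op (h ^ l)) =
      X.presheaf.germ (X.basicOpen h) y hy (X.presheaf.map (homOfLE (X.basicOpen_le h)).op a₁) at this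
    rw [TopCat.Presheaf.germ_res_apply, TopCat.Presheaf.germ_res_apply, map_pow] at this
    exact this
  refine ⟨h, b₁ * h ^ l, a₁ * h ^ k, hxh, ?_, fun y hy => ?_⟩
  · rw [map_mul, ← hb₁' x hxh, map_pow]
    have hu : IsUnit (X.presheaf.germ U x hx h) := (X.mem_basicOpen h x hx).1 hxh
    exact mul_mem (mul_mem (b₀.2 ⟨x, hxW₀⟩) (pow_mem hu.mem_nonZeroDivisors k))
      (pow_mem hu.mem_nonZeroDivisors l)
  · have h2 := hab ⟨y, hhW₀ hy⟩
    dsimp only at h2
    change z.1 ⟨y, _⟩ = _ at h2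
    rw [h2, algebraMap_mul_mk, eq_comm, algebraMap_eq_mk_iff, map_mul, map_mul, ← hb₁' y hy,
      ← ha₁' y hy, map_pow, map_pow]
    change _ = _ * _ * _ * X.presheaf.germ W₀ y (hhW₀ hy) a₀
    ring

/-- global denominators on an affine open, regular at a given point -/
theorem exists_denominator_at {U : X.Opens} (hU : IsAffineOpen U) (z : Γ(kmod X, U)) (x : X)
    (hx : x ∈ U) :
    ∃ (b a : Γ(X, U)), X.presheaf.germ U x hx b ∈ nonZeroDivisors (X.presheaf.stalk x) ∧
      toK X U b * z = toK X U a := by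
  obtain ⟨h, b, a, hxh, hb, hab⟩ := exists_local_denominator hU z x hx
  obtain ⟨N, hN⟩ := exists_pow_mul_eq_zero hU.isCompact h (toK X U b * z - toK X U a) (by
    intro y hy
    change (toK X U b * z).1 ⟨y, _⟩ - (toK X U a).1 ⟨y, _⟩ = 0
    rw [kmod_mul_apply, toK_val_apply, toK_val_apply, hab y hy, sub_self])
  refine ⟨h ^ N * b, h ^ N * a, ?_, ?_⟩
  · rw [map_mul, map_pow]
    have hu : IsUnit (X.presheaf.germ U x hx h) := (X.mem_basicOpen h x hx).1 hxh
    exact mul_mem (pow_mem hu.mem_nonZeroDivisors N) hb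
  · rw [mul_sub, sub_eq_zero] at hN
    rw [map_mul, map_mul, map_pow, mul_assoc]
    exact hN

/-- on an affine open of a locally Noetherian scheme every meromorphic function has a
nonzerodivisor denominator -/
theorem exists_nzd_denominator [IsLocallyNoetherian X] {U : X.Opens} (hU : IsAffineOpen U)
    (z : Γ(kmod X, U)) :
    ∃ (b a : Γ(X, U)), b ∈ nonZeroDivisors Γ(X, U) ∧ toK X U b * z = toK X U a := by
  haveI : IsNoetherianRing Γ(X, U) := IsLocallyNoetherian.component_noetherian ⟨U, hU⟩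
  let I : Ideal Γ(X, U) :=
    { carrier := {b | ∃ a, toK X U b * z = toK X U a}
      zero_mem' := ⟨0, by simp⟩
      add_mem' := by
        rintro b b' ⟨a, ha⟩ ⟨a', ha'⟩
        exact ⟨a + a', by rw [map_add, add_mul, ha, ha', map_add]⟩
      smul_mem' := by
        rintro c b ⟨a, ha⟩
        exact ⟨c * a, by rw [smul_eq_mul, map_mul, mul_assoc, ha, map_mul]⟩ }
  by_contra hcon
  push Not at hcon
  have hI : (I : Set Γ(X, U)) ⊆ ⋃ p ∈ associatedPrimes Γ(X, U) Γ(X, U), (p : Set Γ(X, U)) := by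
    rw [biUnion_associatedPrimes_eq_compl_nonZeroDivisors]
    rintro b ⟨a, ha⟩ hb
    exact hcon b a hb ha
  have hfin : (associatedPrimes Γ(X, U) Γ(X, U)).Finite := associatedPrimes.finite _ _
  obtain ⟨p, hp, hIp⟩ : ∃ p ∈ associatedPrimes Γ(X, U) Γ(X, U), I ≤ p := by
    have h1 : (I : Set Γ(X, U)) ⊆ ⋃ i ∈ (↑hfin.toFinset : Set (Ideal Γ(X, U))), ((id i : Ideal _) : Set _) := by
      intro b hb
      have := hI hb
      simp only [Set.mem_iUnion, exists_prop] at this ⊢
      obtain ⟨q, hq, hbq⟩ := this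
      exact ⟨q, by simpa using hq, hbq⟩
    obtain ⟨i, hi, hle⟩ := (Ideal.subset_union_prime (s := hfin.toFinset) (f := id) ⊥ ⊥
      (fun i hi _ _ => (hfin.mem_toFinset.1 hi).isPrime)).1 h1
    exact ⟨i, hfin.mem_toFinset.1 hi, hle⟩
  haveI hpp : p.IsPrime := hp.isPrime
  have hxU : hU.fromSpec ⟨p, hpp⟩ ∈ U := fromSpec_mem' hU _
  have hpx : hU.primeIdealOf ⟨hU.fromSpec ⟨p, hpp⟩, hxU⟩ = ⟨p, hpp⟩ := primeIdealOf_fromSpec hU _
  obtain ⟨b, a, hb, hba⟩ := exists_denominator_at hU z (hU.fromSpec ⟨p, hpp⟩) hxU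
  have hbp : b ∈ p := hIp ⟨a, hba⟩
  letI := X.presheaf.algebra_section_stalk ⟨hU.fromSpec ⟨p, hpp⟩, hxU⟩
  haveI : IsLocalization.AtPrime (X.presheaf.stalk (hU.fromSpec ⟨p, hpp⟩)) p := by
    have := hU.isLocalization_stalk ⟨hU.fromSpec ⟨p, hpp⟩, hxU⟩
    rw [hpx] at this
    exact this
  have h1 : algebraMap Γ(X, U) (X.presheaf.stalk (hU.fromSpec ⟨p, hpp⟩)) b ∈
      IsLocalRing.maximalIdeal (X.presheaf.stalk (hU.fromSpec ⟨p, hpp⟩)) :=
    (IsLocalization.AtPrime.to_map_mem_maximal_iff _ p b).2 hbp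
  have hass := Groth.Agent.Lib.Helper29.MeroAlg.maximalIdeal_mem_ass p hp
    (X.presheaf.stalk (hU.fromSpec ⟨p, hpp⟩))
  have h2 : algebraMap Γ(X, U) (X.presheaf.stalk (hU.fromSpec ⟨p, hpp⟩)) b ∈
      ⋃ q ∈ associatedPrimes (X.presheaf.stalk (hU.fromSpec ⟨p, hpp⟩))
        (X.presheaf.stalk (hU.fromSpec ⟨p, hpp⟩)), (q : Set _) :=
    Set.mem_biUnion hass h1
  rw [biUnion_associatedPrimes_eq_compl_nonZeroDivisors] at h2
  exact h2 hb

end Groth.Agent.Lib.Helper29.MeroDiv
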