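import Groth.Agent.Lib.Helper29.MeroHom
import Groth.Agent.Lib.Helper29.MeroLoc2
import Groth.Agent.Lib.Helper29.FreeIso2

set_option autoImplicit false
set_option linter.unusedVariables false
set_option linter.style.haveILetI false
universe u

namespace Groth.Agent.Lib.Helper29.MeroDiv

open AlgebraicGeometry TopologicalSpace CategoryTheory Opposite Mero

variable {X : Scheme.{u}}

/-- a meromorphic function whose value at a point is (the image of) a germ of a function is a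
function near that point -/
theorem exists_section_of_mem_range {T : X.Opens} (s : Γ(kmod X, T)) (pt : T)
    (h : s.1 pt ∈ (algebraMap (X.presheaf.stalk pt.1) (KStalk X pt.1)).range) :
    ∃ (T₁ : X.Opens) (h1 : T₁ ≤ T), pt.1 ∈ T₁ ∧ ∃ c : Γ(X, T₁),
      ∀ y : T₁, s.1 ⟨y.1, h1 y.2⟩ =
        algebraMap (X.presheaf.stalk y.1) (KStalk X y.1) (X.presheaf.germ T₁ y.1 y.2 c) := by
  obtain ⟨r₀, hr₀⟩ := h
  obtain ⟨W₀, hW₀, i, a₀, b₀, hab⟩ := s.2 pt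
  obtain ⟨V, hV, r', hr'⟩ := TopCat.Presheaf.exists_germ_eq X.presheaf r₀
  have h0 := hab ⟨pt.1, hW₀⟩
  have h0' : s.1 pt = LocalizedModule.mk (X.presheaf.germ W₀ pt.1 hW₀ a₀) (regGerm ⟨pt.1, hW₀⟩ b₀) := h0
  rw [← hr₀] at h0'
  have h2 := (algebraMap_eq_mk_iff pt.1 r₀ _ _).mp h0'
  -- equality of germs at pt on V ⊓ W₀
  have h3 : X.presheaf.germ (V ⊓ W₀) pt.1 ⟨hV, hW₀⟩
      (X.presheaf.map (homOfLE inf_le_left).op r' * X.presheaf.map (homOfLE inf_le_right).op b₀.1) =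
      X.presheaf.germ (V ⊓ W₀) pt.1 ⟨hV, hW₀⟩ (X.presheaf.map (homOfLE inf_le_right).op a₀) := by
    rw [map_mul, TopCat.Presheaf.germ_res_apply, TopCat.Presheaf.germ_res_apply,
      TopCat.Presheaf.germ_res_apply, hr']
    exact h2
  obtain ⟨T₁, hT₁, j₁, j₂, h4⟩ := TopCat.Presheaf.germ_eq X.presheaf pt.1 _ _ _ _ h3
  have hTW : T₁ ≤ W₀ := j₁.le.trans inf_le_right
  have hTV : T₁ ≤ V := j₁.le.trans inf_le_left
  refine ⟨T₁, hTW.trans i.le, hT₁, X.presheaf.map (homOfLE hTV).op r', fun y => ?_⟩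
  have h5 := hab ⟨y.1, hTW y.2⟩
  have h5' : s.1 ⟨y.1, (hTW.trans i.le) y.2⟩ =
      LocalizedModule.mk (X.presheaf.germ W₀ y.1 (hTW y.2) a₀) (regGerm ⟨y.1, hTW y.2⟩ b₀) := h5
  rw [h5', eq_comm, algebraMap_eq_mk_iff]
  have h6 := congrArg (X.presheaf.germ T₁ y.1 y.2) h4
  rw [TopCat.Presheaf.germ_res_apply, TopCat.Presheaf.germ_res_apply, map_mul,
    TopCat.Presheaf.germ_res_apply, TopCat.Presheaf.germ_res_apply,
    TopCat.Presheaf.germ_res_apply] at h6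
  rw [TopCat.Presheaf.germ_res_apply]
  exact h6

open Groth.Agent.Lib.Helper28.QCohLoc Groth.Agent.Lib.Helper29.FreeIso in
/-- where `D` is the divisor of the unit `f`, the section `f⁻¹` is a basis of `O_X(D)` -/
theorem exists_isBasisOn_divMod (D : Divisor X) {U : X.Opens} (f : (Γ(kmod X, U))ˣ)
    (hf : ∀ y : U, D.1 y.1 = germOf f y) :
    ∃ τ : Fin 1 → Γ(divMod D, U), IsBasisOn (divMod D) U τ := by
  have hinv : ∀ x : U, ((f⁻¹ : (Γ(kmod X, U))ˣ) : Γ(kmod X, U)).1 x * (f : Γ(kmod X, U)).1 x = 1 := by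
    intro x
    have := congrArg (fun z : Γ(kmod X, U) => z.1 x) f.inv_mul
    exact this
  have hinv' : ∀ x : U, (f : Γ(kmod X, U)).1 x * ((f⁻¹ : (Γ(kmod X, U))ˣ) : Γ(kmod X, U)).1 x = 1 := by
    intro x
    rw [mul_comm]; exact hinv x
  let τ₀ : Γ(divMod D, U) := ⟨((f⁻¹ : (Γ(kmod X, U))ˣ) : Γ(kmod X, U)).1,
    ⟨((f⁻¹ : (Γ(kmod X, U))ˣ) : Γ(kmod X, U)).2, fun x =>
      (divCond_iff f D x (hf x) _).mpr ⟨1, by rw [map_one]; exact (hinv x).symm⟩⟩⟩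
  refine ⟨fun _ => τ₀, ?_, ?_⟩
  · intro T hT c hc j
    obtain rfl : j = 0 := Subsingleton.elim _ _
    rw [Fin.sum_univ_one] at hc
    apply TopCat.Presheaf.section_ext X.sheaf T (c 0) 0
    intro y hy
    change X.presheaf.germ T y hy (c 0) = X.presheaf.germ T y hy 0
    rw [map_zero]
    have h1 := congrArg (fun z : Γ(divMod D, T) => z.1 ⟨y, hy⟩) hc
    have h2 : X.presheaf.germ T y hy (c 0) •
        ((f⁻¹ : (Γ(kmod X, U))ˣ) : Γ(kmod X, U)).1 ⟨y, hT hy⟩ = 0 := h1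
    rw [Algebra.smul_def] at h2
    have h3 := congrArg (fun z => z * (f : Γ(kmod X, U)).1 ⟨y, hT hy⟩) h2
    simp only [mul_assoc, hinv, mul_one, zero_mul] at h3
    rw [← map_zero (algebraMap (X.presheaf.stalk y) (KStalk X y))] at h3
    exact algebraMap_KStalk_injective y h3
  · intro T hT t pt hpt
    let t' : Γ(kmod X, T) := ⟨t.1, t.2.1⟩
    let s : Γ(kmod X, T) := t' *
      ((resUnit (homOfLE hT) f : (Γ(kmod X, T))ˣ) : Γ(kmod X, T))
    have hs : ∀ y : T, s.1 y = t.1 y * (f : Γ(kmod X, U)).1 ⟨y.1, hT y.2⟩ := fun y => rfl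
    have hpt' : s.1 ⟨pt, hpt⟩ ∈ (algebraMap (X.presheaf.stalk pt) (KStalk X pt)).range := by
      rw [hs]
      exact (divCond_iff f D ⟨pt, hT hpt⟩ (hf _) _).mp (t.2.2 ⟨pt, hpt⟩)
    obtain ⟨T₁, h1, hptT₁, c, hc⟩ := exists_section_of_mem_range s ⟨pt, hpt⟩ hpt'
    refine ⟨T₁, h1, hptT₁, fun _ => c, ?_⟩
    rw [Fin.sum_univ_one]
    refine Subtype.ext (funext fun y => ?_)
    change t.1 ⟨y.1, h1 y.2⟩ = X.presheaf.germ T₁ y.1 y.2 c •
      ((f⁻¹ : (Γ(kmod X, U))ˣ) : Γ(kmod X, U)).1 ⟨y.1, hT (h1 y.2)⟩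
    rw [Algebra.smul_def, ← hc y, hs, mul_assoc, hinv', mul_one]

open Groth.Agent.Lib.Helper29.FreeIso CategoryTheory.Limits in
theorem isInvertible_divMod (D : Divisor X) : PicF.IsInvertible (divMod D) := by
  intro y
  obtain ⟨U, hyU, f, hf⟩ := D.2 y
  obtain ⟨τ, hτ⟩ := exists_isBasisOn_divMod D f hf
  obtain ⟨e⟩ := hτ.nonempty_iso
  exact ⟨U, hyU, ⟨e ≪≫ coproductUniqueIso _⟩⟩

end Groth.Agent.Lib.Helper29.MeroDiv
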