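import Groth.Agent.Lib.Helper29.MeroDiv3

set_option autoImplicit false
set_option linter.unusedVariables false
set_option linter.style.haveILetI false
universe u

namespace Groth.Agent.Lib.Helper29.MeroDiv

open AlgebraicGeometry TopologicalSpace CategoryTheory Opposite Mero

variable {X : Scheme.{u}}

theorem toK_val_apply {U : X.Opens} (r : Γ(X, U)) (y : U) :
    (toK X U r).1 y = algebraMap (X.presheaf.stalk y.1) (KStalk X y.1) (X.presheaf.germ U y.1 y.2 r) := by
  rw [toK_apply, mk_eq_mk', IsLocalization.mk'_one]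

theorem algebraMap_mul_mk (x : X) (r a : X.presheaf.stalk x) (s : regStalk X x) :
    algebraMap (X.presheaf.stalk x) (KStalk X x) r * LocalizedModule.mk a s =
      LocalizedModule.mk (r * a) s := by
  rw [mk_eq_mk', mk_eq_mk', IsLocalization.mul_mk'_eq_mk'_of_mul]

theorem toK_pow_mul_apply {U : X.Opens} (h : Γ(X, U)) (n : ℕ) (f : Γ(kmod X, U)) (y : U) :
    (toK X U h ^ n * f).1 y =
      algebraMap (X.presheaf.stalk y.1) (KStalk X y.1) (X.presheaf.germ U y.1 y.2 h ^ n) * f.1 y := by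
  have h1 : (toK X U h ^ n * f).1 y = evalK X U y (toK X U h ^ n * f) := rfl
  rw [h1, map_mul, map_pow, map_pow]
  congr 2

/-- local annihilation by a power of `h` of a meromorphic function vanishing on `X_h` -/
theorem exists_nhds_pow_mul_eq_zero {U : X.Opens} (h : Γ(X, U)) (f : Γ(kmod X, U))
    (hf : ∀ (y : X) (hy : y ∈ X.basicOpen h), f.1 ⟨y, X.basicOpen_le h hy⟩ = 0) (x : X) (hx : x ∈ U) :
    ∃ (W : X.Opens) (hxW : x ∈ W) (hWU : W ≤ U) (n : ℕ), ∀ (y : X) (hy : y ∈ W) (m : ℕ), n ≤ m →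
      algebraMap (X.presheaf.stalk y) (KStalk X y) (X.presheaf.germ U y (hWU hy) h ^ m) *
        f.1 ⟨y, hWU hy⟩ = 0 := by
  obtain ⟨W₀, hxW₀, i, a, b, hab⟩ := f.2 ⟨x, hx⟩
  obtain ⟨_, ⟨W, hW, rfl⟩, hxW, hWW₀⟩ := X.isBasis_affineOpens.exists_subset_of_mem_open hxW₀ W₀.2
  have hWW₀' : W ≤ W₀ := hWW₀
  have hWU : W ≤ U := fun y hy => i.le (hWW₀ hy)
  set h' := X.presheaf.map (homOfLE hWU).op h with hh'
  set a' := X.presheaf.map (homOfLE hWW₀').op a with ha'
  have hres : algebraMap Γ(X, W) Γ(X, X.basicOpen h') a' = 0 := by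
    apply TopCat.Presheaf.section_ext X.sheaf (X.basicOpen h')
    intro y hy
    have hyW : y ∈ W := X.basicOpen_le h' hy
    change X.presheaf.germ (X.basicOpen h') y hy
      (X.presheaf.map (homOfLE (X.basicOpen_le h')).op a') = X.presheaf.germ _ y hy 0
    rw [map_zero, TopCat.Presheaf.germ_res_apply, ha', TopCat.Presheaf.germ_res_apply]
    have hyh : y ∈ X.basicOpen h := by
      have : y ∈ X.basicOpen h' := hy
      rw [hh', Scheme.basicOpen_res] at this
      exact this.2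
    have h1 := hf y hyh
    have h2 := hab ⟨y, hWW₀ hyW⟩
    dsimp only at h2
    change f.1 ⟨y, _⟩ = _ at h2
    rw [h2, ← map_zero (algebraMap (X.presheaf.stalk y) (KStalk X y)), eq_comm,
      algebraMap_eq_mk_iff, zero_mul] at h1
    exact h1.symm
  haveI := hW.isLocalization_basicOpen h'
  obtain ⟨⟨_, n, rfl⟩, hn⟩ := (IsLocalization.map_eq_zero_iff (Submonoid.powers h')
    Γ(X, X.basicOpen h') a').1 hres
  refine ⟨W, hxW, hWU, n, fun y hy m hm => ?_⟩
  have h2 := hab ⟨y, hWW₀ hy⟩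
  dsimp only at h2
  change f.1 ⟨y, _⟩ = _ at h2
  rw [h2, algebraMap_mul_mk]
  have h3 : X.presheaf.germ U y (hWU hy) h ^ m * X.presheaf.germ W₀ y (hWW₀ hy) a = 0 := by
    have e1 : X.presheaf.germ U y (hWU hy) h = X.presheaf.germ W y hy h' := by
      rw [hh', TopCat.Presheaf.germ_res_apply]
    have e2 : X.presheaf.germ W₀ y (hWW₀ hy) a = X.presheaf.germ W y hy a' := by
      rw [ha', TopCat.Presheaf.germ_res_apply]
    have hn' : h' ^ n * a' = 0 := hn
    rw [e1, e2, ← Nat.sub_add_cancel hm, pow_add, mul_assoc, ← map_pow _ h' n, ← map_mul, hn',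
      map_zero, mul_zero]
  rw [h3, LocalizedModule.zero_mk]

/-- a meromorphic function on a quasi-compact open vanishing on `X_h` is killed by a power of `h` -/
theorem exists_pow_mul_eq_zero {U : X.Opens} (hU : IsCompact (U : Set X)) (h : Γ(X, U))
    (f : Γ(kmod X, U))
    (hf : ∀ (y : X) (hy : y ∈ X.basicOpen h), f.1 ⟨y, X.basicOpen_le h hy⟩ = 0) :
    ∃ n : ℕ, toK X U h ^ n * f = 0 := by
  choose W hxW hWU n hn using fun (x : U) => exists_nhds_pow_mul_eq_zero h f hf x.1 x.2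
  obtain ⟨t, ht⟩ := hU.elim_finite_subcover (fun x : U => (W x : Set X)) (fun x => (W x).2)
    (fun y hy => Set.mem_iUnion.2 ⟨⟨y, hy⟩, hxW ⟨y, hy⟩⟩)
  refine ⟨t.sup n, Subtype.ext (funext fun y => ?_)⟩
  rw [toK_pow_mul_apply]
  obtain ⟨x, hxt, hyx⟩ : ∃ x ∈ t, y.1 ∈ W x := by
    have := ht y.2
    simp only [Set.mem_iUnion, exists_prop] at this
    exact this
  exact hn x y.1 hyx _ (Finset.le_sup hxt)

end Groth.Agent.Lib.Helper29.MeroDiv
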