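import Groth.Agent.Lib.Helper29.MeroDenom
import Groth.Agent.Lib.Helper28.AmpleH1A
import Groth.Agent.Lib.Helper28.SecTwistCompat

set_option autoImplicit false
set_option linter.unusedVariables false
set_option linter.style.haveILetI false
universe u

namespace Groth.Agent.Lib.Helper29.MeroMul

open AlgebraicGeometry TopologicalSpace CategoryTheory Opposite Mero
open Groth.Agent.Lib.Helper28.QCohLoc Groth.Agent.Lib.Helper29.FreeIso
  Groth.Agent.Lib.Helper29.QCohStalk Groth.Agent.Lib.Helper29.MeroDiv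
  Groth.Agent.Lib.Helper29.MeroGen Groth.Agent.Lib.Helper29.MeroDenom

variable {X : Scheme.{u}}

theorem units_inv_mul_apply {U : X.Opens} (f : (Γ(kmod X, U))ˣ) (x : U) :
    ((f⁻¹ : (Γ(kmod X, U))ˣ) : Γ(kmod X, U)).1 x * (f : Γ(kmod X, U)).1 x = 1 := by
  have := congrArg (fun z : Γ(kmod X, U) => z.1 x) f.inv_mul
  exact this

theorem units_mul_inv_apply {U : X.Opens} (f : (Γ(kmod X, U))ˣ) (x : U) :
    (f : Γ(kmod X, U)).1 x * ((f⁻¹ : (Γ(kmod X, U))ˣ) : Γ(kmod X, U)).1 x = 1 := by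
  rw [mul_comm]; exact units_inv_mul_apply f x

/-- the section `f⁻¹` of `O_X(D)` where `D` is the divisor of `f` -/
noncomputable def invSec (D : Divisor X) {U : X.Opens} (f : (Γ(kmod X, U))ˣ)
    (hf : ∀ y : U, D.1 y.1 = germOf f y) : Γ(divMod D, U) :=
  ⟨((f⁻¹ : (Γ(kmod X, U))ˣ) : Γ(kmod X, U)).1,
    ⟨((f⁻¹ : (Γ(kmod X, U))ˣ) : Γ(kmod X, U)).2, fun x =>
      (divCond_iff f D x (hf x) _).mpr ⟨1, by rw [map_one]; exact (units_inv_mul_apply f x).symm⟩⟩⟩

theorem invSec_apply (D : Divisor X) {U : X.Opens} (f : (Γ(kmod X, U))ˣ)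
    (hf : ∀ y : U, D.1 y.1 = germOf f y) (x : U) :
    (invSec D f hf).1 x = ((f⁻¹ : (Γ(kmod X, U))ˣ) : Γ(kmod X, U)).1 x := rfl

/-- `f⁻¹` generates `O_X(D)` where `D` is the divisor of `f` -/
theorem isGen_invSec (D : Divisor X) {U : X.Opens} (f : (Γ(kmod X, U))ˣ)
    (hf : ∀ y : U, D.1 y.1 = germOf f y) : IsGen (divMod D) U (invSec D f hf) := by
  refine isGen_of_indep_gen ?_ ?_
  · intro T hT c hc
    apply TopCat.Presheaf.section_ext X.sheaf T c 0
    intro y hy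
    change X.presheaf.germ T y hy c = X.presheaf.germ T y hy 0
    rw [map_zero]
    have h1 := congrArg (fun z : Γ(divMod D, T) => z.1 ⟨y, hy⟩) hc
    have h2 : X.presheaf.germ T y hy c •
        ((f⁻¹ : (Γ(kmod X, U))ˣ) : Γ(kmod X, U)).1 ⟨y, hT hy⟩ = 0 := h1
    rw [Algebra.smul_def] at h2
    have h3 := congrArg (fun z => z * (f : Γ(kmod X, U)).1 ⟨y, hT hy⟩) h2
    dsimp only at h3
    rw [mul_assoc, units_inv_mul_apply, mul_one, zero_mul] at h3
    rw [← map_zero (algebraMap (X.presheaf.stalk y) (KStalk X y))] at h3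
    exact algebraMap_KStalk_injective y h3
  · intro T hT t pt hpt
    let t' : Γ(kmod X, T) := ⟨t.1, t.2.1⟩
    let s : Γ(kmod X, T) := t' *
      ((resUnit (homOfLE hT) f : (Γ(kmod X, T))ˣ) : Γ(kmod X, T))
    have hs : ∀ y : T, s.1 y = t.1 y * (f : Γ(kmod X, U)).1 ⟨y.1, hT y.2⟩ := fun y => rfl
    have hpt' : s.1 ⟨pt, hpt⟩ ∈ (algebraMap (X.presheaf.stalk pt) (KStalk X pt)).range := by
      rw [hs]
      exact (divCond_iff f D ⟨pt, hT hpt⟩ (hf _) _).mp (t.2.2 ⟨pt, hpt⟩)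
    obtain ⟨T₁, h1, hptT₁, c, hc⟩ := exists_section_of_mem_range s ⟨pt, hpt⟩ hpt'
    refine ⟨T₁, h1, hptT₁, c, ?_⟩
    refine Subtype.ext (funext fun y => ?_)
    change t.1 ⟨y.1, h1 y.2⟩ = X.presheaf.germ T₁ y.1 y.2 c •
      ((f⁻¹ : (Γ(kmod X, U))ˣ) : Γ(kmod X, U)).1 ⟨y.1, hT (h1 y.2)⟩
    rw [Algebra.smul_def, ← hc y, hs, mul_assoc, units_mul_inv_apply, mul_one]

/-- the divisor condition for a product -/
theorem divCond_mul (D E : Divisor X) (x : X) {t t' : KStalk X x} (h : DivCond D x t)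
    (h' : DivCond E x t') : DivCond (D * E) x (t * t') := by
  intro g hg
  obtain ⟨g₁, hg₁⟩ := QuotientGroup.mk_surjective (D.1 x)
  obtain ⟨g₂, hg₂⟩ := QuotientGroup.mk_surjective (E.1 x)
  have h1 : (D * E).1 x = QuotientGroup.mk (g₁ * g₂) := by
    rw [QuotientGroup.mk_mul, hg₁, hg₂]
    rfl
  rw [h1, QuotientGroup.eq] at hg
  obtain ⟨w, hw⟩ := hg
  have h2 : (g : KStalk X x) = (g₁ : KStalk X x) * (g₂ : KStalk X x) *
      algebraMap (X.presheaf.stalk x) (KStalk X x) w := by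
    have h4 : g = g₁ * g₂ * Units.map (algebraMap (X.presheaf.stalk x) (KStalk X x)).toMonoidHom w := by
      rw [hw, mul_inv_cancel_left]
    have h5 := congrArg (fun v : (KStalk X x)ˣ => (v : KStalk X x)) h4
    exact h5
  have h3 : t * t' * (g : KStalk X x) = (t * g₁) * (t' * g₂) *
      algebraMap (X.presheaf.stalk x) (KStalk X x) w := by
    rw [h2]; ring
  rw [h3]
  exact mul_mem (mul_mem (h g₁ hg₁.symm) (h' g₂ hg₂.symm)) ⟨w, rfl⟩

/-- the product of a section of `O_X(D)` and a section of `O_X(E)`, as a section of `O_X(D * E)` -/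
noncomputable def mulSec (D E : Divisor X) (W : X.Opens) (t : Γ(divMod D, W)) (t' : Γ(divMod E, W)) :
    Γ(divMod (D * E), W) :=
  ⟨fun x => t.1 x * t'.1 x, ⟨kLoc_mul X W t.1 t'.1 t.2.1 t'.2.1,
    fun x => divCond_mul D E x.1 (t.2.2 x) (t'.2.2 x)⟩⟩

theorem mulSec_apply (D E : Divisor X) (W : X.Opens) (t : Γ(divMod D, W)) (t' : Γ(divMod E, W))
    (x : W) : (mulSec D E W t t').1 x = t.1 x * t'.1 x := rfl

open Groth.Agent.Lib.Helper28 in
/-- the bilinear pairing `O_X(D) × O_X(E) → O_X(D * E)` as a map out of the tensor presheaf -/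
noncomputable def mulDesc (D E : Divisor X) :
    (show X.PresheafOfModules from CohB1.tensorPre (divMod D) (divMod E)) ⟶
      (PresheafOfModules.restrictScalars (𝟙 X.ringCatSheaf.obj)).obj (divMod (D * E)).val :=
  TensorIso.tensorDesc (divMod D) (divMod E) (divMod (D * E)) (fun W t t' => mulSec D E W t t')
    (fun W m m' n => Subtype.ext (funext fun x => add_mul (m.1 x) (m'.1 x) (n.1 x)))
    (fun W m n n' => Subtype.ext (funext fun x => mul_add (m.1 x) (n.1 x) (n'.1 x)))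
    (fun W a m n => Subtype.ext (funext fun x =>
      smul_mul_assoc (X.presheaf.germ W x.1 x.2 a) (m.1 x) (n.1 x)))
    (fun W a m n => Subtype.ext (funext fun x =>
      mul_smul_comm (X.presheaf.germ W x.1 x.2 a) (m.1 x) (n.1 x)))
    (fun W W' h m n => rfl)

open Groth.Agent.Lib.Helper28 in
/-- the multiplication morphism `O_X(D) ⊗ O_X(E) ⟶ O_X(D * E)` -/
noncomputable def mulHom (D E : Divisor X) :
    CohB1.tensorMod (divMod D) (divMod E) ⟶ divMod (D * E) :=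
  TensorIso.lift _ (divMod (D * E)) (mulDesc D E)

open Groth.Agent.Lib.Helper28 Groth.Agent.Lib.Helper28.TensorGen in
theorem mulHom_app_tmul (D E : Divisor X) (U : X.Opens) (t : Γ(divMod D, U)) (t' : Γ(divMod E, U)) :
    (mulHom D E).app U (SecTwist.tmul (divMod D) (divMod E) U t t') = mulSec D E U t t' := by
  rw [GenLocus.sectwist_tmul_eq]
  unfold mulHom tmulSec ηT
  exact AmpleH1.lift_app_unit _ _ _ U (ptmul (divMod D) (divMod E) t t')

theorem germOf_mul {U : X.Opens} (f f' : (Γ(kmod X, U))ˣ) (y : U) :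
    germOf (f * f') y = germOf f y * germOf f' y := by
  unfold germOf
  rw [map_mul, QuotientGroup.mk_mul]

theorem mulSec_invSec_bijective (D E : Divisor X) {W : X.Opens} (f f' : (Γ(kmod X, W))ˣ)
    (hf : ∀ y : W, D.1 y.1 = germOf f y) (hf' : ∀ y : W, E.1 y.1 = germOf f' y) :
    Function.Bijective (fun t' : Γ(divMod E, W) => mulSec D E W (invSec D f hf) t') := by
  constructor
  · intro t' t'' h
    refine Subtype.ext (funext fun y => ?_)
    have h1 := congrArg (fun z : Γ(divMod (D * E), W) => z.1 y) h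
    have h1' : ((f⁻¹ : (Γ(kmod X, W))ˣ) : Γ(kmod X, W)).1 y * t'.1 y =
        ((f⁻¹ : (Γ(kmod X, W))ˣ) : Γ(kmod X, W)).1 y * t''.1 y := h1
    have h2 := congrArg (fun z => (f : Γ(kmod X, W)).1 y * z) h1'
    dsimp only at h2
    rw [← mul_assoc, ← mul_assoc, units_mul_inv_apply, one_mul, one_mul] at h2
    exact h2
  · intro t''
    have hDE : ∀ y : W, (D * E).1 y.1 = germOf (f * f') y := fun y => by
      rw [germOf_mul, ← hf y, ← hf' y]
      rfl
    let tk : Γ(kmod X, W) := ⟨t''.1, t''.2.1⟩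
    let sk : Γ(kmod X, W) := (f : Γ(kmod X, W)) * tk
    have hsk : ∀ y : W, sk.1 y = (f : Γ(kmod X, W)).1 y * t''.1 y := fun y => rfl
    refine ⟨⟨sk.1, ⟨sk.2, fun y => ?_⟩⟩, ?_⟩
    · rw [divCond_iff f' E y (hf' y)]
      have h1 := (divCond_iff (f * f') (D * E) y (hDE y) _).1 (t''.2.2 y)
      have e0 : ((f * f' : (Γ(kmod X, W))ˣ) : Γ(kmod X, W)).1 y =
          (f : Γ(kmod X, W)).1 y * (f' : Γ(kmod X, W)).1 y := rfl
      have e1 : sk.1 y * (f' : Γ(kmod X, W)).1 y =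
          t''.1 y * ((f * f' : (Γ(kmod X, W))ˣ) : Γ(kmod X, W)).1 y := by
        rw [hsk, e0]
        ring
      rw [e1]
      exact h1
    · refine Subtype.ext (funext fun y => ?_)
      change ((f⁻¹ : (Γ(kmod X, W))ˣ) : Γ(kmod X, W)).1 y * sk.1 y = t''.1 y
      rw [hsk, ← mul_assoc, units_inv_mul_apply, one_mul]

open Groth.Agent.Lib.Helper28 in
/-- **`O_X(D) ⊗ O_X(E) ≅ O_X(D * E)`** via multiplication in `K_X` -/
theorem isIso_mulHom (D E : Divisor X) : IsIso (mulHom D E) := by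
  refine TensorIso.isIso_lift _ _ (mulDesc D E)
    (fun W => ∃ (f f' : (Γ(kmod X, W))ˣ), (∀ y : W, D.1 y.1 = germOf f y) ∧
      (∀ y : W, E.1 y.1 = germOf f' y)) ?_ ?_
  · intro U x hx
    obtain ⟨V, hxV, f, f', hf, hf'⟩ := exists_common_unit D E x
    refine ⟨V ⊓ U, ⟨resUnit (homOfLE inf_le_left) f, resUnit (homOfLE inf_le_left) f',
      fun y => ?_, fun y => ?_⟩, ⟨hxV, hx⟩, inf_le_right⟩
    · rw [germOf_resUnit]; exact hf ⟨y.1, y.2.1⟩
    · rw [germOf_resUnit]; exact hf' ⟨y.1, y.2.1⟩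
  · rintro W ⟨f, f', hf, hf'⟩
    unfold mulDesc
    refine TensorIso.tensorDesc_app_bijective_left _ _ _ _ _ _ _ _ _ W (invSec D f hf) ?_
      (mulSec_invSec_bijective D E f f' hf hf')
    intro m
    obtain ⟨a, ha⟩ := IsGen.exists_coeff (isGen_invSec D f hf) (le_refl W) m
    rw [res_self] at ha
    exact ⟨a, ha⟩

end Groth.Agent.Lib.Helper29.MeroMul
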