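import Groth.Agent.Lib.Helper29.MeroDiv

set_option autoImplicit false
set_option linter.unusedVariables false
set_option linter.style.haveILetI false
universe u

namespace Groth.Agent.Lib.Helper29.MeroDiv

open AlgebraicGeometry TopologicalSpace CategoryTheory Opposite Mero

variable {X : Scheme.{u}}

/-- unit germs at the points of `Spec O_{X,x}` -/
theorem isUnit_germ_fromSpecStalk_iff {V : X.Opens} (t : Γ(X, V)) (x : X) (hx : x ∈ V)
    (Q : PrimeSpectrum (X.presheaf.stalk x)) (hz : X.fromSpecStalk x Q ∈ V) :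
    IsUnit (X.presheaf.germ V (X.fromSpecStalk x Q) hz t) ↔
      X.presheaf.germ V x hx t ∉ Q.asIdeal := by
  rw [← X.mem_basicOpen t _ hz]
  have h1 : X.fromSpecStalk x Q ∈ X.basicOpen t ↔ Q ∈ (X.fromSpecStalk x) ⁻¹ᵁ X.basicOpen t := Iff.rfl
  rw [h1, Scheme.preimage_basicOpen, Scheme.fromSpecStalk_app hx]
  simp only [CommRingCat.comp_apply]
  rw [Scheme.basicOpen_res, basicOpen_eq_of_affine]
  constructor
  · rintro ⟨-, h⟩; exact h
  · intro h; exact ⟨hz, h⟩

theorem fromSpecStalk_specializes (x : X) (Q : PrimeSpectrum (X.presheaf.stalk x)) :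
    X.fromSpecStalk x Q ⤳ x := by
  have : X.fromSpecStalk x Q ∈ Set.range (X.fromSpecStalk x) := ⟨Q, rfl⟩
  rw [Scheme.range_fromSpecStalk] at this
  exact this

theorem fromSpecStalk_injective (x : X) : Function.Injective (X.fromSpecStalk x) :=
  (X.fromSpecStalk x).isEmbedding.injective

/-- at a point without proper generizations the local ring has only one prime -/
theorem eq_closedPoint_of_maxPoint (η : X) (hη : ∀ z : X, z ⤳ η → z = η)
    (Q : PrimeSpectrum (X.presheaf.stalk η)) : Q = IsLocalRing.closedPoint (X.presheaf.stalk η) := by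
  apply fromSpecStalk_injective η
  rw [Scheme.fromSpecStalk_closedPoint]
  exact hη _ (fromSpecStalk_specializes η Q)

/-- at a point without proper generizations every non-unit is nilpotent -/
theorem isNilpotent_of_maxPoint (η : X) (hη : ∀ z : X, z ⤳ η → z = η) (s : X.presheaf.stalk η)
    (hs : ¬ IsUnit s) : IsNilpotent s := by
  rw [nilpotent_iff_mem_prime]
  intro J hJ
  have h1 := eq_closedPoint_of_maxPoint η hη ⟨J, hJ⟩
  have h2 : J = IsLocalRing.maximalIdeal (X.presheaf.stalk η) := congrArg PrimeSpectrum.asIdeal h1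
  rw [h2]
  exact (IsLocalRing.mem_maximalIdeal s).2 hs

/-- on a reduced scheme, a section whose germ at `x` is a zero-divisor is a non-unit at a maximal
point `z ⤳ x` -/
theorem exists_maxPoint_of_not_nzd [IsReduced X] {V : X.Opens} (t : Γ(X, V)) (x : X) (hx : x ∈ V)
    (ht : X.presheaf.germ V x hx t ∉ nonZeroDivisors (X.presheaf.stalk x)) :
    ∃ (z : X) (hzx : z ⤳ x), (∀ z' : X, z' ⤳ z → z' = z) ∧
      ¬ IsUnit (X.presheaf.germ V z (hzx.mem_open V.2 hx) t) := by
  rw [mem_nonZeroDivisors_iff_right] at ht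
  push Not at ht
  obtain ⟨β, hβ, hβ0⟩ := ht
  have hnil : ¬ IsNilpotent β := fun h => hβ0 h.eq_zero
  rw [nilpotent_iff_mem_prime] at hnil
  push Not at hnil
  obtain ⟨Q', hQ', hβQ'⟩ := hnil
  obtain ⟨Q, hQmin, hQle⟩ := Ideal.exists_minimalPrimes_le (I := ⊥) (J := Q') bot_le
  haveI hQp : Q.IsPrime := hQmin.1.1
  have hβQ : β ∉ Q := fun h => hβQ' (hQle h)
  have htQ : X.presheaf.germ V x hx t ∈ Q := by
    have : β * X.presheaf.germ V x hx t ∈ Q := by rw [hβ]; exact Q.zero_mem
    exact (hQp.mem_or_mem this).resolve_left hβQ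
  have hzx := fromSpecStalk_specializes x ⟨Q, hQp⟩
  refine ⟨X.fromSpecStalk x ⟨Q, hQp⟩, hzx, ?_, ?_⟩
  · intro z' hz'
    have hz'x : z' ⤳ x := hz'.trans hzx
    have : z' ∈ Set.range (X.fromSpecStalk x) := by
      rw [Scheme.range_fromSpecStalk]; exact hz'x
    obtain ⟨Q'', rfl⟩ := this
    have h1 : Q'' ⤳ (⟨Q, hQp⟩ : PrimeSpectrum (X.presheaf.stalk x)) :=
      (X.fromSpecStalk x).isEmbedding.isInducing.specializes_iff.1 hz'
    have h1' : (Q'' : PrimeSpectrum (X.presheaf.stalk x)).asIdeal ≤ Q :=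
      (PrimeSpectrum.le_iff_specializes (Q'' : PrimeSpectrum (X.presheaf.stalk x)) ⟨Q, hQp⟩).2 h1
    have h2 : Q ≤ (Q'' : PrimeSpectrum (X.presheaf.stalk x)).asIdeal :=
      hQmin.2 ⟨(Q'' : PrimeSpectrum (X.presheaf.stalk x)).2, bot_le⟩ h1'
    congr 1
    exact PrimeSpectrum.ext (le_antisymm h1' h2)
  · rw [isUnit_germ_fromSpecStalk_iff t x hx]
    exact fun h => h htQ

end Groth.Agent.Lib.Helper29.MeroDiv
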