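import Groth.Agent.Lib.Helper29.MeroLoc2
import Groth.Agent.Lib.Helper29.MeroRed
import Groth.Agent.S8901
import Groth.Agent.Lib.Helper29.QCohStalk

set_option autoImplicit false
set_option linter.unusedVariables false
set_option linter.style.haveILetI false
universe u

namespace Groth.Agent.Lib.Helper29.MeroDiv

open AlgebraicGeometry TopologicalSpace CategoryTheory Opposite Mero

variable {X : Scheme.{u}}

/-- (W1) finitely many minimal primes on affine opens -/
theorem finite_minimalPrimes_of_affine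
    (hb : ∀ U : X.Opens, IsCompact (U : Set ↥X) → (irreducibleComponents ↥(U : Scheme.{u})).Finite)
    {W : X.Opens} (hW : IsAffineOpen W) : (minimalPrimes Γ(X, W)).Finite := by
  have h1 := hb W hW.isCompact
  let e : ↥(W : Scheme.{u}) ≃ₜ PrimeSpectrum Γ(X, W) := Scheme.homeoOfIso hW.isoSpec
  have eq := irreducibleComponentsEquivOfIsPreirreducibleFiber e e.continuous e.isOpenMap
    (fun x => (Set.subsingleton_singleton.preimage e.injective).isPreirreducible) e.surjective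
  have h2 : (irreducibleComponents (PrimeSpectrum Γ(X, W))).Finite := by
    haveI : Finite ↑(irreducibleComponents ↥(W : Scheme.{u})) := h1.to_subtype
    haveI : Finite ↑(irreducibleComponents (PrimeSpectrum Γ(X, W))) := Finite.of_equiv _ eq.symm.toEquiv
    exact Set.toFinite _
  rw [← PrimeSpectrum.vanishingIdeal_irreducibleComponents]
  exact h2.image _

/-- specialization between points of an affine open in terms of primes -/
theorem fromSpec_specializes_iff {W : X.Opens} (hW : IsAffineOpen W) (p q : PrimeSpectrum Γ(X, W)) :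
    hW.fromSpec p ⤳ hW.fromSpec q ↔ p.asIdeal ≤ q.asIdeal := by
  have h1 : p.asIdeal ≤ q.asIdeal ↔ p ⤳ q := PrimeSpectrum.le_iff_specializes p q
  rw [h1]
  exact hW.fromSpec.isOpenEmbedding.isInducing.specializes_iff

/-- (W2) under (a), primes minimal over annihilators are minimal primes -/
theorem mem_minimalPrimes_of_weakAss
    (ha : ∀ x : ↥X, Curv2.IsWeakAssPoint (Coh.structureModule X) x → ∀ y : ↥X, y ⤳ x → y = x)
    {W : X.Opens} (hW : IsAffineOpen W) (c : Γ(X, W)) (Q : Ideal Γ(X, W))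
    (hQ : Q ∈ Ideal.minimalPrimes
      (LinearMap.ker (LinearMap.toSpanSingleton Γ(X, W) Γ(X, W) c) : Ideal Γ(X, W))) :
    Q ∈ minimalPrimes Γ(X, W) := by
  haveI hQp : Q.IsPrime := hQ.1.1
  have hwa := Groth.Agent.S8861.isWeakAssPoint_of_minimalPrimes_ann ⟨W, hW⟩ c ⟨Q, hQp⟩ hQ
  have hmax := ha _ hwa
  refine ⟨⟨hQp, bot_le⟩, fun q' hq' hle => ?_⟩
  haveI := hq'.1
  have h1 : hW.fromSpec ⟨q', hq'.1⟩ ⤳ hW.fromSpec ⟨Q, hQp⟩ :=
    (fromSpec_specializes_iff hW _ _).2 hle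
  have h2 := hmax _ h1
  have h3 : (⟨q', hq'.1⟩ : PrimeSpectrum Γ(X, W)) = ⟨Q, hQp⟩ :=
    hW.fromSpec.isOpenEmbedding.injective h2
  exact (congrArg PrimeSpectrum.asIdeal h3).ge

/-- (W3) a section which is a zero-divisor at `y` lies in a minimal prime contained in the prime
of `y` -/
theorem exists_minimalPrime_of_not_nzd
    (ha : ∀ x : ↥X, Curv2.IsWeakAssPoint (Coh.structureModule X) x → ∀ y : ↥X, y ⤳ x → y = x)
    {W : X.Opens} (hW : IsAffineOpen W) (a : Γ(X, W)) (y : X) (hy : y ∈ W)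
    (hnzd : X.presheaf.germ W y hy a ∉ nonZeroDivisors (X.presheaf.stalk y)) :
    ∃ Q ∈ minimalPrimes Γ(X, W), Q ≤ (hW.primeIdealOf ⟨y, hy⟩).asIdeal ∧ a ∈ Q := by
  letI := X.presheaf.algebra_section_stalk ⟨y, hy⟩
  haveI := hW.isLocalization_stalk ⟨y, hy⟩
  set p := (hW.primeIdealOf ⟨y, hy⟩).asIdeal with hp
  rw [mem_nonZeroDivisors_iff_right] at hnzd
  push Not at hnzd
  obtain ⟨β, hβ, hβ0⟩ := hnzd
  obtain ⟨c, s, rfl⟩ := IsLocalization.exists_mk'_eq p.primeCompl β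
  have hc0 : algebraMap Γ(X, W) (X.presheaf.stalk y) c ≠ 0 := by
    intro h0
    apply hβ0
    rw [IsLocalization.mk'_eq_zero_iff]
    exact (IsLocalization.map_eq_zero_iff p.primeCompl _ c).1 h0
  have hca : algebraMap Γ(X, W) (X.presheaf.stalk y) (c * a) = 0 := by
    have h1 : IsLocalization.mk' (X.presheaf.stalk y) c s * algebraMap Γ(X, W) (X.presheaf.stalk y) a = 0 := hβ
    rw [mul_comm, IsLocalization.mul_mk'_eq_mk'_of_mul, IsLocalization.mk'_eq_zero_iff] at h1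
    obtain ⟨m, hm⟩ := h1
    rw [(IsLocalization.map_eq_zero_iff p.primeCompl _ _)]
    exact ⟨m, by rw [mul_comm c a]; exact hm⟩
  obtain ⟨u, hu⟩ := (IsLocalization.map_eq_zero_iff p.primeCompl _ _).1 hca
  set c₀ := (u : Γ(X, W)) * c with hc₀
  have hann : (LinearMap.ker (LinearMap.toSpanSingleton Γ(X, W) Γ(X, W) c₀) : Ideal Γ(X, W)) ≤ p := by
    intro r hr
    rw [LinearMap.mem_ker, LinearMap.toSpanSingleton_apply, smul_eq_mul] at hr
    by_contra hrp
    apply hc0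
    rw [(IsLocalization.map_eq_zero_iff p.primeCompl _ _)]
    refine ⟨⟨r, hrp⟩ * u, ?_⟩
    rw [Submonoid.coe_mul, mul_assoc]
    exact hr
  obtain ⟨Q, hQ, hQle⟩ := Ideal.exists_minimalPrimes_le hann
  refine ⟨Q, mem_minimalPrimes_of_weakAss ha hW c₀ Q hQ, hQle, hQ.1.2 ?_⟩
  rw [LinearMap.mem_ker, LinearMap.toSpanSingleton_apply, smul_eq_mul, hc₀, mul_comm, mul_assoc]
  exact hu

/-- (W4) a section which is a nonzerodivisor at `y` avoids the minimal primes below the prime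
of `y` -/
theorem notMem_minimalPrime_of_nzd {W : X.Opens} (hW : IsAffineOpen W) (a : Γ(X, W)) (y : X)
    (hy : y ∈ W) (hnzd : X.presheaf.germ W y hy a ∈ nonZeroDivisors (X.presheaf.stalk y))
    (Q : Ideal Γ(X, W)) (hQ : Q ∈ minimalPrimes Γ(X, W))
    (hQle : Q ≤ (hW.primeIdealOf ⟨y, hy⟩).asIdeal) : a ∉ Q := by
  intro haQ
  letI := X.presheaf.algebra_section_stalk ⟨y, hy⟩
  haveI := hW.isLocalization_stalk ⟨y, hy⟩
  set p := (hW.primeIdealOf ⟨y, hy⟩).asIdeal with hp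
  haveI := hQ.1.1
  obtain ⟨s, hsQ, n, hsn⟩ := Groth.Agent.Lib.Helper29.QCohStalk.exists_mul_pow_mem_of_mem_minimalPrimes hQ haQ
  have hsn' : s * a ^ n = 0 := by simpa using hsn
  have h1 : algebraMap Γ(X, W) (X.presheaf.stalk y) s *
      (algebraMap Γ(X, W) (X.presheaf.stalk y) a) ^ n = 0 := by
    rw [← map_pow, ← map_mul, hsn', map_zero]
  have h2 : algebraMap Γ(X, W) (X.presheaf.stalk y) s = 0 :=
    (mem_nonZeroDivisors_iff_right.1 (pow_mem hnzd n)) _ h1
  obtain ⟨v, hv⟩ := (IsLocalization.map_eq_zero_iff p.primeCompl _ _).1 h2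
  have h3 : (v : Γ(X, W)) * s ∈ Q := by rw [hv]; exact Q.zero_mem
  rcases (hQ.1.1.mem_or_mem h3) with h | h
  · exact v.2 (hQle h)
  · exact hsQ h

/-- (W5) under (a) and (b), nonzerodivisors of the local rings are germs of regular sections -/
theorem regStalk_eq_of_weakAss
    (ha : ∀ x : ↥X, Curv2.IsWeakAssPoint (Coh.structureModule X) x → ∀ y : ↥X, y ⤳ x → y = x)
    (hb : ∀ U : X.Opens, IsCompact (U : Set ↥X) → (irreducibleComponents ↥(U : Scheme.{u})).Finite)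
    (x : X) : regStalk X x = nonZeroDivisors (X.presheaf.stalk x) := by
  classical
  apply le_antisymm (regStalk_le_nonZeroDivisors x)
  intro t ht
  obtain ⟨V₀, hxV₀, a₀, rfl⟩ := TopCat.Presheaf.exists_germ_eq X.presheaf t
  obtain ⟨_, ⟨W, hW, rfl⟩, hxW, hWV₀⟩ := X.isBasis_affineOpens.exists_subset_of_mem_open hxV₀ V₀.2
  have hWV₀' : W ≤ V₀ := hWV₀
  set a := X.presheaf.map (homOfLE hWV₀').op a₀ with ha'
  have hax : X.presheaf.germ W x hxW a ∈ nonZeroDivisors (X.presheaf.stalk x) := by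
    rw [ha', TopCat.Presheaf.germ_res_apply]; exact ht
  set p := (hW.primeIdealOf ⟨x, hxW⟩).asIdeal with hp
  have hfin := finite_minimalPrimes_of_affine hb hW
  -- the minimal primes not contained in `p`
  let S₂ : Finset (Ideal Γ(X, W)) := hfin.toFinset.filter (fun q => ¬ q ≤ p)
  have hchoice : ∀ q : Ideal Γ(X, W), ∃ h : Γ(X, W), (¬ q ≤ p → h ∈ q ∧ h ∉ p) := by
    intro q
    by_cases hq : q ≤ p
    · exact ⟨0, fun h => absurd hq h⟩
    · obtain ⟨h, hhq, hhp⟩ := Set.not_subset.1 hq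
      exact ⟨h, fun _ => ⟨hhq, hhp⟩⟩
  choose hq hhq using hchoice
  set h := ∏ q ∈ S₂, hq q with hh
  have hhp : h ∉ p := by
    intro hmem
    rw [hh, (hW.primeIdealOf ⟨x, hxW⟩).2.prod_mem_iff] at hmem
    obtain ⟨q, hqS, hqp⟩ := hmem
    exact (hhq q (Finset.mem_filter.1 hqS).2).2 hqp
  have hhS : ∀ q ∈ minimalPrimes Γ(X, W), ¬ q ≤ p → h ∈ q := by
    intro q hqmin hqp
    have hqS : q ∈ S₂ := Finset.mem_filter.2 ⟨hfin.mem_toFinset.2 hqmin, hqp⟩
    obtain ⟨r, hr⟩ := Finset.dvd_prod_of_mem hq hqS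
    rw [hh, hr]
    exact Ideal.mul_mem_right _ _ (hhq q hqp).1
  have hxh : x ∈ X.basicOpen h := by
    have h1 : hW.fromSpec (hW.primeIdealOf ⟨x, hxW⟩) ∈ X.basicOpen h := by
      have : hW.primeIdealOf ⟨x, hxW⟩ ∈ hW.fromSpec ⁻¹ᵁ X.basicOpen h := by
        rw [hW.fromSpec_preimage_basicOpen]; exact hhp
      exact this
    rw [hW.fromSpec_primeIdealOf ⟨x, hxW⟩] at h1
    exact h1
  refine ⟨X.basicOpen h, hxh, X.presheaf.map (homOfLE (X.basicOpen_le h)).op a, ?_, ?_⟩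
  · intro y
    have hyW : y.1 ∈ W := X.basicOpen_le h y.2
    change X.presheaf.germ (X.basicOpen h) y.1 y.2 (X.presheaf.map (homOfLE (X.basicOpen_le h)).op a) ∈ _
    rw [TopCat.Presheaf.germ_res_apply]
    by_contra hnzd
    obtain ⟨Q, hQmin, hQle, haQ⟩ := exists_minimalPrime_of_not_nzd ha hW a y.1 hyW hnzd
    have hhy : h ∉ (hW.primeIdealOf ⟨y.1, hyW⟩).asIdeal := by
      have h1 : hW.fromSpec (hW.primeIdealOf ⟨y.1, hyW⟩) ∈ X.basicOpen h := by
        rw [hW.fromSpec_primeIdealOf ⟨y.1, hyW⟩]; exact y.2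
      have h2 : hW.primeIdealOf ⟨y.1, hyW⟩ ∈ hW.fromSpec ⁻¹ᵁ X.basicOpen h := h1
      rw [hW.fromSpec_preimage_basicOpen] at h2
      exact h2
    have hQp : Q ≤ p := by
      by_contra hQp
      exact hhy (hQle (hhS Q hQmin hQp))
    exact notMem_minimalPrime_of_nzd hW a x hxW hax Q hQmin hQp haQ
  · rw [TopCat.Presheaf.germ_res_apply, ha', TopCat.Presheaf.germ_res_apply]

/-- (W6) under (a) and (b), meromorphic functions on affine opens have nonzerodivisor denominators -/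
theorem exists_nzd_denominator_of_weakAss
    (ha : ∀ x : ↥X, Curv2.IsWeakAssPoint (Coh.structureModule X) x → ∀ y : ↥X, y ⤳ x → y = x)
    (hb : ∀ U : X.Opens, IsCompact (U : Set ↥X) → (irreducibleComponents ↥(U : Scheme.{u})).Finite)
    {U : X.Opens} (hU : IsAffineOpen U) (z : Γ(kmod X, U)) :
    ∃ (b a : Γ(X, U)), b ∈ nonZeroDivisors Γ(X, U) ∧ toK X U b * z = toK X U a := by
  let I : Ideal Γ(X, U) :=
    { carrier := {b | ∃ a, toK X U b * z = toK X U a}
      zero_mem' := ⟨0, by simp⟩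
      add_mem' := by
        rintro b b' ⟨a, ha⟩ ⟨a', ha'⟩
        exact ⟨a + a', by rw [map_add, add_mul, ha, ha', map_add]⟩
      smul_mem' := by
        rintro c b ⟨a, ha⟩
        exact ⟨c * a, by rw [smul_eq_mul, map_mul, mul_assoc, ha, map_mul]⟩ }
  by_contra hcon
  push Not at hcon
  have hfin := finite_minimalPrimes_of_affine hb hU
  have hI : (I : Set Γ(X, U)) ⊆ ⋃ i ∈ (↑hfin.toFinset : Set (Ideal Γ(X, U))), ((id i : Ideal _) : Set _) := by
    rintro b ⟨a, hba⟩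
    have hb : b ∉ nonZeroDivisors Γ(X, U) := fun hb => hcon b a hb hba
    -- `b` is a zero-divisor at some point
    rw [← Groth.Agent.S12513.result X U hU] at hb
    have : ∃ y : U, X.presheaf.germ U y.1 y.2 b ∉ nonZeroDivisors (X.presheaf.stalk y.1) := by
      by_contra hall
      push Not at hall
      exact hb hall
    obtain ⟨y, hy⟩ := this
    obtain ⟨Q, hQmin, -, hbQ⟩ := exists_minimalPrime_of_not_nzd ha hU b y.1 y.2 hy
    simp only [Set.mem_iUnion, exists_prop]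
    exact ⟨Q, by simpa using hQmin, hbQ⟩
  obtain ⟨Q, hQ, hIQ⟩ := (Ideal.subset_union_prime (s := hfin.toFinset) (f := id) ⊥ ⊥
    (fun i hi _ _ => (hfin.mem_toFinset.1 hi).1.1)).1 hI
  have hQmin : Q ∈ minimalPrimes Γ(X, U) := hfin.mem_toFinset.1 hQ
  haveI hQp : Q.IsPrime := hQmin.1.1
  have hxU : hU.fromSpec ⟨Q, hQp⟩ ∈ U := fromSpec_mem' hU _
  have hpx : hU.primeIdealOf ⟨hU.fromSpec ⟨Q, hQp⟩, hxU⟩ = ⟨Q, hQp⟩ := primeIdealOf_fromSpec hU _
  obtain ⟨b, a, hb, hba⟩ := exists_denominator_at hU z (hU.fromSpec ⟨Q, hQp⟩) hxU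
  have hbQ : b ∈ Q := hIQ ⟨a, hba⟩
  exact notMem_minimalPrime_of_nzd hU b _ hxU hb Q hQmin (by rw [hpx]) hbQ

end Groth.Agent.Lib.Helper29.MeroDiv
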