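import Mathlib
import Groth.Prelude.Def_Models

/-!
# Negative definiteness of proper sub-configurations of a numerical type

Tool library for the `Models.NumericalType` classification statements (helper29).
-/

set_option autoImplicit false

namespace Groth.Agent.Lib.Helper29.NumType

open Models Finset

variable {n : ℕ} (T : NumericalType n)

/-- the quadratic form of the intersection matrix -/
def Q (x : Fin n → ℤ) : ℤ := ∑ i, ∑ j, T.a i j * x i * x j

/-- key identity over `ℚ`: `2 Q(x) = - Σ a_ij m_i m_j (y_i - y_j)^2` with `y = x / m`. -/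
lemma two_Q_eq (x : Fin n → ℤ) :
    (2 * Q T x : ℚ) =
      - ∑ i, ∑ j, (T.a i j : ℚ) * T.m i * T.m j * ((x i : ℚ) / T.m i - (x j : ℚ) / T.m j) ^ 2 := by
  have hm : ∀ i, (T.m i : ℚ) ≠ 0 := fun i => by
    have := T.m_pos i
    exact_mod_cast this.ne'
  have hrow : ∀ i, ∑ j, (T.a i j : ℚ) * T.m j = 0 := by
    intro i
    have h := congrFun T.mulVec_m i
    simp only [Matrix.mulVec, dotProduct, Pi.zero_apply] at h
    exact_mod_cast h
  have hcol : ∀ j, ∑ i, (T.a i j : ℚ) * T.m i = 0 := by
    intro j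
    rw [← hrow j]
    refine Finset.sum_congr rfl fun i _ => ?_
    rw [show T.a i j = T.a j i from (congrFun (congrFun T.symm i) j).symm]
  -- expand
  have e1 : ∀ i j, (T.a i j : ℚ) * T.m i * T.m j * ((x i : ℚ) / T.m i - (x j : ℚ) / T.m j) ^ 2 =
      ((x i : ℚ) ^ 2 / T.m i) * ((T.a i j : ℚ) * T.m j) +
      ((x j : ℚ) ^ 2 / T.m j) * ((T.a i j : ℚ) * T.m i) - 2 * ((T.a i j : ℚ) * x i * x j) := by
    intro i j
    have hi := hm i
    have hj := hm j
    field_simp
    ring
  simp_rw [e1, Finset.sum_sub_distrib, Finset.sum_add_distrib, ← Finset.mul_sum]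
  have s1 : ∑ i, ((x i : ℚ) ^ 2 / T.m i) * ∑ j, (T.a i j : ℚ) * T.m j = 0 := by
    simp [hrow]
  have s2 : ∑ i, ∑ j, ((x j : ℚ) ^ 2 / T.m j) * ((T.a i j : ℚ) * T.m i) = 0 := by
    rw [Finset.sum_comm]
    simp_rw [← Finset.mul_sum, hcol]
    simp
  rw [s1, s2]
  unfold Q
  push_cast
  ring

/-- The intersection form is negative semi-definite. -/
lemma Q_nonpos (x : Fin n → ℤ) : Q T x ≤ 0 := by
  have h := two_Q_eq T x
  have hnn : 0 ≤ ∑ i, ∑ j, (T.a i j : ℚ) * T.m i * T.m j *
      ((x i : ℚ) / T.m i - (x j : ℚ) / T.m j) ^ 2 := by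
    refine Finset.sum_nonneg fun i _ => Finset.sum_nonneg fun j _ => ?_
    by_cases hij : i = j
    · subst hij; simp
    · have h1 : (0 : ℚ) ≤ T.a i j := by exact_mod_cast T.offDiag_nonneg i j hij
      have h2 : (0 : ℚ) < T.m i := by exact_mod_cast T.m_pos i
      have h3 : (0 : ℚ) < T.m j := by exact_mod_cast T.m_pos j
      positivity
  have : (2 * Q T x : ℚ) ≤ 0 := by rw [h]; linarith
  have : (Q T x : ℚ) ≤ 0 := by linarith
  exact_mod_cast this

/-- The intersection form is negative on nonzero vectors vanishing somewhere. -/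
theorem Q_neg (x : Fin n → ℤ) (hx : x ≠ 0) (hsupp : ∃ i, x i = 0) : Q T x < 0 := by
  rcases lt_or_eq_of_le (Q_nonpos T x) with h | h
  · exact h
  exfalso
  have h2 := two_Q_eq T x
  rw [h] at h2
  have hterm : ∀ i j, 0 ≤ (T.a i j : ℚ) * T.m i * T.m j *
      ((x i : ℚ) / T.m i - (x j : ℚ) / T.m j) ^ 2 := by
    intro i j
    by_cases hij : i = j
    · subst hij; simp
    · have h1 : (0 : ℚ) ≤ T.a i j := by exact_mod_cast T.offDiag_nonneg i j hij
      have h2 : (0 : ℚ) < T.m i := by exact_mod_cast T.m_pos i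
      have h3 : (0 : ℚ) < T.m j := by exact_mod_cast T.m_pos j
      positivity
  have hsum : ∑ i, ∑ j, (T.a i j : ℚ) * T.m i * T.m j *
      ((x i : ℚ) / T.m i - (x j : ℚ) / T.m j) ^ 2 = 0 := by
    have : (0 : ℚ) = - ∑ i, ∑ j, (T.a i j : ℚ) * T.m i * T.m j *
      ((x i : ℚ) / T.m i - (x j : ℚ) / T.m j) ^ 2 := by
      rw [← h2]; simp
    linarith
  have hzero : ∀ i j, (T.a i j : ℚ) * T.m i * T.m j *
      ((x i : ℚ) / T.m i - (x j : ℚ) / T.m j) ^ 2 = 0 := by
    intro i j
    have h1 := (Finset.sum_eq_zero_iff_of_nonneg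
      (fun i _ => Finset.sum_nonneg fun j _ => hterm i j)).mp hsum i (Finset.mem_univ _)
    exact (Finset.sum_eq_zero_iff_of_nonneg (fun j _ => hterm i j)).mp h1 j (Finset.mem_univ _)
  -- adjacent vertices have equal ratio
  have hadj : ∀ i j, T.a i j ≠ 0 → (x i : ℚ) / T.m i = (x j : ℚ) / T.m j := by
    intro i j hij
    have h0 := hzero i j
    have h1 : (T.a i j : ℚ) ≠ 0 := by exact_mod_cast hij
    have h2 : (T.m i : ℚ) ≠ 0 := by
      have := T.m_pos i
      exact_mod_cast this.ne'
    have h3 : (T.m j : ℚ) ≠ 0 := by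
      have := T.m_pos j
      exact_mod_cast this.ne'
    have : ((x i : ℚ) / T.m i - (x j : ℚ) / T.m j) ^ 2 = 0 := by
      rcases mul_eq_zero.mp h0 with h | h
      · exact absurd h (mul_ne_zero (mul_ne_zero h1 h2) h3)
      · exact h
    have := pow_eq_zero_iff (two_ne_zero) |>.mp this
    linarith
  -- the zero set is everything by connectedness
  classical
  obtain ⟨i0, hi0⟩ := hsupp
  set I : Finset (Fin n) := Finset.univ.filter (fun i => x i = 0) with hI
  have hIne : I.Nonempty := ⟨i0, by simp [hI, hi0]⟩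
  have hIuniv : I = Finset.univ := by
    by_contra hne
    obtain ⟨i, hiI, j, hjI, haij⟩ := T.connected I hIne hne
    have hxi : x i = 0 := by simpa [hI] using hiI
    have hxj : x j ≠ 0 := by simpa [hI] using hjI
    have hadj' := hadj i j haij
    rw [hxi] at hadj'
    have hmj : (T.m j : ℚ) ≠ 0 := by
      have := T.m_pos j
      exact_mod_cast this.ne'
    have h0 : (x j : ℚ) / T.m j = 0 := by rw [← hadj']; simp
    rcases div_eq_zero_iff.mp h0 with h | h
    · exact hxj (by exact_mod_cast h)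
    · exact hmj h
  apply hx
  funext i
  have : i ∈ I := by rw [hIuniv]; exact Finset.mem_univ _
  simpa [hI] using this

/-- Negativity for vectors supported on an embedded proper subset. -/
theorem sub_neg {k : ℕ} (v : Fin k ↪ Fin n) (hk : k < n) (c : Fin k → ℤ) (hc : c ≠ 0) :
    ∑ j, ∑ j', T.a (v j) (v j') * c j * c j' < 0 := by
  classical
  set x : Fin n → ℤ := fun i => ∑ j, if v j = i then c j else 0 with hx
  have hxv : ∀ j, x (v j) = c j := by
    intro j
    simp only [hx]
    rw [Finset.sum_eq_single j]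
    · simp
    · intro j' _ hj'
      rw [if_neg]
      intro h; exact hj' (v.injective h)
    · intro h; exact absurd (Finset.mem_univ _) h
  have hsum : ∀ g : Fin n → ℤ, ∑ i, g i * x i = ∑ j, g (v j) * c j := by
    intro g
    simp only [hx, Finset.mul_sum]
    rw [Finset.sum_comm]
    refine Finset.sum_congr rfl fun j _ => ?_
    simp [mul_ite]
  have hQ : Q T x = ∑ j, ∑ j', T.a (v j) (v j') * c j * c j' := by
    unfold Q
    have h1 : ∀ i, ∑ i', T.a i i' * x i * x i' = ∑ j', T.a i (v j') * x i * c j' := by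
      intro i
      exact hsum (fun i' => T.a i i' * x i)
    simp_rw [h1]
    rw [Finset.sum_comm]
    have h2 : ∀ j', ∑ i, T.a i (v j') * x i * c j' = ∑ j, T.a (v j) (v j') * c j * c j' := by
      intro j'
      have := hsum (fun i => T.a i (v j') * c j')
      calc ∑ i, T.a i (v j') * x i * c j' = ∑ i, T.a i (v j') * c j' * x i := by
            refine Finset.sum_congr rfl fun i _ => by ring
        _ = ∑ j, T.a (v j) (v j') * c j' * c j := this
        _ = ∑ j, T.a (v j) (v j') * c j * c j' := by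
            refine Finset.sum_congr rfl fun i _ => by ring
    simp_rw [h2]
    rw [Finset.sum_comm]
  rw [← hQ]
  apply Q_neg T
  · intro h0
    apply hc
    funext j
    have := congrFun h0 (v j)
    rw [hxv] at this
    simpa using this
  · -- v is not surjective
    have hns : ¬ Function.Surjective v := by
      intro hs
      have := Fintype.card_le_of_surjective v hs
      simp at this
      omega
    simp only [Function.Surjective, not_forall, not_exists] at hns
    obtain ⟨i, hi⟩ := hns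
    refine ⟨i, ?_⟩
    simp only [hx]
    refine Finset.sum_eq_zero fun j _ => ?_
    rw [if_neg (hi j)]

lemma a_symm (i j : Fin n) : T.a i j = T.a j i :=
  (congrFun (congrFun T.symm i) j).symm

lemma a_nonneg_emb {k : ℕ} (v : Fin k ↪ Fin n) {j j' : Fin k} (h : j ≠ j') :
    0 ≤ T.a (v j) (v j') :=
  T.offDiag_nonneg _ _ (fun e => h (v.injective e))

lemma a_pos_emb {k : ℕ} (v : Fin k ↪ Fin n) {j j' : Fin k} (h : j ≠ j')
    (h0 : T.a (v j) (v j') ≠ 0) : 0 < T.a (v j) (v j') :=
  lt_of_le_of_ne (a_nonneg_emb T v h) (Ne.symm h0)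

/-- the row inequality restricted to an embedded subset -/
lemma row_le {k : ℕ} (v : Fin k ↪ Fin n) (j : Fin k) :
    ∑ j', T.a (v j) (v j') * T.m (v j') ≤ 0 := by
  classical
  have hrow : ∑ i, T.a (v j) i * T.m i = 0 := by
    have h := congrFun T.mulVec_m (v j)
    simpa [Matrix.mulVec, dotProduct] using h
  have h1 : ∑ j', T.a (v j) (v j') * T.m (v j') =
      ∑ i ∈ Finset.univ.map v, T.a (v j) i * T.m i := by
    rw [Finset.sum_map]
  rw [h1]
  have h2 : ∑ i ∈ Finset.univ.map v, T.a (v j) i * T.m i ≤ ∑ i, T.a (v j) i * T.m i := by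
    refine Finset.sum_le_sum_of_subset_of_nonneg (Finset.subset_univ _) fun i _ hi => ?_
    have hne : v j ≠ i := by
      intro e
      exact hi (by rw [← e]; exact Finset.mem_map_of_mem _ (Finset.mem_univ _))
    exact mul_nonneg (T.offDiag_nonneg _ _ hne) (T.m_pos i).le
  linarith

/-- quotients of a positive intersection number by the two weights -/
lemma exists_quot (i j : Fin n) (h : 0 < T.a i j) :
    ∃ p q : ℤ, 1 ≤ p ∧ 1 ≤ q ∧ T.a i j = p * T.w i ∧ T.a i j = q * T.w j := by
  obtain ⟨p, hp⟩ := T.w_dvd i j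
  obtain ⟨q, hq⟩ : T.w j ∣ T.a i j := by
    rw [a_symm T i j]; exact T.w_dvd j i
  have hwi := T.w_pos i
  have hwj := T.w_pos j
  refine ⟨p, q, ?_, ?_, by rw [hp]; ring, by rw [hq]; ring⟩
  · by_contra hlt
    push Not at hlt
    have : p ≤ 0 := by omega
    have : T.w i * p ≤ 0 := mul_nonpos_of_nonneg_of_nonpos hwi.le this
    omega
  · by_contra hlt
    push Not at hlt
    have : q ≤ 0 := by omega
    have : T.w j * q ≤ 0 := mul_nonpos_of_nonneg_of_nonpos hwj.le this
    omega

lemma pq_ge_one {p q : ℤ} (hp : 1 ≤ p) (hq : 1 ≤ q) : 1 ≤ p * q := by nlinarith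

lemma pq_one {p q : ℤ} (hp : 1 ≤ p) (hq : 1 ≤ q) (h : p * q = 1) : p = 1 ∧ q = 1 := by
  have h1 : p ≤ p * q := le_mul_of_one_le_right (by omega) hq
  have h2 : q ≤ p * q := le_mul_of_one_le_left (by omega) hp
  constructor <;> omega

lemma eq_zero_of_dvd_of_lt {w a : ℤ} (hd : w ∣ a) (h0 : 0 ≤ a) (hlt : a < w) : a = 0 := by
  apply Int.eq_zero_of_abs_lt_dvd hd
  rw [abs_of_nonneg h0]
  exact hlt

end Groth.Agent.Lib.Helper29.NumType
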