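import Groth.Agent.Lib.Helper29.NumTypeQv

/-!
# Chains in (-2)-configurations: no cycles
-/

set_option autoImplicit false

namespace Groth.Agent.Lib.Helper29.NumType

open Models Finset

variable {n : ℕ} (T : NumericalType n)

/-- a positive intersection number is at least the weight of each of its two indices -/
lemma w_le_a {i j : Fin n} (h : 0 < T.a i j) : T.w i ≤ T.a i j ∧ T.w j ≤ T.a i j := by
  obtain ⟨p, q, hp, hq, e1, f1⟩ := exists_quot T i j h
  constructor
  · rw [e1]; exact le_mul_of_one_le_left (T.w_pos i).le hp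
  · rw [f1]; exact le_mul_of_one_le_left (T.w_pos j).le hq

/-- indicator of an initial segment -/
def initSeg {k : ℕ} (r : ℕ) : Fin k → ℤ := fun i => if i.val ≤ r then 1 else 0

lemma initSeg_succ {k : ℕ} (r : ℕ) (hr : r + 1 < k) :
    (initSeg (r + 1) : Fin k → ℤ) =
      initSeg r + (1 : ℤ) • (Pi.single ⟨r + 1, hr⟩ (1 : ℤ) : Fin k → ℤ) := by
  funext i
  simp only [initSeg, Pi.add_apply, Pi.smul_apply, Pi.single_apply, smul_eq_mul, one_mul]
  by_cases h1 : i.val ≤ r
  · have h2 : i.val ≤ r + 1 := by omega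
    have h3 : i ≠ ⟨r + 1, hr⟩ := by
      intro h; rw [h] at h1; simp at h1
    simp [h1, h2, h3]
  · by_cases h2 : i.val = r + 1
    · have h3 : i = ⟨r + 1, hr⟩ := Fin.ext h2
      have h4 : i.val ≤ r + 1 := by omega
      simp [h1, h3]
    · have h3 : i ≠ ⟨r + 1, hr⟩ := fun h => h2 (by rw [h])
      have h4 : ¬ i.val ≤ r + 1 := by omega
      simp [h1, h3, h4]

lemma initSeg_nonneg {k : ℕ} (r : ℕ) (i : Fin k) : 0 ≤ (initSeg r : Fin k → ℤ) i := by
  unfold initSeg; split_ifs <;> norm_num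

/-- lower bound for the form on initial segments of a chain -/
lemma Qv_initSeg_ge {k : ℕ} (v : Fin k ↪ Fin n) (hv : ∀ j, T.IsMinusTwo (v j))
    (hchain : ∀ j j' : Fin k, j'.val = j.val + 1 → T.a (v j) (v j') ≠ 0) :
    ∀ r (hr : r < k), -2 * T.w (v ⟨r, hr⟩) ≤ Qv T v (initSeg r) := by
  intro r
  induction r with
  | zero =>
    intro hr
    have : (initSeg 0 : Fin k → ℤ) = 0 + (1 : ℤ) • (Pi.single ⟨0, hr⟩ (1 : ℤ) : Fin k → ℤ) := by
      funext i
      simp only [initSeg, Pi.add_apply, Pi.zero_apply, Pi.smul_apply, Pi.single_apply, smul_eq_mul,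
        one_mul, zero_add]
      by_cases h : i.val ≤ 0
      · have : i = ⟨0, hr⟩ := Fin.ext (by simp; omega)
        simp [this]
      · have : i ≠ ⟨0, hr⟩ := fun e => h (by rw [e])
        simp [h, this]
    rw [this, Qv_add_single]
    have h0 : Qv T v (0 : Fin k → ℤ) = 0 := by simp [Qv]
    have h1 : Lv T v ⟨0, hr⟩ (0 : Fin k → ℤ) = 0 := by simp [Lv]
    rw [h0, h1, (hv _).2]
    linarith
  | succ r ih =>
    intro hr
    have hr' : r < k := by omega
    have ih' := ih hr'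
    rw [initSeg_succ r hr, Qv_add_single, (hv _).2]
    have hne : (⟨r + 1, hr⟩ : Fin k) ≠ ⟨r, hr'⟩ := by
      intro h; simp at h
    have hpos : 0 < T.a (v ⟨r + 1, hr⟩) (v ⟨r, hr'⟩) := by
      apply a_pos_emb T v hne
      rw [a_symm T]
      exact hchain ⟨r, hr'⟩ ⟨r + 1, hr⟩ rfl
    have hL := Lv_ge_one T v ⟨r + 1, hr⟩ ⟨r, hr'⟩ (initSeg r) (initSeg_nonneg r)
      (by simp [initSeg])
    have hone : (initSeg r : Fin k → ℤ) ⟨r, hr'⟩ = 1 := by simp [initSeg]
    rw [hone] at hL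
    have := (w_le_a T hpos).2
    linarith

/-- **No cycles**: in a chain of `(-2)`-indices which is a proper subset, the two ends are not
joined (if the chain has at least three vertices). -/
theorem chain_ends_zero {k : ℕ} (v : Fin k ↪ Fin n) (hk : k < n) (hv : ∀ j, T.IsMinusTwo (v j))
    (h3 : 3 ≤ k)
    (hchain : ∀ j j' : Fin k, j'.val = j.val + 1 → T.a (v j) (v j') ≠ 0) :
    T.a (v ⟨0, by omega⟩) (v ⟨k - 1, by omega⟩) = 0 := by
  by_contra hne0
  obtain ⟨r, rfl⟩ : ∃ r, k = r + 3 := ⟨k - 3, by omega⟩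
  have hr1 : r + 1 < r + 3 := by omega
  have hr2 : r + 2 < r + 3 := by omega
  have ih := Qv_initSeg_ge T v hv hchain (r + 1) hr1
  have hx : (initSeg (r + 2) : Fin (r + 3) → ℤ) ≠ 0 := by
    intro h
    have := congrFun h ⟨0, by omega⟩
    simp [initSeg] at this
  have hneg := Qv_neg T v hk _ hx
  rw [initSeg_succ (r + 1) hr2, Qv_add_single, (hv _).2] at hneg
  have hnea : (⟨r + 2, hr2⟩ : Fin (r + 3)) ≠ ⟨r + 1, hr1⟩ := by
    intro h; simp at h
  have hneb : (⟨r + 2, hr2⟩ : Fin (r + 3)) ≠ ⟨0, by omega⟩ := by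
    intro h; simp at h
  have hnec : (⟨r + 1, hr1⟩ : Fin (r + 3)) ≠ ⟨0, by omega⟩ := by
    intro h; simp at h
  have hpos1 : 0 < T.a (v ⟨r + 2, hr2⟩) (v ⟨r + 1, hr1⟩) := by
    apply a_pos_emb T v hnea
    rw [a_symm T]
    exact hchain ⟨r + 1, hr1⟩ ⟨r + 2, hr2⟩ rfl
  have hpos2 : 0 < T.a (v ⟨r + 2, hr2⟩) (v ⟨0, by omega⟩) := by
    apply a_pos_emb T v hneb
    rw [a_symm T]
    exact hne0
  have hL := Lv_ge_two T v ⟨r + 2, hr2⟩ ⟨r + 1, hr1⟩ ⟨0, by omega⟩ (initSeg (r + 1))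
    (initSeg_nonneg _) (by simp [initSeg]) hnec
  have hone1 : (initSeg (r + 1) : Fin (r + 3) → ℤ) ⟨r + 1, hr1⟩ = 1 := by simp [initSeg]
  have hone2 : (initSeg (r + 1) : Fin (r + 3) → ℤ) ⟨0, by omega⟩ = 1 := by simp [initSeg]
  rw [hone1, hone2] at hL
  have h1 := (w_le_a T hpos1).2
  have h2 := (w_le_a T hpos2).1
  linarith

lemma cancel_w {w A B : ℤ} (hw : 0 < w) (h : w * A ≤ w * B) : A ≤ B :=
  le_of_mul_le_mul_left h hw

end Groth.Agent.Lib.Helper29.NumType

namespace Groth.Agent.Lib.Helper29.NumType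

open Models Finset

variable {n : ℕ} (T : NumericalType n)

/-- extension by zero of a coefficient vector along an embedding of index sets -/
def extendZ {k k' : ℕ} (e : Fin k' ↪ Fin k) (c' : Fin k' → ℤ) : Fin k → ℤ :=
  fun j => ∑ i, if e i = j then c' i else 0

lemma extendZ_apply_emb {k k' : ℕ} (e : Fin k' ↪ Fin k) (c' : Fin k' → ℤ) (i : Fin k') :
    extendZ e c' (e i) = c' i := by
  classical
  unfold extendZ
  rw [Finset.sum_eq_single i]
  · simp
  · intro i' _ hi'
    rw [if_neg]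
    intro h; exact hi' (e.injective h)
  · intro h; exact absurd (Finset.mem_univ _) h

lemma extendZ_apply_of_forall_ne {k k' : ℕ} (e : Fin k' ↪ Fin k) (c' : Fin k' → ℤ) (j : Fin k)
    (h : ∀ i, e i ≠ j) : extendZ e c' j = 0 := by
  unfold extendZ
  exact Finset.sum_eq_zero fun i _ => by rw [if_neg (h i)]

lemma extendZ_nonneg {k k' : ℕ} (e : Fin k' ↪ Fin k) (c' : Fin k' → ℤ) (h : ∀ i, 0 ≤ c' i)
    (j : Fin k) : 0 ≤ extendZ e c' j := by
  unfold extendZ
  exact Finset.sum_nonneg fun i _ => by split_ifs <;> [exact h i; exact le_refl 0]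

lemma Qv_extend {k k' : ℕ} (v : Fin k ↪ Fin n) (e : Fin k' ↪ Fin k) (c' : Fin k' → ℤ) :
    Qv T v (extendZ e c') = Qv T (e.trans v) c' := by
  classical
  have hsum : ∀ g : Fin k → ℤ, ∑ j, g j * extendZ e c' j = ∑ i, g (e i) * c' i := by
    intro g
    simp only [extendZ, Finset.mul_sum]
    rw [Finset.sum_comm]
    refine Finset.sum_congr rfl fun i _ => ?_
    simp [mul_ite]
  unfold Qv
  have h1 : ∀ j, ∑ j', T.a (v j) (v j') * extendZ e c' j * extendZ e c' j' =
      ∑ i', T.a (v j) (v (e i')) * extendZ e c' j * c' i' := by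
    intro j
    exact hsum (fun j' => T.a (v j) (v j') * extendZ e c' j)
  simp_rw [h1]
  rw [Finset.sum_comm]
  have h2 : ∀ i', ∑ j, T.a (v j) (v (e i')) * extendZ e c' j * c' i' =
      ∑ i, T.a (v (e i)) (v (e i')) * c' i * c' i' := by
    intro i'
    have := hsum (fun j => T.a (v j) (v (e i')) * c' i')
    calc ∑ j, T.a (v j) (v (e i')) * extendZ e c' j * c' i'
        = ∑ j, T.a (v j) (v (e i')) * c' i' * extendZ e c' j := by
          refine Finset.sum_congr rfl fun i _ => by ring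
      _ = ∑ i, T.a (v (e i)) (v (e i')) * c' i' * c' i := this
      _ = ∑ i, T.a (v (e i)) (v (e i')) * c' i * c' i' := by
          refine Finset.sum_congr rfl fun i _ => by ring
  simp_rw [h2]
  rw [Finset.sum_comm]
  rfl

end Groth.Agent.Lib.Helper29.NumType
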