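import Groth.Agent.Lib.Helper29.NumType

/-! Explicit negativity lemmas `neg2 … neg9` for small embedded configurations. -/

set_option autoImplicit false
set_option maxHeartbeats 1600000

namespace Groth.Agent.Lib.Helper29.NumType

open Models Finset

theorem sum_univ_nine {M : Type*} [AddCommMonoid M] (f : Fin 9 → M) :
    ∑ i, f i = f 0 + f 1 + f 2 + f 3 + f 4 + f 5 + f 6 + f 7 + f 8 := by
  rw [Fin.sum_univ_castSucc, Fin.sum_univ_eight]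
  rfl

theorem neg2 {n : ℕ} (T : NumericalType n) (hn : 2 < n)
    (v : Fin 2 ↪ Fin n) (x0 x1 : ℤ) (hx : x0 ≠ 0 ∨ x1 ≠ 0) :
    T.a (v 0) (v 0) * x0 * x0 + T.a (v 1) (v 1) * x1 * x1 +
    2 * (T.a (v 0) (v 1) * x0 * x1) < 0 := by
  have hneg := sub_neg T v hn ![x0, x1] (by
    intro h
    have h0 := congrFun h 0
    have h1 := congrFun h 1
    simp at h0 h1
    tauto)
  simp only [Fin.sum_univ_two, Matrix.cons_val] at hneg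
  rw [a_symm T (v 1) (v 0)] at hneg
  linarith

theorem neg3 {n : ℕ} (T : NumericalType n) (hn : 3 < n)
    (v : Fin 3 ↪ Fin n) (x0 x1 x2 : ℤ) (hx : x0 ≠ 0 ∨ x1 ≠ 0 ∨ x2 ≠ 0) :
    T.a (v 0) (v 0) * x0 * x0 + T.a (v 1) (v 1) * x1 * x1 + T.a (v 2) (v 2) * x2 * x2 +
    2 * (T.a (v 0) (v 1) * x0 * x1 + T.a (v 0) (v 2) * x0 * x2 + T.a (v 1) (v 2) * x1 * x2) < 0 := by
  have hneg := sub_neg T v hn ![x0, x1, x2] (by
    intro h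
    have h0 := congrFun h 0
    have h1 := congrFun h 1
    have h2 := congrFun h 2
    simp at h0 h1 h2
    tauto)
  simp only [Fin.sum_univ_three, Matrix.cons_val] at hneg
  rw [a_symm T (v 1) (v 0), a_symm T (v 2) (v 0), a_symm T (v 2) (v 1)] at hneg
  linarith

theorem neg4 {n : ℕ} (T : NumericalType n) (hn : 4 < n)
    (v : Fin 4 ↪ Fin n) (x0 x1 x2 x3 : ℤ) (hx : x0 ≠ 0 ∨ x1 ≠ 0 ∨ x2 ≠ 0 ∨ x3 ≠ 0) :
    T.a (v 0) (v 0) * x0 * x0 + T.a (v 1) (v 1) * x1 * x1 + T.a (v 2) (v 2) * x2 * x2 + T.a (v 3) (v 3) * x3 * x3 +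
    2 * (T.a (v 0) (v 1) * x0 * x1 + T.a (v 0) (v 2) * x0 * x2 + T.a (v 0) (v 3) * x0 * x3 + T.a (v 1) (v 2) * x1 * x2 + T.a (v 1) (v 3) * x1 * x3 + T.a (v 2) (v 3) * x2 * x3) < 0 := by
  have hneg := sub_neg T v hn ![x0, x1, x2, x3] (by
    intro h
    have h0 := congrFun h 0
    have h1 := congrFun h 1
    have h2 := congrFun h 2
    have h3 := congrFun h 3
    simp at h0 h1 h2 h3
    tauto)
  simp only [Fin.sum_univ_four, Matrix.cons_val] at hneg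
  rw [a_symm T (v 1) (v 0), a_symm T (v 2) (v 0), a_symm T (v 3) (v 0), a_symm T (v 2) (v 1), a_symm T (v 3) (v 1), a_symm T (v 3) (v 2)] at hneg
  linarith

theorem neg5 {n : ℕ} (T : NumericalType n) (hn : 5 < n)
    (v : Fin 5 ↪ Fin n) (x0 x1 x2 x3 x4 : ℤ) (hx : x0 ≠ 0 ∨ x1 ≠ 0 ∨ x2 ≠ 0 ∨ x3 ≠ 0 ∨ x4 ≠ 0) :
    T.a (v 0) (v 0) * x0 * x0 + T.a (v 1) (v 1) * x1 * x1 + T.a (v 2) (v 2) * x2 * x2 + T.a (v 3) (v 3) * x3 * x3 + T.a (v 4) (v 4) * x4 * x4 +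
    2 * (T.a (v 0) (v 1) * x0 * x1 + T.a (v 0) (v 2) * x0 * x2 + T.a (v 0) (v 3) * x0 * x3 + T.a (v 0) (v 4) * x0 * x4 + T.a (v 1) (v 2) * x1 * x2 + T.a (v 1) (v 3) * x1 * x3 + T.a (v 1) (v 4) * x1 * x4 + T.a (v 2) (v 3) * x2 * x3 + T.a (v 2) (v 4) * x2 * x4 + T.a (v 3) (v 4) * x3 * x4) < 0 := by
  have hneg := sub_neg T v hn ![x0, x1, x2, x3, x4] (by
    intro h
    have h0 := congrFun h 0
    have h1 := congrFun h 1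
    have h2 := congrFun h 2
    have h3 := congrFun h 3
    have h4 := congrFun h 4
    simp at h0 h1 h2 h3 h4
    tauto)
  simp only [Fin.sum_univ_five, Matrix.cons_val] at hneg
  rw [a_symm T (v 1) (v 0), a_symm T (v 2) (v 0), a_symm T (v 3) (v 0), a_symm T (v 4) (v 0), a_symm T (v 2) (v 1), a_symm T (v 3) (v 1), a_symm T (v 4) (v 1), a_symm T (v 3) (v 2), a_symm T (v 4) (v 2), a_symm T (v 4) (v 3)] at hneg
  linarith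

theorem neg6 {n : ℕ} (T : NumericalType n) (hn : 6 < n)
    (v : Fin 6 ↪ Fin n) (x0 x1 x2 x3 x4 x5 : ℤ) (hx : x0 ≠ 0 ∨ x1 ≠ 0 ∨ x2 ≠ 0 ∨ x3 ≠ 0 ∨ x4 ≠ 0 ∨ x5 ≠ 0) :
    T.a (v 0) (v 0) * x0 * x0 + T.a (v 1) (v 1) * x1 * x1 + T.a (v 2) (v 2) * x2 * x2 + T.a (v 3) (v 3) * x3 * x3 + T.a (v 4) (v 4) * x4 * x4 + T.a (v 5) (v 5) * x5 * x5 +
    2 * (T.a (v 0) (v 1) * x0 * x1 + T.a (v 0) (v 2) * x0 * x2 + T.a (v 0) (v 3) * x0 * x3 + T.a (v 0) (v 4) * x0 * x4 + T.a (v 0) (v 5) * x0 * x5 + T.a (v 1) (v 2) * x1 * x2 + T.a (v 1) (v 3) * x1 * x3 + T.a (v 1) (v 4) * x1 * x4 + T.a (v 1) (v 5) * x1 * x5 + T.a (v 2) (v 3) * x2 * x3 + T.a (v 2) (v 4) * x2 * x4 + T.a (v 2) (v 5) * x2 * x5 + T.a (v 3) (v 4) * x3 * x4 + T.a (v 3) (v 5) * x3 * x5 + T.a (v 4) (v 5) * x4 * x5) < 0 := by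
  have hneg := sub_neg T v hn ![x0, x1, x2, x3, x4, x5] (by
    intro h
    have h0 := congrFun h 0
    have h1 := congrFun h 1
    have h2 := congrFun h 2
    have h3 := congrFun h 3
    have h4 := congrFun h 4
    have h5 := congrFun h 5
    simp at h0 h1 h2 h3 h4 h5
    tauto)
  simp only [Fin.sum_univ_six, Matrix.cons_val] at hneg
  rw [a_symm T (v 1) (v 0), a_symm T (v 2) (v 0), a_symm T (v 3) (v 0), a_symm T (v 4) (v 0), a_symm T (v 5) (v 0), a_symm T (v 2) (v 1), a_symm T (v 3) (v 1), a_symm T (v 4) (v 1), a_symm T (v 5) (v 1), a_symm T (v 3) (v 2), a_symm T (v 4) (v 2), a_symm T (v 5) (v 2), a_symm T (v 4) (v 3), a_symm T (v 5) (v 3), a_symm T (v 5) (v 4)] at hneg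
  linarith

theorem neg7 {n : ℕ} (T : NumericalType n) (hn : 7 < n)
    (v : Fin 7 ↪ Fin n) (x0 x1 x2 x3 x4 x5 x6 : ℤ) (hx : x0 ≠ 0 ∨ x1 ≠ 0 ∨ x2 ≠ 0 ∨ x3 ≠ 0 ∨ x4 ≠ 0 ∨ x5 ≠ 0 ∨ x6 ≠ 0) :
    T.a (v 0) (v 0) * x0 * x0 + T.a (v 1) (v 1) * x1 * x1 + T.a (v 2) (v 2) * x2 * x2 + T.a (v 3) (v 3) * x3 * x3 + T.a (v 4) (v 4) * x4 * x4 + T.a (v 5) (v 5) * x5 * x5 + T.a (v 6) (v 6) * x6 * x6 +
    2 * (T.a (v 0) (v 1) * x0 * x1 + T.a (v 0) (v 2) * x0 * x2 + T.a (v 0) (v 3) * x0 * x3 + T.a (v 0) (v 4) * x0 * x4 + T.a (v 0) (v 5) * x0 * x5 + T.a (v 0) (v 6) * x0 * x6 + T.a (v 1) (v 2) * x1 * x2 + T.a (v 1) (v 3) * x1 * x3 + T.a (v 1) (v 4) * x1 * x4 + T.a (v 1) (v 5) * x1 * x5 + T.a (v 1) (v 6) * x1 * x6 + T.a (v 2) (v 3) * x2 * x3 + T.a (v 2) (v 4) * x2 * x4 + T.a (v 2) (v 5) * x2 * x5 + T.a (v 2) (v 6) * x2 * x6 + T.a (v 3) (v 4) *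 x3 * x4 + T.a (v 3) (v 5) * x3 * x5 + T.a (v 3) (v 6) * x3 * x6 + T.a (v 4) (v 5) * x4 * x5 + T.a (v 4) (v 6) * x4 * x6 + T.a (v 5) (v 6) * x5 * x6) < 0 := by
  have hneg := sub_neg T v hn ![x0, x1, x2, x3, x4, x5, x6] (by
    intro h
    have h0 := congrFun h 0
    have h1 := congrFun h 1
    have h2 := congrFun h 2
    have h3 := congrFun h 3
    have h4 := congrFun h 4
    have h5 := congrFun h 5
    have h6 := congrFun h 6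
    simp at h0 h1 h2 h3 h4 h5 h6
    tauto)
  simp only [Fin.sum_univ_seven, Matrix.cons_val] at hneg
  rw [a_symm T (v 1) (v 0), a_symm T (v 2) (v 0), a_symm T (v 3) (v 0), a_symm T (v 4) (v 0), a_symm T (v 5) (v 0), a_symm T (v 6) (v 0), a_symm T (v 2) (v 1), a_symm T (v 3) (v 1), a_symm T (v 4) (v 1), a_symm T (v 5) (v 1), a_symm T (v 6) (v 1), a_symm T (v 3) (v 2), a_symm T (v 4) (v 2), a_symm T (v 5) (v 2), a_symm T (v 6) (v 2), a_symm T (v 4) (v 3), a_symm T (v 5) (v 3), a_symm T (v 6) (v 3), a_symm T (v 5) (v 4), a_symm T (v 6) (v 4), a_symm T (v 6) (v 5)] at hneg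
  linarith

theorem neg8 {n : ℕ} (T : NumericalType n) (hn : 8 < n)
    (v : Fin 8 ↪ Fin n) (x0 x1 x2 x3 x4 x5 x6 x7 : ℤ) (hx : x0 ≠ 0 ∨ x1 ≠ 0 ∨ x2 ≠ 0 ∨ x3 ≠ 0 ∨ x4 ≠ 0 ∨ x5 ≠ 0 ∨ x6 ≠ 0 ∨ x7 ≠ 0) :
    T.a (v 0) (v 0) * x0 * x0 + T.a (v 1) (v 1) * x1 * x1 + T.a (v 2) (v 2) * x2 * x2 + T.a (v 3) (v 3) * x3 * x3 + T.a (v 4) (v 4) * x4 * x4 + T.a (v 5) (v 5) * x5 * x5 + T.a (v 6) (v 6) * x6 * x6 + T.a (v 7) (v 7) * x7 * x7 +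
    2 * (T.a (v 0) (v 1) * x0 * x1 + T.a (v 0) (v 2) * x0 * x2 + T.a (v 0) (v 3) * x0 * x3 + T.a (v 0) (v 4) * x0 * x4 + T.a (v 0) (v 5) * x0 * x5 + T.a (v 0) (v 6) * x0 * x6 + T.a (v 0) (v 7) * x0 * x7 + T.a (v 1) (v 2) * x1 * x2 + T.a (v 1) (v 3) * x1 * x3 + T.a (v 1) (v 4) * x1 * x4 + T.a (v 1) (v 5) * x1 * x5 + T.a (v 1) (v 6) * x1 * x6 + T.a (v 1) (v 7) * x1 * x7 + T.a (v 2) (v 3) * x2 * x3 + T.a (v 2) (v 4) * x2 * x4 + T.a (v 2) (v 5) * x2 * x5 + T.a (v 2) (v 6) * x2 * x6 + T.a (v 2) (v 7) * x2 * x7 + T.a (v 3) (v 4) * x3 * x4 + T.a (v 3) (v 5) * x3 * x5 + T.a (v 3) (v 6) * x3 * x6 + T.a (v 3) (v 7) * x3 * x7 + T.a (v 4) (v 5) * x4 * x5 + T.a (v 4) (v 6) * x4 * x6 + T.a (v 4) (v 7) * x4 * x7 + T.a (v 5) (v 6) * x5 * x6 + T.a (v 5) (v 7) * x5 * x7 + T.a (v 6) (v 7) * x6 * x7) < 0 := by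
  have hneg := sub_neg T v hn ![x0, x1, x2, x3, x4, x5, x6, x7] (by
    intro h
    have h0 := congrFun h 0
    have h1 := congrFun h 1
    have h2 := congrFun h 2
    have h3 := congrFun h 3
    have h4 := congrFun h 4
    have h5 := congrFun h 5
    have h6 := congrFun h 6
    have h7 := congrFun h 7
    simp at h0 h1 h2 h3 h4 h5 h6 h7
    tauto)
  simp only [Fin.sum_univ_eight, Matrix.cons_val] at hneg
  rw [a_symm T (v 1) (v 0), a_symm T (v 2) (v 0), a_symm T (v 3) (v 0), a_symm T (v 4) (v 0), a_symm T (v 5) (v 0), a_symm T (v 6) (v 0), a_symm T (v 7) (v 0), a_symm T (v 2) (v 1), a_symm T (v 3) (v 1), a_symm T (v 4) (v 1), a_symm T (v 5) (v 1), a_symm T (v 6) (v 1), a_symm T (v 7) (v 1), a_symm T (v 3) (v 2), a_symm T (v 4) (v 2), a_symm T (v 5) (v 2), a_symm T (v 6) (v 2), a_symm T (v 7) (v 2), a_symm T (v 4) (v 3), a_symm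 T (v 5) (v 3), a_symm T (v 6) (v 3), a_symm T (v 7) (v 3), a_symm T (v 5) (v 4), a_symm T (v 6) (v 4), a_symm T (v 7) (v 4), a_symm T (v 6) (v 5), a_symm T (v 7) (v 5), a_symm T (v 7) (v 6)] at hneg
  linarith

theorem neg9 {n : ℕ} (T : NumericalType n) (hn : 9 < n)
    (v : Fin 9 ↪ Fin n) (x0 x1 x2 x3 x4 x5 x6 x7 x8 : ℤ) (hx : x0 ≠ 0 ∨ x1 ≠ 0 ∨ x2 ≠ 0 ∨ x3 ≠ 0 ∨ x4 ≠ 0 ∨ x5 ≠ 0 ∨ x6 ≠ 0 ∨ x7 ≠ 0 ∨ x8 ≠ 0) :
    T.a (v 0) (v 0) * x0 * x0 + T.a (v 1) (v 1) * x1 * x1 + T.a (v 2) (v 2) * x2 * x2 + T.a (v 3) (v 3) * x3 * x3 + T.a (v 4) (v 4) * x4 * x4 + T.a (v 5) (v 5) * x5 * x5 + T.a (v 6) (v 6) * x6 * x6 + T.a (v 7) (v 7) * x7 * x7 + T.a (v 8) (v 8) * x8 * x8 +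
    2 * (T.a (v 0) (v 1) * x0 * x1 + T.a (v 0) (v 2) * x0 * x2 + T.a (v 0) (v 3) * x0 * x3 + T.a (v 0) (v 4) * x0 * x4 + T.a (v 0) (v 5) * x0 * x5 + T.a (v 0) (v 6) * x0 * x6 + T.a (v 0) (v 7) * x0 * x7 + T.a (v 0) (v 8) * x0 * x8 + T.a (v 1) (v 2) * x1 * x2 + T.a (v 1) (v 3) * x1 * x3 + T.a (v 1) (v 4) * x1 * x4 + T.a (v 1) (v 5) * x1 * x5 + T.a (v 1) (v 6) * x1 * x6 + T.a (v 1) (v 7) * x1 * x7 + T.a (v 1) (v 8) * x1 * x8 + T.a (v 2) (v 3) * x2 * x3 + T.a (v 2) (v 4) * x2 * x4 + T.a (v 2) (v 5) * x2 * x5 + T.a (v 2) (v 6) * x2 * x6 + T.a (v 2) (v 7) * x2 * x7 + T.a (v 2) (v 8) * x2 * x8 + T.a (v 3) (v 4) * x3 * x4 + T.a (v 3) (v 5) * x3 * x5 + T.a (v 3) (v 6) * x3 * x6 + T.a (v 3) (v 7) * x3 * x7 + T.a (v 3) (v 8) * x3 * x8 + T.a (v 4) (v 5) * x4 * x5 + T.a (v 4) (v 6) * x4 * x6 + T.a (v 4) (v 7) * x4 * x7 + T.a (v 4) (v 8)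 * x4 * x8 + T.a (v 5) (v 6) * x5 * x6 + T.a (v 5) (v 7) * x5 * x7 + T.a (v 5) (v 8) * x5 * x8 + T.a (v 6) (v 7) * x6 * x7 + T.a (v 6) (v 8) * x6 * x8 + T.a (v 7) (v 8) * x7 * x8) < 0 := by
  have hneg := sub_neg T v hn ![x0, x1, x2, x3, x4, x5, x6, x7, x8] (by
    intro h
    have h0 := congrFun h 0
    have h1 := congrFun h 1
    have h2 := congrFun h 2
    have h3 := congrFun h 3
    have h4 := congrFun h 4
    have h5 := congrFun h 5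
    have h6 := congrFun h 6
    have h7 := congrFun h 7
    have h8 := congrFun h 8
    simp at h0 h1 h2 h3 h4 h5 h6 h7 h8
    tauto)
  simp only [sum_univ_nine, Matrix.cons_val] at hneg
  rw [a_symm T (v 1) (v 0), a_symm T (v 2) (v 0), a_symm T (v 3) (v 0), a_symm T (v 4) (v 0), a_symm T (v 5) (v 0), a_symm T (v 6) (v 0), a_symm T (v 7) (v 0), a_symm T (v 8) (v 0), a_symm T (v 2) (v 1), a_symm T (v 3) (v 1), a_symm T (v 4) (v 1), a_symm T (v 5) (v 1), a_symm T (v 6) (v 1), a_symm T (v 7) (v 1), a_symm T (v 8) (v 1), a_symm T (v 3) (v 2), a_symm T (v 4) (v 2), a_symm T (v 5) (v 2), a_symm T (v 6) (v 2), a_symm T (v 7) (v 2), a_symm T (v 8) (v 2), a_symm T (v 4) (v 3), a_symm T (v 5) (v 3), a_symm T (v 6) (v 3), a_symm T (v 7) (v 3), a_symm T (v 8) (v 3), a_symm T (v 5) (v 4), a_symm T (v 6) (v 4), a_symm T (v 7) (v 4), a_symm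 T (v 8) (v 4), a_symm T (v 6) (v 5), a_symm T (v 7) (v 5), a_symm T (v 8) (v 5), a_symm T (v 7) (v 6), a_symm T (v 8) (v 6), a_symm T (v 8) (v 7)] at hneg
  linarith

end Groth.Agent.Lib.Helper29.NumType
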