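import Groth.Agent.Lib.Helper29.NumTypeChain
import Groth.Agent.S7346

/-!
# The downward induction for configurations of type `D` (general version, `t = r + 3`)
-/

set_option autoImplicit false

namespace Groth.Agent.Lib.Helper29.NumType

open Models Finset

/-- the invariant of the downward induction for configurations of type `D` (with `t = r + 3`) -/
structure DInv {n : ℕ} (T : Models.NumericalType n) (r : ℕ) (v : Fin (r + 4) ↪ Fin n) (w : ℤ)
    (s : ℕ) (c : Fin (r + 4) → ℤ) : Prop where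
  nonneg : ∀ j, 0 ≤ c j
  zero : ∀ j : Fin (r + 4), j.val < s → c j = 0
  two : ∀ j : Fin (r + 4), j.val = s → c j = 2
  pos : ∀ j : Fin (r + 4), s ≤ j.val → 1 ≤ c j
  hQ : -4 * w ≤ Qv T v c
  hw : ∀ j : Fin (r + 4), s ≤ j.val → T.w (v j) = w
  chain : ∀ j j' : Fin (r + 4), j'.val = j.val + 1 → j'.val < r + 3 → s ≤ j.val →
    T.a (v j) (v j') = w
  branch : ∀ j j' : Fin (r + 4), j.val + 2 = r + 3 → j'.val = r + 3 → T.a (v j) (v j') = w
  zeroA : ∀ j k : Fin (r + 4), s ≤ j.val → j.val < k.val →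
    ¬ (k.val = j.val + 1 ∧ k.val < r + 3) → ¬ (j.val + 2 = r + 3 ∧ k.val = r + 3) →
    T.a (v j) (v k) = 0

lemma dinv_base {n : ℕ} (T : Models.NumericalType n) (r : ℕ) (hn : r + 4 < n)
    (v : Fin (r + 4) ↪ Fin n) (hv : ∀ j, T.IsMinusTwo (v j))
    (hchain : ∀ j j' : Fin (r + 4), j'.val = j.val + 1 → j'.val < r + 3 → T.a (v j) (v j') ≠ 0)
    (hbranch : ∀ j j' : Fin (r + 4), j.val + 2 = r + 3 → j'.val = r + 3 → T.a (v j) (v j') ≠ 0) :
    ∃ w c, DInv T r v w (r) c := by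
  have i2 : r < r + 4 := by omega
  have i3 : r + 1 < r + 4 := by omega
  have i4 : r + 2 < r + 4 := by omega
  have i5 : r + 3 < r + 4 := by omega
  let e : Fin 4 ↪ Fin (r + 4) := ⟨![⟨r + 1, i3⟩, ⟨r, i2⟩, ⟨r + 2, i4⟩, ⟨r + 3, i5⟩], by
    intro a b h
    fin_cases a <;> fin_cases b <;> simp [Fin.ext_iff] at h ⊢ <;> omega⟩
  have e0 : e 0 = ⟨r + 1, i3⟩ := rfl
  have e1 : e 1 = ⟨r, i2⟩ := rfl
  have e2 : e 2 = ⟨r + 2, i4⟩ := rfl
  have e3 : e 3 = ⟨r + 3, i5⟩ := rfl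
  obtain ⟨w, hw, a01, a02, a03, a12, a13, a23, -, -, -, -⟩ :=
    Groth.Agent.S7346.result T (by omega) (e.trans v) (fun j => hv (e j))
      (by
        show T.a (v ⟨r + 1, i3⟩) (v ⟨r, i2⟩) ≠ 0
        rw [a_symm T]
        exact hchain ⟨r, i2⟩ ⟨r + 1, i3⟩ rfl (by simp))
      (by
        show T.a (v ⟨r + 1, i3⟩) (v ⟨r + 2, i4⟩) ≠ 0
        exact hchain ⟨r + 1, i3⟩ ⟨r + 2, i4⟩ rfl (by simp))
      (by
        show T.a (v ⟨r + 1, i3⟩) (v ⟨r + 3, i5⟩) ≠ 0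
        exact hbranch ⟨r + 1, i3⟩ ⟨r + 3, i5⟩ rfl rfl)
  have w3 : T.w (v ⟨r + 1, i3⟩) = w := hw 0
  have w2 : T.w (v ⟨r, i2⟩) = w := hw 1
  have w4 : T.w (v ⟨r + 2, i4⟩) = w := hw 2
  have w5 : T.w (v ⟨r + 3, i5⟩) = w := hw 3
  have b32 : T.a (v ⟨r + 1, i3⟩) (v ⟨r, i2⟩) = w := a01
  have b34 : T.a (v ⟨r + 1, i3⟩) (v ⟨r + 2, i4⟩) = w := a02
  have b35 : T.a (v ⟨r + 1, i3⟩) (v ⟨r + 3, i5⟩) = w := a03
  have b24 : T.a (v ⟨r, i2⟩) (v ⟨r + 2, i4⟩) = 0 := a12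
  have b25 : T.a (v ⟨r, i2⟩) (v ⟨r + 3, i5⟩) = 0 := a13
  have b45 : T.a (v ⟨r + 2, i4⟩) (v ⟨r + 3, i5⟩) = 0 := a23
  -- every index ≥ r+2 is in the range of e
  have hrange : ∀ j : Fin (r + 4), r ≤ j.val → ∃ i, e i = j := by
    intro j hj
    have hj6 := j.2
    rcases (by omega : j.val = r ∨ j.val = r + 1 ∨ j.val = r + 2 ∨ j.val = r + 3) with
      h | h | h | h
    · exact ⟨1, Fin.ext (by rw [e1]; exact h.symm)⟩
    · exact ⟨0, Fin.ext (by rw [e0]; exact h.symm)⟩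
    · exact ⟨2, Fin.ext (by rw [e2]; exact h.symm)⟩
    · exact ⟨3, Fin.ext (by rw [e3]; exact h.symm)⟩
  refine ⟨w, extendZ e ![2, 2, 1, 1], ?_, ?_, ?_, ?_, ?_, ?_, ?_, ?_, ?_⟩
  · exact extendZ_nonneg e _ (by intro i; fin_cases i <;> simp)
  · intro j hj
    apply extendZ_apply_of_forall_ne
    intro i h
    have hval : r ≤ (e i).val := by
      fin_cases i
      · show r ≤ r + 1; omega
      · show r ≤ r; omega
      · show r ≤ r + 2; omega
      · show r ≤ r + 3; omega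
    rw [h] at hval
    omega
  · intro j hj
    have : j = e 1 := Fin.ext (by rw [e1]; exact hj)
    rw [this, extendZ_apply_emb]
    rfl
  · intro j hj
    obtain ⟨i, rfl⟩ := hrange j hj
    rw [extendZ_apply_emb]
    fin_cases i <;> simp
  · rw [Qv_extend, Qv_eq4]
    show -4 * w ≤ T.a (v ⟨r + 1, i3⟩) (v ⟨r + 1, i3⟩) * 2 * 2 +
      T.a (v ⟨r, i2⟩) (v ⟨r, i2⟩) * 2 * 2 +
      T.a (v ⟨r + 2, i4⟩) (v ⟨r + 2, i4⟩) * 1 * 1 + T.a (v ⟨r + 3, i5⟩) (v ⟨r + 3, i5⟩) * 1 * 1 +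
      2 * (T.a (v ⟨r + 1, i3⟩) (v ⟨r, i2⟩) * 2 * 2 + T.a (v ⟨r + 1, i3⟩) (v ⟨r + 2, i4⟩) * 2 * 1 +
        T.a (v ⟨r + 1, i3⟩) (v ⟨r + 3, i5⟩) * 2 * 1 + T.a (v ⟨r, i2⟩) (v ⟨r + 2, i4⟩) * 2 * 1 +
        T.a (v ⟨r, i2⟩) (v ⟨r + 3, i5⟩) * 2 * 1 + T.a (v ⟨r + 2, i4⟩) (v ⟨r + 3, i5⟩) * 1 * 1)
    rw [(hv _).2, (hv _).2, (hv _).2, (hv _).2, w2, w3, w4, w5, b32, b34, b35, b24, b25, b45]
    linarith
  · intro j hj
    obtain ⟨i, rfl⟩ := hrange j hj
    exact hw i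
  · intro j j' hjj' hj' hj
    have hj6 := j.2
    rcases (by omega : j.val = r ∨ j.val = r + 1) with h | h
    · have hj1 : j = ⟨r, i2⟩ := Fin.ext h
      have hj2 : j' = ⟨r + 1, i3⟩ := Fin.ext (by rw [hjj', h])
      rw [hj1, hj2, a_symm T]; exact b32
    · have hj1 : j = ⟨r + 1, i3⟩ := Fin.ext h
      have hj2 : j' = ⟨r + 2, i4⟩ := Fin.ext (by rw [hjj', h])
      rw [hj1, hj2]; exact b34
  · intro j j' hj hj'
    have hj1 : j = ⟨r + 1, i3⟩ := Fin.ext (by simp; omega)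
    have hj2 : j' = ⟨r + 3, i5⟩ := Fin.ext hj'
    rw [hj1, hj2]; exact b35
  · intro j k hj hjk hnc hnb
    have hk6 := k.2
    rcases (by omega : (j.val = r ∧ k.val = r + 2) ∨ (j.val = r ∧ k.val = r + 3) ∨
      (j.val = r + 2 ∧ k.val = r + 3)) with ⟨h1, h2⟩ | ⟨h1, h2⟩ | ⟨h1, h2⟩
    · have hj1 : j = ⟨r, i2⟩ := Fin.ext h1
      have hk1 : k = ⟨r + 2, i4⟩ := Fin.ext h2
      rw [hj1, hk1]; exact b24
    · have hj1 : j = ⟨r, i2⟩ := Fin.ext h1
      have hk1 : k = ⟨r + 3, i5⟩ := Fin.ext h2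
      rw [hj1, hk1]; exact b25
    · have hj1 : j = ⟨r + 2, i4⟩ := Fin.ext h1
      have hk1 : k = ⟨r + 3, i5⟩ := Fin.ext h2
      rw [hj1, hk1]; exact b45

lemma dinv_step {n : ℕ} (T : Models.NumericalType n) (r : ℕ) (hn : r + 4 < n)
    (v : Fin (r + 4) ↪ Fin n) (hv : ∀ j, T.IsMinusTwo (v j))
    (hchain : ∀ j j' : Fin (r + 4), j'.val = j.val + 1 → j'.val < r + 3 → T.a (v j) (v j') ≠ 0)
    (w : ℤ) (s : ℕ) (hs : s + 1 ≤ r) (c : Fin (r + 4) → ℤ) (h : DInv T r v w (s + 1) c) :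
    ∃ c', DInv T r v w s c' := by
  have is : s < r + 4 := by omega
  have is1 : s + 1 < r + 4 := by omega
  set u : Fin (r + 4) := ⟨s, is⟩ with hu
  set z : Fin (r + 4) := ⟨s + 1, is1⟩ with hz
  have hwz : T.w (v z) = w := h.hw z (le_refl _)
  obtain ⟨wu, auz, hzero, hL⟩ := ext_fork T v hn hv c h.nonneg u z
    (h.zero u (by simp [hu])) (h.two z rfl)
    (hchain u z rfl (by simp [hz]; omega)) (by rw [hwz]; exact h.hQ)
  rw [hwz] at wu auz hL
  refine ⟨c + (2 : ℤ) • (Pi.single u (1 : ℤ) : Fin (r + 4) → ℤ), ?_, ?_, ?_, ?_, ?_, ?_, ?_, ?_, ?_⟩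
  · intro j
    have := h.nonneg j
    by_cases hj : j = u
    · subst hj; simp; omega
    · simp [hj]; exact this
  · intro j hj
    have hne : j ≠ u := fun e => by rw [e] at hj; simp [hu] at hj
    simp [hne]
    exact h.zero j (by omega)
  · intro j hj
    have : j = u := Fin.ext hj
    subst this
    simp
    exact h.zero u (by simp [hu])
  · intro j hj
    by_cases hju : j = u
    · subst hju
      simp
      have := h.nonneg u
      omega
    · have hne : j.val ≠ s := fun e => hju (Fin.ext e)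
      simp [hju]
      exact h.pos j (by omega)
  · rw [Qv_add_two_of_Lv T v hv c u w wu hL]
    exact h.hQ
  · intro j hj
    by_cases hju : j = u
    · rw [hju]; exact wu
    · have hne : j.val ≠ s := fun e => hju (Fin.ext e)
      exact h.hw j (by omega)
  · intro j j' hjj' hj' hj
    by_cases hju : j = u
    · have : j' = z := Fin.ext (by rw [hjj', hju])
      rw [hju, this]; exact auz
    · have hne : j.val ≠ s := fun e => hju (Fin.ext e)
      exact h.chain j j' hjj' hj' (by omega)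
  · exact h.branch
  · intro j k hj hjk hnc hnb
    by_cases hju : j = u
    · have hkz : k ≠ z := by
        intro e
        apply hnc
        rw [e, hju]
        exact ⟨rfl, by simp [hz]; omega⟩
      rw [hju]
      apply hzero k hkz
      apply h.pos k
      rw [hju] at hjk
      simp [hu] at hjk
      omega
    · have hne : j.val ≠ s := fun e => hju (Fin.ext e)
      exact h.zeroA j k (by omega) hjk hnc hnb

/-- the invariant at every level `s ≤ r` -/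
lemma dinv_all {n : ℕ} (T : Models.NumericalType n) (r : ℕ) (hn : r + 4 < n)
    (v : Fin (r + 4) ↪ Fin n) (hv : ∀ j, T.IsMinusTwo (v j))
    (hchain : ∀ j j' : Fin (r + 4), j'.val = j.val + 1 → j'.val < r + 3 → T.a (v j) (v j') ≠ 0)
    (hbranch : ∀ j j' : Fin (r + 4), j.val + 2 = r + 3 → j'.val = r + 3 → T.a (v j) (v j') ≠ 0) :
    ∃ w, ∀ s, s ≤ r → ∃ c, DInv T r v w s c := by
  obtain ⟨w, c0, h0⟩ := dinv_base T r hn v hv hchain hbranch
  refine ⟨w, ?_⟩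
  have key : ∀ d, d ≤ r → ∃ c, DInv T r v w (r - d) c := by
    intro d
    induction d with
    | zero => intro _; exact ⟨c0, h0⟩
    | succ d ih =>
      intro hd
      obtain ⟨c, hc⟩ := ih (by omega)
      have e1 : r - d = (r - (d + 1)) + 1 := by omega
      rw [e1] at hc
      exact dinv_step T r hn v hv hchain w _ (by omega) c hc
  intro s hs
  obtain ⟨c, hc⟩ := key (r - s) (by omega)
  have : r - (r - s) = s := by omega
  rw [this] at hc
  exact ⟨c, hc⟩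

end Groth.Agent.Lib.Helper29.NumType
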