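import Groth.Agent.Lib.Helper29.NumTypeNeg

/-!
# Extension lemma for (-2)-configurations of numerical types

`Qv T v c` is the intersection form on the embedded configuration `v` evaluated on the coefficient
vector `c`.  `ext_fork` is the basic step used for configurations of type `D`/`E`.
-/

set_option autoImplicit false

namespace Groth.Agent.Lib.Helper29.NumType

open Models Finset

variable {n : ℕ} (T : NumericalType n)

/-- the intersection form restricted to an embedded configuration -/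
def Qv {k : ℕ} (v : Fin k ↪ Fin n) (c : Fin k → ℤ) : ℤ :=
  ∑ j, ∑ j', T.a (v j) (v j') * c j * c j'

lemma Qv_neg {k : ℕ} (v : Fin k ↪ Fin n) (hk : k < n) (c : Fin k → ℤ) (hc : c ≠ 0) :
    Qv T v c < 0 := sub_neg T v hk c hc

/-- the linear form `Σ_j' a(u,j') c_j'` -/
def Lv {k : ℕ} (v : Fin k ↪ Fin n) (u : Fin k) (c : Fin k → ℤ) : ℤ :=
  ∑ j', T.a (v u) (v j') * c j'

lemma Qv_add_single {k : ℕ} (v : Fin k ↪ Fin n) (c : Fin k → ℤ) (u : Fin k) (p : ℤ) :
    Qv T v (c + p • (Pi.single u (1 : ℤ) : Fin k → ℤ)) =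
      Qv T v c + 2 * p * Lv T v u c + p ^ 2 * T.a (v u) (v u) := by
  classical
  unfold Qv Lv
  have hs : ∀ j, (c + p • (Pi.single u (1 : ℤ) : Fin k → ℤ)) j = c j + if j = u then p else 0 := by
    intro j
    by_cases h : j = u
    · subst h; simp
    · simp [h]
  simp_rw [hs]
  have e1 : ∀ j j', T.a (v j) (v j') * (c j + if j = u then p else 0) *
      (c j' + if j' = u then p else 0) =
      T.a (v j) (v j') * c j * c j' + (if j' = u then T.a (v j) (v u) * c j * p else 0) +
      (if j = u then T.a (v u) (v j') * c j' * p else 0) +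
      (if j = u then (if j' = u then T.a (v u) (v u) * p * p else 0) else 0) := by
    intro j j'
    by_cases h1 : j = u <;> by_cases h2 : j' = u
    · subst h1; subst h2; simp; ring
    · subst h1; simp [h2]; ring
    · subst h2; simp [h1]; ring
    · simp [h1, h2]
  simp_rw [e1, Finset.sum_add_distrib]
  have t2 : ∑ j, ∑ j', (if j' = u then T.a (v j) (v u) * c j * p else 0) =
      p * ∑ j', T.a (v u) (v j') * c j' := by
    have : ∀ j, ∑ j', (if j' = u then T.a (v j) (v u) * c j * p else 0) =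
        T.a (v j) (v u) * c j * p := by
      intro j
      rw [Finset.sum_ite_eq' Finset.univ u]; simp
    simp_rw [this]
    rw [Finset.mul_sum]
    refine Finset.sum_congr rfl fun j _ => ?_
    rw [a_symm T (v j) (v u)]; ring
  have t3 : ∑ j, ∑ j', (if j = u then T.a (v u) (v j') * c j' * p else 0) =
      p * ∑ j', T.a (v u) (v j') * c j' := by
    rw [Finset.sum_comm]
    have : ∀ j', ∑ j, (if j = u then T.a (v u) (v j') * c j' * p else 0) =
        T.a (v u) (v j') * c j' * p := by
      intro j'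
      rw [Finset.sum_ite_eq' Finset.univ u]; simp
    simp_rw [this]
    rw [Finset.mul_sum]
    refine Finset.sum_congr rfl fun j _ => by ring
  have t4 : ∑ j, ∑ j', (if j = u then (if j' = u then T.a (v u) (v u) * p * p else 0) else 0) =
      T.a (v u) (v u) * p * p := by
    have : ∀ j, ∑ j', (if j = u then (if j' = u then T.a (v u) (v u) * p * p else 0) else 0) =
        if j = u then T.a (v u) (v u) * p * p else 0 := by
      intro j
      by_cases h : j = u
      · simp only [h, if_true]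
        rw [Finset.sum_ite_eq' Finset.univ u]; simp
      · simp [h]
    simp_rw [this]
    rw [Finset.sum_ite_eq' Finset.univ u]; simp
  rw [t2, t3, t4]
  ring

/-- `Lv` bounds from below by any two of its terms (all terms are nonnegative when `c ≥ 0` and
`c u = 0`). -/
lemma Lv_ge_two {k : ℕ} (v : Fin k ↪ Fin n) (u z j : Fin k) (c : Fin k → ℤ) (hc : ∀ i, 0 ≤ c i)
    (hu : c u = 0) (hzj : z ≠ j) :
    T.a (v u) (v z) * c z + T.a (v u) (v j) * c j ≤ Lv T v u c := by
  classical
  unfold Lv
  have hnn : ∀ i ∈ Finset.univ, 0 ≤ T.a (v u) (v i) * c i := by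
    intro i _
    by_cases h : i = u
    · subst h; rw [hu]; simp
    · exact mul_nonneg (a_nonneg_emb T v (Ne.symm h)) (hc i)
  have := Finset.sum_le_sum_of_subset_of_nonneg (Finset.subset_univ ({z, j} : Finset (Fin k)))
    (fun i hi _ => hnn i hi)
  rw [Finset.sum_pair hzj] at this
  exact this

lemma Lv_ge_one {k : ℕ} (v : Fin k ↪ Fin n) (u z : Fin k) (c : Fin k → ℤ) (hc : ∀ i, 0 ≤ c i)
    (hu : c u = 0) :
    T.a (v u) (v z) * c z ≤ Lv T v u c := by
  classical
  unfold Lv
  have hnn : ∀ i ∈ Finset.univ, 0 ≤ T.a (v u) (v i) * c i := by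
    intro i _
    by_cases h : i = u
    · subst h; rw [hu]; simp
    · exact mul_nonneg (a_nonneg_emb T v (Ne.symm h)) (hc i)
  exact Finset.single_le_sum hnn (Finset.mem_univ z)

/-- **Extension at a vertex of coefficient two.**  If `c ≥ 0` is a coefficient vector on a proper
`(-2)`-configuration with `Qv c ≥ -4 w`, `c z = 2`, `w = w_z`, and `u` is a further vertex of the
configuration with `c u = 0` joined to `z`, then the edge `u z` is simple, `w_u = w`, and `u` is not
joined to any other vertex in the support of `c`. -/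
theorem ext_fork {k : ℕ} (v : Fin k ↪ Fin n) (hk : k < n) (hv : ∀ j, T.IsMinusTwo (v j))
    (c : Fin k → ℤ) (hc : ∀ i, 0 ≤ c i) (u z : Fin k) (hu : c u = 0) (hz : c z = 2)
    (huz : T.a (v u) (v z) ≠ 0) (hQ : -4 * T.w (v z) ≤ Qv T v c) :
    T.w (v u) = T.w (v z) ∧ T.a (v u) (v z) = T.w (v z) ∧
      (∀ j, j ≠ z → 1 ≤ c j → T.a (v u) (v j) = 0) ∧
      Lv T v u c = 2 * T.w (v z) := by
  classical
  have hne : u ≠ z := by
    intro h; rw [h, hz] at hu; norm_num at hu
  have hpos := a_pos_emb T v hne huz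
  obtain ⟨p, q, hp, hq, e1, f1⟩ := exists_quot T _ _ hpos
  have hwz := T.w_pos (v z)
  have hwu := T.w_pos (v u)
  have hx : c + p • (Pi.single u (1 : ℤ) : Fin k → ℤ) ≠ 0 := by
    intro h
    have := congrFun h z
    simp [hz, hne.symm] at this
  have hneg := Qv_neg T v hk _ hx
  rw [Qv_add_single, (hv u).2] at hneg
  have hL1 := Lv_ge_one T v u z c hc hu
  rw [hz] at hL1
  have hp0 : 0 ≤ p := by omega
  -- main inequality
  have k1 : p ^ 2 * (-2 * T.w (v u)) = -2 * (p * (p * T.w (v u))) := by ring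
  rw [k1, ← e1] at hneg
  have k2 : p * T.a (v u) (v z) = (p * q) * T.w (v z) := by rw [f1]; ring
  have hmul : 2 * p * (T.a (v u) (v z) * 2) ≤ 2 * p * Lv T v u c :=
    mul_le_mul_of_nonneg_left hL1 (by positivity)
  have hsum : (p * q) * T.w (v z) < 2 * T.w (v z) := by nlinarith
  have hpq : p * q < 2 := lt_of_mul_lt_mul_right hsum hwz.le
  have P1 := pq_ge_one hp hq
  obtain ⟨rfl, rfl⟩ := pq_one hp hq (by omega)
  simp only [one_mul, mul_one] at *
  have wuz : T.w (v u) = T.w (v z) := by rw [← e1, f1]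
  have hLlt : Lv T v u c < 3 * T.w (v z) := by linarith
  have hzero : ∀ j, j ≠ z → 1 ≤ c j → T.a (v u) (v j) = 0 := by
    intro j hjz hcj
    have hju : j ≠ u := by
      intro h; rw [h, hu] at hcj; norm_num at hcj
    have h2 := Lv_ge_two T v u z j c hc hu (Ne.symm hjz)
    rw [hz, f1] at h2
    have hnn := a_nonneg_emb T v (Ne.symm hju)
    have : T.a (v u) (v j) ≤ T.a (v u) (v j) * c j := le_mul_of_one_le_right hnn hcj
    apply eq_zero_of_dvd_of_lt (wuz ▸ T.w_dvd (v u) (v j)) hnn
    linarith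
  refine ⟨wuz, f1, hzero, ?_⟩
  unfold Lv
  rw [Finset.sum_eq_single z]
  · rw [hz, f1]; ring
  · intro j _ hjz
    by_cases hcj : 1 ≤ c j
    · rw [hzero j hjz hcj]; ring
    · have : c j = 0 := by have := hc j; omega
      rw [this]; ring
  · intro h; exact absurd (Finset.mem_univ _) h

/-- after `ext_fork`, adding `2 e_u` keeps the value of the form. -/
lemma Qv_add_two_of_Lv {k : ℕ} (v : Fin k ↪ Fin n) (hv : ∀ j, T.IsMinusTwo (v j))
    (c : Fin k → ℤ) (u : Fin k) (w : ℤ) (hw : T.w (v u) = w) (hL : Lv T v u c = 2 * w) :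
    Qv T v (c + (2 : ℤ) • (Pi.single u (1 : ℤ) : Fin k → ℤ)) = Qv T v c := by
  rw [Qv_add_single, hL, (hv u).2, hw]
  ring

/-- **Obstruction at a vertex of coefficient two.**  If `c ≥ 0` on a proper `(-2)`-configuration has
`Qv c ≥ -2 w_z`, `c z = 2`, there is no further vertex `u` of the configuration with `c u = 0`
joined to `z`. -/
theorem ext_contra {k : ℕ} (v : Fin k ↪ Fin n) (hk : k < n) (hv : ∀ j, T.IsMinusTwo (v j))
    (c : Fin k → ℤ) (hc : ∀ i, 0 ≤ c i) (u z : Fin k) (hu : c u = 0) (hz : c z = 2)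
    (huz : T.a (v u) (v z) ≠ 0) (hQ : -2 * T.w (v z) ≤ Qv T v c) : False := by
  classical
  have hne : u ≠ z := by
    intro h; rw [h, hz] at hu; norm_num at hu
  have hpos := a_pos_emb T v hne huz
  obtain ⟨p, q, hp, hq, e1, f1⟩ := exists_quot T _ _ hpos
  have hwz := T.w_pos (v z)
  have hx : c + p • (Pi.single u (1 : ℤ) : Fin k → ℤ) ≠ 0 := by
    intro h
    have := congrFun h z
    simp [hz, hne.symm] at this
  have hneg := Qv_neg T v hk _ hx
  rw [Qv_add_single, (hv u).2] at hneg
  have hL1 := Lv_ge_one T v u z c hc hu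
  rw [hz] at hL1
  have hp0 : 0 ≤ p := by omega
  have k1 : p ^ 2 * (-2 * T.w (v u)) = -2 * (p * (p * T.w (v u))) := by ring
  rw [k1, ← e1] at hneg
  have k2 : p * T.a (v u) (v z) = (p * q) * T.w (v z) := by rw [f1]; ring
  have hmul : 2 * p * (T.a (v u) (v z) * 2) ≤ 2 * p * Lv T v u c :=
    mul_le_mul_of_nonneg_left hL1 (by positivity)
  have P1 := pq_ge_one hp hq
  have : T.w (v z) ≤ (p * q) * T.w (v z) := le_mul_of_one_le_left hwz.le P1
  nlinarith

end Groth.Agent.Lib.Helper29.NumType
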