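import Groth.Agent.Lib.Helper29.NumTypeExt

/-! Explicit symmetrised expansions `Qv_eq4 … Qv_eq9` of the form `Qv` on small configurations. -/

set_option autoImplicit false
set_option maxHeartbeats 1600000

namespace Groth.Agent.Lib.Helper29.NumType

open Models Finset

theorem Qv_eq3 {n : ℕ} (T : NumericalType n)
    (v : Fin 3 ↪ Fin n) (x0 x1 x2 : ℤ) :
    Qv T v ![x0, x1, x2] = T.a (v 0) (v 0) * x0 * x0 + T.a (v 1) (v 1) * x1 * x1 + T.a (v 2) (v 2) * x2 * x2 +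
    2 * (T.a (v 0) (v 1) * x0 * x1 + T.a (v 0) (v 2) * x0 * x2 + T.a (v 1) (v 2) * x1 * x2) := by
  unfold Qv
  simp only [Fin.sum_univ_three, Matrix.cons_val]
  rw [a_symm T (v 1) (v 0), a_symm T (v 2) (v 0), a_symm T (v 2) (v 1)]
  ring

theorem Qv_eq4 {n : ℕ} (T : NumericalType n)
    (v : Fin 4 ↪ Fin n) (x0 x1 x2 x3 : ℤ) :
    Qv T v ![x0, x1, x2, x3] = T.a (v 0) (v 0) * x0 * x0 + T.a (v 1) (v 1) * x1 * x1 + T.a (v 2) (v 2) * x2 * x2 + T.a (v 3) (v 3) * x3 * x3 +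
    2 * (T.a (v 0) (v 1) * x0 * x1 + T.a (v 0) (v 2) * x0 * x2 + T.a (v 0) (v 3) * x0 * x3 + T.a (v 1) (v 2) * x1 * x2 + T.a (v 1) (v 3) * x1 * x3 + T.a (v 2) (v 3) * x2 * x3) := by
  unfold Qv
  simp only [Fin.sum_univ_four, Matrix.cons_val]
  rw [a_symm T (v 1) (v 0), a_symm T (v 2) (v 0), a_symm T (v 3) (v 0), a_symm T (v 2) (v 1), a_symm T (v 3) (v 1), a_symm T (v 3) (v 2)]
  ring

theorem Qv_eq5 {n : ℕ} (T : NumericalType n)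
    (v : Fin 5 ↪ Fin n) (x0 x1 x2 x3 x4 : ℤ) :
    Qv T v ![x0, x1, x2, x3, x4] = T.a (v 0) (v 0) * x0 * x0 + T.a (v 1) (v 1) * x1 * x1 + T.a (v 2) (v 2) * x2 * x2 + T.a (v 3) (v 3) * x3 * x3 + T.a (v 4) (v 4) * x4 * x4 +
    2 * (T.a (v 0) (v 1) * x0 * x1 + T.a (v 0) (v 2) * x0 * x2 + T.a (v 0) (v 3) * x0 * x3 + T.a (v 0) (v 4) * x0 * x4 + T.a (v 1) (v 2) * x1 * x2 + T.a (v 1) (v 3) * x1 * x3 + T.a (v 1) (v 4) * x1 * x4 + T.a (v 2) (v 3) * x2 * x3 + T.a (v 2) (v 4) * x2 * x4 + T.a (v 3) (v 4) * x3 * x4) := by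
  unfold Qv
  simp only [Fin.sum_univ_five, Matrix.cons_val]
  rw [a_symm T (v 1) (v 0), a_symm T (v 2) (v 0), a_symm T (v 3) (v 0), a_symm T (v 4) (v 0), a_symm T (v 2) (v 1), a_symm T (v 3) (v 1), a_symm T (v 4) (v 1), a_symm T (v 3) (v 2), a_symm T (v 4) (v 2), a_symm T (v 4) (v 3)]
  ring

theorem Qv_eq6 {n : ℕ} (T : NumericalType n)
    (v : Fin 6 ↪ Fin n) (x0 x1 x2 x3 x4 x5 : ℤ) :
    Qv T v ![x0, x1, x2, x3, x4, x5] = T.a (v 0) (v 0) * x0 * x0 + T.a (v 1) (v 1) * x1 * x1 + T.a (v 2) (v 2) * x2 * x2 + T.a (v 3) (v 3) * x3 * x3 + T.a (v 4) (v 4) * x4 * x4 + T.a (v 5) (v 5) * x5 * x5 +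
    2 * (T.a (v 0) (v 1) * x0 * x1 + T.a (v 0) (v 2) * x0 * x2 + T.a (v 0) (v 3) * x0 * x3 + T.a (v 0) (v 4) * x0 * x4 + T.a (v 0) (v 5) * x0 * x5 + T.a (v 1) (v 2) * x1 * x2 + T.a (v 1) (v 3) * x1 * x3 + T.a (v 1) (v 4) * x1 * x4 + T.a (v 1) (v 5) * x1 * x5 + T.a (v 2) (v 3) * x2 * x3 + T.a (v 2) (v 4) * x2 * x4 + T.a (v 2) (v 5) * x2 * x5 + T.a (v 3) (v 4) * x3 * x4 + T.a (v 3) (v 5) * x3 * x5 + T.a (v 4) (v 5) * x4 * x5) := by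
  unfold Qv
  simp only [Fin.sum_univ_six, Matrix.cons_val]
  rw [a_symm T (v 1) (v 0), a_symm T (v 2) (v 0), a_symm T (v 3) (v 0), a_symm T (v 4) (v 0), a_symm T (v 5) (v 0), a_symm T (v 2) (v 1), a_symm T (v 3) (v 1), a_symm T (v 4) (v 1), a_symm T (v 5) (v 1), a_symm T (v 3) (v 2), a_symm T (v 4) (v 2), a_symm T (v 5) (v 2), a_symm T (v 4) (v 3), a_symm T (v 5) (v 3), a_symm T (v 5) (v 4)]
  ring

theorem Qv_eq7 {n : ℕ} (T : NumericalType n)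
    (v : Fin 7 ↪ Fin n) (x0 x1 x2 x3 x4 x5 x6 : ℤ) :
    Qv T v ![x0, x1, x2, x3, x4, x5, x6] = T.a (v 0) (v 0) * x0 * x0 + T.a (v 1) (v 1) * x1 * x1 + T.a (v 2) (v 2) * x2 * x2 + T.a (v 3) (v 3) * x3 * x3 + T.a (v 4) (v 4) * x4 * x4 + T.a (v 5) (v 5) * x5 * x5 + T.a (v 6) (v 6) * x6 * x6 +
    2 * (T.a (v 0) (v 1) * x0 * x1 + T.a (v 0) (v 2) * x0 * x2 + T.a (v 0) (v 3) * x0 * x3 + T.a (v 0) (v 4) * x0 * x4 + T.a (v 0) (v 5) * x0 * x5 + T.a (v 0) (v 6) * x0 * x6 + T.a (v 1) (v 2) * x1 * x2 + T.a (v 1) (v 3) * x1 * x3 + T.a (v 1) (v 4) * x1 * x4 + T.a (v 1) (v 5) * x1 * x5 + T.a (v 1) (v 6) * x1 * x6 + T.a (v 2) (v 3) * x2 * x3 + T.a (v 2) (v 4) * x2 * x4 + T.a (v 2) (v 5) * x2 * x5 + T.a (v 2) (v 6) * x2 * x6 + T.a (v 3) (v 4) * x3 * x4 + T.a (v 3) (v 5) * x3 * x5 + T.a (v 3) (v 6) * x3 * x6 + T.a (v 4) (v 5)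 * x4 * x5 + T.a (v 4) (v 6) * x4 * x6 + T.a (v 5) (v 6) * x5 * x6) := by
  unfold Qv
  simp only [Fin.sum_univ_seven, Matrix.cons_val]
  rw [a_symm T (v 1) (v 0), a_symm T (v 2) (v 0), a_symm T (v 3) (v 0), a_symm T (v 4) (v 0), a_symm T (v 5) (v 0), a_symm T (v 6) (v 0), a_symm T (v 2) (v 1), a_symm T (v 3) (v 1), a_symm T (v 4) (v 1), a_symm T (v 5) (v 1), a_symm T (v 6) (v 1), a_symm T (v 3) (v 2), a_symm T (v 4) (v 2), a_symm T (v 5) (v 2), a_symm T (v 6) (v 2), a_symm T (v 4) (v 3), a_symm T (v 5) (v 3), a_symm T (v 6) (v 3), a_symm T (v 5) (v 4), a_symm T (v 6) (v 4), a_symm T (v 6) (v 5)]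
  ring

theorem Qv_eq8 {n : ℕ} (T : NumericalType n)
    (v : Fin 8 ↪ Fin n) (x0 x1 x2 x3 x4 x5 x6 x7 : ℤ) :
    Qv T v ![x0, x1, x2, x3, x4, x5, x6, x7] = T.a (v 0) (v 0) * x0 * x0 + T.a (v 1) (v 1) * x1 * x1 + T.a (v 2) (v 2) * x2 * x2 + T.a (v 3) (v 3) * x3 * x3 + T.a (v 4) (v 4) * x4 * x4 + T.a (v 5) (v 5) * x5 * x5 + T.a (v 6) (v 6) * x6 * x6 + T.a (v 7) (v 7) * x7 * x7 +
    2 * (T.a (v 0) (v 1) * x0 * x1 + T.a (v 0) (v 2) * x0 * x2 + T.a (v 0) (v 3) * x0 * x3 + T.a (v 0) (v 4) * x0 * x4 + T.a (v 0) (v 5) * x0 * x5 + T.a (v 0) (v 6) * x0 * x6 + T.a (v 0) (v 7) * x0 * x7 + T.a (v 1) (v 2) * x1 * x2 + T.a (v 1) (v 3) * x1 * x3 + T.a (v 1) (v 4) * x1 * x4 + T.a (v 1) (v 5) * x1 * x5 + T.a (v 1) (v 6) * x1 * x6 + T.a (v 1) (v 7) * x1 * x7 + T.a (v 2) (v 3) * x2 * x3 + T.a (v 2) (v 4) * x2 * x4 + T.a (v 2) (v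 5) * x2 * x5 + T.a (v 2) (v 6) * x2 * x6 + T.a (v 2) (v 7) * x2 * x7 + T.a (v 3) (v 4) * x3 * x4 + T.a (v 3) (v 5) * x3 * x5 + T.a (v 3) (v 6) * x3 * x6 + T.a (v 3) (v 7) * x3 * x7 + T.a (v 4) (v 5) * x4 * x5 + T.a (v 4) (v 6) * x4 * x6 + T.a (v 4) (v 7) * x4 * x7 + T.a (v 5) (v 6) * x5 * x6 + T.a (v 5) (v 7) * x5 * x7 + T.a (v 6) (v 7) * x6 * x7) := by
  unfold Qv
  simp only [Fin.sum_univ_eight, Matrix.cons_val]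
  rw [a_symm T (v 1) (v 0), a_symm T (v 2) (v 0), a_symm T (v 3) (v 0), a_symm T (v 4) (v 0), a_symm T (v 5) (v 0), a_symm T (v 6) (v 0), a_symm T (v 7) (v 0), a_symm T (v 2) (v 1), a_symm T (v 3) (v 1), a_symm T (v 4) (v 1), a_symm T (v 5) (v 1), a_symm T (v 6) (v 1), a_symm T (v 7) (v 1), a_symm T (v 3) (v 2), a_symm T (v 4) (v 2), a_symm T (v 5) (v 2), a_symm T (v 6) (v 2), a_symm T (v 7) (v 2), a_symm T (v 4) (v 3), a_symm T (v 5) (v 3), a_symm T (v 6) (v 3), a_symm T (v 7) (v 3), a_symm T (v 5) (v 4), a_symm T (v 6) (v 4), a_symm T (v 7) (v 4), a_symm T (v 6) (v 5), a_symm T (v 7) (v 5), a_symm T (v 7) (v 6)]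
  ring

theorem Qv_eq9 {n : ℕ} (T : NumericalType n)
    (v : Fin 9 ↪ Fin n) (x0 x1 x2 x3 x4 x5 x6 x7 x8 : ℤ) :
    Qv T v ![x0, x1, x2, x3, x4, x5, x6, x7, x8] = T.a (v 0) (v 0) * x0 * x0 + T.a (v 1) (v 1) * x1 * x1 + T.a (v 2) (v 2) * x2 * x2 + T.a (v 3) (v 3) * x3 * x3 + T.a (v 4) (v 4) * x4 * x4 + T.a (v 5) (v 5) * x5 * x5 + T.a (v 6) (v 6) * x6 * x6 + T.a (v 7) (v 7) * x7 * x7 + T.a (v 8) (v 8) * x8 * x8 +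
    2 * (T.a (v 0) (v 1) * x0 * x1 + T.a (v 0) (v 2) * x0 * x2 + T.a (v 0) (v 3) * x0 * x3 + T.a (v 0) (v 4) * x0 * x4 + T.a (v 0) (v 5) * x0 * x5 + T.a (v 0) (v 6) * x0 * x6 + T.a (v 0) (v 7) * x0 * x7 + T.a (v 0) (v 8) * x0 * x8 + T.a (v 1) (v 2) * x1 * x2 + T.a (v 1) (v 3) * x1 * x3 + T.a (v 1) (v 4) * x1 * x4 + T.a (v 1) (v 5) * x1 * x5 + T.a (v 1) (v 6) * x1 * x6 + T.a (v 1) (v 7) * x1 * x7 + T.a (v 1) (v 8) * x1 * x8 + T.a (v 2) (v 3) * x2 * x3 + T.a (v 2) (v 4) * x2 * x4 + T.a (v 2) (v 5) * x2 * x5 + T.a (v 2) (v 6) * x2 * x6 + T.a (v 2) (v 7) * x2 * x7 + T.a (v 2) (v 8) * x2 * x8 + T.a (v 3) (v 4) * x3 * x4 + T.a (v 3) (v 5) * x3 * x5 + T.a (v 3) (v 6) * x3 * x6 + T.a (v 3) (v 7) * x3 * x7 + T.a (v 3) (v 8) * x3 * x8 + T.a (v 4) (v 5) * x4 * x5 + T.a (v 4) (v 6) * x4 * x6 + T.a (v 4) (v 7) * x4 * x7 +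 T.a (v 4) (v 8) * x4 * x8 + T.a (v 5) (v 6) * x5 * x6 + T.a (v 5) (v 7) * x5 * x7 + T.a (v 5) (v 8) * x5 * x8 + T.a (v 6) (v 7) * x6 * x7 + T.a (v 6) (v 8) * x6 * x8 + T.a (v 7) (v 8) * x7 * x8) := by
  unfold Qv
  simp only [sum_univ_nine, Matrix.cons_val]
  rw [a_symm T (v 1) (v 0), a_symm T (v 2) (v 0), a_symm T (v 3) (v 0), a_symm T (v 4) (v 0), a_symm T (v 5) (v 0), a_symm T (v 6) (v 0), a_symm T (v 7) (v 0), a_symm T (v 8) (v 0), a_symm T (v 2) (v 1), a_symm T (v 3) (v 1), a_symm T (v 4) (v 1), a_symm T (v 5) (v 1), a_symm T (v 6) (v 1), a_symm T (v 7) (v 1), a_symm T (v 8) (v 1), a_symm T (v 3) (v 2), a_symm T (v 4) (v 2), a_symm T (v 5) (v 2), a_symm T (v 6) (v 2), a_symm T (v 7) (v 2), a_symm T (v 8) (v 2), a_symm T (v 4) (v 3), a_symm T (v 5) (v 3), a_symm T (v 6) (v 3), a_symm T (v 7) (v 3), a_symm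 T (v 8) (v 3), a_symm T (v 5) (v 4), a_symm T (v 6) (v 4), a_symm T (v 7) (v 4), a_symm T (v 8) (v 4), a_symm T (v 6) (v 5), a_symm T (v 7) (v 5), a_symm T (v 8) (v 5), a_symm T (v 7) (v 6), a_symm T (v 8) (v 6), a_symm T (v 8) (v 7)]
  ring

end Groth.Agent.Lib.Helper29.NumType
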