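import Groth.Agent.Lib.Helper29.OmegaLoc2
import Groth.Agent.Lib.Helper17.PullbackBC
import Groth.Prelude.Def_OmAff

set_option autoImplicit false
universe u
open CategoryTheory CategoryTheory.Limits AlgebraicGeometry TensorProduct Opposite

namespace Groth.Agent.Lib.Helper29.OmegaCan

open Groth.Agent.Lib.Helper29.OmegaLoc

variable {X S : Scheme.{u}} (f : X ⟶ S)
  {U : X.Opens} (hU : IsAffineOpen U) {V : S.Opens} (hV : IsAffineOpen V) (e : U ≤ f ⁻¹ᵁ V)

include hU hV e in
theorem isAffineOpen_diagNbhd : IsAffineOpen (OmegaSh.diagNbhd f U) := by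
  have H : IsPullback (pullback.fst f f) (pullback.snd f f) f f := IsPullback.of_hasPullback f f
  have : IsAffine V := hV
  have : IsAffine U := hU
  exact .of_isIso (Scheme.Hom.isPullback_resLE H e e rfl).isoPullback.hom

include hU hV in
theorem isPushout_diag :
    IsPushout (f.appLE V U e) (f.appLE V U e)
      ((pullback.fst f f).appLE U (OmegaSh.diagNbhd f U) inf_le_left)
      ((pullback.snd f f).appLE U (OmegaSh.diagNbhd f U) inf_le_right) := by
  have H : IsPullback (pullback.fst f f) (pullback.snd f f) f f := IsPullback.of_hasPullback f f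
  exact (isIso_pushoutSection_iff H e e rfl).1
    (isIso_pushoutSection_of_isAffineOpen H e e rfl hV hU hU)

/-- `B ⊗_A B ≅ Γ(X ×_S X, pr₁⁻¹U ∩ pr₂⁻¹U)`. -/
noncomputable def ψiso : letI := alg f e
    CommRingCat.of (Γ(X, U) ⊗[Γ(S, V)] Γ(X, U)) ≅ Γ(pullback f f, OmegaSh.diagNbhd f U) :=
  letI := alg f e
  (CommRingCat.isPushout_tensorProduct Γ(S, V) Γ(X, U) Γ(X, U)).isoIsPushout _ _
    (isPushout_diag f hU hV e)

theorem ψiso_inl : letI := alg f e
    CommRingCat.ofHom (Algebra.TensorProduct.includeLeftRingHom :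
      Γ(X, U) →+* Γ(X, U) ⊗[Γ(S, V)] Γ(X, U)) ≫ (ψiso f hU hV e).hom =
      (pullback.fst f f).appLE U (OmegaSh.diagNbhd f U) inf_le_left := by
  letI := alg f e
  exact IsPushout.inl_isoIsPushout_hom _ _
    (CommRingCat.isPushout_tensorProduct Γ(S, V) Γ(X, U) Γ(X, U)) (isPushout_diag f hU hV e)

theorem ψiso_inr : letI := alg f e
    CommRingCat.ofHom ((Algebra.TensorProduct.includeRight :
      Γ(X, U) →ₐ[Γ(S, V)] Γ(X, U) ⊗[Γ(S, V)] Γ(X, U)).toRingHom) ≫ (ψiso f hU hV e).hom =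
      (pullback.snd f f).appLE U (OmegaSh.diagNbhd f U) inf_le_right := by
  letI := alg f e
  exact IsPushout.inr_isoIsPushout_hom _ _
    (CommRingCat.isPushout_tensorProduct Γ(S, V) Γ(X, U) Γ(X, U)) (isPushout_diag f hU hV e)

theorem ψiso_diag : letI := alg f e
    (ψiso f hU hV e).hom ≫ (pullback.diagonal f).appLE (OmegaSh.diagNbhd f U) U
        (OmegaSh.le_preimage_diagNbhd f U) =
      CommRingCat.ofHom (Algebra.TensorProduct.lmul' Γ(S, V) :
        Γ(X, U) ⊗[Γ(S, V)] Γ(X, U) →ₐ[Γ(S, V)] Γ(X, U)).toRingHom := by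
  letI := alg f e
  refine (CommRingCat.isPushout_tensorProduct Γ(S, V) Γ(X, U) Γ(X, U)).hom_ext ?_ ?_
  · rw [← Category.assoc, ψiso_inl, Scheme.Hom.appLE_comp_appLE,
      OmegaSh.id_appLE_eq_id (pullback.diagonal_fst f)]
    ext b
    simp
  · rw [← Category.assoc, ψiso_inr, Scheme.Hom.appLE_comp_appLE,
      OmegaSh.id_appLE_eq_id (pullback.diagonal_snd f)]
    ext b
    simp

theorem preimage_diagNbhd (U : X.Opens) :
    pullback.diagonal f ⁻¹ᵁ (OmegaSh.diagNbhd f U) = U :=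
  le_antisymm (OmegaSh.diagonal_preimage_le f le_rfl) (OmegaSh.le_preimage_diagNbhd f U)

/-- the ring iso `B ⊗_A B ≃+* Γ(X ×_S X, D)`. -/
noncomputable def ψ : letI := alg f e
    Γ(X, U) ⊗[Γ(S, V)] Γ(X, U) ≃+* Γ(pullback f f, OmegaSh.diagNbhd f U) :=
  letI := alg f e
  (ψiso f hU hV e).commRingCatIsoToRingEquiv

theorem ψ_inl (b : Γ(X, U)) : letI := alg f e
    ψ f hU hV e (b ⊗ₜ[Γ(S, V)] 1) =
      (pullback.fst f f).appLE U (OmegaSh.diagNbhd f U) inf_le_left b := by
  letI := alg f e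
  exact congr($(ψiso_inl f hU hV e) b)

theorem ψ_inr (b : Γ(X, U)) : letI := alg f e
    ψ f hU hV e (1 ⊗ₜ[Γ(S, V)] b) =
      (pullback.snd f f).appLE U (OmegaSh.diagNbhd f U) inf_le_right b := by
  letI := alg f e
  exact congr($(ψiso_inr f hU hV e) b)

theorem ψ_compat : letI := alg f e
    ∀ z : Γ(X, U) ⊗[Γ(S, V)] Γ(X, U),
      ((pullback.diagonal f).appLE (OmegaSh.diagNbhd f U) U
        (OmegaSh.le_preimage_diagNbhd f U)).hom (ψ f hU hV e z) =
        Algebra.TensorProduct.lmul' Γ(S, V) z := by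
  letI := alg f e
  intro z
  exact congr($(ψiso_diag f hU hV e) z)

theorem ψ_symm_diagDiff (s : Γ(X, U)) : letI := alg f e
    (ψ f hU hV e).symm (OmegaSh.diagDiff f U s) =
      (1 : Γ(X, U)) ⊗ₜ[Γ(S, V)] s - s ⊗ₜ[Γ(S, V)] (1 : Γ(X, U)) := by
  letI := alg f e
  rw [RingEquiv.symm_apply_eq, map_sub, ψ_inl, ψ_inr]
  rfl

variable [QuasiSeparated f]

include hU hV e in
theorem ker_ideal_diag :
    (pullback.diagonal f).ker.ideal ⟨OmegaSh.diagNbhd f U, isAffineOpen_diagNbhd f hU hV e⟩ =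
      RingHom.ker ((pullback.diagonal f).appLE (OmegaSh.diagNbhd f U) U
        (OmegaSh.le_preimage_diagNbhd f U)).hom := by
  rw [Scheme.Hom.ker_apply]
  ext z
  rw [RingHom.mem_ker, RingHom.mem_ker, Scheme.Hom.appLE, CommRingCat.hom_comp, RingHom.comp_apply]
  constructor
  · intro h
    rw [h, map_zero]
  · intro h
    have hinj : Function.Injective
        (X.presheaf.map (homOfLE (OmegaSh.le_preimage_diagNbhd f U)).op).hom := by
      have : IsIso (X.presheaf.map (homOfLE (OmegaSh.le_preimage_diagNbhd f U)).op) := by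
        have h2 : (homOfLE (OmegaSh.le_preimage_diagNbhd f U)).op = eqToHom
            (congrArg op (preimage_diagNbhd f U)) := Subsingleton.elim _ _
        rw [h2]
        infer_instance
      exact ((ConcreteCategory.isIso_iff_bijective _).1 this).1
    exact hinj (h.trans (map_zero _).symm)


include hU hV in
open Groth.Agent.Lib.Helper17.ModPullback Groth.Agent.Lib.Helper17.CohKer
  Groth.Agent.Lib.Helper17.Serre Groth.Agent.Lib.Helper17.PullbackBC
  Groth.Agent.Lib.Helper28.PullbackInv Groth.Agent.Lib.Helper28.QCohLoc in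
/-- **Canonical sections of `Ω_{X/S}` over an affine pair**: an additive `Γ(X,U)`-linear
equivalence with `Ω[Γ(X,U)⁄Γ(S,V)]` sending `d_{X/S} s` to `D s`. -/
theorem exists_sections_equiv_can : letI := alg f e
    ∃ Φ : Γ(Omega.sheaf f, U) ≃+ Ω[Γ(X, U)⁄Γ(S, V)],
      (∀ (b : Γ(X, U)) (x : Γ(Omega.sheaf f, U)), Φ (b • x) = b • Φ x) ∧
      ∀ s : Γ(X, U), Φ (OmegaSh.dSect f U s) = KaehlerDifferential.D Γ(S, V) Γ(X, U) s := by
  letI := alg f e
  let Δ := pullback.diagonal f
  let D := OmegaSh.diagNbhd f U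
  have hD : IsAffineOpen D := isAffineOpen_diagNbhd f hU hV e
  have hle : U ≤ Δ ⁻¹ᵁ D := OmegaSh.le_preimage_diagNbhd f U
  let M := ClSub.idealMod Δ.ker
  obtain ⟨eq, heq⟩ := (isBC_iff _ _).1 (isBC_pullback Δ hD hU hle M)
  letI : Algebra Γ(pullback f f, D) Γ(X, U) := (Δ.appLE D U hle).hom.toAlgebra
  have hker : ∀ y : Γ(pullback f f, D), (ClSub.toSubscheme Δ.ker).app D y = 0 ↔
      y ∈ Δ.ker.ideal ⟨D, hD⟩ := by
    intro y
    rw [toSubscheme_app]
    have h1 : Δ.ker.subschemeι.ker.ideal ⟨D, hD⟩ = Δ.ker.ideal ⟨D, hD⟩ := by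
      rw [Scheme.IdealSheafData.ker_subschemeι]
    rw [← h1, Scheme.Hom.ker_apply, RingHom.mem_ker]
    rfl
  let ι' : Γ(M, D) →ₗ[Γ(pullback f f, D)] Γ(pullback f f, D) :=
    { toFun := fun n => (ClSub.idealModι Δ.ker).app D n
      map_add' := fun a b => map_add _ a b
      map_smul' := fun r n => by
        have h1 : (ClSub.idealModι Δ.ker).app D (r • n) = r • (ClSub.idealModι Δ.ker).app D n :=
          Scheme.Modules.Hom.app_smul _ r n
        exact h1.trans (structureModule_smul D r _) }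
  have hinj : Function.Injective ι' := OmegaSh.idealModι_app_injective D Δ.ker
  have hcompat : ∀ z, algebraMap Γ(pullback f f, D) Γ(X, U) (ψ f hU hV e z) =
      (RingEquiv.refl Γ(X, U)) (Algebra.TensorProduct.lmul' Γ(S, V) z) := ψ_compat f hU hV e
  have hrange : ∀ c, (∃ n, ι' n = c) ↔ algebraMap Γ(pullback f f, D) Γ(X, U) c = 0 := by
    intro c
    have hc : c ∈ Δ.ker.ideal ⟨D, hD⟩ ↔ algebraMap Γ(pullback f f, D) Γ(X, U) c = 0 := by
      rw [ker_ideal_diag f hU hV e, RingHom.mem_ker]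
      rfl
    constructor
    · rintro ⟨n, rfl⟩
      refine hc.1 ((hker _).1 ?_)
      exact app_kernel_ι_app (ClSub.toSubscheme Δ.ker) D n
    · intro h
      exact exists_kernel_app_eq (ClSub.toSubscheme Δ.ker) D c ((hker c).2 (hc.2 h))
  let F := Groth.Agent.Lib.Helper15.OmegaAlg.F (RingEquiv.refl Γ(X, U)) (ψ f hU hV e) hcompat ι' hrange
  have hFbij : Function.Bijective F :=
    ⟨Groth.Agent.Lib.Helper15.OmegaAlg.F_injective _ _ hcompat ι' hinj hrange,
      Groth.Agent.Lib.Helper15.OmegaAlg.F_surjective _ _ hcompat ι' hrange⟩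
  have hFsmul : ∀ (b : Γ(X, U)) (x : Γ(X, U) ⊗[Γ(pullback f f, D)] Γ(M, D)),
      F (b • x) = b • F x := by
    intro b x
    induction x with
    | zero => simp
    | tmul b' n =>
      rw [TensorProduct.smul_tmul']
      change F ((b • b') ⊗ₜ[Γ(pullback f f, D)] n) = b • F (b' ⊗ₜ[Γ(pullback f f, D)] n)
      rw [Groth.Agent.Lib.Helper15.OmegaAlg.F_tmul, Groth.Agent.Lib.Helper15.OmegaAlg.F_tmul,
        smul_eq_mul, map_mul, mul_smul]
      rfl
    | add x y hx hy => rw [smul_add, map_add, hx, hy, map_add, smul_add]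
  refine ⟨eq.toAddEquiv.trans (AddEquiv.ofBijective F hFbij), ?_, ?_⟩
  · intro b x
    change F (eq (b • (show Γ((Scheme.Modules.pullback Δ).obj M, U) from x))) = b • F (eq x)
    rw [map_smul, hFsmul]
  · intro s
    change F (eq (OmegaSh.dSect f U s)) = _
    have h1 : OmegaSh.dSect f U s =
        res ((Scheme.Modules.pullback Δ).obj M) hle (pbs Δ M D (OmegaSh.idealLift f U s)) := rfl
    rw [h1, heq]
    change (RingEquiv.refl Γ(X, U)).symm 1 • Groth.Agent.Lib.Helper15.OmegaAlg.D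
      (RingEquiv.refl Γ(X, U)) (ψ f hU hV e) hcompat ι' hrange (OmegaSh.idealLift f U s) = _
    rw [map_one, one_smul, Groth.Agent.Lib.Helper15.OmegaAlg.D_apply, KaehlerDifferential.D_apply]
    congr 1
    ext
    change (ψ f hU hV e).symm ((ClSub.idealModι Δ.ker).app D (OmegaSh.idealLift f U s)) = _
    rw [OmegaSh.ι_idealLift]
    exact ψ_symm_diagDiff f hU hV e s

end Groth.Agent.Lib.Helper29.OmegaCan
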