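import Mathlib
import Groth.Agent.S1488
import Groth.Agent.Lib.Helper29.OmegaSplit

set_option autoImplicit false
universe u
open CategoryTheory CategoryTheory.Limits AlgebraicGeometry TopologicalSpace Opposite TensorProduct
open OmegaSh

namespace Groth.Agent.Lib.Helper29.OmegaFSmooth

open Groth.Agent.Lib.Helper28.QCohLoc Groth.Agent.Lib.Helper29.ConormalMap
  Groth.Agent.Lib.Helper29.ConormalBC Groth.Agent.Lib.Helper29.ConormalChart
  Groth.Agent.Lib.Helper29.OmegaChart Groth.Agent.Lib.Helper28.PullbackInv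
  Groth.Agent.Lib.Helper29.OmegaLoc

/-- second fundamental sequence is left exact when the quotient is formally smooth over the base. -/
theorem mem_sq_of_D_mem_of_formallySmooth {A B C : Type u} [CommRing A] [CommRing B] [CommRing C]
    [Algebra A B] (π : B →+* C) (hπ : Function.Surjective π)
    (hfs : (π.comp (algebraMap A B)).FormallySmooth)
    (b : B) (hb : b ∈ RingHom.ker π)
    (h : KaehlerDifferential.D A B b ∈ RingHom.ker π • (⊤ : Submodule B Ω[B⁄A])) :
    b ∈ RingHom.ker π * RingHom.ker π := by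
  letI : Algebra B C := π.toAlgebra
  letI : Algebra A C := (π.comp (algebraMap A B)).toAlgebra
  haveI : IsScalarTower A B C := IsScalarTower.of_algebraMap_eq (fun _ => rfl)
  haveI : Algebra.FormallySmooth A C := hfs
  have hf : Function.Surjective (algebraMap B C) := hπ
  let q := (IsScalarTower.toAlgHom A B C).kerSquareLift
  have hq : Function.Surjective q := by
    intro c
    obtain ⟨x, hx⟩ := hf c
    refine ⟨Ideal.Quotient.mk _ x, ?_⟩
    exact (AlgHom.kerSquareLift_mk (IsScalarTower.toAlgHom A B C) x).trans hx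
  have hnil : IsNilpotent (RingHom.ker q.toRingHom) := by
    refine ⟨2, ?_⟩
    have h1 : RingHom.ker q.toRingHom =
        (RingHom.ker (IsScalarTower.toAlgHom A B C).toRingHom).cotangentIdeal :=
      AlgHom.ker_kerSquareLift _
    change RingHom.ker q.toRingHom ^ 2 = ⊥
    rw [h1, Ideal.cotangentIdeal_square]
  let g' := Algebra.FormallySmooth.liftOfSurjective (AlgHom.id A C) q hq hnil
  have hg' : q.comp g' = AlgHom.id A C := by
    ext c
    exact Algebra.FormallySmooth.liftOfSurjective_apply (AlgHom.id A C) q hq hnil c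
  obtain ⟨l, hl⟩ := (retractionKerCotangentToTensorEquivSection (R := A) hf).symm ⟨g', hg'⟩
  have h1 : (1 : C) ⊗ₜ[B] KaehlerDifferential.D A B b = 0 := (one_tmul_eq_zero_iff hf _).2 h
  have h2 := LinearMap.congr_fun hl (Ideal.toCotangent _ ⟨b, hb⟩)
  rw [LinearMap.comp_apply, KaehlerDifferential.kerCotangentToTensor_toCotangent] at h2
  change l ((1 : C) ⊗ₜ[B] KaehlerDifferential.D A B b) = _ at h2
  rw [h1, map_zero] at h2
  have h3 := (Ideal.toCotangent_eq_zero _ _).1 h2.symm
  rwa [pow_two] at h3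

theorem mono_of_formallySmooth_comp {X' X Y : Scheme.{u}} (j : X' ⟶ X)
    [IsImmersion j] [QuasiCompact j] (f : X ⟶ Y) (hf : MoreMor.IsFormallySmoothHom (j ≫ f))
    (Ω' : X.Modules) (d : OmegaSh.Der f Ω') (hd : OmegaSh.IsUniversal d)
    (φ : Omega.conormal j ⟶ (Scheme.Modules.pullback j).obj Ω') (hφ : OmegaSh.IsConormalDiff j d φ) :
    Mono φ := by
  refine mono_of_injective φ (fun U => ?_)
  rw [injective_iff_map_eq_zero]
  intro x hx
  have hloc : ∀ pt : U, ∃ V : X'.Opens, ∃ hV : V ≤ U, pt.1 ∈ V ∧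
      res (Omega.conormal j) hV x = 0 := by
    rintro ⟨pt, hpt⟩
    obtain ⟨VS, W, hVS, hW, e, hcW, hptW, hWU⟩ := exists_chart_imm f j U pt hpt
    obtain ⟨hUa, hsurj⟩ := affine_surjective_of_le_coborder j hW hcW
    refine ⟨j ⁻¹ᵁ W, hWU, hptW, ?_⟩
    obtain ⟨s, hs⟩ := conormalSect_surjective j hW hcW (res (Omega.conormal j) hWU x)
    rw [← hs, conormalSect_eq_zero_iff j hW hcW]
    have h1 : φ.app (j ⁻¹ᵁ W) (OmegaSh.conormalSect j W s) = 0 := by
      rw [hs, app_res, hx, res_zero]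
    rw [hφ] at h1
    have h2 := D_mem_of_pullSect_eq_zero f d hd j hW hVS e hUa hsurj _ h1
    letI := alg f e
    have hb : OmegaSh.idealSect j.ker W s ∈ RingHom.ker (j.app W).hom := by
      rw [RingHom.mem_ker]
      exact app_eq_zero_of_subschemeι j W _ (subschemeι_app_idealSect j.ker W s)
    have e' : j ⁻¹ᵁ W ≤ (j ≫ f) ⁻¹ᵁ VS := j.preimage_mono e
    have hfs0 : ((j ≫ f).appLE VS (j ⁻¹ᵁ W) e').hom.FormallySmooth :=
      Groth.Agent.S1488.W1.formallySmooth_of_lifting hf (j ⁻¹ᵁ W) VS hUa hVS e'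
    have hfs : ((j.app W).hom.comp (algebraMap Γ(Y, VS) Γ(X, W))).FormallySmooth := by
      have h3 : (j.app W).hom.comp (algebraMap Γ(Y, VS) Γ(X, W)) =
          ((j ≫ f).appLE VS (j ⁻¹ᵁ W) e').hom := by
        rw [← Scheme.Hom.appLE_comp_appLE j f VS W (j ⁻¹ᵁ W) e le_rfl, Scheme.Hom.app_eq_appLE]
        rfl
      rw [h3]
      exact hfs0
    have h5 := mem_sq_of_D_mem_of_formallySmooth (j.app W).hom hsurj hfs _ hb h2
    rw [Scheme.Hom.ker_apply]
    exact h5
  choose V hV hpt hres using hloc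
  refine eq_of_locally_eq _ V U hV ?_ x 0 ?_
  · intro q hq
    exact TopologicalSpace.Opens.mem_iSup.mpr ⟨⟨q, hq⟩, hpt ⟨q, hq⟩⟩
  · intro pt
    rw [hres pt, res_zero]

end Groth.Agent.Lib.Helper29.OmegaFSmooth
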