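import Mathlib
import Groth.Agent.Lib.Helper29.OmegaChart
import Groth.Agent.Lib.helper19.RestrUniv2

set_option autoImplicit false
universe u
open CategoryTheory CategoryTheory.Limits AlgebraicGeometry TensorProduct Opposite

namespace Groth.Agent.Lib.Helper29.OmegaFund

open Groth.Agent.Lib.Helper28.QCohLoc Groth.Agent.Lib.Helper29.ConormalMap
  Groth.Agent.Lib.Helper29.ConormalAlg Groth.Agent.Lib.Helper17.PullbackBC
  Groth.Agent.Lib.Helper28.PullbackInv Groth.Agent.Lib.Helper29.ConormalBC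
  Groth.Agent.Lib.Helper29.ConormalChart Groth.Agent.Lib.Helper29.OmegaLoc
  Groth.Agent.Lib.Helper29.OmegaChart

section Alg

variable {R A B : Type u} [CommRing R] [CommRing A] [CommRing B] [Algebra R A] [Algebra R B]
  [Algebra A B] [IsScalarTower R A B]

theorem mem_span_of_map_eq_zero (ω : Ω[B⁄R]) (h : KaehlerDifferential.map R A B B ω = 0) :
    ω ∈ Submodule.span B (Set.range (fun a : A => KaehlerDifferential.D R B (algebraMap A B a))) := by
  have h1 : ω ∈ LinearMap.range (KaehlerDifferential.mapBaseChange R A B) := by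
    rw [KaehlerDifferential.range_mapBaseChange]
    exact h
  obtain ⟨z, rfl⟩ := h1
  clear h
  induction z using TensorProduct.induction_on with
  | zero => rw [map_zero]; exact zero_mem _
  | add x y hx hy => rw [map_add]; exact add_mem hx hy
  | tmul b η =>
    rw [KaehlerDifferential.mapBaseChange_tmul]
    refine Submodule.smul_mem _ _ ?_
    have hη : η ∈ Submodule.span A (Set.range (KaehlerDifferential.D R A)) := by
      rw [KaehlerDifferential.span_range_derivation]; trivial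
    refine Submodule.span_induction ?_ ?_ ?_ ?_ hη
    · rintro _ ⟨a, rfl⟩
      rw [KaehlerDifferential.map_D]
      exact Submodule.subset_span ⟨a, rfl⟩
    · rw [map_zero]; exact zero_mem _
    · intro x y _ _ hx hy
      rw [map_add]; exact add_mem hx hy
    · intro a x _ hx
      rw [LinearMap.map_smul, ← algebraMap_smul B a]
      exact Submodule.smul_mem _ _ hx

end Alg

section Fund1

variable {X Y Z : Scheme.{u}} (f : X ⟶ Y) (g : Y ⟶ Z)
  {ΩX : X.Modules} (dX : OmegaSh.Der (f ≫ g) ΩX) (hX : OmegaSh.IsUniversal dX)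
  {ΩXY : X.Modules} (dXY : OmegaSh.Der f ΩXY) (hXY : OmegaSh.IsUniversal dXY)
  (c₂ : ΩX ⟶ ΩXY) (hc₂ : ∀ (U : X.Opens) (s : Γ(X, U)), c₂.app U (dX.app U s) = dXY.app U s)
  {VZ : Z.Opens} {VY : Y.Opens} {U : X.Opens} (hVZ : IsAffineOpen VZ) (hVY : IsAffineOpen VY)
  (hU : IsAffineOpen U) (eY : VY ≤ g ⁻¹ᵁ VZ) (eX : U ≤ f ⁻¹ᵁ VY)

include hX hXY hc₂ hVZ hVY hU eY in
theorem mem_span_of_c₂_eq_zero (y : Γ(ΩX, U)) (h : c₂.app U y = 0) :
    y ∈ Submodule.span Γ(X, U) (Set.range (fun a : Γ(Y, VY) => dX.app U (f.appLE VY U eX a))) := by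
  have eXZ : U ≤ (f ≫ g) ⁻¹ᵁ VZ := eX.trans (f.preimage_mono eY)
  letI algRA : Algebra Γ(Z, VZ) Γ(Y, VY) := alg g eY
  letI algRB : Algebra Γ(Z, VZ) Γ(X, U) := alg (f ≫ g) eXZ
  letI algAB : Algebra Γ(Y, VY) Γ(X, U) := alg f eX
  haveI : IsScalarTower Γ(Z, VZ) Γ(Y, VY) Γ(X, U) := IsScalarTower.of_algebraMap_eq' (by
    change ((f ≫ g).appLE VZ U eXZ).hom = (f.appLE VY U eX).hom.comp (g.appLE VZ VY eY).hom
    rw [← CommRingCat.hom_comp, Scheme.Hom.appLE_comp_appLE])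
  obtain ⟨ΦX, hΦX₁, hΦX₂⟩ :=
    Groth.Agent.Lib.Helper19.RestrUniv.exists_sections_equiv (f ≫ g) dX hX hU hVZ eXZ
  obtain ⟨ΦXY, hΦXY₁, hΦXY₂⟩ :=
    Groth.Agent.Lib.Helper19.RestrUniv.exists_sections_equiv f dXY hXY hU hVY eX
  have compat : ∀ y' : Γ(ΩX, U), ΦXY (c₂.app U y') =
      KaehlerDifferential.map Γ(Z, VZ) Γ(Y, VY) Γ(X, U) Γ(X, U) (ΦX y') := by
    intro y'
    have hspan := span_d (f ≫ g) dX hX hU hVZ eXZ y'
    refine Submodule.span_induction ?_ ?_ ?_ ?_ hspan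
    · rintro _ ⟨b, rfl⟩
      rw [hc₂, hΦXY₂, hΦX₂, KaehlerDifferential.map_D]
      rfl
    · simp only [map_zero]
    · intro a b _ _ ha hb
      simp only [map_add, ha, hb]
    · intro b a _ ha
      have h3 : c₂.app U (b • a) = b • c₂.app U a := Scheme.Modules.Hom.app_smul _ _ _
      rw [h3, hΦXY₁, ha, hΦX₁, LinearMap.map_smul]
  have h1 : KaehlerDifferential.map Γ(Z, VZ) Γ(Y, VY) Γ(X, U) Γ(X, U) (ΦX y) = 0 := by
    rw [← compat, h, map_zero]
  have h2 := mem_span_of_map_eq_zero (ΦX y) h1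
  have key : ∀ z ∈ Submodule.span Γ(X, U) (Set.range (fun a : Γ(Y, VY) =>
      KaehlerDifferential.D Γ(Z, VZ) Γ(X, U) (algebraMap Γ(Y, VY) Γ(X, U) a))),
      ΦX.symm z ∈ Submodule.span Γ(X, U)
        (Set.range (fun a : Γ(Y, VY) => dX.app U (f.appLE VY U eX a))) := by
    intro z hz
    refine Submodule.span_induction ?_ ?_ ?_ ?_ hz
    · rintro _ ⟨a, rfl⟩
      change ΦX.symm (KaehlerDifferential.D Γ(Z, VZ) Γ(X, U) (algebraMap Γ(Y, VY) Γ(X, U) a)) ∈ _
      rw [← hΦX₂, AddEquiv.symm_apply_apply]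
      exact Submodule.subset_span ⟨a, rfl⟩
    · rw [map_zero]; exact zero_mem _
    · intro a b _ _ ha hb
      rw [map_add]; exact add_mem ha hb
    · intro b a _ ha
      have : ΦX.symm (b • a) = b • ΦX.symm a := by
        apply ΦX.injective
        rw [hΦX₁, AddEquiv.apply_symm_apply, AddEquiv.apply_symm_apply]
      rw [this]
      exact Submodule.smul_mem _ _ ha
  have := key _ h2
  rwa [AddEquiv.symm_apply_apply] at this

end Fund1

section Chart3

variable {X Y Z : Scheme.{u}} (f : X ⟶ Y) (g : Y ⟶ Z)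

theorem exists_chart3 (O : X.Opens) (pt : X) (hpt : pt ∈ O) :
    ∃ (VZ : Z.Opens) (VY : Y.Opens) (U : X.Opens), IsAffineOpen VZ ∧ IsAffineOpen VY ∧ IsAffineOpen U ∧
      VY ≤ g ⁻¹ᵁ VZ ∧ U ≤ f ⁻¹ᵁ VY ∧ pt ∈ U ∧ U ≤ O := by
  obtain ⟨VZ, hVZ, hptVZ, -⟩ := TopologicalSpace.Opens.isBasis_iff_nbhd.mp Z.isBasis_affineOpens
    (show g (f pt) ∈ (⊤ : Z.Opens) from trivial)
  obtain ⟨VY, hVY, hptVY, hVYle⟩ := TopologicalSpace.Opens.isBasis_iff_nbhd.mp Y.isBasis_affineOpens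
    (show f pt ∈ g ⁻¹ᵁ VZ from hptVZ)
  obtain ⟨U, hU, hptU, hUle⟩ := TopologicalSpace.Opens.isBasis_iff_nbhd.mp X.isBasis_affineOpens
    (show pt ∈ f ⁻¹ᵁ VY ⊓ O from ⟨hptVY, hpt⟩)
  exact ⟨VZ, VY, U, hVZ, hVY, hU, hVYle, hUle.trans inf_le_left, hptU, hUle.trans inf_le_right⟩

end Chart3

end Groth.Agent.Lib.Helper29.OmegaFund
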