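import Groth.Agent.S2157

set_option autoImplicit false
universe u
open CategoryTheory CategoryTheory.Limits AlgebraicGeometry TensorProduct Opposite

namespace Groth.Agent.Lib.Helper29.OmegaLoc

variable {X S : Scheme.{u}} (f : X ⟶ S)
  {U : X.Opens} (hU : IsAffineOpen U) {V : S.Opens} (hV : IsAffineOpen V) (e : U ≤ f ⁻¹ᵁ V)

/-- the algebra structure `Γ(S,V) → Γ(X,U)`. -/
@[reducible] noncomputable def alg : Algebra Γ(S, V) Γ(X, U) := (f.appLE V U e).hom.toAlgebra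

include hU hV in
theorem sq : Spec.map (CommRingCat.ofHom (@algebraMap Γ(S, V) Γ(X, U) _ _ (alg f e))) ≫ hV.fromSpec =
    hU.fromSpec ≫ f :=
  IsAffineOpen.SpecMap_appLE_fromSpec f hV hU e

/-- the chart of `X ×_S X`. -/
noncomputable def chart :
    letI := alg f e
    Spec (.of (Γ(X, U) ⊗[Γ(S, V)] Γ(X, U))) ⟶ pullback f f :=
  letI := alg f e
  (pullbackSpecIso Γ(S, V) Γ(X, U) Γ(X, U)).inv ≫
    pullback.map _ _ f f hU.fromSpec hU.fromSpec hV.fromSpec (sq f hU hV e) (sq f hU hV e)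

instance : letI := alg f e; IsOpenImmersion (chart f hU hV e) := by
  letI := alg f e
  unfold chart
  infer_instance

theorem chart_fst : letI := alg f e
    chart f hU hV e ≫ pullback.fst f f =
      Spec.map (CommRingCat.ofHom (Algebra.TensorProduct.includeLeftRingHom :
        Γ(X, U) →+* Γ(X, U) ⊗[Γ(S, V)] Γ(X, U))) ≫ hU.fromSpec := by
  letI := alg f e
  unfold chart
  rw [Category.assoc, pullback.lift_fst, ← Category.assoc, pullbackSpecIso_inv_fst]

theorem chart_snd : letI := alg f e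
    chart f hU hV e ≫ pullback.snd f f =
      Spec.map (CommRingCat.ofHom ((Algebra.TensorProduct.includeRight :
        Γ(X, U) →ₐ[Γ(S, V)] Γ(X, U) ⊗[Γ(S, V)] Γ(X, U)).toRingHom)) ≫ hU.fromSpec := by
  letI := alg f e
  unfold chart
  rw [Category.assoc, pullback.lift_snd, ← Category.assoc, pullbackSpecIso_inv_snd]
  rfl

theorem diag_sq : letI := alg f e
    hU.fromSpec ≫ pullback.diagonal f =
      Spec.map (CommRingCat.ofHom (Algebra.TensorProduct.lmul' Γ(S, V) :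
        Γ(X, U) ⊗[Γ(S, V)] Γ(X, U) →ₐ[Γ(S, V)] Γ(X, U)).toRingHom) ≫ chart f hU hV e := by
  letI := alg f e
  apply pullback.hom_ext
  · rw [Category.assoc, pullback.diagonal_fst, Category.comp_id, Category.assoc, chart_fst,
      ← Category.assoc, ← Spec.map_comp, ← CommRingCat.ofHom_comp]
    have : (Algebra.TensorProduct.lmul' Γ(S, V) :
        Γ(X, U) ⊗[Γ(S, V)] Γ(X, U) →ₐ[Γ(S, V)] Γ(X, U)).toRingHom.comp
        Algebra.TensorProduct.includeLeftRingHom = RingHom.id _ := by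
      ext b; simp
    rw [this]
    exact ((Category.id_comp _).symm.trans
      (congrArg (· ≫ hU.fromSpec) (Spec.map_id _).symm) :)
  · rw [Category.assoc, pullback.diagonal_snd, Category.comp_id, Category.assoc, chart_snd,
      ← Category.assoc, ← Spec.map_comp, ← CommRingCat.ofHom_comp]
    have : (Algebra.TensorProduct.lmul' Γ(S, V) :
        Γ(X, U) ⊗[Γ(S, V)] Γ(X, U) →ₐ[Γ(S, V)] Γ(X, U)).toRingHom.comp
        (Algebra.TensorProduct.includeRight :
        Γ(X, U) →ₐ[Γ(S, V)] Γ(X, U) ⊗[Γ(S, V)] Γ(X, U)).toRingHom = RingHom.id _ := by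
      ext b; simp
    rw [this]
    exact ((Category.id_comp _).symm.trans
      (congrArg (· ≫ hU.fromSpec) (Spec.map_id _).symm) :)

/-- the affine open `U ×_V U` of `X ×_S X`. -/
@[reducible] noncomputable def W : (pullback f f).Opens :=
  letI := alg f e
  (chart f hU hV e) ''ᵁ ⊤

theorem isAffineOpen_W : IsAffineOpen (W f hU hV e) := by
  letI := alg f e
  exact (isAffineOpen_top _).image_of_isOpenImmersion (chart f hU hV e)

theorem coe_W : (W f hU hV e : Set (pullback f f : Scheme.{u})) =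
    pullback.fst f f ⁻¹' (U : Set X) ∩ pullback.snd f f ⁻¹' (U : Set X) := by
  letI := alg f e
  unfold W
  rw [Scheme.Hom.image_top_eq_opensRange, Scheme.Hom.coe_opensRange]
  unfold chart
  rw [Scheme.Hom.comp_base, TopCat.coe_comp, Set.range_comp,
    Set.range_eq_univ.2 (pullbackSpecIso Γ(S, V) Γ(X, U) Γ(X, U)).inv.surjective, Set.image_univ,
    Scheme.Pullback.range_map, hU.range_fromSpec]

theorem preimage_W : (pullback.diagonal f) ⁻¹ᵁ (W f hU hV e) = U := by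
  ext x
  change (pullback.diagonal f) x ∈ (W f hU hV e : Set (pullback f f : Scheme.{u})) ↔ x ∈ U
  rw [coe_W]
  simp only [Set.mem_inter_iff, Set.mem_preimage, ← Scheme.Hom.comp_apply,
    pullback.diagonal_fst, pullback.diagonal_snd]
  simp

theorem le_preimage_W : U ≤ (pullback.diagonal f) ⁻¹ᵁ (W f hU hV e) := (preimage_W f hU hV e).ge

/-- `Γ(X ×_S X, W) = B ⊗_A B`. -/
noncomputable def ψ : letI := alg f e
    Γ(X, U) ⊗[Γ(S, V)] Γ(X, U) ≃+* Γ(pullback f f, W f hU hV e) :=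
  letI := alg f e
  ((Scheme.ΓSpecIso (.of (Γ(X, U) ⊗[Γ(S, V)] Γ(X, U)))).symm ≪≫
    ((chart f hU hV e).appIso ⊤).symm).commRingCatIsoToRingEquiv

theorem appLE_eq : letI := alg f e
    (pullback.diagonal f).appLE (W f hU hV e) U (le_preimage_W f hU hV e) =
      ((chart f hU hV e).appIso ⊤).hom ≫
        (Scheme.ΓSpecIso (.of (Γ(X, U) ⊗[Γ(S, V)] Γ(X, U)))).hom ≫
        CommRingCat.ofHom (Algebra.TensorProduct.lmul' Γ(S, V) :
          Γ(X, U) ⊗[Γ(S, V)] Γ(X, U) →ₐ[Γ(S, V)] Γ(X, U)).toRingHom := by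
  letI := alg f e
  have h1 := diag_sq f hU hV e
  have hle : (⊤ : (Spec Γ(X, U)).Opens) ≤ hU.fromSpec ⁻¹ᵁ U := by
    rw [hU.fromSpec_preimage_self]
  have h2 : (pullback.diagonal f).appLE (W f hU hV e) U (le_preimage_W f hU hV e) ≫
      hU.fromSpec.appLE U ⊤ hle =
      (hU.fromSpec ≫ pullback.diagonal f).appLE (W f hU hV e) ⊤ (by
        intro x _
        exact le_preimage_W f hU hV e (hle trivial)) :=
    Scheme.Hom.appLE_comp_appLE _ _ _ _ _ _ _
  have h3 : ∀ (g g' : Spec Γ(X, U) ⟶ pullback f f) (hg : g = g') (h : ⊤ ≤ g ⁻¹ᵁ (W f hU hV e))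
      (h' : ⊤ ≤ g' ⁻¹ᵁ (W f hU hV e)), g.appLE (W f hU hV e) ⊤ h = g'.appLE (W f hU hV e) ⊤ h' := by
    rintro g _ rfl h h'
    rfl
  have hle2 : (⊤ : (Spec (.of (Γ(X, U) ⊗[Γ(S, V)] Γ(X, U)))).Opens) ≤
      (chart f hU hV e) ⁻¹ᵁ (W f hU hV e) := by
    intro x _
    exact ⟨x, trivial, rfl⟩
  have h4 : (chart f hU hV e).appLE (W f hU hV e) ⊤ hle2 ≫
      (Spec.map (CommRingCat.ofHom (Algebra.TensorProduct.lmul' Γ(S, V) :
        Γ(X, U) ⊗[Γ(S, V)] Γ(X, U) →ₐ[Γ(S, V)] Γ(X, U)).toRingHom)).appLE ⊤ ⊤ le_top =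
      (Spec.map (CommRingCat.ofHom (Algebra.TensorProduct.lmul' Γ(S, V) :
        Γ(X, U) ⊗[Γ(S, V)] Γ(X, U) →ₐ[Γ(S, V)] Γ(X, U)).toRingHom) ≫
        chart f hU hV e).appLE (W f hU hV e) ⊤ (by
          intro x _
          exact hle2 trivial) :=
    Scheme.Hom.appLE_comp_appLE _ _ _ _ _ _ _
  have h5 : (chart f hU hV e).appLE (W f hU hV e) ⊤ hle2 = ((chart f hU hV e).appIso ⊤).hom :=
    ((chart f hU hV e).appIso_hom' ⊤).symm
  have h6 : hU.fromSpec.appLE U ⊤ hle = (Scheme.ΓSpecIso Γ(X, U)).inv := by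
    rw [Scheme.Hom.appLE, hU.fromSpec_app_self, Category.assoc, ← Functor.map_comp]
    exact (congrArg (fun t => (Scheme.ΓSpecIso Γ(X, U)).inv ≫ t)
      ((Spec Γ(X, U)).presheaf.map_id _)).trans (Category.comp_id _)
  have h7 : (Spec.map (CommRingCat.ofHom (Algebra.TensorProduct.lmul' Γ(S, V) :
        Γ(X, U) ⊗[Γ(S, V)] Γ(X, U) →ₐ[Γ(S, V)] Γ(X, U)).toRingHom)).appLE ⊤ ⊤ le_top =
      (Spec.map (CommRingCat.ofHom (Algebra.TensorProduct.lmul' Γ(S, V) :
        Γ(X, U) ⊗[Γ(S, V)] Γ(X, U) →ₐ[Γ(S, V)] Γ(X, U)).toRingHom)).appTop :=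
    Scheme.Hom.appLE_eq_app _
  have key : (pullback.diagonal f).appLE (W f hU hV e) U (le_preimage_W f hU hV e) ≫
      (Scheme.ΓSpecIso Γ(X, U)).inv = ((chart f hU hV e).appIso ⊤).hom ≫
      (Spec.map (CommRingCat.ofHom (Algebra.TensorProduct.lmul' Γ(S, V) :
        Γ(X, U) ⊗[Γ(S, V)] Γ(X, U) →ₐ[Γ(S, V)] Γ(X, U)).toRingHom)).appTop := by
    rw [← h6, h2, h3 _ _ h1 _ (by
      intro x _
      exact hle2 trivial), ← h4, h5, h7]
  have nat := Scheme.ΓSpecIso_naturality (CommRingCat.ofHom (Algebra.TensorProduct.lmul' Γ(S, V) :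
        Γ(X, U) ⊗[Γ(S, V)] Γ(X, U) →ₐ[Γ(S, V)] Γ(X, U)).toRingHom)
  calc (pullback.diagonal f).appLE (W f hU hV e) U (le_preimage_W f hU hV e)
      = ((pullback.diagonal f).appLE (W f hU hV e) U (le_preimage_W f hU hV e) ≫
          (Scheme.ΓSpecIso Γ(X, U)).inv) ≫ (Scheme.ΓSpecIso Γ(X, U)).hom := by
        rw [Category.assoc, Iso.inv_hom_id, Category.comp_id]
    _ = _ := by
        rw [key, Category.assoc]
        exact congrArg (fun t => ((chart f hU hV e).appIso ⊤).hom ≫ t) nat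

theorem compat : letI := alg f e
    ∀ z : Γ(X, U) ⊗[Γ(S, V)] Γ(X, U),
      ((pullback.diagonal f).appLE (W f hU hV e) U (le_preimage_W f hU hV e)).hom (ψ f hU hV e z) =
        Algebra.TensorProduct.lmul' Γ(S, V) z := by
  letI := alg f e
  intro z
  rw [appLE_eq]
  change (Algebra.TensorProduct.lmul' Γ(S, V) :
      Γ(X, U) ⊗[Γ(S, V)] Γ(X, U) →ₐ[Γ(S, V)] Γ(X, U))
    ((Scheme.ΓSpecIso (.of (Γ(X, U) ⊗[Γ(S, V)] Γ(X, U)))).hom.hom
      (((chart f hU hV e).appIso ⊤).hom.hom (((chart f hU hV e).appIso ⊤).inv.hom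
        ((Scheme.ΓSpecIso (.of (Γ(X, U) ⊗[Γ(S, V)] Γ(X, U)))).inv.hom z)))) = _
  have h1 : ∀ t, ((chart f hU hV e).appIso ⊤).hom.hom (((chart f hU hV e).appIso ⊤).inv.hom t) = t := by
    intro t
    have := congrArg (fun g => g.hom t) ((chart f hU hV e).appIso ⊤).inv_hom_id
    exact this
  have h2 : ∀ t, (Scheme.ΓSpecIso (.of (Γ(X, U) ⊗[Γ(S, V)] Γ(X, U)))).hom.hom
      ((Scheme.ΓSpecIso (.of (Γ(X, U) ⊗[Γ(S, V)] Γ(X, U)))).inv.hom t) = t := by
    intro t
    have := congrArg (fun g => g.hom t)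
      (Scheme.ΓSpecIso (.of (Γ(X, U) ⊗[Γ(S, V)] Γ(X, U)))).inv_hom_id
    exact this
  rw [h1, h2]

theorem ker_ideal [QuasiSeparated f] :
    (pullback.diagonal f).ker.ideal ⟨W f hU hV e, isAffineOpen_W f hU hV e⟩ =
      RingHom.ker ((pullback.diagonal f).appLE (W f hU hV e) U (le_preimage_W f hU hV e)).hom := by
  rw [Scheme.Hom.ker_apply]
  ext z
  rw [RingHom.mem_ker, RingHom.mem_ker, Scheme.Hom.appLE, CommRingCat.hom_comp, RingHom.comp_apply]
  constructor
  · intro h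
    rw [h, map_zero]
  · intro h
    have hinj : Function.Injective (X.presheaf.map (homOfLE (le_preimage_W f hU hV e)).op).hom := by
      have : IsIso (X.presheaf.map (homOfLE (le_preimage_W f hU hV e)).op) := by
        have h2 : (homOfLE (le_preimage_W f hU hV e)).op = eqToHom
            (congrArg op (preimage_W f hU hV e)) := Subsingleton.elim _ _
        rw [h2]
        infer_instance
      exact ((ConcreteCategory.isIso_iff_bijective _).1 this).1
    exact hinj (h.trans (map_zero _).symm)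

open Groth.Agent.Lib.Helper17.ModPullback Groth.Agent.Lib.Helper17.CohKer
  Groth.Agent.Lib.Helper17.Serre in
instance isQuasicoherent_omega : (Omega.sheaf f).IsQuasicoherent := by
  change ((Scheme.Modules.pullback (pullback.diagonal f)).obj
    (ClSub.idealMod (pullback.diagonal f).ker)).IsQuasicoherent
  infer_instance

include hU hV in
open Groth.Agent.Lib.Helper17.ModPullback Groth.Agent.Lib.Helper17.CohKer
  Groth.Agent.Lib.Helper17.Serre in
/-- **Sections of `Ω_{X/S}` over an affine pair.** -/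
theorem exists_sections_equiv [QuasiSeparated f] : letI := alg f e
    ∃ Φ : Γ(Omega.sheaf f, U) ≃+ Ω[Γ(X, U)⁄Γ(S, V)],
      ∀ (b : Γ(X, U)) (x : Γ(Omega.sheaf f, U)), Φ (b • x) = b • Φ x := by
  letI := alg f e
  let Δ := pullback.diagonal f
  have hW := isAffineOpen_W f hU hV e
  have hle := le_preimage_W f hU hV e
  obtain ⟨eq⟩ := nonempty_linearEquiv_pullback_sections Δ (ClSub.idealMod Δ.ker) hU hW hle
  letI : Algebra Γ(pullback f f, W f hU hV e) Γ(X, U) := (Δ.appLE (W f hU hV e) U hle).hom.toAlgebra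
  obtain ⟨ι, hinj, hsmul, hadd, hmem, hsurj⟩ :=
    Groth.Agent.S1478.W1.idealMod_sections' Δ.ker (W f hU hV e) hW
  let ι' : Γ(ClSub.idealMod Δ.ker, W f hU hV e) →ₗ[Γ(pullback f f, W f hU hV e)]
      Γ(pullback f f, W f hU hV e) :=
    { toFun := ι, map_add' := hadd, map_smul' := fun r n => by simpa using hsmul r n }
  have hcompat : ∀ z, algebraMap Γ(pullback f f, W f hU hV e) Γ(X, U) (ψ f hU hV e z) =
      (RingEquiv.refl Γ(X, U)) (Algebra.TensorProduct.lmul' Γ(S, V) z) := compat f hU hV e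
  have hrange : ∀ c, (∃ n, ι' n = c) ↔
      algebraMap Γ(pullback f f, W f hU hV e) Γ(X, U) c = 0 := by
    intro c
    have hc : c ∈ Δ.ker.ideal ⟨W f hU hV e, hW⟩ ↔
        algebraMap Γ(pullback f f, W f hU hV e) Γ(X, U) c = 0 := by
      rw [ker_ideal f hU hV e, RingHom.mem_ker]
      rfl
    constructor
    · rintro ⟨n, rfl⟩
      exact hc.1 (hmem n)
    · intro h
      exact hsurj c (hc.2 h)
  obtain ⟨Φ, hΦ⟩ := Groth.Agent.Lib.Helper15.OmegaAlg.exists_equiv (RingEquiv.refl Γ(X, U))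
    (ψ f hU hV e) hcompat ι' hinj hrange
  refine ⟨eq.toAddEquiv.trans Φ, ?_⟩
  intro b x
  change Φ (eq (b • (show Γ((Scheme.Modules.pullback Δ).obj (ClSub.idealMod Δ.ker), U) from x))) =
    b • Φ (eq x)
  rw [map_smul, hΦ]
  rfl

end Groth.Agent.Lib.Helper29.OmegaLoc
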