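import Groth.Agent.Lib.Helper29.OmegaLoc2
import Groth.Agent.S9373

set_option autoImplicit false
universe u
open CategoryTheory CategoryTheory.Limits AlgebraicGeometry TensorProduct Opposite

namespace Groth.Agent.Lib.Helper29.OmegaLoc

variable {X S : Scheme.{u}} (f : X ⟶ S)

/-- the stalk of `Ω_{X/S}` at `x` vanishes iff the stalk map is formally unramified. -/
theorem subsingleton_stalk_iff [QuasiSeparated f] (x : X) :
    Subsingleton ((Omega.sheaf f).presheaf.stalk x) ↔ (f.stalkMap x).hom.FormallyUnramified := by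
  obtain ⟨U, V, hU, hV, hx, e⟩ := exists_affine_pair f x
  letI algAB := alg f e
  obtain ⟨Φ, hΦ⟩ := exists_sections_equiv f hU hV e
  let L : Γ(Omega.sheaf f, U) ≃ₗ[Γ(X, U)] Ω[Γ(X, U)⁄Γ(S, V)] := { Φ with map_smul' := hΦ }
  letI algBst : Algebra Γ(X, U) (X.presheaf.stalk x) := X.presheaf.algebra_section_stalk ⟨x, hx⟩
  haveI loc := hU.isLocalization_stalk ⟨x, hx⟩
  letI algAst : Algebra Γ(S, V) (X.presheaf.stalk x) :=
    ((algebraMap Γ(X, U) (X.presheaf.stalk x)).comp (algebraMap Γ(S, V) Γ(X, U))).toAlgebra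
  haveI : IsScalarTower Γ(S, V) Γ(X, U) (X.presheaf.stalk x) :=
    IsScalarTower.of_algebraMap_eq (fun _ => rfl)
  -- step a
  have ha : Subsingleton ((Omega.sheaf f).presheaf.stalk x) ↔
      hU.primeIdealOf ⟨x, hx⟩ ∉ Module.support Γ(X, U) Γ(Omega.sheaf f, U) := by
    rw [Groth.Agent.S9373.mem_support_iff X (Omega.sheaf f) hU x hx]
    exact not_not.symm
  -- step b
  have hb : Module.support Γ(X, U) Γ(Omega.sheaf f, U) =
      Module.support Γ(X, U) Ω[Γ(X, U)⁄Γ(S, V)] := L.support_eq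
  -- step c
  have hc : hU.primeIdealOf ⟨x, hx⟩ ∉ Module.support Γ(X, U) Ω[Γ(X, U)⁄Γ(S, V)] ↔
      Subsingleton Ω[X.presheaf.stalk x⁄Γ(S, V)] := by
    rw [Module.notMem_support_iff]
    have := IsLocalizedModule.iso (hU.primeIdealOf ⟨x, hx⟩).asIdeal.primeCompl
      (KaehlerDifferential.map Γ(S, V) Γ(S, V) Γ(X, U) (X.presheaf.stalk x))
    exact this.toEquiv.subsingleton_congr
  rw [ha, hb, hc, ← Algebra.formallyUnramified_iff]
  -- step e
  letI algSt : Algebra (S.presheaf.stalk (f x)) (X.presheaf.stalk x) := (f.stalkMap x).hom.toAlgebra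
  letI algASt : Algebra Γ(S, V) (S.presheaf.stalk (f x)) :=
    S.presheaf.algebra_section_stalk ⟨f x, e hx⟩
  haveI locS := hV.isLocalization_stalk ⟨f x, e hx⟩
  haveI : IsScalarTower Γ(S, V) (S.presheaf.stalk (f x)) (X.presheaf.stalk x) := by
    refine IsScalarTower.of_algebraMap_eq (fun a => ?_)
    change X.presheaf.germ U x hx ((f.appLE V U e).hom a) =
      (f.stalkMap x).hom (S.presheaf.germ V (f x) (e hx) a)
    rw [Scheme.Hom.germ_stalkMap_apply, Scheme.Hom.appLE, CommRingCat.hom_comp, RingHom.comp_apply,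
      TopCat.Presheaf.germ_res_apply]
  haveI : Algebra.FormallyUnramified Γ(S, V) (S.presheaf.stalk (f x)) :=
    Algebra.FormallyUnramified.of_isLocalization (hV.primeIdealOf ⟨f x, e hx⟩).asIdeal.primeCompl
  change _ ↔ Algebra.FormallyUnramified (S.presheaf.stalk (f x)) (X.presheaf.stalk x)
  constructor
  · intro h
    exact Algebra.FormallyUnramified.of_restrictScalars Γ(S, V) _ _
  · intro h
    exact Algebra.FormallyUnramified.comp Γ(S, V) (S.presheaf.stalk (f x)) _

end Groth.Agent.Lib.Helper29.OmegaLoc
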