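import Mathlib.RingTheory.Kaehler.Basic
import Mathlib.RingTheory.IsTensorProduct
import Mathlib.Algebra.Category.Ring.Constructions
import Groth.Agent.Lib.Helper17.PullbackBC

set_option autoImplicit false
universe u
open TensorProduct CategoryTheory CategoryTheory.Limits

namespace Groth.Agent.Lib.Helper29.PPBCAlg

section Paste

variable {A B A' B' : Type u} [CommRing A] [CommRing B] [CommRing A'] [CommRing B']
  [Algebra A B] [Algebra A' B'] (γ : A →+* A') (υ : B →+* B')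
  (hpo : IsPushout (CommRingCat.ofHom (algebraMap A B)) (CommRingCat.ofHom γ)
    (CommRingCat.ofHom υ) (CommRingCat.ofHom (algebraMap A' B')))

include hpo in
theorem comm_sq : ∀ a : A, υ (algebraMap A B a) = algebraMap A' B' (γ a) := by
  intro a
  exact congr($(hpo.w) a)

/-- `B ⊗_A B → B' ⊗_{A'} B'`. -/
noncomputable def τc : CommRingCat.of (B ⊗[A] B) ⟶ CommRingCat.of (B' ⊗[A'] B') :=
  (CommRingCat.isPushout_tensorProduct A B B).desc
    (CommRingCat.ofHom υ ≫ CommRingCat.ofHom (Algebra.TensorProduct.includeLeftRingHom :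
      B' →+* B' ⊗[A'] B'))
    (CommRingCat.ofHom υ ≫ CommRingCat.ofHom ((Algebra.TensorProduct.includeRight :
      B' →ₐ[A'] B' ⊗[A'] B').toRingHom))
    (by
      rw [← Category.assoc, ← Category.assoc, hpo.w, Category.assoc, Category.assoc,
        (CommRingCat.isPushout_tensorProduct A' B' B').w])

theorem inl_τc : CommRingCat.ofHom (Algebra.TensorProduct.includeLeftRingHom : B →+* B ⊗[A] B) ≫
    τc γ υ hpo = CommRingCat.ofHom υ ≫ CommRingCat.ofHom
      (Algebra.TensorProduct.includeLeftRingHom : B' →+* B' ⊗[A'] B') :=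
  IsPushout.inl_desc _ _ _ _

theorem inr_τc : CommRingCat.ofHom ((Algebra.TensorProduct.includeRight :
      B →ₐ[A] B ⊗[A] B).toRingHom) ≫ τc γ υ hpo =
    CommRingCat.ofHom υ ≫ CommRingCat.ofHom ((Algebra.TensorProduct.includeRight :
      B' →ₐ[A'] B' ⊗[A'] B').toRingHom) :=
  IsPushout.inr_desc _ _ _ _

/-- the ring map `τ`. -/
noncomputable def τ : B ⊗[A] B →+* B' ⊗[A'] B' := (τc γ υ hpo).hom

theorem τ_inl (b : B) : τ γ υ hpo (b ⊗ₜ[A] 1) = υ b ⊗ₜ[A'] 1 :=
  congr($(inl_τc γ υ hpo) b)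

theorem τ_inr (b : B) : τ γ υ hpo (1 ⊗ₜ[A] b) = 1 ⊗ₜ[A'] υ b :=
  congr($(inr_τc γ υ hpo) b)

theorem τ_tmul (b₁ b₂ : B) : τ γ υ hpo (b₁ ⊗ₜ[A] b₂) = υ b₁ ⊗ₜ[A'] υ b₂ := by
  have h1 : b₁ ⊗ₜ[A] b₂ = (b₁ ⊗ₜ[A] 1) * (1 ⊗ₜ[A] b₂) := by
    rw [Algebra.TensorProduct.tmul_mul_tmul, mul_one, one_mul]
  rw [h1, map_mul, τ_inl, τ_inr, Algebra.TensorProduct.tmul_mul_tmul, mul_one, one_mul]

/-- the left square `B → T, B → B', T → T', B' → T'` is a pushout. -/
theorem isPushout_left :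
    IsPushout (CommRingCat.ofHom (Algebra.TensorProduct.includeLeftRingHom : B →+* B ⊗[A] B))
      (CommRingCat.ofHom υ) (τc γ υ hpo)
      (CommRingCat.ofHom (Algebra.TensorProduct.includeLeftRingHom : B' →+* B' ⊗[A'] B')) := by
  have h3 := (CommRingCat.isPushout_tensorProduct A' B' B').flip
  have hbig := hpo.paste_vert h3
  have h1 := (CommRingCat.isPushout_tensorProduct A B B).flip
  refine IsPushout.of_top ?_ (inl_τc γ υ hpo) h1
  rw [inr_τc, hpo.w]
  exact hbig

end Paste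

section BaseChange

variable {A B A' B' : Type u} [CommRing A] [CommRing B] [CommRing A'] [CommRing B']
  [Algebra A B] [Algebra A' B'] (γ : A →+* A') (υ : B →+* B')
  (hpo : IsPushout (CommRingCat.ofHom (algebraMap A B)) (CommRingCat.ofHom γ)
    (CommRingCat.ofHom υ) (CommRingCat.ofHom (algebraMap A' B')))

theorem algebraMap_left (b : B) : algebraMap B (B ⊗[A] B) b = b ⊗ₜ[A] 1 := rfl

theorem smulCommClass_aux :
    letI : Algebra B B' := υ.toAlgebra
    SMulCommClass A' B B' := by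
  letI : Algebra B B' := υ.toAlgebra
  refine ⟨fun a b x => ?_⟩
  rw [Algebra.smul_def, Algebra.smul_def, Algebra.smul_def, Algebra.smul_def]
  ring

/-- `τ` exhibits `B' ⊗_{A'} B'` as the base change of `B ⊗_A B` along `B → B'` (left structures). -/
theorem isPushout_τ :
    letI : Algebra B B' := υ.toAlgebra
    haveI : SMulCommClass A' B B' := smulCommClass_aux υ
    letI : Algebra (B ⊗[A] B) (B' ⊗[A'] B') := (τ γ υ hpo).toAlgebra
    haveI : IsScalarTower B (B ⊗[A] B) (B' ⊗[A'] B') :=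
      IsScalarTower.of_algebraMap_eq (fun b => (τ_inl γ υ hpo b).symm)
    Algebra.IsPushout B B' (B ⊗[A] B) (B' ⊗[A'] B') := by
  letI : Algebra B B' := υ.toAlgebra
  haveI : SMulCommClass A' B B' := smulCommClass_aux υ
  letI : Algebra (B ⊗[A] B) (B' ⊗[A'] B') := (τ γ υ hpo).toAlgebra
  haveI : IsScalarTower B (B ⊗[A] B) (B' ⊗[A'] B') :=
    IsScalarTower.of_algebraMap_eq (fun b => (τ_inl γ υ hpo b).symm)
  rw [← CommRingCat.isPushout_iff_isPushout]
  have h := (isPushout_left γ υ hpo).flip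
  have e1 : (algebraMap B (B ⊗[A] B)) = Algebra.TensorProduct.includeLeftRingHom := by
    ext b
    rfl
  have e2 : (algebraMap B' (B' ⊗[A'] B')) = Algebra.TensorProduct.includeLeftRingHom := by
    ext b
    rfl
  rw [e1, e2]
  exact h

end BaseChange

section Ideal

variable {A B A' B' : Type u} [CommRing A] [CommRing B] [CommRing A'] [CommRing B']
  [Algebra A B] [Algebra A' B'] (γ : A →+* A') (υ : B →+* B')
  (hpo : IsPushout (CommRingCat.ofHom (algebraMap A B)) (CommRingCat.ofHom γ)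
    (CommRingCat.ofHom υ) (CommRingCat.ofHom (algebraMap A' B')))

theorem lmul_τ (t : B ⊗[A] B) :
    Algebra.TensorProduct.lmul' A' (τ γ υ hpo t) = υ (Algebra.TensorProduct.lmul' A t) := by
  induction t with
  | zero => rw [map_zero, map_zero, map_zero, map_zero]
  | tmul b₁ b₂ =>
    rw [τ_tmul, Algebra.TensorProduct.lmul'_apply_tmul, Algebra.TensorProduct.lmul'_apply_tmul,
      map_mul]
  | add x y hx hy => rw [map_add, map_add, map_add, map_add, hx, hy]

include hpo in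
/-- `B'` is spanned over `A'` by the image of `B`. -/
theorem induction_B' (motive : B' → Prop) (zero : motive 0) (img : ∀ b, motive (υ b))
    (smul : ∀ (a' : A') y, motive y → motive (a' • y))
    (add : ∀ y₁ y₂, motive y₁ → motive y₂ → motive (y₁ + y₂)) (y : B') : motive y := by
  letI : Algebra A A' := γ.toAlgebra
  letI : Algebra B B' := υ.toAlgebra
  letI : Algebra A B' := ((algebraMap A' B').comp γ).toAlgebra
  haveI : IsScalarTower A A' B' := IsScalarTower.of_algebraMap_eq (fun _ => rfl)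
  haveI : IsScalarTower A B B' := IsScalarTower.of_algebraMap_eq (fun a => (comm_sq γ υ hpo a).symm)
  have h1 : Algebra.IsPushout A B A' B' := by
    rw [← CommRingCat.isPushout_iff_isPushout]
    exact hpo
  have h2 : Algebra.IsPushout A A' B B' := h1.symm
  exact h2.out.inductionOn y motive zero img smul add

include hpo in
theorem ideal_eq_map :
    KaehlerDifferential.ideal A' B' = Ideal.map (τ γ υ hpo) (KaehlerDifferential.ideal A B) := by
  apply le_antisymm
  · rw [← KaehlerDifferential.span_range_eq_ideal, Ideal.span_le]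
    rintro _ ⟨y, rfl⟩
    refine induction_B' γ υ hpo (fun y => (1 : B') ⊗ₜ[A'] y - y ⊗ₜ[A'] (1 : B') ∈
      Ideal.map (τ γ υ hpo) (KaehlerDifferential.ideal A B)) ?_ ?_ ?_ ?_ y
    · change (1 : B') ⊗ₜ[A'] (0 : B') - (0 : B') ⊗ₜ[A'] (1 : B') ∈ _
      rw [TensorProduct.tmul_zero, TensorProduct.zero_tmul, sub_zero]
      exact zero_mem _
    · intro b
      change (1 : B') ⊗ₜ[A'] υ b - υ b ⊗ₜ[A'] (1 : B') ∈ _
      have h1 : (1 : B') ⊗ₜ[A'] υ b - υ b ⊗ₜ[A'] (1 : B') =
          τ γ υ hpo ((1 : B) ⊗ₜ[A] b - b ⊗ₜ[A] (1 : B)) := by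
        rw [map_sub, τ_inl, τ_inr]
      rw [h1]
      exact Ideal.mem_map_of_mem _ (KaehlerDifferential.one_smul_sub_smul_one_mem_ideal A b)
    · intro a' y hy
      change (1 : B') ⊗ₜ[A'] (a' • y) - (a' • y) ⊗ₜ[A'] (1 : B') ∈ _
      have h1 : (1 : B') ⊗ₜ[A'] (a' • y) - (a' • y) ⊗ₜ[A'] (1 : B') =
          a' • ((1 : B') ⊗ₜ[A'] y - y ⊗ₜ[A'] (1 : B')) := by
        rw [smul_sub]
        congr 1
        exact TensorProduct.tmul_smul a' (1 : B') y
      rw [h1]
      exact Submodule.smul_of_tower_mem _ a' hy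
    · intro y₁ y₂ h₁ h₂
      change (1 : B') ⊗ₜ[A'] (y₁ + y₂) - (y₁ + y₂) ⊗ₜ[A'] (1 : B') ∈ _
      have h1 : (1 : B') ⊗ₜ[A'] (y₁ + y₂) - (y₁ + y₂) ⊗ₜ[A'] (1 : B') =
          ((1 : B') ⊗ₜ[A'] y₁ - y₁ ⊗ₜ[A'] (1 : B')) + ((1 : B') ⊗ₜ[A'] y₂ - y₂ ⊗ₜ[A'] (1 : B')) := by
        rw [TensorProduct.tmul_add, TensorProduct.add_tmul]
        abel
      rw [h1]
      exact add_mem h₁ h₂
  · rw [Ideal.map_le_iff_le_comap]
    intro t ht
    change Algebra.TensorProduct.lmul' A' (τ γ υ hpo t) = 0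
    rw [lmul_τ]
    have : Algebra.TensorProduct.lmul' A t = 0 := ht
    rw [this, map_zero]

include hpo in
theorem ideal_pow_eq_map (n : ℕ) :
    KaehlerDifferential.ideal A' B' ^ n =
      Ideal.map (τ γ υ hpo) (KaehlerDifferential.ideal A B ^ n) := by
  rw [Ideal.map_pow, ← ideal_eq_map]

end Ideal

section Final

open Groth.Agent.Lib.Helper17.PullbackBC

variable {A B A' B' : Type u} [CommRing A] [CommRing B] [CommRing A'] [CommRing B']
  [Algebra A B] [Algebra A' B'] (γ : A →+* A') (υ : B →+* B')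
  (hpo : IsPushout (CommRingCat.ofHom (algebraMap A B)) (CommRingCat.ofHom γ)
    (CommRingCat.ofHom υ) (CommRingCat.ofHom (algebraMap A' B')))
  (n : ℕ)
  {M M' : Type u} [AddCommGroup M] [Module B M] [AddCommGroup M'] [Module B' M']
  (π : B ⊗[A] B →+ M) (hπs : Function.Surjective π)
  (hπk : ∀ t, π t = 0 ↔ t ∈ KaehlerDifferential.ideal A B ^ n)
  (hπl : ∀ (b : B) t, π ((b ⊗ₜ[A] 1) * t) = b • π t)
  (π' : B' ⊗[A'] B' →+ M') (hπ's : Function.Surjective π')
  (hπ'k : ∀ t, π' t = 0 ↔ t ∈ KaehlerDifferential.ideal A' B' ^ n)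
  (hπ'l : ∀ (b : B') t, π' ((b ⊗ₜ[A'] 1) * t) = b • π' t)
  (θ : M → M') (hθ : ∀ t, θ (π t) = π' (τ γ υ hpo t))

include hπs hπk hπl hπ's hπ'k hπ'l hθ in
/-- **base change of principal parts, ring level**: `T'/I'^n` is the base change of `T/I^n` along `B → B'`. -/
theorem isBC_θ : IsBC υ θ := by
  letI : Algebra B B' := υ.toAlgebra
  haveI : SMulCommClass A' B B' := smulCommClass_aux υ
  letI : Algebra (B ⊗[A] B) (B' ⊗[A'] B') := (τ γ υ hpo).toAlgebra
  haveI : IsScalarTower B (B ⊗[A] B) (B' ⊗[A'] B') :=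
    IsScalarTower.of_algebraMap_eq (fun b => (τ_inl γ υ hpo b).symm)
  have hτ : IsBaseChange B' (IsScalarTower.toAlgHom B (B ⊗[A] B) (B' ⊗[A'] B')).toLinearMap :=
    (isPushout_τ γ υ hpo).out
  let τl : B ⊗[A] B →ₗ[B] B' ⊗[A'] B' :=
    (IsScalarTower.toAlgHom B (B ⊗[A] B) (B' ⊗[A'] B')).toLinearMap
  have hτl : ∀ t, τl t = τ γ υ hpo t := fun t => rfl
  have hsmulT : ∀ (b : B) (t : B ⊗[A] B), b • t = (b ⊗ₜ[A] 1) * t := by
    intro b t
    rw [Algebra.smul_def]
    rfl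
  have hsmulT' : ∀ (b : B') (t : B' ⊗[A'] B'), b • t = (b ⊗ₜ[A'] 1) * t := by
    intro b t
    rw [Algebra.smul_def]
    rfl
  -- `π` as a linear map
  let πl : B ⊗[A] B →ₗ[B] M :=
    { toFun := π
      map_add' := map_add π
      map_smul' := fun b t => by
        rw [hsmulT, hπl]
        rfl }
  -- the `B`-module structure on `M'`
  letI : Module B M' := Module.compHom M' υ
  haveI : IsScalarTower B B' M' := ⟨fun b b' m => by
    change (υ b * b') • m = υ b • (b' • m)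
    rw [mul_smul]⟩
  have hθadd : ∀ m₁ m₂, θ (m₁ + m₂) = θ m₁ + θ m₂ := by
    intro m₁ m₂
    obtain ⟨t₁, rfl⟩ := hπs m₁
    obtain ⟨t₂, rfl⟩ := hπs m₂
    rw [← map_add, hθ, hθ, hθ, map_add, map_add]
  have hθsmul : ∀ (b : B) m, θ (b • m) = υ b • θ m := by
    intro b m
    obtain ⟨t, rfl⟩ := hπs m
    rw [← hπl, hθ, hθ, map_mul, τ_inl, hπ'l]
  let θl : M →ₗ[B] M' :=
    { toFun := θ
      map_add' := hθadd
      map_smul' := fun b m => hθsmul b m }
  let F : B' ⊗[B] M →ₗ[B'] M' := LinearMap.liftBaseChange B' θl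
  have hF : ∀ (b' : B') (m : M), F (b' ⊗ₜ[B] m) = b' • θ m := by
    intro b' m
    exact LinearMap.liftBaseChange_tmul _ _ _ _
  -- surjectivity
  have hFsurj : Function.Surjective F := by
    intro m'
    obtain ⟨t', rfl⟩ := hπ's m'
    refine hτ.inductionOn t' (fun t' => ∃ x, F x = π' t') ⟨0, by rw [map_zero, map_zero]⟩ ?_ ?_ ?_
    · intro t
      refine ⟨(1 : B') ⊗ₜ[B] π t, ?_⟩
      rw [hF, one_smul, hθ]
      rfl
    · rintro b' t' ⟨x, hx⟩
      refine ⟨b' • x, ?_⟩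
      rw [map_smul, hx, hsmulT', hπ'l]
    · rintro t₁ t₂ ⟨x₁, h₁⟩ ⟨x₂, h₂⟩
      exact ⟨x₁ + x₂, by rw [map_add, h₁, h₂, map_add]⟩
  -- the inverse direction
  let r : B ⊗[A] B →ₗ[B] B' ⊗[B] M := (TensorProduct.mk B B' M 1) ∘ₗ πl
  let q : B' ⊗[A'] B' →ₗ[B'] B' ⊗[B] M := hτ.lift r
  have hq : ∀ t, q (τ γ υ hpo t) = (1 : B') ⊗ₜ[B] π t := by
    intro t
    exact hτ.lift_eq r t
  have hqk : ∀ x ∈ KaehlerDifferential.ideal A' B' ^ n, q x = 0 := by
    intro x hx
    rw [ideal_pow_eq_map γ υ hpo n] at hx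
    have key : ∀ x ∈ Ideal.map (τ γ υ hpo) (KaehlerDifferential.ideal A B ^ n),
        ∀ t', q (t' * x) = 0 := by
      intro x hx
      refine Submodule.span_induction ?_ ?_ ?_ ?_ hx
      · rintro _ ⟨k, hk, rfl⟩ t'
        refine hτ.inductionOn t' (fun t' => q (t' * τ γ υ hpo k) = 0) ?_ ?_ ?_ ?_
        · rw [zero_mul, map_zero]
        · intro t
          change q (τ γ υ hpo t * τ γ υ hpo k) = 0
          rw [← map_mul, hq, (hπk _).2 (Ideal.mul_mem_left _ t hk), TensorProduct.tmul_zero]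
        · intro b' t'' h
          rw [smul_mul_assoc, map_smul, h, smul_zero]
        · intro t₁ t₂ h₁ h₂
          rw [add_mul, map_add, h₁, h₂, add_zero]
      · intro t'
        rw [mul_zero, map_zero]
      · intro x y _ _ hx hy t'
        rw [mul_add, map_add, hx, hy, add_zero]
      · intro t'' x _ hx t'
        rw [smul_eq_mul, ← mul_assoc]
        exact hx _
    have := key x hx 1
    rwa [one_mul] at this
  have hqwd : ∀ t₁ t₂, π' t₁ = π' t₂ → q t₁ = q t₂ := by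
    intro t₁ t₂ h
    have h1 : π' (t₁ - t₂) = 0 := by rw [map_sub, h, sub_self]
    have h2 := hqk _ ((hπ'k _).1 h1)
    rw [map_sub, sub_eq_zero] at h2
    exact h2
  let G : M' → B' ⊗[B] M := fun m' => q (Function.surjInv hπ's m')
  have hG : ∀ t', G (π' t') = q t' := by
    intro t'
    exact hqwd _ _ (Function.surjInv_eq hπ's (π' t'))
  have hGadd : ∀ m₁ m₂, G (m₁ + m₂) = G m₁ + G m₂ := by
    intro m₁ m₂
    obtain ⟨t₁, rfl⟩ := hπ's m₁
    obtain ⟨t₂, rfl⟩ := hπ's m₂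
    rw [← map_add, hG, hG, hG, map_add]
  have hGF : ∀ x, G (F x) = x := by
    intro x
    induction x with
    | zero =>
      rw [map_zero]
      have := hG 0
      rw [map_zero, map_zero] at this
      exact this
    | tmul b' m =>
      obtain ⟨t, rfl⟩ := hπs m
      rw [hF, hθ, ← hπ'l, hG, ← hsmulT', map_smul, hq, TensorProduct.smul_tmul', smul_eq_mul,
        mul_one]
    | add x y hx hy => rw [map_add, hGadd, hx, hy]
  have hFinj : Function.Injective F := Function.LeftInverse.injective hGF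
  rw [isBC_iff]
  refine ⟨(LinearEquiv.ofBijective F ⟨hFinj, hFsurj⟩).symm, fun m => ?_⟩
  rw [LinearEquiv.symm_apply_eq]
  change _ = F _
  rw [hF, one_smul]

end Final

end Groth.Agent.Lib.Helper29.PPBCAlg
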