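import Groth.Agent.Lib.Helper29.OmegaCan
import Groth.Agent.Lib.Helper29.GrComap
import Groth.Agent.Lib.Helper29.UnitIso
import Groth.Prelude.Def_OmegaPn

set_option autoImplicit false
universe u
open CategoryTheory CategoryTheory.Limits AlgebraicGeometry TopologicalSpace Opposite TensorProduct

namespace Groth.Agent.Lib.Helper29.PPChart

open Groth.Agent.Lib.Helper28.QCohLoc Groth.Agent.Lib.Helper29.OmegaLoc
  Groth.Agent.Lib.Helper29.OmegaCan Groth.Agent.Lib.Helper29.ConormalBC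

section Coborder

variable {X P : Scheme.{u}} (Δ : X ⟶ P)

/-- an affine open over which `Δ` is "a closed immersion of affine schemes" lies in the coborder of the
range of `Δ`. -/
theorem le_coborder_of_surjective {D : P.Opens} (hD : IsAffineOpen D)
    (hU : IsAffineOpen (Δ ⁻¹ᵁ D)) (hs : Function.Surjective (Δ.app D)) :
    (D : Set P) ⊆ coborder (Set.range Δ) := by
  haveI : IsAffine (Δ ⁻¹ᵁ D).toScheme := hU
  haveI : IsAffine D.toScheme := hD
  have hg : IsClosedImmersion (Δ ∣_ D) := by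
    refine IsClosedImmersion.of_surjective_of_isAffine _ ?_
    rw [morphismRestrict_appTop]
    have h1 : Function.Surjective (Δ.app (D.ι ''ᵁ ⊤)) := by
      have h2 : D.ι ''ᵁ ⊤ = D := by simp
      rw [h2]
      exact hs
    have h3 : Function.Bijective
        (X.presheaf.map (eqToHom (image_morphismRestrict_preimage Δ D ⊤)).op) := by
      have : IsIso (X.presheaf.map (eqToHom (image_morphismRestrict_preimage Δ D ⊤)).op) :=
        inferInstance
      exact (ConcreteCategory.isIso_iff_bijective _).1 this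
    intro y
    obtain ⟨y', hy'⟩ := h3.2 y
    obtain ⟨z, hz⟩ := h1 y'
    refine ⟨z, ?_⟩
    change (X.presheaf.map (eqToHom (image_morphismRestrict_preimage Δ D ⊤)).op)
      ((Δ.app (D.ι ''ᵁ ⊤)) z) = y
    rw [hz, hy']
  have hcl : IsClosed (Set.range (Δ ∣_ D)) := (Δ ∣_ D).isClosedEmbedding.isClosed_range
  have hpre : (D.ι : D.toScheme → P) ⁻¹' (Set.range Δ) = Set.range (Δ ∣_ D) := by
    ext x
    constructor
    · rintro ⟨y, hy⟩
      have hyD : y ∈ Δ ⁻¹ᵁ D := by
        change Δ y ∈ D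
        rw [hy]
        exact x.2
      refine ⟨⟨y, hyD⟩, Subtype.ext ?_⟩
      rw [morphismRestrict_base_coe]
      exact hy
    · rintro ⟨y, rfl⟩
      exact ⟨y.1, (morphismRestrict_base_coe Δ D y).symm⟩
  have h4 := D.ι.isOpenEmbedding.coborder_preimage (Set.range Δ)
  rw [hpre, hcl.coborder_eq] at h4
  intro x hx
  have h5 : (⟨x, hx⟩ : D.toScheme) ∈ (D.ι : D.toScheme → P) ⁻¹' coborder (Set.range Δ) := by
    rw [← h4]
    exact Set.mem_univ _
  exact h5

end Coborder

section Diag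

variable {X S : Scheme.{u}} (f : X ⟶ S)
  {U : X.Opens} (hU : IsAffineOpen U) {V : S.Opens} (hV : IsAffineOpen V) (e : U ≤ f ⁻¹ᵁ V)

include hU hV e in
theorem app_diag_surjective :
    Function.Surjective ((pullback.diagonal f).app (OmegaSh.diagNbhd f U)) := by
  letI := alg f e
  intro y
  have hle : U ≤ pullback.diagonal f ⁻¹ᵁ OmegaSh.diagNbhd f U := OmegaSh.le_preimage_diagNbhd f U
  let y' : Γ(X, U) := X.presheaf.map (homOfLE hle).op y
  refine ⟨ψ f hU hV e (y' ⊗ₜ[Γ(S, V)] 1), ?_⟩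
  have h1 := ψ_compat f hU hV e (y' ⊗ₜ[Γ(S, V)] 1)
  rw [Algebra.TensorProduct.lmul'_apply_tmul, mul_one] at h1
  have hinj : Function.Injective (X.presheaf.map (homOfLE hle).op) := by
    have : IsIso (X.presheaf.map (homOfLE hle).op) := by
      have h2 : (homOfLE hle).op = eqToHom (congrArg op (preimage_diagNbhd f U)) :=
        Subsingleton.elim _ _
      rw [h2]
      infer_instance
    exact ((ConcreteCategory.isIso_iff_bijective _).1 this).1
  apply hinj
  exact h1

include hU hV e in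
theorem diagNbhd_le_coborderRange :
    OmegaSh.diagNbhd f U ≤ (pullback.diagonal f).coborderRange := by
  have hD := isAffineOpen_diagNbhd f hU hV e
  have hpre : IsAffineOpen (pullback.diagonal f ⁻¹ᵁ OmegaSh.diagNbhd f U) := by
    rw [preimage_diagNbhd]
    exact hU
  exact le_coborder_of_surjective (pullback.diagonal f) hD hpre (app_diag_surjective f hU hV e)

end Diag

section Nbhd

variable {X S : Scheme.{u}} (f : X ⟶ S) (n : ℕ)

theorem range_nbhdι : Set.range (PrinPart.nbhdι f n) = Set.range (pullback.diagonal f) := by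
  ext x
  constructor
  · rintro ⟨y, rfl⟩
    obtain ⟨z, rfl⟩ := PrinPart.toInfNbhd_surjective (PrinPart.diagCl f) n y
    refine ⟨z, ?_⟩
    rw [← Scheme.Hom.comp_apply]
    exact congrArg (fun g : X ⟶ pullback f f => g z) (PrinPart.toNbhd_ι f n).symm
  · rintro ⟨z, rfl⟩
    refine ⟨PrinPart.toNbhd f n z, ?_⟩
    rw [← Scheme.Hom.comp_apply]
    exact congrArg (fun g : X ⟶ pullback f f => g z) (PrinPart.toNbhd_ι f n)

instance isImmersion_nbhdι : IsImmersion (PrinPart.nbhdι f n) := by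
  unfold PrinPart.nbhdι PrinPart.infNbhdι
  infer_instance

theorem coborderRange_nbhdι :
    (PrinPart.nbhdι f n).coborderRange = (pullback.diagonal f).coborderRange := by
  ext x
  change x ∈ coborder (Set.range (PrinPart.nbhdι f n)) ↔ x ∈ coborder (Set.range (pullback.diagonal f))
  rw [range_nbhdι]

theorem preimage_nbhdι (U : X.Opens) :
    PrinPart.nbhdι f n ⁻¹ᵁ (OmegaSh.diagNbhd f U) = PrinPart.pr1 f n ⁻¹ᵁ U := by
  ext x
  change (pullback.fst f f (PrinPart.nbhdι f n x) ∈ U ∧ pullback.snd f f (PrinPart.nbhdι f n x) ∈ U) ↔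
    PrinPart.pr1 f n x ∈ U
  have h1 : pullback.fst f f (PrinPart.nbhdι f n x) = PrinPart.pr1 f n x := rfl
  have h2 : pullback.snd f f (PrinPart.nbhdι f n x) = PrinPart.pr1 f n x := by
    rw [PrinPart.pr1_apply]
    rfl
  rw [h1, h2, and_self]

variable {U : X.Opens} (hU : IsAffineOpen U) {V : S.Opens} (hV : IsAffineOpen V) (e : U ≤ f ⁻¹ᵁ V)

include hU hV e in
theorem nbhd_chart :
    IsAffineOpen (PrinPart.nbhdι f n ⁻¹ᵁ (OmegaSh.diagNbhd f U)) ∧
      Function.Surjective ((PrinPart.nbhdι f n).app (OmegaSh.diagNbhd f U)) := by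
  refine affine_surjective_of_le_coborder (PrinPart.nbhdι f n)
    (isAffineOpen_diagNbhd f hU hV e) ?_
  rw [coborderRange_nbhdι]
  exact diagNbhd_le_coborderRange f hU hV e

include hU hV e in
theorem isAffineOpen_preimage_pr1 : IsAffineOpen (PrinPart.pr1 f n ⁻¹ᵁ U) := by
  rw [← preimage_nbhdι]
  exact (nbhd_chart f n hU hV e).1

end Nbhd

section KerAlg

variable {R R' Q B' : Type*} [CommRing R] [CommRing R'] [CommRing Q] [CommRing B']

theorem ker_comp_pow (φ : R →+* R') (hφ : Function.Bijective φ) (π : R' →+* Q) (δ : R' →+* B')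
    (n : ℕ) (h : RingHom.ker π = RingHom.ker δ ^ n) :
    RingHom.ker (π.comp φ) = RingHom.ker (δ.comp φ) ^ n := by
  let e : R ≃+* R' := RingEquiv.ofBijective φ hφ
  have h1 : ∀ J : Ideal R', J.comap φ = J.map (e.symm : R' →+* R) := by
    intro J
    exact (Ideal.map_symm e).symm
  rw [← RingHom.comap_ker, ← RingHom.comap_ker, h, h1, h1, Ideal.map_pow]

end KerAlg

section Ker

variable {X S : Scheme.{u}} (f : X ⟶ S) (n : ℕ)
  {U : X.Opens} (hU : IsAffineOpen U) {V : S.Opens} (hV : IsAffineOpen V) (e : U ≤ f ⁻¹ᵁ V)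

theorem le_preimage_nbhdι (U : X.Opens) :
    PrinPart.pr1 f n ⁻¹ᵁ U ≤ PrinPart.nbhdι f n ⁻¹ᵁ (OmegaSh.diagNbhd f U) :=
  (preimage_nbhdι f n U).ge

include hU hV e in
theorem appLE_nbhdι_surjective :
    Function.Surjective ((PrinPart.nbhdι f n).appLE (OmegaSh.diagNbhd f U)
      (PrinPart.pr1 f n ⁻¹ᵁ U) (le_preimage_nbhdι f n U)).hom := by
  rw [Scheme.Hom.appLE, CommRingCat.hom_comp, RingHom.coe_comp]
  refine Function.Surjective.comp ?_ (nbhd_chart f n hU hV e).2
  have : IsIso ((PrinPart.nbhd f n).presheaf.map (homOfLE (le_preimage_nbhdι f n U)).op) := by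
    have h2 : (homOfLE (le_preimage_nbhdι f n U)).op =
        eqToHom (congrArg op (preimage_nbhdι f n U)) := Subsingleton.elim _ _
    rw [h2]
    infer_instance
  exact ((ConcreteCategory.isIso_iff_bijective _).1 this).2

end Ker

section KerAlg2

variable {R Q Q' : Type*} [CommRing R] [CommRing Q] [CommRing Q']

theorem ker_comp_of_injective (π : R →+* Q) (r : Q →+* Q') (hr : Function.Injective r) :
    RingHom.ker (r.comp π) = RingHom.ker π := by
  ext x
  rw [RingHom.mem_ker, RingHom.mem_ker, RingHom.comp_apply]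
  constructor
  · intro h
    exact hr (h.trans (map_zero r).symm)
  · intro h
    rw [h, map_zero]

end KerAlg2

section Ker2

variable {X S : Scheme.{u}} (f : X ⟶ S) (n : ℕ)
  {U : X.Opens} (hU : IsAffineOpen U) {V : S.Opens} (hV : IsAffineOpen V) (e : U ≤ f ⁻¹ᵁ V)

theorem bijective_map_of_eq {Y : Scheme.{u}} {A B : Y.Opens} (h : A = B) (hle : A ≤ B) :
    Function.Bijective (Y.presheaf.map (homOfLE hle).op).hom := by
  have : IsIso (Y.presheaf.map (homOfLE hle).op) := by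
    have h2 : (homOfLE hle).op = eqToHom (congrArg op h.symm) := Subsingleton.elim _ _
    rw [h2]
    infer_instance
  exact (ConcreteCategory.isIso_iff_bijective _).1 this

include hU hV e in
theorem ker_appLE_nbhdι :
    RingHom.ker ((PrinPart.nbhdι f n).appLE (OmegaSh.diagNbhd f U)
      (PrinPart.pr1 f n ⁻¹ᵁ U) (le_preimage_nbhdι f n U)).hom =
    RingHom.ker ((pullback.diagonal f).appLE (OmegaSh.diagNbhd f U) U
        (OmegaSh.le_preimage_diagNbhd f U)).hom ^ (n + 1) := by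
  let Δ := pullback.diagonal f
  let C := Δ.coborderRange
  let D := OmegaSh.diagNbhd f U
  let D' : C.toScheme.Opens := C.ι ⁻¹ᵁ D
  let W := PrinPart.pr1 f n ⁻¹ᵁ U
  have hDC : D ≤ C := diagNbhd_le_coborderRange f hU hV e
  have hD : IsAffineOpen D := isAffineOpen_diagNbhd f hU hV e
  have hD' : IsAffineOpen D' :=
    hD.preimage_of_isOpenImmersion C.ι (by rw [Scheme.Opens.opensRange_ι]; exact hDC)
  -- split `nbhdι`
  have hW1 : W ≤ PrinPart.infNbhdι (PrinPart.diagCl f) n ⁻¹ᵁ D' := le_preimage_nbhdι f n U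
  have hsplit : (PrinPart.nbhdι f n).appLE D W (le_preimage_nbhdι f n U) =
      C.ι.appLE D D' le_rfl ≫ (PrinPart.infNbhdι (PrinPart.diagCl f) n).appLE D' W hW1 := by
    rw [Scheme.Hom.appLE_comp_appLE]
    rfl
  have hU1 : U ≤ PrinPart.diagCl f ⁻¹ᵁ D' := by
    intro x hx
    have h1 : (PrinPart.diagCl f ≫ C.ι) x ∈ D := by
      rw [Scheme.Hom.liftCoborder_ι]
      exact OmegaSh.le_preimage_diagNbhd f U hx
    exact h1
  have hsplit2 : Δ.appLE D U (OmegaSh.le_preimage_diagNbhd f U) =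
      C.ι.appLE D D' le_rfl ≫ (PrinPart.diagCl f).appLE D' U hU1 := by
    rw [Scheme.Hom.appLE_comp_appLE]
    exact OmegaSh.appLE_congr_hom (Scheme.Hom.liftCoborder_ι Δ).symm _ _
  -- the kernel of the closed immersion
  have hk1 : RingHom.ker ((PrinPart.infNbhdι (PrinPart.diagCl f) n).appLE D' W hW1).hom =
      RingHom.ker ((PrinPart.diagCl f).appLE D' U hU1).hom ^ (n + 1) := by
    have hWeq : W = PrinPart.infNbhdι (PrinPart.diagCl f) n ⁻¹ᵁ D' := (preimage_nbhdι f n U).symm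
    have hUeq : U = PrinPart.diagCl f ⁻¹ᵁ D' := by
      apply le_antisymm hU1
      intro x hx
      have h1 : (PrinPart.diagCl f ≫ C.ι) x ∈ D := hx
      rw [Scheme.Hom.liftCoborder_ι] at h1
      exact (preimage_diagNbhd f U).le h1
    rw [Scheme.Hom.appLE, CommRingCat.hom_comp,
      ker_comp_of_injective _ _ (bijective_map_of_eq hWeq hW1).1]
    rw [Scheme.Hom.appLE, CommRingCat.hom_comp,
      ker_comp_of_injective _ _ (bijective_map_of_eq hUeq hU1).1]
    have h1 : (PrinPart.infNbhdι (PrinPart.diagCl f) n).ker = (PrinPart.diagCl f).ker ^ (n + 1) :=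
      Scheme.IdealSheafData.ker_subschemeι _
    haveI : IsClosedImmersion (PrinPart.infNbhdι (PrinPart.diagCl f) n) := by
      unfold PrinPart.infNbhdι
      infer_instance
    rw [← Scheme.Hom.ker_apply (PrinPart.infNbhdι (PrinPart.diagCl f) n) ⟨D', hD'⟩, h1,
      ← Scheme.Hom.ker_apply (PrinPart.diagCl f) ⟨D', hD'⟩]
    rfl
  have hbij : Function.Bijective (C.ι.appLE D D' le_rfl).hom := by
    have : IsIso (C.ι.appLE D D' le_rfl) := by
      have h2 : C.ι.appLE D D' le_rfl = C.ι.app D := by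
        rw [Scheme.Hom.app_eq_appLE]
      rw [h2]
      exact Scheme.Hom.isIso_app C.ι D (by rw [Scheme.Opens.opensRange_ι]; exact hDC)
    exact (ConcreteCategory.isIso_iff_bijective _).1 this
  rw [hsplit, hsplit2, CommRingCat.hom_comp, CommRingCat.hom_comp]
  exact ker_comp_pow _ hbij _ _ (n + 1) hk1

end Ker2

section Phi

open Groth.Agent.Lib.Helper29.UnitIso

variable {X S : Scheme.{u}} (f : X ⟶ S) (n : ℕ)

/-- `Γ(P^n, U) → Γ(X^{(n)}, pr₁⁻¹ U)`. -/
noncomputable def Φ (U : X.Opens) :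
    Γ(PrinPart.P f n, U) →+ Γ(PrinPart.nbhd f n, PrinPart.pr1 f n ⁻¹ᵁ U) :=
  (OmegaSh.fnSect (PrinPart.nbhd f n) (PrinPart.pr1 f n ⁻¹ᵁ U)).comp
    ((unitHom (PrinPart.pr2 f n)).app (PrinPart.pr1 f n ⁻¹ᵁ U)).hom

theorem Φ_bijective (U : X.Opens) : Function.Bijective (Φ f n U) := by
  let e := asIso (unitHom (PrinPart.pr2 f n))
  let W := PrinPart.pr1 f n ⁻¹ᵁ U
  have h1 : ∀ x, (e.inv.app W) ((e.hom.app W) x) = x := by
    intro x
    rw [← ConcreteCategory.comp_apply, ← Scheme.Modules.Hom.comp_app, e.hom_inv_id]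
    rfl
  have h2 : ∀ y, (e.hom.app W) ((e.inv.app W) y) = y := by
    intro y
    rw [← ConcreteCategory.comp_apply, ← Scheme.Modules.Hom.comp_app, e.inv_hom_id]
    rfl
  exact ⟨Function.LeftInverse.injective h1, Function.RightInverse.surjective h2⟩

theorem le_preimage_pr2 (U : X.Opens) : PrinPart.pr1 f n ⁻¹ᵁ U ≤ PrinPart.pr2 f n ⁻¹ᵁ U :=
  (PrinPart.preimage_pr1 f n U).le

theorem Φ_smul (U : X.Opens) (b : Γ(X, U)) (x : Γ(PrinPart.P f n, U)) :
    Φ f n U (b • x) = (PrinPart.pr1 f n).app U b * Φ f n U x := by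
  have h1 : b • x = (show Γ((Scheme.Modules.pullback (PrinPart.pr2 f n)).obj (Coh.structureModule X),
      PrinPart.pr1 f n ⁻¹ᵁ U) from ((PrinPart.pr1 f n).app U b) • (show
        Γ((Scheme.Modules.pullback (PrinPart.pr2 f n)).obj (Coh.structureModule X),
          PrinPart.pr1 f n ⁻¹ᵁ U) from x)) := rfl
  rw [h1]
  change OmegaSh.fnSect _ _ ((unitHom (PrinPart.pr2 f n)).app (PrinPart.pr1 f n ⁻¹ᵁ U) _) = _
  rw [Scheme.Modules.Hom.app_smul]
  rfl

theorem Φ_dn (U : X.Opens) (b : Γ(X, U)) :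
    Φ f n U (PrinPart.dn f n U b) =
      (PrinPart.pr2 f n).appLE U (PrinPart.pr1 f n ⁻¹ᵁ U) (le_preimage_pr2 f n U) b := by
  change OmegaSh.fnSect _ _ ((unitHom (PrinPart.pr2 f n)).app (PrinPart.pr1 f n ⁻¹ᵁ U)
    (((Scheme.Modules.pullback (PrinPart.pr2 f n)).obj (Coh.structureModule X)).presheaf.map
      (homOfLE (PrinPart.preimage_pr1 f n U).le).op
        (OmegaSh.pullSect (PrinPart.pr2 f n) (Coh.structureModule X) U (OmegaSh.strSect X U b)))) = _
  have h2 := app_res (unitHom (PrinPart.pr2 f n)) (PrinPart.preimage_pr1 f n U).le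
    (OmegaSh.pullSect (PrinPart.pr2 f n) (Coh.structureModule X) U (OmegaSh.strSect X U b))
  rw [unitHom_pullSect] at h2
  exact congrArg (OmegaSh.fnSect _ _) h2

end Phi

section Gen

variable {X S : Scheme.{u}} (f : X ⟶ S) (n : ℕ)
  {U : X.Opens} (hU : IsAffineOpen U) {V : S.Opens} (hV : IsAffineOpen V) (e : U ≤ f ⁻¹ᵁ V)

theorem appLE_nbhdι_fst (U : X.Opens) (b : Γ(X, U)) :
    (PrinPart.nbhdι f n).appLE (OmegaSh.diagNbhd f U) (PrinPart.pr1 f n ⁻¹ᵁ U)
      (le_preimage_nbhdι f n U)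
      ((pullback.fst f f).appLE U (OmegaSh.diagNbhd f U) inf_le_left b) =
      (PrinPart.pr1 f n).app U b := by
  rw [← ConcreteCategory.comp_apply, Scheme.Hom.appLE_comp_appLE, Scheme.Hom.app_eq_appLE]
  rfl

theorem appLE_nbhdι_snd (U : X.Opens) (b : Γ(X, U)) :
    (PrinPart.nbhdι f n).appLE (OmegaSh.diagNbhd f U) (PrinPart.pr1 f n ⁻¹ᵁ U)
      (le_preimage_nbhdι f n U)
      ((pullback.snd f f).appLE U (OmegaSh.diagNbhd f U) inf_le_right b) =
      (PrinPart.pr2 f n).appLE U (PrinPart.pr1 f n ⁻¹ᵁ U) (le_preimage_pr2 f n U) b := by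
  rw [← ConcreteCategory.comp_apply, Scheme.Hom.appLE_comp_appLE]
  rfl

/-- `Φ (b • dⁿ b')` is the image of `pr₁♯ b · pr₂♯ b'`. -/
theorem Φ_smul_dn (U : X.Opens) (b b' : Γ(X, U)) :
    Φ f n U (b • PrinPart.dn f n U b') =
      (PrinPart.nbhdι f n).appLE (OmegaSh.diagNbhd f U) (PrinPart.pr1 f n ⁻¹ᵁ U)
        (le_preimage_nbhdι f n U)
        ((pullback.fst f f).appLE U (OmegaSh.diagNbhd f U) inf_le_left b *
          (pullback.snd f f).appLE U (OmegaSh.diagNbhd f U) inf_le_right b') := by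
  rw [Φ_smul, Φ_dn, map_mul, appLE_nbhdι_fst, appLE_nbhdι_snd]

include hU hV e in
/-- over an affine open lying over an affine open of the base, `Γ(P^n, U)` is generated as an abelian group
by the `b • dⁿ b'`. -/
theorem mem_closure_smul_dn (x : Γ(PrinPart.P f n, U)) :
    x ∈ AddSubgroup.closure {y : Γ(PrinPart.P f n, U) |
      ∃ b b' : Γ(X, U), y = b • PrinPart.dn f n U b'} := by
  letI := alg f e
  obtain ⟨z, hz⟩ := appLE_nbhdι_surjective f n hU hV e (Φ f n U x)
  obtain ⟨t, rfl⟩ := (OmegaCan.ψ f hU hV e).surjective z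
  have key : ∀ t : Γ(X, U) ⊗[Γ(S, V)] Γ(X, U), ∃ y ∈ AddSubgroup.closure
      {y : Γ(PrinPart.P f n, U) | ∃ b b' : Γ(X, U), y = b • PrinPart.dn f n U b'},
      Φ f n U y = ((PrinPart.nbhdι f n).appLE (OmegaSh.diagNbhd f U) (PrinPart.pr1 f n ⁻¹ᵁ U)
        (le_preimage_nbhdι f n U)).hom (OmegaCan.ψ f hU hV e t) := by
    intro t
    induction t with
    | zero => exact ⟨0, zero_mem _, by rw [map_zero, map_zero, map_zero]⟩
    | tmul b b' =>
      refine ⟨b • PrinPart.dn f n U b', AddSubgroup.subset_closure ⟨b, b', rfl⟩, ?_⟩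
      have h1 : b ⊗ₜ[Γ(S, V)] b' = (b ⊗ₜ[Γ(S, V)] 1) * (1 ⊗ₜ[Γ(S, V)] b') := by
        rw [Algebra.TensorProduct.tmul_mul_tmul, mul_one, one_mul]
      rw [h1, map_mul, ψ_inl, ψ_inr]
      exact Φ_smul_dn f n U b b'
    | add t₁ t₂ h₁ h₂ =>
      obtain ⟨y₁, hy₁, e₁⟩ := h₁
      obtain ⟨y₂, hy₂, e₂⟩ := h₂
      exact ⟨y₁ + y₂, add_mem hy₁ hy₂, by rw [map_add, map_add, map_add, e₁, e₂]⟩
  obtain ⟨y, hy, hy'⟩ := key t
  have : y = x := (Φ_bijective f n U).1 (hy'.trans hz)
  rw [← this]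
  exact hy

end Gen

end Groth.Agent.Lib.Helper29.PPChart
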