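import Groth.Agent.Lib.Helper29.PPSq

set_option autoImplicit false
universe u
open CategoryTheory CategoryTheory.Limits AlgebraicGeometry TopologicalSpace Opposite TensorProduct

namespace Groth.Agent.Lib.Helper29.PPChart2

open Groth.Agent.Lib.Helper29.PPChart Groth.Agent.Lib.Helper29.OmegaCan
  Groth.Agent.Lib.Helper29.OmegaLoc Groth.Agent.Lib.Helper29.PPSq

variable {X S : Scheme.{u}} (f : X ⟶ S) (n : ℕ)
  {U : X.Opens} (hU : IsAffineOpen U) {V : S.Opens} (hV : IsAffineOpen V) (e : U ≤ f ⁻¹ᵁ V)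

/-- `B ⊗_A B → Γ(X^{(n)}, pr₁⁻¹ U)`, `b ⊗ b' ↦ pr₁♯ b · pr₂♯ b'`. -/
noncomputable def ρ : letI := alg f e
    Γ(X, U) ⊗[Γ(S, V)] Γ(X, U) →+* Γ(PrinPart.nbhd f n, PrinPart.pr1 f n ⁻¹ᵁ U) :=
  letI := alg f e
  ((PrinPart.nbhdι f n).appLE (OmegaSh.diagNbhd f U) (PrinPart.pr1 f n ⁻¹ᵁ U)
    (le_preimage_nbhdι f n U)).hom.comp
    (OmegaCan.ψ f hU hV e : Γ(X, U) ⊗[Γ(S, V)] Γ(X, U) →+* Γ(pullback f f, OmegaSh.diagNbhd f U))

theorem ρ_apply : letI := alg f e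
    ∀ z : Γ(X, U) ⊗[Γ(S, V)] Γ(X, U), ρ f n hU hV e z =
      (PrinPart.nbhdι f n).appLE (OmegaSh.diagNbhd f U) (PrinPart.pr1 f n ⁻¹ᵁ U)
        (le_preimage_nbhdι f n U) (OmegaCan.ψ f hU hV e z) := fun _ => rfl

theorem ρ_inl (b : Γ(X, U)) : letI := alg f e
    ρ f n hU hV e (b ⊗ₜ[Γ(S, V)] 1) = (PrinPart.pr1 f n).app U b := by
  letI := alg f e
  rw [ρ_apply, ψ_inl, appLE_nbhdι_fst]

theorem ρ_inr (b : Γ(X, U)) : letI := alg f e
    ρ f n hU hV e (1 ⊗ₜ[Γ(S, V)] b) =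
      (PrinPart.pr2 f n).appLE U (PrinPart.pr1 f n ⁻¹ᵁ U) (le_preimage_pr2 f n U) b := by
  letI := alg f e
  rw [ρ_apply, ψ_inr, appLE_nbhdι_snd]

theorem ρ_surjective : letI := alg f e
    Function.Surjective (ρ f n hU hV e) := by
  letI := alg f e
  intro y
  obtain ⟨w, hw⟩ := appLE_nbhdι_surjective f n hU hV e y
  obtain ⟨z, rfl⟩ := (OmegaCan.ψ f hU hV e).surjective w
  exact ⟨z, hw⟩

theorem ker_ρ : letI := alg f e
    RingHom.ker (ρ f n hU hV e) = KaehlerDifferential.ideal Γ(S, V) Γ(X, U) ^ (n + 1) := by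
  letI := alg f e
  have h1 := ker_comp_pow
    (OmegaCan.ψ f hU hV e : Γ(X, U) ⊗[Γ(S, V)] Γ(X, U) →+* Γ(pullback f f, OmegaSh.diagNbhd f U))
    (OmegaCan.ψ f hU hV e).bijective _ _ (n + 1) (ker_appLE_nbhdι f n hU hV e)
  have h2 : RingHom.ker (((pullback.diagonal f).appLE (OmegaSh.diagNbhd f U) U
        (OmegaSh.le_preimage_diagNbhd f U)).hom.comp
      (OmegaCan.ψ f hU hV e : Γ(X, U) ⊗[Γ(S, V)] Γ(X, U) →+* Γ(pullback f f, OmegaSh.diagNbhd f U))) =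
      KaehlerDifferential.ideal Γ(S, V) Γ(X, U) := by
    ext z
    rw [RingHom.mem_ker, RingHom.comp_apply]
    have h3 := ψ_compat f hU hV e z
    constructor
    · intro h
      exact h3.symm.trans h
    · intro h
      exact h3.trans h
  rw [← h2]
  exact h1

/-- `δN` through `ρ`. -/
theorem ρ_diff (s : Γ(X, U)) : letI := alg f e
    ρ f n hU hV e ((1 : Γ(X, U)) ⊗ₜ[Γ(S, V)] s - s ⊗ₜ[Γ(S, V)] (1 : Γ(X, U))) = δN f n U s := by
  letI := alg f e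
  rw [map_sub, ρ_inl, ρ_inr]
  rfl

end Groth.Agent.Lib.Helper29.PPChart2
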