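import Mathlib

set_option autoImplicit false
universe u
open TensorProduct

namespace Groth.Agent.Lib.Helper29.PPDelta

section Ideal
variable {R : Type*} [CommRing R] (I J : Ideal R)

theorem sup_pow_le (a b : ℕ) : (I ⊔ J) ^ (a + b + 1) ≤ I ^ (a + 1) ⊔ J ^ (b + 1) := by
  rw [← Ideal.add_eq_sup, ← Ideal.add_eq_sup, add_pow, Ideal.sum_eq_sup]
  apply Finset.sup_le
  intro i hi
  by_cases hn : a + 1 ≤ i
  · exact (Ideal.mul_le_left.trans (Ideal.mul_le_left.trans
      ((Ideal.pow_le_pow_right hn).trans le_sup_left)))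
  · refine (Ideal.mul_le_left.trans (Ideal.mul_le_right.trans
      ((Ideal.pow_le_pow_right ?_).trans le_sup_right)))
    omega

end Ideal

variable (A B : Type u) [CommRing A] [CommRing B] [Algebra A B]
variable (R' Rn : Type u) [CommRing R'] [CommRing Rn]
  [Algebra B R'] [Algebra B Rn] [Algebra A R'] [Algebra A Rn]
  [IsScalarTower A B R'] [IsScalarTower A B Rn]
  (l' : B →ₐ[A] R') (r : B →ₐ[A] Rn)

/-- `Δ : B ⊗_A B → R' ⊗_B Rn`, `b ⊗ b' ↦ l' b ⊗ r b'`. -/
noncomputable def Δ : B ⊗[A] B →ₐ[A] R' ⊗[B] Rn :=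
  Algebra.TensorProduct.lift
    ((Algebra.TensorProduct.includeLeft (R := B) (S := A) (A := R') (B := Rn)).comp l')
    (((Algebra.TensorProduct.includeRight (R := B) (A := R') (B := Rn)).restrictScalars A).comp r)
    (fun _ _ => Commute.all _ _)

theorem Δ_tmul (b b' : B) : Δ A B R' Rn l' r (b ⊗ₜ[A] b') = l' b ⊗ₜ[B] r b' := by
  unfold Δ
  rw [Algebra.TensorProduct.lift_tmul]
  simp [Algebra.TensorProduct.tmul_mul_tmul]

theorem Δ_inl_mul (b : B) (t : B ⊗[A] B) :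
    Δ A B R' Rn l' r ((b ⊗ₜ[A] 1) * t) = (l' b ⊗ₜ[B] 1) * Δ A B R' Rn l' r t := by
  rw [map_mul, Δ_tmul, map_one]

theorem Δ_eq_zero (n n' : ℕ)
    (h' : (Ideal.span (Set.range fun b : B => algebraMap B R' b - l' b)) ^ (n' + 1) = ⊥)
    (hn : (Ideal.span (Set.range fun b : B => r b - algebraMap B Rn b)) ^ (n + 1) = ⊥)
    (t : B ⊗[A] B) (ht : t ∈ KaehlerDifferential.ideal A B ^ (n' + n + 1)) :
    Δ A B R' Rn l' r t = 0 := by
  set J' := Ideal.span (Set.range fun b : B => algebraMap B R' b - l' b) with hJ'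
  set Jn := Ideal.span (Set.range fun b : B => r b - algebraMap B Rn b) with hJn
  let iL : R' →+* R' ⊗[B] Rn := (Algebra.TensorProduct.includeLeft (R := B) (S := B) (A := R') (B := Rn)).toRingHom
  let iR : Rn →+* R' ⊗[B] Rn := (Algebra.TensorProduct.includeRight (R := B) (A := R') (B := Rn)).toRingHom
  let D : B ⊗[A] B →+* R' ⊗[B] Rn := (Δ A B R' Rn l' r).toRingHom
  have h1 : (KaehlerDifferential.ideal A B).map D ≤ J'.map iL ⊔ Jn.map iR := by
    rw [← KaehlerDifferential.span_range_eq_ideal, Ideal.map_span, Ideal.span_le]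
    rintro _ ⟨_, ⟨b, rfl⟩, rfl⟩
    have e : D ((1 : B) ⊗ₜ[A] b - b ⊗ₜ[A] (1 : B)) =
        iR (r b - algebraMap B Rn b) + iL (algebraMap B R' b - l' b) := by
      change Δ A B R' Rn l' r _ = (1 : R') ⊗ₜ[B] (r b - algebraMap B Rn b) + (algebraMap B R' b - l' b) ⊗ₜ[B] (1 : Rn)
      rw [map_sub, Δ_tmul, Δ_tmul, map_one, map_one, TensorProduct.tmul_sub, TensorProduct.sub_tmul]
      have e2 : (1 : R') ⊗ₜ[B] (algebraMap B Rn b) = (algebraMap B R' b) ⊗ₜ[B] (1 : Rn) := by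
        rw [Algebra.algebraMap_eq_smul_one, Algebra.algebraMap_eq_smul_one, TensorProduct.tmul_smul,
          TensorProduct.smul_tmul']
      rw [e2]
      abel
    rw [SetLike.mem_coe, e]
    exact Ideal.add_mem _ (Ideal.mem_sup_right (Ideal.mem_map_of_mem _ (Ideal.subset_span ⟨b, rfl⟩)))
      (Ideal.mem_sup_left (Ideal.mem_map_of_mem _ (Ideal.subset_span ⟨b, rfl⟩)))
  have h2 : (KaehlerDifferential.ideal A B ^ (n' + n + 1)).map D = ⊥ := by
    rw [Ideal.map_pow, eq_bot_iff]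
    refine (Ideal.pow_right_mono h1 _).trans ((sup_pow_le _ _ n' n).trans ?_)
    rw [← Ideal.map_pow, ← Ideal.map_pow, h', hn, Ideal.map_bot, Ideal.map_bot, bot_sup_eq]
  have h3 : D t ∈ (KaehlerDifferential.ideal A B ^ (n' + n + 1)).map D := Ideal.mem_map_of_mem _ ht
  rw [h2] at h3
  exact h3

end Groth.Agent.Lib.Helper29.PPDelta
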