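import Groth.Agent.Lib.Helper29.PPChart2
import Groth.Agent.S5954
import Groth.Agent.Lib.Helper29.PPDelta
import Groth.Agent.Lib.Helper28.ModChartGlue
import Groth.Agent.Lib.Helper28.QCohPush
import Groth.Agent.Lib.Helper17.PullbackBC

set_option autoImplicit false
universe u
open CategoryTheory CategoryTheory.Limits AlgebraicGeometry TopologicalSpace Opposite

namespace Groth.Agent.Lib.Helper29.PPDeltaChart

open Groth.Agent.Lib.Helper29.PPChart Groth.Agent.Lib.Helper29.PPSq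
  Groth.Agent.Lib.Helper29.PPChart2 Groth.Agent.Lib.Helper29.PPDelta
  Groth.Agent.Lib.Helper29.OmegaCan Groth.Agent.Lib.Helper29.OmegaLoc TensorProduct
  Groth.Agent.Lib.Helper28.QCohLoc Groth.Agent.Lib.Helper17.PullbackBC
  Groth.Agent.Lib.Helper28.PullbackInv



section Chart

variable {X S : Scheme.{u}} (f : X ⟶ S) (n : ℕ)
  {U : X.Opens} (hU : IsAffineOpen U) {V : S.Opens} (hV : IsAffineOpen V) (e : U ≤ f ⁻¹ᵁ V)

theorem δN_appLE (c : Γ(S, V)) : δN f n U (f.appLE V U e c) = 0 := by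
  have h1 : f.appLE V U e c = X.presheaf.map (homOfLE e).op (f.app V c) := rfl
  rw [h1, ← δN_map f n e, δN_app, map_zero]

theorem pr1_appLE (c : Γ(S, V)) :
    (PrinPart.pr1 f n).app U (f.appLE V U e c) =
      (PrinPart.pr2 f n).appLE U (PrinPart.pr1 f n ⁻¹ᵁ U) (le_preimage_pr2 f n U) (f.appLE V U e c) := by
  have h := δN_appLE f n e c
  rw [δN, sub_eq_zero] at h
  exact h.symm

include hU hV e in
theorem span_δN_pow :
    Ideal.span (Set.range (δN f n U)) ^ (n + 1) = ⊥ := by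
  letI := alg f e
  have h1 : Ideal.span (Set.range (δN f n U)) =
      (KaehlerDifferential.ideal Γ(S, V) Γ(X, U)).map (ρ f n hU hV e) := by
    rw [← KaehlerDifferential.span_range_eq_ideal, Ideal.map_span]
    congr 1
    ext y
    constructor
    · rintro ⟨s, rfl⟩
      exact ⟨_, ⟨s, rfl⟩, ρ_diff f n hU hV e s⟩
    · rintro ⟨_, ⟨s, rfl⟩, rfl⟩
      exact ⟨s, (ρ_diff f n hU hV e s).symm⟩
  rw [h1, ← Ideal.map_pow, ← ker_ρ f n hU hV e, eq_bot_iff]
  rw [Ideal.map_le_iff_le_comap]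
  intro t ht
  rw [Ideal.mem_comap, Ideal.mem_bot]
  exact ht

end Chart

section Psi

variable {X S : Scheme.{u}} (f : X ⟶ S)

/-- the ring of the chart of the `n`-th neighbourhood, with its RIGHT `Γ(X,U)`-algebra structure. -/
def RR (n : ℕ) (U : X.Opens) : Type u := Γ(PrinPart.nbhd f n, PrinPart.pr1 f n ⁻¹ᵁ U)

noncomputable instance (n : ℕ) (U : X.Opens) : CommRing (RR f n U) :=
  inferInstanceAs (CommRing Γ(PrinPart.nbhd f n, PrinPart.pr1 f n ⁻¹ᵁ U))

noncomputable instance (n : ℕ) (U : X.Opens) : Algebra Γ(X, U) (RR f n U) :=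
  ((PrinPart.pr2 f n).appLE U (PrinPart.pr1 f n ⁻¹ᵁ U) (le_preimage_pr2 f n U)).hom.toAlgebra

/-- the ring of the chart of the `n`-th neighbourhood, with its LEFT `Γ(X,U)`-algebra structure. -/
def RL (n : ℕ) (U : X.Opens) : Type u := Γ(PrinPart.nbhd f n, PrinPart.pr1 f n ⁻¹ᵁ U)

noncomputable instance (n : ℕ) (U : X.Opens) : CommRing (RL f n U) :=
  inferInstanceAs (CommRing Γ(PrinPart.nbhd f n, PrinPart.pr1 f n ⁻¹ᵁ U))

noncomputable instance (n : ℕ) (U : X.Opens) : Algebra Γ(X, U) (RL f n U) :=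
  ((PrinPart.pr1 f n).app U).hom.toAlgebra

variable (n n' : ℕ)
  {U : X.Opens} (hU : IsAffineOpen U) {V : S.Opens} (hV : IsAffineOpen V) (e : U ≤ f ⁻¹ᵁ V)

/-- the `A`-algebra structures through `B`. -/
@[reducible] noncomputable def algAR (n : ℕ) : letI := alg f e
    Algebra Γ(S, V) (RR f n U) :=
  letI := alg f e
  ((algebraMap Γ(X, U) (RR f n U)).comp (algebraMap Γ(S, V) Γ(X, U))).toAlgebra

@[reducible] noncomputable def algAL (n : ℕ) : letI := alg f e
    Algebra Γ(S, V) (RL f n U) :=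
  letI := alg f e
  ((algebraMap Γ(X, U) (RL f n U)).comp (algebraMap Γ(S, V) Γ(X, U))).toAlgebra

theorem towerR (n : ℕ) : letI := alg f e; letI := algAR f e n
    IsScalarTower Γ(S, V) Γ(X, U) (RR f n U) := by
  letI := alg f e; letI := algAR f e n
  exact IsScalarTower.of_algebraMap_eq' rfl

theorem towerL (n : ℕ) : letI := alg f e; letI := algAL f e n
    IsScalarTower Γ(S, V) Γ(X, U) (RL f n U) := by
  letI := alg f e; letI := algAL f e n
  exact IsScalarTower.of_algebraMap_eq' rfl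

/-- the left structure map of `RR`, as an `A`-algebra map. -/
noncomputable def lR (n : ℕ) : letI := alg f e; letI := algAR f e n
    Γ(X, U) →ₐ[Γ(S, V)] RR f n U :=
  letI := alg f e; letI := algAR f e n
  { ((PrinPart.pr1 f n).app U).hom with
    commutes' := fun c => pr1_appLE f n e c }

/-- the right structure map of `RL`, as an `A`-algebra map. -/
noncomputable def rL (n : ℕ) : letI := alg f e; letI := algAL f e n
    Γ(X, U) →ₐ[Γ(S, V)] RL f n U :=
  letI := alg f e; letI := algAL f e n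
  { ((PrinPart.pr2 f n).appLE U (PrinPart.pr1 f n ⁻¹ᵁ U) (le_preimage_pr2 f n U)).hom with
    commutes' := fun c => (pr1_appLE f n e c).symm }

/-- `Γ(P^n, U) ≃ RL`, linear for the left structure. -/
noncomputable def NΦ : Γ(PrinPart.P f n, U) ≃ₗ[Γ(X, U)] RL f n U :=
  { AddEquiv.ofBijective (Φ f n U) (Φ_bijective f n U) with
    map_smul' := fun b x => Φ_smul f n U b x }

theorem NΦ_dn (b : Γ(X, U)) : NΦ f n (PrinPart.dn f n U b) = algebraMap Γ(X, U) (RR f n U) b :=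
  Φ_dn f n U b

theorem NΦ_symm_rL (b : Γ(X, U)) : (NΦ f n).symm (rL f e n b) = PrinPart.dn f n U b := by
  rw [LinearEquiv.symm_apply_eq]
  exact (Φ_dn f n U b).symm

noncomputable instance modM (F : X.Modules) : Module (RR f n' U) Γ(PrinPart.PMod f n' F, U) :=
  inferInstanceAs (Module Γ(PrinPart.nbhd f n', PrinPart.pr1 f n' ⁻¹ᵁ U)
    Γ((Scheme.Modules.pullback (PrinPart.pr2 f n')).obj F, PrinPart.pr1 f n' ⁻¹ᵁ U))

theorem smul_eq (F : X.Modules) (b : Γ(X, U)) (m : Γ(PrinPart.PMod f n' F, U)) :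
    b • m = (show RR f n' U from (PrinPart.pr1 f n').app U b) • m := rfl

include hU hV e in
theorem exists_eqv (F : X.Modules) [F.IsQuasicoherent] :
    ∃ eqv : Γ(PrinPart.PMod f n' F, U) ≃ₗ[RR f n' U] (RR f n' U ⊗[Γ(X, U)] Γ(F, U)),
      ∀ t : Γ(F, U), eqv (PrinPart.dP f n' F U t) = (1 : RR f n' U) ⊗ₜ[Γ(X, U)] t := by
  have hN : IsAffineOpen (PrinPart.pr1 f n' ⁻¹ᵁ U) := isAffineOpen_preimage_pr1 f n' hU hV e
  have hBC := isBC_pullback (PrinPart.pr2 f n') hU hN (le_preimage_pr2 f n' U) F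
  obtain ⟨eqv, h⟩ := (isBC_iff _ _).mp hBC
  exact ⟨eqv, h⟩

end Psi

section Psi2

variable {X S : Scheme.{u}} (f : X ⟶ S) (n n' : ℕ)
  {U : X.Opens} (hU : IsAffineOpen U) {V : S.Opens} (hV : IsAffineOpen V) (e : U ≤ f ⁻¹ᵁ V)

include hU hV e in
theorem spanRR : letI := alg f e; letI := algAR f e n
    Ideal.span (Set.range fun b : Γ(X, U) => algebraMap Γ(X, U) (RR f n U) b - lR f e n b) ^ (n + 1) = ⊥ :=
  span_δN_pow f n hU hV e

include hU hV e in
theorem spanRL : letI := alg f e; letI := algAL f e n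
    Ideal.span (Set.range fun b : Γ(X, U) => rL f e n b - algebraMap Γ(X, U) (RL f n U) b) ^ (n + 1) = ⊥ :=
  span_δN_pow f n hU hV e

/-- the ring map `B ⊗_A B → RR ⊗_B RL`. -/
noncomputable def DD : letI := alg f e
    Γ(X, U) ⊗[Γ(S, V)] Γ(X, U) →+* RR f n' U ⊗[Γ(X, U)] RL f n U :=
  letI := alg f e
  letI := algAR f e n'
  letI := algAL f e n
  haveI := towerR f e n'
  haveI := towerL f e n
  (Δ Γ(S, V) Γ(X, U) (RR f n' U) (RL f n U) (lR f e n') (rL f e n)).toRingHom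

theorem DD_tmul (b b' : Γ(X, U)) : letI := alg f e
    DD f n n' e (b ⊗ₜ[Γ(S, V)] b') = lR f e n' b ⊗ₜ[Γ(X, U)] rL f e n b' := by
  letI := alg f e
  letI := algAR f e n'
  letI := algAL f e n
  haveI := towerR f e n'
  haveI := towerL f e n
  exact Δ_tmul _ _ _ _ _ _ b b'

include hU hV in
theorem DD_eq_zero : letI := alg f e
    ∀ t ∈ KaehlerDifferential.ideal Γ(S, V) Γ(X, U) ^ (n' + n + 1), DD f n n' e t = 0 := by
  letI := alg f e
  letI := algAR f e n'
  letI := algAL f e n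
  haveI := towerR f e n'
  haveI := towerL f e n
  intro t ht
  exact Δ_eq_zero _ _ _ _ _ _ n n' (spanRR f n' hU hV e) (spanRL f n hU hV e) t ht

/-- `RR ⊗ RL → RR ⊗ Γ(P^n, U)`. -/
noncomputable def cc : RR f n' U ⊗[Γ(X, U)] RL f n U →+ RR f n' U ⊗[Γ(X, U)] Γ(PrinPart.P f n, U) :=
  (TensorProduct.congr (LinearEquiv.refl Γ(X, U) (RR f n' U)) (NΦ f n).symm).toLinearMap.toAddMonoidHom

theorem cc_tmul (x : RR f n' U) (y : RL f n U) :
    cc f n n' (U := U) (x ⊗ₜ[Γ(X, U)] y) = x ⊗ₜ[Γ(X, U)] (NΦ f n).symm y := rfl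

theorem cc_DD_tmul (b b' : Γ(X, U)) : letI := alg f e
    cc f n n' (DD f n n' e (b ⊗ₜ[Γ(S, V)] b')) =
      lR f e n' b • ((1 : RR f n' U) ⊗ₜ[Γ(X, U)] PrinPart.dn f n U b') := by
  letI := alg f e
  rw [DD_tmul, cc_tmul, NΦ_symm_rL, TensorProduct.smul_tmul', smul_eq_mul, mul_one]


theorem key1 : letI := alg f e
    ∀ (eqv : Γ(PrinPart.PMod f n' (PrinPart.P f n), U) ≃ₗ[RR f n' U] (RR f n' U ⊗[Γ(X, U)] Γ(PrinPart.P f n, U)))
    (_ : ∀ t : Γ(PrinPart.P f n, U), eqv (PrinPart.dP f n' (PrinPart.P f n) U t) = (1 : RR f n' U) ⊗ₜ[Γ(X, U)] t)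
    (b b' : Γ(X, U)), eqv.symm (cc f n n' (DD f n n' e (b ⊗ₜ[Γ(S, V)] b'))) =
      b • PrinPart.dP f n' (PrinPart.P f n) U (PrinPart.dn f n U b') := by
  letI := alg f e
  intro eqv heqv b b'
  rw [cc_DD_tmul]
  rw [LinearEquiv.map_smul]
  rw [← heqv, LinearEquiv.symm_apply_apply]
  exact (smul_eq f n' (PrinPart.P f n) b _).symm

open Groth.Agent.S5954 in
include hU hV e in
theorem exists_chartMap :
    ∃ ψ : Γ(PrinPart.P f (n + n'), U) →+ Γ(PrinPart.PMod f n' (PrinPart.P f n), U),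
      (∀ (a : Γ(X, U)) (x : Γ(PrinPart.P f (n + n'), U)), ψ (a • x) = a • ψ x) ∧
      ∀ t : Γ(X, U), ψ (PrinPart.dn f (n + n') U t) =
        PrinPart.dP f n' (PrinPart.P f n) U (PrinPart.dn f n U t) := by
  letI := alg f e
  haveI : (PrinPart.P f n).IsQuasicoherent := isQuasicoherent_PMod f n _
  obtain ⟨eqv, heqv⟩ := exists_eqv f n' hU hV e (PrinPart.P f n)
  let ψ₀ : Γ(X, U) ⊗[Γ(S, V)] Γ(X, U) →+ Γ(PrinPart.PMod f n' (PrinPart.P f n), U) :=
    eqv.symm.toLinearMap.toAddMonoidHom.comp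
      ((cc f n n' (U := U)).comp (DD f n n' e).toAddMonoidHom)
  have hψ₀ : ∀ t, ψ₀ t = eqv.symm (cc f n n' (DD f n n' e t)) := fun _ => rfl
  have key1' : ∀ b b' : Γ(X, U), ψ₀ (b ⊗ₜ[Γ(S, V)] b') =
      b • PrinPart.dP f n' (PrinPart.P f n) U (PrinPart.dn f n U b') := by
    intro b b'
    rw [hψ₀]
    exact key1 f n n' e eqv heqv b b'
  have key2 : ∀ t ∈ KaehlerDifferential.ideal Γ(S, V) Γ(X, U) ^ (n + n' + 1), ψ₀ t = 0 := by
    intro t ht
    rw [Nat.add_comm n n'] at ht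
    rw [hψ₀, DD_eq_zero f n n' hU hV e t ht, map_zero, map_zero]
  have key3 : ∀ (a : Γ(X, U)) (t : Γ(X, U) ⊗[Γ(S, V)] Γ(X, U)),
      ψ₀ ((a ⊗ₜ[Γ(S, V)] 1) * t) = a • ψ₀ t := by
    intro a t
    induction t with
    | zero => rw [mul_zero, map_zero, smul_zero]
    | tmul b b' =>
      rw [Algebra.TensorProduct.tmul_mul_tmul, one_mul, key1', key1', mul_smul]
    | add t₁ t₂ h₁ h₂ => rw [mul_add, map_add, map_add, smul_add, h₁, h₂]
  have hπs : Function.Surjective (πP f (n + n') hU hV e) := πP_surjective f (n + n') hU hV e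
  have hker : (πP f (n + n') hU hV e).ker ≤ ψ₀.ker := by
    intro t ht
    rw [AddMonoidHom.mem_ker] at ht ⊢
    exact key2 t ((πP_eq_zero_iff f (n + n') hU hV e t).mp ht)
  let ψ := (πP f (n + n') hU hV e).liftOfRightInverse (Function.surjInv hπs)
    (Function.rightInverse_surjInv hπs) ⟨ψ₀, hker⟩
  have hψ : ∀ t, ψ (πP f (n + n') hU hV e t) = ψ₀ t := fun t =>
    AddMonoidHom.liftOfRightInverse_comp_apply (πP f (n + n') hU hV e) _
      (Function.rightInverse_surjInv hπs) ⟨ψ₀, hker⟩ t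
  refine ⟨ψ, ?_, ?_⟩
  · intro a x
    obtain ⟨t, rfl⟩ := hπs x
    rw [← πP_smul f (n + n') hU hV e a t, hψ, hψ, key3]
  · intro t
    have h1 : PrinPart.dn f (n + n') U t = πP f (n + n') hU hV e ((1 : Γ(X, U)) ⊗ₜ[Γ(S, V)] t) := by
      rw [πP_tmul, one_smul]
    rw [h1, hψ, key1', one_smul]

end Psi2

end Groth.Agent.Lib.Helper29.PPDeltaChart
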