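import Mathlib

/-!
# `(B ⊗_A B) / I^(n+1)` is a finitely presented `B`-module for `A → B` of finite presentation
-/

set_option autoImplicit false
universe u

namespace Groth.Agent.Lib.Helper29.PPFP

open TensorProduct

variable (A B : Type u) [CommRing A] [CommRing B] [Algebra A B]

theorem sub_mem_ideal (t : B ⊗[A] B) :
    t - (Algebra.TensorProduct.lmul' A t) ⊗ₜ[A] (1 : B) ∈ KaehlerDifferential.ideal A B := by
  change Algebra.TensorProduct.lmul' A (t - (Algebra.TensorProduct.lmul' A t) ⊗ₜ[A] (1 : B)) = 0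
  rw [map_sub, Algebra.TensorProduct.lmul'_apply_tmul, mul_one, sub_self]

instance isIntegral_quotient (n : ℕ) :
    Algebra.IsIntegral B ((B ⊗[A] B) ⧸ KaehlerDifferential.ideal A B ^ n) := by
  constructor
  intro x
  obtain ⟨t, rfl⟩ := Ideal.Quotient.mk_surjective x
  have h1 : Ideal.Quotient.mk (KaehlerDifferential.ideal A B ^ n) t =
      algebraMap B _ (Algebra.TensorProduct.lmul' A t) +
        Ideal.Quotient.mk (KaehlerDifferential.ideal A B ^ n)
          (t - (Algebra.TensorProduct.lmul' A t) ⊗ₜ[A] (1 : B)) := by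
    rw [map_sub]
    change _ = Ideal.Quotient.mk _ (algebraMap B (B ⊗[A] B) _) + _
    rw [Algebra.TensorProduct.algebraMap_apply]
    simp
  rw [h1]
  have hnil : (Ideal.Quotient.mk (KaehlerDifferential.ideal A B ^ n)
      (t - (Algebra.TensorProduct.lmul' A t) ⊗ₜ[A] (1 : B))) ^ n = 0 := by
    rw [← map_pow, Ideal.Quotient.eq_zero_iff_mem]
    exact Ideal.pow_mem_pow (sub_mem_ideal A B t) n
  refine IsIntegral.add isIntegral_algebraMap
    ⟨Polynomial.X ^ n, Polynomial.monic_X_pow n, ?_⟩
  rw [Polynomial.eval₂_pow, Polynomial.eval₂_X, hnil]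

theorem finitePresentation_quotient [Algebra.FinitePresentation A B] (n : ℕ) :
    Module.FinitePresentation B ((B ⊗[A] B) ⧸ KaehlerDifferential.ideal A B ^ n) := by
  haveI : Algebra.FinitePresentation B (B ⊗[A] B) := inferInstance
  have hfg : (KaehlerDifferential.ideal A B ^ n).FG := (KaehlerDifferential.ideal_fg A B).pow
  haveI : Algebra.FinitePresentation B ((B ⊗[A] B) ⧸ KaehlerDifferential.ideal A B ^ n) :=
    Algebra.FinitePresentation.quotient hfg
  haveI : Module.Finite B ((B ⊗[A] B) ⧸ KaehlerDifferential.ideal A B ^ n) :=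
    Algebra.IsIntegral.finite
  exact Module.FinitePresentation.of_finite_of_finitePresentation _ _

end Groth.Agent.Lib.Helper29.PPFP
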