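import Mathlib.RingTheory.Kaehler.Basic

set_option autoImplicit false
universe u
open TensorProduct

namespace Groth.Agent.Lib.Helper29.PPOneAlg

variable {A B : Type u} [CommRing A] [CommRing B] [Algebra A B]
  {Q : Type u} [CommRing Q] (ρ : B ⊗[A] B →+* Q) (lam : Ω[B⁄A] →+ Q)
  (hs : ∀ (b : B) (η : Ω[B⁄A]), lam (b • η) = ρ (b ⊗ₜ[A] 1) * lam η)
  (hD : ∀ s : B, lam (KaehlerDifferential.D A B s) = ρ ((1 : B) ⊗ₜ[A] s - s ⊗ₜ[A] (1 : B)))

include hs hD in
/-- a semilinear map out of `Ω_{B/A} = I/I²` which is `ρ` on the generators `1 ⊗ s − s ⊗ 1` is induced by `ρ`. -/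
theorem lam_toCotangent (z : B ⊗[A] B) (hz : z ∈ KaehlerDifferential.ideal A B) :
    lam (KaehlerDifferential.fromIdeal A B ⟨z, hz⟩) = ρ z := by
  have hz' : z ∈ Submodule.span B (Set.range fun s : B => (1 : B) ⊗ₜ[A] s - s ⊗ₜ[A] (1 : B)) := by
    rw [KaehlerDifferential.submodule_span_range_eq_ideal]
    exact hz
  have key : ∀ z ∈ Submodule.span B (Set.range fun s : B => (1 : B) ⊗ₜ[A] s - s ⊗ₜ[A] (1 : B)),
      ∃ hz : z ∈ KaehlerDifferential.ideal A B,
        lam (KaehlerDifferential.fromIdeal A B ⟨z, hz⟩) = ρ z := by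
    intro z hz
    induction hz using Submodule.span_induction with
    | mem x hx =>
      obtain ⟨s, rfl⟩ := hx
      exact ⟨KaehlerDifferential.one_smul_sub_smul_one_mem_ideal A s, hD s⟩
    | zero =>
      refine ⟨zero_mem _, ?_⟩
      have h0 : (⟨0, zero_mem _⟩ : KaehlerDifferential.ideal A B) = 0 := rfl
      rw [h0, map_zero, map_zero, map_zero]
    | add x y _ _ hx hy =>
      obtain ⟨hx1, hx2⟩ := hx
      obtain ⟨hy1, hy2⟩ := hy
      refine ⟨add_mem hx1 hy1, ?_⟩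
      have h0 : (⟨x + y, add_mem hx1 hy1⟩ : KaehlerDifferential.ideal A B) =
          ⟨x, hx1⟩ + ⟨y, hy1⟩ := rfl
      rw [h0, map_add, map_add, map_add, hx2, hy2]
    | smul b x _ hx =>
      obtain ⟨hx1, hx2⟩ := hx
      have hmem : b • x ∈ KaehlerDifferential.ideal A B :=
        ((KaehlerDifferential.ideal A B).restrictScalars B).smul_mem b hx1
      refine ⟨hmem, ?_⟩
      have h0 : (⟨b • x, hmem⟩ : KaehlerDifferential.ideal A B) = b • ⟨x, hx1⟩ := rfl
      rw [h0, LinearMap.map_smul_of_tower, hs, hx2]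
      have h1 : b • x = (b ⊗ₜ[A] (1 : B)) * x := by
        rw [Algebra.smul_def]
        rfl
      rw [h1, map_mul]
  obtain ⟨_, h⟩ := key z hz'
  exact h

variable (hsurj : Function.Surjective ρ)
  (hker : RingHom.ker ρ = KaehlerDifferential.ideal A B ^ 2)

include hs hD hker in
theorem eq_zero_of_add_eq_zero (s : B) (η : Ω[B⁄A]) (h : ρ (s ⊗ₜ[A] 1) + lam η = 0) :
    s = 0 ∧ η = 0 := by
  obtain ⟨⟨z, hz⟩, rfl⟩ := KaehlerDifferential.fromIdeal_surjective A B η
  rw [lam_toCotangent ρ lam hs hD z hz, ← map_add] at h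
  have h1 : s ⊗ₜ[A] (1 : B) + z ∈ KaehlerDifferential.ideal A B ^ 2 := by
    rw [← hker]
    exact h
  have h2 : s ⊗ₜ[A] (1 : B) + z ∈ KaehlerDifferential.ideal A B := Ideal.pow_le_self two_ne_zero h1
  have h3 : s ⊗ₜ[A] (1 : B) ∈ KaehlerDifferential.ideal A B := by
    have := sub_mem h2 hz
    rwa [add_sub_cancel_right] at this
  have hs0 : s = 0 := by
    have h4 : Algebra.TensorProduct.lmul' A (s ⊗ₜ[A] (1 : B)) = 0 := h3
    rw [Algebra.TensorProduct.lmul'_apply_tmul, mul_one] at h4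
    exact h4
  refine ⟨hs0, ?_⟩
  rw [hs0, TensorProduct.zero_tmul, zero_add] at h1
  exact (Ideal.toCotangent_eq_zero _ ⟨z, hz⟩).2 h1

include hs hD hsurj in
theorem exists_add_eq (q : Q) : ∃ (s : B) (η : Ω[B⁄A]), ρ (s ⊗ₜ[A] 1) + lam η = q := by
  obtain ⟨t, rfl⟩ := hsurj q
  let s : B := Algebra.TensorProduct.lmul' A t
  have hz : t - s ⊗ₜ[A] (1 : B) ∈ KaehlerDifferential.ideal A B := by
    change Algebra.TensorProduct.lmul' A (t - s ⊗ₜ[A] (1 : B)) = 0
    rw [map_sub, Algebra.TensorProduct.lmul'_apply_tmul, mul_one, sub_self]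
  refine ⟨s, KaehlerDifferential.fromIdeal A B ⟨_, hz⟩, ?_⟩
  rw [lam_toCotangent ρ lam hs hD _ hz, ← map_add, add_sub_cancel]

end Groth.Agent.Lib.Helper29.PPOneAlg
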