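import Groth.Agent.Lib.Helper29.PPChart
import Groth.Agent.Lib.Helper28.QCohGen

set_option autoImplicit false
universe u
open CategoryTheory CategoryTheory.Limits AlgebraicGeometry TopologicalSpace Opposite TensorProduct

namespace Groth.Agent.Lib.Helper29.PPSq

open Groth.Agent.Lib.Helper29.PPChart Groth.Agent.Lib.Helper29.OmegaCan

variable {X S : Scheme.{u}} (f : X ⟶ S) (n : ℕ)

/-- `pr₂♯ a − pr₁♯ a` on `X^{(n)}`. -/
noncomputable def δN (U : X.Opens) (a : Γ(X, U)) : Γ(PrinPart.nbhd f n, PrinPart.pr1 f n ⁻¹ᵁ U) :=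
  (PrinPart.pr2 f n).appLE U (PrinPart.pr1 f n ⁻¹ᵁ U) (le_preimage_pr2 f n U) a -
    (PrinPart.pr1 f n).app U a

theorem δN_eq (U : X.Opens) (a : Γ(X, U)) :
    δN f n U a = (PrinPart.nbhdι f n).appLE (OmegaSh.diagNbhd f U) (PrinPart.pr1 f n ⁻¹ᵁ U)
      (le_preimage_nbhdι f n U) (OmegaSh.diagDiff f U a) := by
  rw [OmegaSh.diagDiff, map_sub, appLE_nbhdι_fst, appLE_nbhdι_snd]
  rfl

theorem δN_map {U U' : X.Opens} (h : U' ≤ U) (a : Γ(X, U)) :
    (PrinPart.nbhd f n).presheaf.map (homOfLE ((PrinPart.pr1 f n).preimage_mono h)).op (δN f n U a) =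
      δN f n U' (X.presheaf.map (homOfLE h).op a) := by
  rw [δN, δN, map_sub]
  congr 1
  · rw [← ConcreteCategory.comp_apply, ← ConcreteCategory.comp_apply, Scheme.Hom.appLE_map,
      Scheme.Hom.map_appLE]
  · rw [← ConcreteCategory.comp_apply, ← ConcreteCategory.comp_apply]
    exact congr($((PrinPart.pr1 f n).naturality (homOfLE h).op) a).symm

theorem diagDiff_mem_ker (U : X.Opens) (a : Γ(X, U)) :
    OmegaSh.diagDiff f U a ∈ RingHom.ker ((pullback.diagonal f).appLE (OmegaSh.diagNbhd f U) U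
        (OmegaSh.le_preimage_diagNbhd f U)).hom := by
  rw [RingHom.mem_ker]
  have h1 := OmegaSh.diagonal_app_diagDiff f U a (le_refl (OmegaSh.diagNbhd f U))
  rw [OmegaSh.res_refl] at h1
  change X.presheaf.map _ ((pullback.diagonal f).app _ _) = 0
  rw [h1, map_zero]

/-- on an affine chart, products of `n+1` differences vanish on `X^{(n)}`; here for `n = 1`. -/
theorem δN_mul_δN_affine {U : X.Opens} (hU : IsAffineOpen U) {V : S.Opens} (hV : IsAffineOpen V)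
    (e : U ≤ f ⁻¹ᵁ V) (a b : Γ(X, U)) : δN f 1 U a * δN f 1 U b = 0 := by
  rw [δN_eq, δN_eq, ← map_mul]
  have h1 : OmegaSh.diagDiff f U a * OmegaSh.diagDiff f U b ∈
      RingHom.ker ((PrinPart.nbhdι f 1).appLE (OmegaSh.diagNbhd f U) (PrinPart.pr1 f 1 ⁻¹ᵁ U)
        (le_preimage_nbhdι f 1 U)).hom := by
    rw [ker_appLE_nbhdι f 1 hU hV e, pow_two]
    exact Ideal.mul_mem_mul (diagDiff_mem_ker f U a) (diagDiff_mem_ker f U b)
  exact h1

/-- `(pr₂♯ a − pr₁♯ a)(pr₂♯ b − pr₁♯ b) = 0` on the first infinitesimal neighbourhood. -/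
theorem δN_mul_δN (U : X.Opens) (a b : Γ(X, U)) : δN f 1 U a * δN f 1 U b = 0 := by
  let N := PrinPart.nbhd f 1
  let p := PrinPart.pr1 f 1
  refine N.sheaf.eq_of_locally_eq'
    (fun V : {V : X.Opens // IsAffineOpen V ∧ V ≤ U ∧ ∃ VS : S.Opens, IsAffineOpen VS ∧ V ≤ f ⁻¹ᵁ VS} =>
      p ⁻¹ᵁ V.1) (p ⁻¹ᵁ U) (fun V => (TopologicalSpace.Opens.map p.base).map (homOfLE V.2.2.1))
    ?_ _ _ ?_
  · intro z hz
    obtain ⟨_, ⟨VS, hVS, rfl⟩, hfVS, -⟩ :=
      S.isBasis_affineOpens.exists_subset_of_mem_open (Set.mem_univ (f (p z))) isOpen_univ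
    have h1 : p z ∈ U ⊓ f ⁻¹ᵁ VS := ⟨hz, hfVS⟩
    obtain ⟨_, ⟨V, hV, rfl⟩, hptV, hle⟩ :=
      X.isBasis_affineOpens.exists_subset_of_mem_open h1 (U ⊓ f ⁻¹ᵁ VS).isOpen
    exact TopologicalSpace.Opens.mem_iSup.mpr
      ⟨⟨V, hV, fun x hx => (hle hx).1, VS, hVS, fun x hx => (hle hx).2⟩, hptV⟩
  · rintro ⟨V, hV, hVU, VS, hVS, hVf⟩
    change N.presheaf.map (homOfLE (p.preimage_mono hVU)).op (δN f 1 U a * δN f 1 U b) =
      N.presheaf.map (homOfLE (p.preimage_mono hVU)).op 0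
    rw [map_zero, map_mul, δN_map f 1 hVU, δN_map f 1 hVU]
    exact δN_mul_δN_affine f hV hVS hVf _ _

section DeltaP

/-- `dⁿ a − a • dⁿ 1` in `Γ(Pⁿ, U)`. -/
noncomputable def δP (U : X.Opens) (a : Γ(X, U)) : Γ(PrinPart.P f n, U) :=
  PrinPart.dn f n U a - a • PrinPart.dn f n U 1

theorem Φ_a_dn_one (U : X.Opens) (a : Γ(X, U)) :
    Φ f n U (a • PrinPart.dn f n U 1) = (PrinPart.pr1 f n).app U a := by
  rw [Φ_smul, Φ_dn, map_one, mul_one]

theorem Φ_δP (U : X.Opens) (a : Γ(X, U)) : Φ f n U (δP f n U a) = δN f n U a := by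
  rw [δP, map_sub, Φ_dn, Φ_a_dn_one]
  rfl

theorem δP_add (U : X.Opens) (a b : Γ(X, U)) : δP f n U (a + b) = δP f n U a + δP f n U b := by
  rw [δP, δP, δP, map_add, add_smul]
  abel

theorem dn_map {U V : X.Opens} (e : V ≤ U) (a : Γ(X, U)) :
    PrinPart.dn f n V (X.presheaf.map (homOfLE e).op a) =
      (PrinPart.P f n).presheaf.map (homOfLE e).op (PrinPart.dn f n U a) :=
  PrinPart.dP_map f n (Coh.structureModule X) e (OmegaSh.strSect X U a)

theorem δP_map {U V : X.Opens} (e : V ≤ U) (a : Γ(X, U)) :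
    δP f n V (X.presheaf.map (homOfLE e).op a) =
      (PrinPart.P f n).presheaf.map (homOfLE e).op (δP f n U a) := by
  have h1 : (PrinPart.P f n).presheaf.map (homOfLE e).op (PrinPart.dn f n U 1) =
      PrinPart.dn f n V 1 := by
    rw [← dn_map, map_one]
  rw [δP, δP, map_sub, dn_map, Scheme.Modules.map_smul, h1]

theorem δN_app (V : S.Opens) (c : Γ(S, V)) : δN f n (f ⁻¹ᵁ V) (f.app V c) = 0 := by
  rw [δN, sub_eq_zero, ← ConcreteCategory.comp_apply, ← ConcreteCategory.comp_apply,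
    Scheme.Hom.app_eq_appLE, Scheme.Hom.app_eq_appLE, Scheme.Hom.appLE_comp_appLE,
    Scheme.Hom.appLE_comp_appLE]
  exact congr($(OmegaSh.appLE_congr_hom (PrinPart.pr1_comp f n).symm _ _) c)

theorem δP_app (V : S.Opens) (c : Γ(S, V)) : δP f n (f ⁻¹ᵁ V) (f.app V c) = 0 := by
  apply (Φ_bijective f n (f ⁻¹ᵁ V)).1
  rw [Φ_δP, δN_app, map_zero]

theorem δN_mul (U : X.Opens) (a b : Γ(X, U)) :
    δN f n U (a * b) = (PrinPart.pr1 f n).app U a * δN f n U b +
      (PrinPart.pr1 f n).app U b * δN f n U a + δN f n U a * δN f n U b := by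
  simp only [δN, map_mul]
  ring

/-- Leibniz rule in `P¹`. -/
theorem δP_mul (U : X.Opens) (a b : Γ(X, U)) :
    δP f 1 U (a * b) = a • δP f 1 U b + b • δP f 1 U a := by
  apply (Φ_bijective f 1 U).1
  rw [Φ_δP, map_add, Φ_smul, Φ_smul, Φ_δP, Φ_δP, δN_mul, δN_mul_δN, add_zero]

end DeltaP

section Der

variable {f} in
/-- the `S`-derivation `a ↦ u (d¹ a − a • d¹ 1)` attached to a linear map out of `P¹`. -/
noncomputable def derOf {G : X.Modules} (u : PrinPart.P f 1 ⟶ G) : OmegaSh.Der f G where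
  d {U} := AddMonoidHom.mk' (fun a => u.app U.unop (δP f 1 U.unop a)) (fun a b => by
    rw [δP_add]
    exact map_add _ _ _)
  d_mul {U} a b := by
    change u.app U.unop (δP f 1 U.unop (a * b)) =
      (show Γ(X, U.unop) from a) • u.app U.unop (δP f 1 U.unop b) +
        (show Γ(X, U.unop) from b) • u.app U.unop (δP f 1 U.unop a)
    rw [δP_mul, map_add, Scheme.Modules.Hom.app_smul, Scheme.Modules.Hom.app_smul]
  d_map {U V} i a := by
    change u.app V.unop (δP f 1 V.unop (X.presheaf.map i a)) =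
      G.presheaf.map i (u.app U.unop (δP f 1 U.unop a))
    have h1 := δP_map f 1 i.unop.le a
    have h2 : i = (homOfLE i.unop.le).op := rfl
    rw [h2, h1]
    exact Groth.Agent.Lib.Helper28.QCohLoc.app_res u i.unop.le (δP f 1 U.unop a)
  d_app {V} c := by
    change u.app (f ⁻¹ᵁ V.unop) (δP f 1 (f ⁻¹ᵁ V.unop) (f.app V.unop c)) = 0
    rw [δP_app, map_zero]

theorem derOf_app {G : X.Modules} (u : PrinPart.P f 1 ⟶ G) (U : X.Opens) (a : Γ(X, U)) :
    (derOf u).app U a = u.app U (δP f 1 U a) := rfl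

end Der

end Groth.Agent.Lib.Helper29.PPSq
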