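import Groth.Agent.Lib.Helper29.ConormalMap
import Groth.Agent.Lib.Helper28.QCohGen
import Groth.Prelude.Def_OmegaPn

set_option autoImplicit false
universe u
open CategoryTheory CategoryTheory.Limits AlgebraicGeometry TopologicalSpace Opposite

namespace Groth.Agent.Lib.Helper29.PTrans

open Groth.Agent.Lib.Helper28.QCohLoc Groth.Agent.Lib.Helper29.ConormalMap

section General

/-! A morphism `t : N' ⟶ N` of schemes over `X` in two ways (`p₁, p₂ : N ⟶ X`, `p₁', p₂' : N' ⟶ X` with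
`t ≫ p₁ = p₁'`, `t ≫ p₂ = p₂'`) induces `(p₁)_* (p₂)^* F ⟶ (p₁')_* (p₂')^* F`. -/

variable {N N' X : Scheme.{u}} (t : N' ⟶ N) (p₁ p₂ : N ⟶ X) (p₁' p₂' : N' ⟶ X)
  (h₁ : t ≫ p₁ = p₁') (h₂ : t ≫ p₂ = p₂') (F : X.Modules)

/-- `F ⟶ (p₂)_* t_* (p₂')^* F`. -/
noncomputable def pre : F ⟶ (Scheme.Modules.pushforward p₂).obj
    ((Scheme.Modules.pushforward t).obj ((Scheme.Modules.pullback p₂').obj F)) :=
  (Scheme.Modules.pullbackPushforwardAdjunction p₂').unit.app F ≫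
    (Scheme.Modules.pushforwardCongr h₂.symm).hom.app _ ≫
      (Scheme.Modules.pushforwardComp t p₂).inv.app _

include h₂ in
theorem preimage_eq₂ (U : X.Opens) : t ⁻¹ᵁ (p₂ ⁻¹ᵁ U) = p₂' ⁻¹ᵁ U := by
  rw [← Scheme.Hom.comp_preimage, h₂]

include h₁ in
theorem preimage_eq₁ (U : X.Opens) : t ⁻¹ᵁ (p₁ ⁻¹ᵁ U) = p₁' ⁻¹ᵁ U := by
  rw [← Scheme.Hom.comp_preimage, h₁]

theorem pre_app (U : X.Opens) (x : Γ(F, U)) :
    (pre t p₂ p₂' h₂ F).app U x =
      ((Scheme.Modules.pullback p₂').obj F).presheaf.map (eqToHom (preimage_eq₂ t p₂ p₂' h₂ U)).op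
        (OmegaSh.pullSect p₂' F U x) := by
  rfl

/-- `(p₂)^* F ⟶ t_* (p₂')^* F`. -/
noncomputable def mid : (Scheme.Modules.pullback p₂).obj F ⟶
    (Scheme.Modules.pushforward t).obj ((Scheme.Modules.pullback p₂').obj F) :=
  transp p₂ (pre t p₂ p₂' h₂ F)

theorem mid_pullSect (U : X.Opens) (x : Γ(F, U)) :
    (mid t p₂ p₂' h₂ F).app (p₂ ⁻¹ᵁ U) (OmegaSh.pullSect p₂ F U x) =
      ((Scheme.Modules.pullback p₂').obj F).presheaf.map (eqToHom (preimage_eq₂ t p₂ p₂' h₂ U)).op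
        (OmegaSh.pullSect p₂' F U x) := by
  unfold mid
  rw [transp_pullSect]
  exact pre_app t p₂ p₂' h₂ F U x

/-- the transition map `(p₁)_* (p₂)^* F ⟶ (p₁')_* (p₂')^* F`. -/
noncomputable def trans : (Scheme.Modules.pushforward p₁).obj ((Scheme.Modules.pullback p₂).obj F) ⟶
    (Scheme.Modules.pushforward p₁').obj ((Scheme.Modules.pullback p₂').obj F) :=
  (Scheme.Modules.pushforward p₁).map (mid t p₂ p₂' h₂ F) ≫
    (Scheme.Modules.pushforwardComp t p₁).hom.app _ ≫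
      (Scheme.Modules.pushforwardCongr h₁).hom.app _

theorem trans_app (U : X.Opens)
    (y : Γ((Scheme.Modules.pullback p₂).obj F, p₁ ⁻¹ᵁ U)) :
    (trans t p₁ p₂ p₁' p₂' h₁ h₂ F).app U y =
      ((Scheme.Modules.pullback p₂').obj F).presheaf.map
        (eqToHom (preimage_eq₁ t p₁ p₁' h₁ U).symm).op
        ((mid t p₂ p₂' h₂ F).app (p₁ ⁻¹ᵁ U) y) := by
  rfl

theorem push_map (M : N'.Modules) {A B : N.Opens} (j : B ⟶ A)
    (y : Γ(M, t ⁻¹ᵁ A)) :
    ((Scheme.Modules.pushforward t).obj M).presheaf.map j.op y =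
      M.presheaf.map ((Opens.map t.base).map j).op y := rfl

theorem map_map_map_eq {T : Scheme.{u}} (M : T.Modules) {A B C D : T.Opens} (a : B ⟶ A) (b : C ⟶ B)
    (c : D ⟶ C) (d : D ⟶ A) (x : Γ(M, A)) :
    M.presheaf.map c.op (M.presheaf.map b.op (M.presheaf.map a.op x)) = M.presheaf.map d.op x := by
  rw [map_map_eq M a b (b ≫ a) x]
  exact map_map_eq M _ _ _ x

/-- the transition map is compatible with the canonical operators `t ↦ 1 ⊗ t`. -/
theorem trans_d (U : X.Opens) (e : p₁ ⁻¹ᵁ U = p₂ ⁻¹ᵁ U) (e' : p₁' ⁻¹ᵁ U = p₂' ⁻¹ᵁ U) (x : Γ(F, U)) :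
    (trans t p₁ p₂ p₁' p₂' h₁ h₂ F).app U
        (((Scheme.Modules.pullback p₂).obj F).presheaf.map (homOfLE e.le).op
          (OmegaSh.pullSect p₂ F U x)) =
      ((Scheme.Modules.pullback p₂').obj F).presheaf.map (homOfLE e'.le).op
        (OmegaSh.pullSect p₂' F U x) := by
  rw [trans_app]
  have h1 := app_res (mid t p₂ p₂' h₂ F) e.le (OmegaSh.pullSect p₂ F U x)
  have h2 := mid_pullSect t p₂ p₂' h₂ F U x
  have h3 : (mid t p₂ p₂' h₂ F).app (p₁ ⁻¹ᵁ U)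
      (((Scheme.Modules.pullback p₂).obj F).presheaf.map (homOfLE e.le).op
          (OmegaSh.pullSect p₂ F U x)) =
      ((Scheme.Modules.pullback p₂').obj F).presheaf.map
        ((Opens.map t.base).map (homOfLE e.le)).op
        (((Scheme.Modules.pullback p₂').obj F).presheaf.map
          (eqToHom (preimage_eq₂ t p₂ p₂' h₂ U)).op (OmegaSh.pullSect p₂' F U x)) := by
    rw [← h2]
    exact h1
  rw [h3]
  exact map_map_map_eq ((Scheme.Modules.pullback p₂').obj F) _ _ _ _ _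

end General

section PMod

variable {X S : Scheme.{u}} (f : X ⟶ S) {n m : ℕ} (h : n ≤ m) (F : X.Modules)

theorem map_pr1 : PrinPart.infNbhdMap (PrinPart.diagCl f) h ≫ PrinPart.pr1 f m = PrinPart.pr1 f n := by
  unfold PrinPart.pr1 PrinPart.nbhdι
  rw [← Category.assoc, ← Category.assoc, PrinPart.infNbhdMap_ι]

theorem map_pr2 : PrinPart.infNbhdMap (PrinPart.diagCl f) h ≫ PrinPart.pr2 f m = PrinPart.pr2 f n := by
  unfold PrinPart.pr2 PrinPart.nbhdι
  rw [← Category.assoc, ← Category.assoc, PrinPart.infNbhdMap_ι]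

/-- the transition map `P^m(F) ⟶ P^n(F)` for `n ≤ m`. -/
noncomputable def pTrans : PrinPart.PMod f m F ⟶ PrinPart.PMod f n F :=
  trans (PrinPart.infNbhdMap (PrinPart.diagCl f) h) (PrinPart.pr1 f m) (PrinPart.pr2 f m)
    (PrinPart.pr1 f n) (PrinPart.pr2 f n) (map_pr1 f h) (map_pr2 f h) F

theorem pTrans_dP (U : X.Opens) (x : Γ(F, U)) :
    (pTrans f h F).app U (PrinPart.dP f m F U x) = PrinPart.dP f n F U x :=
  trans_d (PrinPart.infNbhdMap (PrinPart.diagCl f) h) (PrinPart.pr1 f m) (PrinPart.pr2 f m)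
    (PrinPart.pr1 f n) (PrinPart.pr2 f n) (map_pr1 f h) (map_pr2 f h) F U
    (PrinPart.preimage_pr1 f m U) (PrinPart.preimage_pr1 f n U) x

end PMod

end Groth.Agent.Lib.Helper29.PTrans
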