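import Groth.Agent.Lib.Helper9.GlueFinal3
import Mathlib.AlgebraicGeometry.Morphisms.IsIso

set_option autoImplicit false
universe u
open CategoryTheory CategoryTheory.Limits AlgebraicGeometry TopologicalSpace

namespace Groth.Agent.Lib.Helper29.ProjRees

open Groth.Agent.Lib.Helper9.GlueFinal

variable {X : Scheme.{u}} (S : Setup X)

/-- a final object restricted to the `i`-th locus is the `i`-th local final object -/
theorem locus_final_iso {Y : Scheme.{u}} (b : Y ⟶ X) (hb : S.P b)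
    (hU : ∀ (T : Scheme.{u}) (g : T ⟶ X), S.P g → ∃! h : T ⟶ Y, h ≫ b = g) (i : S.J) :
    ∃ k : (S.locus i b : Scheme.{u}) ⟶ S.Y i, IsIso k ∧ k ≫ S.b i = (S.locus i b).ι ≫ b := by
  set U := S.locus i b with hUdef
  have hPU : S.P (U.ι ≫ b) := S.P_open U.ι b hb
  have hlU : S.locus i (U.ι ≫ b) = ⊤ := Setup.locus_ι S b hb i
  obtain ⟨k, hk, -⟩ := S.lift i (U.ι ≫ b) hPU hlU
  obtain ⟨l, hl, -⟩ := hU (S.Y i) (S.b i) (S.P_b i)
  have hlr : Set.range l ⊆ Set.range U.ι := by
    rintro _ ⟨y, rfl⟩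
    rw [Scheme.Opens.range_ι]
    have h1 : S.locus i (l ≫ b) = l ⁻¹ᵁ S.locus i b :=
      S.locus_comp i b l hb (by rw [hl]; exact S.P_b i)
    rw [hl, S.locus_b] at h1
    have : y ∈ l ⁻¹ᵁ S.locus i b := by rw [← h1]; trivial
    exact this
  let l' : S.Y i ⟶ (U : Scheme.{u}) := IsOpenImmersion.lift U.ι l hlr
  have hl' : l' ≫ U.ι = l := IsOpenImmersion.lift_fac _ _ _
  have h1 : l' ≫ k = 𝟙 _ := by
    apply S.hom_ext_Y i
    · rw [Category.assoc, hk, ← Category.assoc, hl', hl]; exact S.P_b i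
    · rw [Category.assoc, hk, ← Category.assoc, hl', hl, Category.id_comp]
  have h2 : k ≫ l' = 𝟙 _ := by
    rw [← cancel_mono U.ι, Category.assoc, hl', Category.id_comp]
    exact (hU _ (U.ι ≫ b) hPU).unique (by rw [Category.assoc, hl, hk]) rfl
  exact ⟨k, ⟨l', h2, h1⟩, hk⟩

/-- **criterion for being final**: an object with property `P` whose loci are the local final
objects is final. -/
theorem final_of_local {P : Scheme.{u}} (p : P ⟶ X) (hp : S.P p)
    (e : ∀ i, (S.locus i p : Scheme.{u}) ≅ S.Y i)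
    (he : ∀ i, (e i).hom ≫ S.b i = (S.locus i p).ι ≫ p) :
    ∀ (T : Scheme.{u}) (g : T ⟶ X), S.P g → ∃! h : T ⟶ P, h ≫ p = g := by
  obtain ⟨Y, b, hb, hU⟩ := S.exists_final
  obtain ⟨h, hh, -⟩ := hU P p hp
  have hiso : IsIso h := by
    have hcov : ⨆ i, S.locus i b = ⊤ := S.locus_cover b hb
    refine IsZariskiLocalAtTarget.of_iSup_eq_top (P := MorphismProperty.isomorphisms Scheme.{u})
      (fun i => S.locus i b) hcov (fun i => ?_)
    change IsIso (h ∣_ S.locus i b)
    obtain ⟨k, hkiso, hk⟩ := locus_final_iso S b hb hU i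
    have hpre : h ⁻¹ᵁ S.locus i b = S.locus i p := by
      rw [← S.locus_comp i b h hb (by rw [hh]; exact hp), hh]
    have hcomp : (h ∣_ S.locus i b) ≫ k = (P.isoOfEq hpre).hom ≫ (e i).hom := by
      apply S.hom_ext_Y i
      · rw [Category.assoc, hk, morphismRestrict_ι_assoc, hh]
        exact S.P_open _ p hp
      · rw [Category.assoc, hk, morphismRestrict_ι_assoc, hh, Category.assoc, he,
          Scheme.isoOfEq_hom_ι_assoc]
    have : h ∣_ S.locus i b = ((P.isoOfEq hpre).hom ≫ (e i).hom) ≫ inv k := by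
      rw [← hcomp, Category.assoc, IsIso.hom_inv_id, Category.comp_id]
    rw [this]
    infer_instance
  intro T g hg
  obtain ⟨k, hk, hku⟩ := hU T g hg
  refine ⟨k ≫ inv h, ?_, ?_⟩
  · change (k ≫ inv h) ≫ p = g
    rw [Category.assoc, ← hh, IsIso.inv_hom_id_assoc, hk]
  · intro k' hk'
    have hk'' : k' ≫ p = g := hk'
    have h3 : (k' ≫ h) ≫ b = g := by rw [Category.assoc, hh, hk'']
    rw [← hku (k' ≫ h) h3, Category.assoc, IsIso.hom_inv_id, Category.comp_id]

end Groth.Agent.Lib.Helper29.ProjRees
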