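import Mathlib
import Groth.Prelude.Def_Rees
import Groth.Prelude.Def_BlowUp2
import Groth.Agent.Lib.Helper29.AffBlowAlg

set_option autoImplicit false
universe u
open Polynomial

namespace Groth.Agent.Lib.Helper29.ProjRees

open Groth.Agent.Lib.Helper29.AffBlow HomogeneousLocalization

variable {A : Type u} [CommRing A] (I : Ideal A)

/-- the degree one element `a X` of the Rees algebra -/
noncomputable def gen (a : A) (ha : a ∈ I) : ↥(reesAlgebra I) :=
  ⟨monomial 1 a, reesAlgebra.monomial_mem.2 (by rwa [pow_one])⟩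

lemma gen_mem (a : A) (ha : a ∈ I) : gen I a ha ∈ Rees.deg (reesAlgebra I) 1 := by
  rw [Rees.mem_deg_iff]
  intro m hm
  change (monomial 1 a).coeff m = 0
  rw [coeff_monomial, if_neg (Ne.symm hm)]

/-- evaluation at `X = 1` -/
noncomputable def ev : ↥(reesAlgebra I) →+* A :=
  (Polynomial.evalRingHom (1 : A)).comp (reesAlgebra I).val.toRingHom

lemma ev_gen (a : A) (ha : a ∈ I) : ev I (gen I a ha) = a := by
  change Polynomial.eval 1 (monomial 1 a) = a
  rw [eval_monomial, one_pow, mul_one]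

lemma ev_algebraMap (r : A) : ev I (algebraMap A ↥(reesAlgebra I) r) = r := by
  change Polynomial.eval 1 (algebraMap A A[X] r) = r
  rw [Polynomial.algebraMap_apply, Algebra.algebraMap_self_apply, eval_C]

/-- an element of degree `n` is `c Xⁿ` -/
lemma eq_monomial_of_mem_deg {n : ℕ} (x : ↥(reesAlgebra I)) (hx : x ∈ Rees.deg (reesAlgebra I) n) :
    (x : A[X]) = monomial n ((x : A[X]).coeff n) := by
  ext m
  rw [coeff_monomial]
  split_ifs with h
  · rw [h]
  · exact (Rees.mem_deg_iff _ n x).1 hx m (Ne.symm h)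

lemma ev_of_mem_deg {n : ℕ} (x : ↥(reesAlgebra I)) (hx : x ∈ Rees.deg (reesAlgebra I) n) :
    ev I x = (x : A[X]).coeff n := by
  change Polynomial.eval 1 (x : A[X]) = _
  rw [eq_monomial_of_mem_deg I x hx, eval_monomial, one_pow, mul_one, coeff_monomial, if_pos rfl]

lemma ev_mem_pow {n : ℕ} (x : ↥(reesAlgebra I)) (hx : x ∈ Rees.deg (reesAlgebra I) n) :
    ev I x ∈ I ^ n := by
  rw [ev_of_mem_deg I x hx]
  exact (mem_reesAlgebra_iff I _).1 x.2 n

lemma eq_zero_of_ev_eq_zero {n : ℕ} (x : ↥(reesAlgebra I)) (hx : x ∈ Rees.deg (reesAlgebra I) n)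
    (h : ev I x = 0) : x = 0 := by
  apply Subtype.ext
  rw [eq_monomial_of_mem_deg I x hx, ← ev_of_mem_deg I x hx, h, monomial_zero_right]
  rfl


variable (a : A) (ha : a ∈ I)

local notation "𝒜" => Rees.deg (reesAlgebra I)

lemma isUnit_a : IsUnit (algebraMap A (Localization.Away a) a) :=
  IsLocalization.map_units (Localization.Away a) (⟨a, Submonoid.mem_powers a⟩ : Submonoid.powers a)

/-- `Localization (powers (aX)) → A_a` -/
noncomputable def Φ : Localization (Submonoid.powers (gen I a ha)) →+* Localization.Away a :=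
  IsLocalization.Away.lift (S := Localization (Submonoid.powers (gen I a ha))) (gen I a ha)
    (g := (algebraMap A (Localization.Away a)).comp (ev I))
    (by rw [RingHom.comp_apply, ev_gen]; exact isUnit_a a)

lemma Φ_algebraMap (x : ↥(reesAlgebra I)) :
    Φ I a ha (algebraMap _ _ x) = algebraMap A (Localization.Away a) (ev I x) :=
  IsLocalization.Away.lift_eq _ _ x

/-- `(R(I)_{aX})₀ → A_a` -/
noncomputable def Ψ : Away 𝒜 (gen I a ha) →+* Localization.Away a :=
  (Φ I a ha).comp (algebraMap (Away 𝒜 (gen I a ha)) (Localization (Submonoid.powers (gen I a ha))))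

lemma Ψ_mk_mul (n : ℕ) (x : ↥(reesAlgebra I)) (hx : x ∈ 𝒜 (n • 1)) :
    Ψ I a ha (Away.mk 𝒜 (gen_mem I a ha) n x hx) * algebraMap A (Localization.Away a) a ^ n =
      algebraMap A (Localization.Away a) (ev I x) := by
  have h1 : (Away.mk 𝒜 (gen_mem I a ha) n x hx).val * algebraMap _ _ (gen I a ha ^ n) =
      algebraMap _ _ x := by
    rw [Away.val_mk, Localization.mk_eq_mk']
    exact IsLocalization.mk'_spec _ x ⟨gen I a ha ^ n, _⟩
  have h2 := congrArg (Φ I a ha) h1
  rw [map_mul, Φ_algebraMap, Φ_algebraMap, map_pow, ev_gen, map_pow] at h2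
  exact h2

/-- elements of `Iⁿ` divided by `aⁿ` lie in `A[I/a]` -/
lemma exists_mem_affineAlgebra : ∀ (n : ℕ) (c : A), c ∈ I ^ n →
    ∃ y : BlowUp.affineAlgebra A I a,
      (y : Localization.Away a) * algebraMap A (Localization.Away a) a ^ n =
        algebraMap A (Localization.Away a) c := by
  intro n
  induction n with
  | zero =>
    intro c _
    exact ⟨algebraMap A _ c, by rw [pow_zero, mul_one]; rfl⟩
  | succ n ih =>
    intro c hc
    rw [pow_succ'] at hc
    refine Submodule.mul_induction_on hc ?_ ?_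
    · intro x hx c' hc'
      obtain ⟨y, hy⟩ := ih c' hc'
      refine ⟨frac A I a x hx * y, ?_⟩
      have h1 : ((frac A I a x hx : BlowUp.affineAlgebra A I a) : Localization.Away a) *
          algebraMap A (Localization.Away a) a = algebraMap A (Localization.Away a) x :=
        IsLocalization.mk'_spec (Localization.Away a) x ⟨a, Submonoid.mem_powers a⟩
      rw [Subalgebra.coe_mul, pow_succ', map_mul, ← h1, ← hy]
      ring
    · rintro c₁ c₂ ⟨y₁, h₁⟩ ⟨y₂, h₂⟩
      exact ⟨y₁ + y₂, by rw [Subalgebra.coe_add, add_mul, h₁, h₂, map_add]⟩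

lemma Ψ_mem (z : Away 𝒜 (gen I a ha)) : Ψ I a ha z ∈ BlowUp.affineAlgebra A I a := by
  obtain ⟨n, x, hx, rfl⟩ := Away.mk_surjective 𝒜 (gen_mem I a ha) z
  obtain ⟨y, hy⟩ := exists_mem_affineAlgebra I a n (ev I x) (by
    have := ev_mem_pow I x hx
    rwa [smul_eq_mul, mul_one] at this)
  have h1 := Ψ_mk_mul I a ha n x hx
  have hu : IsUnit (algebraMap A (Localization.Away a) a ^ n) := (isUnit_a a).pow n
  have : Ψ I a ha (Away.mk 𝒜 (gen_mem I a ha) n x hx) = y := by
    apply hu.mul_left_injective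
    exact h1.trans hy.symm
  rw [this]
  exact y.2

lemma Ψ_injective : Function.Injective (Ψ I a ha) := by
  rw [injective_iff_map_eq_zero]
  intro z hz
  obtain ⟨n, x, hx, rfl⟩ := Away.mk_surjective 𝒜 (gen_mem I a ha) z
  have h1 := Ψ_mk_mul I a ha n x hx
  rw [hz, zero_mul] at h1
  obtain ⟨⟨_, m, rfl⟩, hm⟩ := (IsLocalization.map_eq_zero_iff (Submonoid.powers a)
    (Localization.Away a) (ev I x)).1 h1.symm
  -- `a^m * ev x = 0`
  have hm' : a ^ m * ev I x = 0 := hm
  have h2 : gen I a ha ^ m * x = 0 := by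
    apply eq_zero_of_ev_eq_zero I _ (SetLike.mul_mem_graded (SetLike.pow_mem_graded m (gen_mem I a ha)) hx)
    rw [map_mul, map_pow, ev_gen, hm']
  apply HomogeneousLocalization.val_injective
  rw [Away.val_mk, HomogeneousLocalization.val_zero, Localization.mk_eq_mk',
    IsLocalization.mk'_eq_zero_iff]
  exact ⟨⟨gen I a ha ^ m, m, rfl⟩, h2⟩


/-- the structure map `A → (R(I)_{aX})₀` -/
noncomputable def κ : A →+* Away 𝒜 (gen I a ha) :=
  (fromZeroRingHom 𝒜 (Submonoid.powers (gen I a ha))).comp (algebraMap A (𝒜 0))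

lemma Ψ_κ (r : A) : Ψ I a ha (κ I a ha r) = algebraMap A (Localization.Away a) r := by
  have h1 : (κ I a ha r).val = algebraMap _ _ (algebraMap A ↥(reesAlgebra I) r) := by
    change Localization.mk _ _ = _
    rw [Localization.mk_eq_mk']
    exact IsLocalization.mk'_one _ _
  change Φ I a ha ((κ I a ha r).val) = _
  rw [h1, Φ_algebraMap, ev_algebraMap]

lemma gen_mem' (x : A) (hx : x ∈ I) : gen I x hx ∈ 𝒜 (1 • 1) := gen_mem I x hx

lemma Ψ_frac (x : A) (hx : x ∈ I) :
    Ψ I a ha (Away.mk 𝒜 (gen_mem I a ha) 1 (gen I x hx) (gen_mem' I x hx)) =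
      (frac A I a x hx : BlowUp.affineAlgebra A I a) := by
  have h1 := Ψ_mk_mul I a ha 1 (gen I x hx) (gen_mem' I x hx)
  rw [pow_one, ev_gen] at h1
  have h2 : ((frac A I a x hx : BlowUp.affineAlgebra A I a) : Localization.Away a) *
      algebraMap A (Localization.Away a) a = algebraMap A (Localization.Away a) x :=
    IsLocalization.mk'_spec (Localization.Away a) x ⟨a, Submonoid.mem_powers a⟩
  exact (isUnit_a a).mul_left_injective (h1.trans h2.symm)

/-- `(R(I)_{aX})₀ → A[I/a]` -/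
noncomputable def Ψ' : Away 𝒜 (gen I a ha) →+* BlowUp.affineAlgebra A I a :=
  (Ψ I a ha).codRestrict (BlowUp.affineAlgebra A I a).toSubring (Ψ_mem I a ha)

lemma Ψ'_bijective : Function.Bijective (Ψ' I a ha) := by
  constructor
  · intro z w h
    exact Ψ_injective I a ha (congrArg Subtype.val h)
  · intro y
    refine induction_on A I a (p := fun y => ∃ z, Ψ' I a ha z = y) ?_ ?_ ?_ ?_ y
    · intro r
      exact ⟨κ I a ha r, Subtype.ext (Ψ_κ I a ha r)⟩
    · intro x hx
      exact ⟨_, Subtype.ext (Ψ_frac I a ha x hx)⟩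
    · rintro _ _ ⟨z, rfl⟩ ⟨w, rfl⟩
      exact ⟨z + w, map_add _ _ _⟩
    · rintro _ _ ⟨z, rfl⟩ ⟨w, rfl⟩
      exact ⟨z * w, map_mul _ _ _⟩

/-- **the degree zero part of `R(I)_{aX}` is the affine blow-up algebra `A[I/a]`** -/
noncomputable def awayEquiv : Away 𝒜 (gen I a ha) ≃+* BlowUp.affineAlgebra A I a :=
  RingEquiv.ofBijective (Ψ' I a ha) (Ψ'_bijective I a ha)

lemma awayEquiv_κ (r : A) :
    awayEquiv I a ha (κ I a ha r) = algebraMap A (BlowUp.affineAlgebra A I a) r :=
  Subtype.ext (Ψ_κ I a ha r)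

lemma awayEquiv_frac (x : A) (hx : x ∈ I) :
    awayEquiv I a ha (Away.mk 𝒜 (gen_mem I a ha) 1 (gen I x hx) (gen_mem' I x hx)) =
      frac A I a x hx :=
  Subtype.ext (Ψ_frac I a ha x hx)

end Groth.Agent.Lib.Helper29.ProjRees
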