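import Mathlib.RingTheory.ReesAlgebra
import Groth.Prelude.Def_Rees
import Groth.Prelude.Def_BlowUp2
import Groth.Prelude.Def_ega3
import Groth.Agent.Lib.Helper9.BlowExist
import Groth.Agent.Lib.Helper29.ProjReesA
import Groth.Agent.Lib.Helper29.ProjReesB

set_option autoImplicit false
universe u
open CategoryTheory CategoryTheory.Limits AlgebraicGeometry TopologicalSpace Polynomial

namespace Groth.Agent.Lib.Helper29.ProjRees

open Groth.Agent.Lib.Helper29.AffBlow Groth.Agent.Lib.Helper29.EffCart HomogeneousLocalization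
open Groth.Agent.Lib.Helper9.GlueFinal Groth.Agent.Lib.Helper9.BlowExist

variable {A : Type u} [CommRing A] (I : Ideal A)

local notation "𝒜" => Rees.deg (reesAlgebra I)

/-- the structure morphism `Proj R(I) ⟶ Spec A` -/
noncomputable abbrev pp : Proj 𝒜 ⟶ Spec (CommRingCat.of A) := Proj 𝒜 ↘ Spec (CommRingCat.of A)

lemma pp_eq : pp I = Proj.toSpecZero 𝒜 ≫ Spec.map (CommRingCat.ofHom (algebraMap A (𝒜 0))) := rfl

/-- the chart `D₊(aX)` -/
noncomputable abbrev UU (a : A) (ha : a ∈ I) : (Proj 𝒜).Opens := Proj.basicOpen 𝒜 (gen I a ha)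

lemma iSup_UU : ⨆ a : {a // a ∈ I}, UU I a.1 a.2 = ⊤ := by
  apply Proj.iSup_basicOpen_eq_top 𝒜 (fun a : {a // a ∈ I} => gen I a.1 a.2)
  rw [HomogeneousIdeal.toIdeal_irrelevant_le]
  intro n hn x hx
  obtain ⟨m, rfl⟩ : ∃ m, n = m + 1 := ⟨n - 1, by omega⟩
  have hx' : x ∈ 𝒜 (m + 1) := hx
  have hc : ev I x ∈ I ^ (m + 1) := ev_mem_pow I x hx'
  have key : ∀ c (hc : c ∈ I ^ (m + 1)), (⟨monomial (m + 1) c, reesAlgebra.monomial_mem.2 hc⟩ :
      ↥(reesAlgebra I)) ∈ Ideal.span (Set.range fun a : {a // a ∈ I} => gen I a.1 a.2) := by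
    intro c hc
    have hc2 : c ∈ I * I ^ m := by rwa [← pow_succ']
    have hpow : ∀ c, c ∈ I * I ^ m → c ∈ I ^ (m + 1) := fun c h => by rwa [pow_succ']
    refine Submodule.mul_induction_on'
      (C := fun c hc => (⟨monomial (m + 1) c, reesAlgebra.monomial_mem.2 (hpow c hc)⟩ :
        ↥(reesAlgebra I)) ∈ Ideal.span (Set.range fun a : {a // a ∈ I} => gen I a.1 a.2)) ?_ ?_ hc2
    · intro y hy c' hc'
      have : (⟨monomial (m + 1) (y * c'), reesAlgebra.monomial_mem.2
          (hpow _ (Ideal.mul_mem_mul hy hc'))⟩ : ↥(reesAlgebra I)) =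
          gen I y hy * ⟨monomial m c', reesAlgebra.monomial_mem.2 hc'⟩ := by
        apply Subtype.ext
        change monomial (m + 1) (y * c') = monomial 1 y * monomial m c'
        rw [monomial_mul_monomial, add_comm]
      rw [this]
      exact Ideal.mul_mem_right _ _ (Ideal.subset_span ⟨⟨y, hy⟩, rfl⟩)
    · intro c₁ h₁ c₂ h₂ h₁' h₂'
      have : (⟨monomial (m + 1) (c₁ + c₂), reesAlgebra.monomial_mem.2
          (hpow _ (add_mem h₁ h₂))⟩ : ↥(reesAlgebra I)) =
          ⟨monomial (m + 1) c₁, reesAlgebra.monomial_mem.2 (hpow _ h₁)⟩ +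
          ⟨monomial (m + 1) c₂, reesAlgebra.monomial_mem.2 (hpow _ h₂)⟩ := by
        apply Subtype.ext
        change monomial (m + 1) (c₁ + c₂) = monomial (m + 1) c₁ + monomial (m + 1) c₂
        rw [map_add]
      rw [this]
      exact add_mem h₁' h₂'
  have hxe : x = ⟨monomial (m + 1) (ev I x), reesAlgebra.monomial_mem.2 hc⟩ := by
    apply Subtype.ext
    change (x : A[X]) = monomial (m + 1) (ev I x)
    rw [ev_of_mem_deg I x hx']
    exact eq_monomial_of_mem_deg I x hx'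
  rw [hxe]
  exact key _ hc


variable (a : A) (ha : a ∈ I)

/-- the chart isomorphism `D₊(aX) ≅ Spec A[I/a]` -/
noncomputable def chartIso : (UU I a ha : Scheme.{u}) ≅ Spec (CommRingCat.of (BlowUp.affineAlgebra A I a)) :=
  Proj.basicOpenIsoSpec 𝒜 (gen I a ha) (gen_mem I a ha) one_pos ≪≫
    Scheme.Spec.mapIso ((awayEquiv I a ha).symm.toCommRingCatIso).op

lemma chartIso_hom : (chartIso I a ha).hom =
    (Proj.basicOpenIsoSpec 𝒜 (gen I a ha) (gen_mem I a ha) one_pos).hom ≫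
      Spec.map (CommRingCat.ofHom (awayEquiv I a ha).symm.toRingHom) := by
  rw [chartIso, Iso.trans_hom]
  rfl

lemma chartIso_hom_chartMap : (chartIso I a ha).hom ≫ chartMap I a = (UU I a ha).ι ≫ pp I := by
  rw [chartIso_hom, Category.assoc, chartMap, ← Spec.map_comp, pp_eq]
  have h1 : CommRingCat.ofHom (algebraMap A (BlowUp.affineAlgebra A I a)) ≫
      CommRingCat.ofHom (awayEquiv I a ha).symm.toRingHom =
      CommRingCat.ofHom (algebraMap A (𝒜 0)) ≫
        (CommRingCat.ofHom (fromZeroRingHom 𝒜 (Submonoid.powers (gen I a ha))) :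
          CommRingCat.of (𝒜 0) ⟶ CommRingCat.of (Away 𝒜 (gen I a ha))) := by
    apply CommRingCat.hom_ext
    apply RingHom.ext
    intro r
    change (awayEquiv I a ha).symm (algebraMap A _ r) = κ I a ha r
    rw [← awayEquiv_κ, RingEquiv.symm_apply_apply]
  rw [h1, Spec.map_comp]
  have h2 := Proj.awayι_toSpecZero 𝒜 (gen I a ha) (gen_mem I a ha) one_pos
  rw [Proj.awayι, Category.assoc, Iso.inv_comp_eq] at h2
  rw [← Category.assoc (UU I a ha).ι, h2, Category.assoc]


theorem awayι_mem_basicOpen {B : Type u} [CommRing B] {σ : Type*} [SetLike σ B] [AddSubgroupClass σ B]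
    (ℬ : ℕ → σ) [GradedRing ℬ] {f g : B} (hf : f ∈ ℬ 1) (hg : g ∈ ℬ 1)
    (w : Spec (CommRingCat.of (Away ℬ f)))
    (hw : Away.isLocalizationElem hf hg ∉ w.asIdeal) :
    (Proj.awayι ℬ f hf one_pos) w ∈ Proj.basicOpen ℬ g := by
  letI := (awayMap ℬ hg (rfl : f * g = f * g)).toAlgebra
  haveI := Away.isLocalization_mul hf hg (rfl : f * g = f * g) one_ne_zero
  have hr := PrimeSpectrum.localization_away_comap_range (Away ℬ (f * g))
    (Away.isLocalizationElem hf hg)
  have hw' : (w : PrimeSpectrum (Away ℬ f)) ∈ (PrimeSpectrum.basicOpen (Away.isLocalizationElem hf hg) :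
      Set (PrimeSpectrum (Away ℬ f))) := hw
  rw [← hr] at hw'
  obtain ⟨w', hw'⟩ := hw'
  have h1 := Proj.SpecMap_awayMap_awayι ℬ hf one_pos hg (rfl : f * g = f * g)
  have h2 : (Spec.map (CommRingCat.ofHom (awayMap ℬ hg (rfl : f * g = f * g)))) w' = w := hw'
  rw [← h2, ← Scheme.Hom.comp_apply, h1]
  have h3 : (Proj.awayι ℬ (f * g) (SetLike.mul_mem_graded hf hg) (by omega)) w' ∈
      (Proj.awayι ℬ (f * g) (SetLike.mul_mem_graded hf hg) (by omega)).opensRange := ⟨w', rfl⟩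
  rw [Proj.opensRange_awayι, Proj.basicOpen_mul] at h3
  exact h3.2

lemma locGen_UU : LocGen I a ((UU I a ha).ι ≫ pp I) := by
  rw [← chartIso_hom_chartMap]
  exact locGen_comp_of_flat (chartIso I a ha).hom (fun t' => locGen_chartMap ha _)

lemma isEffCartier_pp : BlowUp.IsEffCartierIdeal ((idealSheaf I).comap (pp I)) := by
  apply P_local
  intro x
  have hx : x ∈ (⊤ : (Proj 𝒜).Opens) := trivial
  rw [← iSup_UU I] at hx
  obtain ⟨⟨b, hb⟩, hxb⟩ := Opens.mem_iSup.1 hx
  exact ⟨UU I b hb, hxb, (locGen_UU I b hb).isEffCartierIdeal⟩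

lemma UU_le_genLocus : UU I a ha ≤ genLocus I a (pp I) := by
  have h1 : genLocus I a ((UU I a ha).ι ≫ pp I) = ⊤ :=
    genLocus_eq_top_of_locGen a _ (locGen_UU I a ha)
  rw [genLocus_comp a ha (pp I) (UU I a ha).ι (isEffCartier_pp I)
    (locGen_UU I a ha).isEffCartierIdeal] at h1
  intro x hx
  have : (⟨x, hx⟩ : UU I a ha) ∈ (UU I a ha).ι ⁻¹ᵁ genLocus I a (pp I) := by rw [h1]; trivial
  exact this


/-- `secMap (chartMap I b) ⊤` is `algebraMap` up to the `Γ`-`Spec` isomorphism. -/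
lemma secMap_chartMap_top (b : A) (r : A) : secMap (chartMap I b) ⊤ r =
    (Scheme.ΓSpecIso (CommRingCat.of (BlowUp.affineAlgebra A I b))).inv.hom
      (algebraMap A _ r) := by
  rw [secMap_top]
  have h2 := Scheme.ΓSpecIso_inv_naturality
    (CommRingCat.ofHom (algebraMap A (BlowUp.affineAlgebra A I b)))
  exact (congrArg (fun φ => φ.hom r) h2).symm

lemma mem_basicOpen_ΓSpecIso_inv {R : CommRingCat.{u}} (r : R) (w : Spec R)
    (hw : w ∈ (Spec R).basicOpen ((Scheme.ΓSpecIso R).inv.hom r)) : r ∉ w.asIdeal := by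
  have h1 : (Spec R).basicOpen ((Scheme.ΓSpecIso R).inv.hom r) = PrimeSpectrum.basicOpen r := by
    rw [← basicOpen_eq_of_affine]
  rw [h1] at hw
  exact hw

lemma genLocus_le_UU : genLocus I a (pp I) ≤ UU I a ha := by
  intro x hx
  have hx' : x ∈ (⊤ : (Proj 𝒜).Opens) := trivial
  rw [← iSup_UU I] at hx'
  obtain ⟨⟨b, hb⟩, hxb⟩ := Opens.mem_iSup.1 hx'
  change x ∈ UU I b hb at hxb
  set Z : (Proj 𝒜).Opens := genLocus I a (pp I) ⊓ UU I b hb with hZ
  have hZ1 : Z ≤ genLocus I a (pp I) := inf_le_left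
  have hZ2 : Z ≤ UU I b hb := inf_le_right
  set h : (Z : Scheme.{u}) ⟶ Spec (CommRingCat.of (BlowUp.affineAlgebra A I b)) :=
    (Proj 𝒜).homOfLE hZ2 ≫ (chartIso I b hb).hom with hh
  have hcomp : h ≫ chartMap I b = (Proj 𝒜).homOfLE hZ1 ≫ (genLocus I a (pp I)).ι ≫ pp I := by
    rw [hh, Category.assoc, chartIso_hom_chartMap, Scheme.homOfLE_ι_assoc, Scheme.homOfLE_ι_assoc]
  have hG : LocGen I a (h ≫ chartMap I b) := by
    rw [hcomp]
    exact locGen_comp_of_flat _ (fun t' => locGen_genLocus_ι (I := I) a (pp I) _)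
  have hbij : Function.Bijective
      (Scheme.ΓSpecIso (CommRingCat.of (BlowUp.affineAlgebra A I b))).inv.hom :=
    (ConcreteCategory.isIso_iff_bijective _).1 inferInstance
  have hsec' : secMap (chartMap I b) ⊤ =
      (Scheme.ΓSpecIso (CommRingCat.of (BlowUp.affineAlgebra A I b))).inv.hom.comp
        (algebraMap A _) := RingHom.ext (secMap_chartMap_top I b)
  have hI : I.map (secMap (chartMap I b) ⊤) = Ideal.span {secMap (chartMap I b) ⊤ b} := by
    rw [hsec', ← Ideal.map_map, map_algebraMap_eq_span hb, Ideal.map_span, Set.image_singleton]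
    rfl
  have hβ : secMap (chartMap I b) ⊤ a =
      (Scheme.ΓSpecIso (CommRingCat.of (BlowUp.affineAlgebra A I b))).inv.hom (frac A I b a ha) *
        secMap (chartMap I b) ⊤ b := by
    rw [secMap_chartMap_top, secMap_chartMap_top, algebraMap_eq_mul_frac A I b a ha, map_mul,
      mul_comm]
  have key := mem_basicOpen_of_locGen h hG ⟨⊤, isAffineOpen_top _⟩ _ _ hI hβ ⟨x, hx, hxb⟩ trivial
  have key2 := mem_basicOpen_ΓSpecIso_inv _ _ key
  -- translate
  set z : Z := ⟨x, hx, hxb⟩ with hz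
  set z' : UU I b hb := (Proj 𝒜).homOfLE hZ2 z with hz'
  set w : Spec (CommRingCat.of (Away 𝒜 (gen I b hb))) :=
    (Proj.basicOpenIsoSpec 𝒜 (gen I b hb) (gen_mem I b hb) one_pos).hom z' with hw
  have hhz : h z = (Spec.map (CommRingCat.ofHom (awayEquiv I b hb).symm.toRingHom)) w := by
    rw [hh, Scheme.Hom.comp_apply, chartIso_hom, Scheme.Hom.comp_apply]
  rw [hhz] at key2
  have key3 : (awayEquiv I b hb).symm (frac A I b a ha) ∉ w.asIdeal := key2
  rw [← awayEquiv_frac I b hb a ha, RingEquiv.symm_apply_apply] at key3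
  have key4 : Away.isLocalizationElem (gen_mem I b hb) (gen_mem I a ha) ∉ w.asIdeal := by
    convert key3 using 2
    simp only [Away.isLocalizationElem, pow_one]
  have key5 := awayι_mem_basicOpen 𝒜 (gen_mem I b hb) (gen_mem I a ha) w key4
  have hxw : (Proj.awayι 𝒜 (gen I b hb) (gen_mem I b hb) one_pos) w = x := by
    have h0 : (Proj.basicOpenIsoSpec 𝒜 (gen I b hb) (gen_mem I b hb) one_pos).inv
        ((Proj.basicOpenIsoSpec 𝒜 (gen I b hb) (gen_mem I b hb) one_pos).hom z') = z' :=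
      Scheme.hom_inv_apply _ _
    rw [Proj.awayι, Scheme.Hom.comp_apply, hw, h0, hz', ← Scheme.Hom.comp_apply,
      Scheme.homOfLE_ι]
    rfl
  rw [hxw] at key5
  exact key5

lemma genLocus_eq_UU : genLocus I a (pp I) = UU I a ha :=
  le_antisymm (genLocus_le_UU I a ha) (UU_le_genLocus I a ha)


/-- the locus iso: `genLocus I a (pp I) ≅ Spec A[I/a]` -/
noncomputable def locusIso : (genLocus I a (pp I) : Scheme.{u}) ≅
    Spec (CommRingCat.of (BlowUp.affineAlgebra A I a)) :=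
  (Proj 𝒜).isoOfEq (genLocus_eq_UU I a ha) ≪≫ chartIso I a ha

lemma locusIso_hom_chartMap :
    (locusIso I a ha).hom ≫ chartMap I a = (genLocus I a (pp I)).ι ≫ pp I := by
  rw [locusIso, Iso.trans_hom, Category.assoc, chartIso_hom_chartMap, Scheme.isoOfEq_hom_ι_assoc]

/-- **`Proj` of the Rees algebra is the blow-up** (universal property part). -/
theorem pp_final : ∀ (T : Scheme.{u}) (g : T ⟶ Spec (CommRingCat.of A)),
    BlowUp.IsEffCartierIdeal ((idealSheaf I).comap g) → ∃! h : T ⟶ Proj 𝒜, h ≫ pp I = g :=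
  final_of_local (affineSetup I) (pp I) (isEffCartier_pp I)
    (fun a => locusIso I a.1 a.2) (fun a => locusIso_hom_chartMap I a.1 a.2)

theorem isBlowUp_pp : BlowUp.IsBlowUp (pp I) (idealSheaf I) :=
  ⟨isEffCartier_pp I, fun Y g hg => pp_final I Y g hg⟩

end Groth.Agent.Lib.Helper29.ProjRees
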