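import Groth.Prelude.Def_OmegaPn
import Mathlib.CategoryTheory.Adjunction.FullyFaithful

set_option autoImplicit false
universe u
open CategoryTheory CategoryTheory.Limits AlgebraicGeometry TopologicalSpace Opposite

namespace Groth.Agent.Lib.Helper29.PullbackIso

section Equiv

variable {N X : Scheme.{u}} (h : N ⟶ X) [IsIso h]

/-- module pullback along an isomorphism of schemes is an equivalence. -/
noncomputable def pullbackEquivalence : X.Modules ≌ N.Modules :=
  CategoryTheory.Equivalence.mk (Scheme.Modules.pullback h) (Scheme.Modules.pullback (inv h))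
    ((Scheme.Modules.pullbackId X).symm ≪≫
      Scheme.Modules.pullbackCongr (IsIso.inv_hom_id h).symm ≪≫
      (Scheme.Modules.pullbackComp (inv h) h).symm)
    (Scheme.Modules.pullbackComp h (inv h) ≪≫
      Scheme.Modules.pullbackCongr (IsIso.hom_inv_id h) ≪≫ Scheme.Modules.pullbackId N)

instance isEquivalence_pullback : (Scheme.Modules.pullback h).IsEquivalence :=
  (pullbackEquivalence h).isEquivalence_functor

instance isIso_unit_app (F : X.Modules) :
    IsIso ((Scheme.Modules.pullbackPushforwardAdjunction h).unit.app F) := by
  haveI : IsIso (Scheme.Modules.pullbackPushforwardAdjunction h).unit := inferInstance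
  infer_instance

/-- pulling sections back along an isomorphism is bijective. -/
theorem pullSect_bijective (F : X.Modules) (U : X.Opens) :
    Function.Bijective (OmegaSh.pullSect h F U) := by
  let e := asIso ((Scheme.Modules.pullbackPushforwardAdjunction h).unit.app F)
  have h1 : ∀ x, (e.inv.app U) ((e.hom.app U) x) = x := by
    intro x
    rw [← ConcreteCategory.comp_apply, ← Scheme.Modules.Hom.comp_app, e.hom_inv_id]
    rfl
  have h2 : ∀ y, (e.hom.app U) ((e.inv.app U) y) = y := by
    intro y
    rw [← ConcreteCategory.comp_apply, ← Scheme.Modules.Hom.comp_app, e.inv_hom_id]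
    rfl
  exact ⟨Function.LeftInverse.injective h1, Function.RightInverse.surjective h2⟩

end Equiv

end Groth.Agent.Lib.Helper29.PullbackIso
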