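import Groth.Agent.Lib.Helper29.QCohStalk

set_option autoImplicit false
universe u
open Groth.Agent.Lib.Helper29.QCohStalk

namespace Groth.Agent.Lib.Helper29.QCohStalk

/-- Pure algebra (finite ring maps): if `q` is minimal over the annihilator of `m` in the `B`-module `M` and `B` is
finite over `A`, then the contraction of `q` is minimal over the contraction of the annihilator of a multiple of `m`. -/
theorem exists_smul_comap_mem_minimalPrimes {A B : Type*} [CommRing A] [CommRing B] [Algebra A B]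
    [Module.Finite A B] {M : Type*} [AddCommGroup M] [Module B M] (m : M) (q : Ideal B)
    (hq : q ∈ (ann (R := B) m).minimalPrimes) :
    ∃ f : B, q.comap (algebraMap A B) ∈
      ((ann (R := B) (f • m)).comap (algebraMap A B)).minimalPrimes := by
  classical
  haveI := hq.1.1
  haveI : Algebra.IsIntegral A B := Algebra.IsIntegral.of_finite A B
  set p := q.comap (algebraMap A B) with hp
  set I := ann (R := B) m with hI
  have hfin : (p.primesOver B).Finite := Algebra.QuasiFinite.finite_primesOver p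
  let T : Finset (Ideal B) := hfin.toFinset.erase q
  have hT : ∀ q' ∈ T, q'.IsPrime ∧ q'.comap (algebraMap A B) = p ∧ q' ≠ q := by
    intro q' hq'
    rw [Finset.mem_erase, Set.Finite.mem_toFinset] at hq'
    refine ⟨hq'.2.1, ?_, hq'.1⟩
    have := hq'.2.2
    rw [Ideal.liesOver_iff, Ideal.under_def] at this
    exact this.symm
  have h1 : ∀ q' ∈ T, ∃ (u v : B), u ∉ q ∧ v ∉ q' ∧ u * v ∈ I := by
    intro q' hq'
    obtain ⟨hq'p, hq'c, hne⟩ := hT q' hq'
    have hnle : ¬ q ≤ q' := by
      intro hle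
      rcases eq_or_lt_of_le hle with h | h
      · exact hne h.symm
      · obtain ⟨x, hx, hx'⟩ := Set.exists_of_ssubset h
        have := Ideal.comap_lt_comap_of_integral_mem_sdiff (R := A) hle ⟨hx, hx'⟩
          (Algebra.IsIntegral.isIntegral x)
        rw [hq'c] at this
        exact lt_irrefl _ this
    obtain ⟨t, htq, htq'⟩ := Set.not_subset.1 hnle
    obtain ⟨u, hu, n, hun⟩ := exists_mul_pow_mem_of_mem_minimalPrimes hq htq
    exact ⟨u, t ^ n, hu, fun h => htq' (hq'p.mem_of_pow_mem n h), hun⟩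
  choose! u v hu hv huv using h1
  set f := ∏ q' ∈ T, u q' with hf
  have hfq : f ∉ q := by
    rw [hf, Ideal.IsPrime.prod_mem_iff]
    rintro ⟨q', hq', h⟩
    exact hu q' hq' h
  have hmemK : ∀ b : B, b ∈ ann (R := B) (f • m) ↔ b * f ∈ I := by
    intro b
    rw [mem_ann, hI, mem_ann, mul_smul]
  have hvK : ∀ q' ∈ T, v q' ∈ ann (R := B) (f • m) := by
    intro q' hq'
    rw [hmemK, hf, ← Finset.mul_prod_erase T u hq', ← mul_assoc, mul_comm (v q')]
    exact Ideal.mul_mem_right _ _ (huv q' hq')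
  have hIK : I ≤ ann (R := B) (f • m) := by
    intro b hb
    rw [hmemK]
    exact Ideal.mul_mem_right _ _ hb
  refine ⟨f, ⟨⟨inferInstance, ?_⟩, ?_⟩⟩
  · intro a ha
    rw [Ideal.mem_comap, hmemK] at ha
    have h2 : algebraMap A B a * f ∈ q := hq.1.2 ha
    rcases (hq.1.1).mem_or_mem h2 with h3 | h3
    · exact h3
    · exact absurd h3 hfq
  · rintro p' ⟨hp', hKp'⟩ hp'p
    obtain ⟨Q', hQ'K, hQ'p, hQ'c⟩ := Ideal.exists_ideal_over_prime_of_isIntegral p' _ hKp'
    obtain ⟨Q'', hQ''Q', hQ''p, hQ''c⟩ :=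
      Ideal.exists_ideal_over_prime_of_isIntegral_of_isPrime p Q' (by rw [hQ'c]; exact hp'p)
    have hQ''q : Q'' = q := by
      by_contra hne
      have hmem : Q'' ∈ T := by
        rw [Finset.mem_erase, Set.Finite.mem_toFinset]
        refine ⟨hne, hQ''p, ?_⟩
        rw [Ideal.liesOver_iff, Ideal.under_def, hQ''c]
      exact hv Q'' hmem (hQ''Q' (hQ'K (hvK Q'' hmem)))
    have hQ'q : Q' ≤ q := hQ''q ▸ hQ''Q'
    have hqQ' : q ≤ Q' := hq.2 ⟨hQ'p, hIK.trans hQ'K⟩ hQ'q
    have : Q' = q := le_antisymm hQ'q hqQ'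
    rw [← hQ'c, this]

end Groth.Agent.Lib.Helper29.QCohStalk
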