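import Groth.Prelude.Def_FlatCA
import Mathlib

/-!
# Relative finite presentation of modules (ring level)

`FlatCA.RelFinitePresentation R S N`: for some surjection `R[x₁,…,xₙ] ↠ S`, the `S`-module `N` is finitely presented
over the polynomial ring.  We show that any finitely presented `R`-algebra surjecting onto `S` can be used instead
(`relFP_of_fpAlgebra`, `fpVia_of_relFP`), and stability under localization of `S` and of `R`.
-/

set_option autoImplicit false
universe u

namespace Groth.Agent.Lib.Helper29.RelFP

open FlatCA

/-- `N` (an `S`-module) is finitely presented over `A` through the ring map `ψ : A →+* S` -/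
def FPVia {A S : Type*} [CommRing A] [CommRing S] (ψ : A →+* S) (N : Type*) [AddCommGroup N] [Module S N] :
    Prop :=
  letI : Module A N := Module.compHom N ψ
  Module.FinitePresentation A N

theorem fpVia_iff {A S N : Type*} [CommRing A] [CommRing S] (ψ : A →+* S) [AddCommGroup N] [Module S N]
    [inst : Module A N] (h : ∀ (a : A) (x : N), a • x = ψ a • x) :
    FPVia ψ N ↔ Module.FinitePresentation A N := by
  have : inst = Module.compHom N ψ := Module.ext' _ _ (fun a x => h a x)
  subst this
  rfl

/-- pulling back along a surjection with finitely generated kernel -/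
theorem FPVia.comp_of_fg_ker {A' A S N : Type*} [CommRing A'] [CommRing A] [CommRing S] (ψ : A →+* S)
    [AddCommGroup N] [Module S N] (χ : A' →+* A) (hχ : Function.Surjective χ) (hker : (RingHom.ker χ).FG)
    (h : FPVia ψ N) : FPVia (ψ.comp χ) N := by
  letI : Algebra A' A := χ.toAlgebra
  letI : Module A N := Module.compHom N ψ
  letI : Module A' N := Module.compHom N (ψ.comp χ)
  haveI : IsScalarTower A' A N := IsScalarTower.of_algebraMap_smul fun r x => rfl
  haveI : Module.FinitePresentation A N := h
  haveI : Module.FinitePresentation A' A := by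
    refine Module.finitePresentation_of_surjective (Algebra.linearMap A' A) hχ ?_
    have : LinearMap.ker (Algebra.linearMap A' A) = RingHom.ker χ := by
      ext x
      rfl
    rw [this]
    exact hker
  exact Module.FinitePresentation.trans A' N A

/-- descending along a surjection -/
theorem FPVia.of_comp_surjective {A' A S N : Type*} [CommRing A'] [CommRing A] [CommRing S] (ψ : A →+* S)
    [AddCommGroup N] [Module S N] (χ : A' →+* A) (hχ : Function.Surjective χ)
    (h : FPVia (ψ.comp χ) N) : FPVia ψ N := by
  letI : Algebra A' A := χ.toAlgebra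
  letI : Module A N := Module.compHom N ψ
  letI : Module A' N := Module.compHom N (ψ.comp χ)
  haveI : IsScalarTower A' A N := IsScalarTower.of_algebraMap_smul fun r x => rfl
  haveI : Module.FinitePresentation A' N := h
  have hbc : IsBaseChange A (LinearMap.id : N →ₗ[A'] N) := by
    apply IsBaseChange.of_lift_unique
    intro Q _ _ _ _ g
    refine ⟨{ toFun := g, map_add' := g.map_add, map_smul' := fun a x => ?_ }, ?_, ?_⟩
    · obtain ⟨a', rfl⟩ := hχ a
      have h1 : (χ a' : A) • x = a' • x := rfl
      have h2 : (χ a' : A) • g x = a' • g x := (algebraMap_smul A a' (g x))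
      rw [RingHom.id_apply, h1, h2]
      exact g.map_smul a' x
    · ext x
      rfl
    · intro g' hg'
      ext x
      have := congrArg (fun l => l x) hg'
      exact this
  exact FinitePresentation.of_isBaseChange _ hbc

theorem relFP_iff {R S : Type u} [CommRing R] [CommRing S] [Algebra R S] (N : Type u) [AddCommGroup N]
    [Module S N] :
    RelFinitePresentation R S N ↔ ∃ (n : ℕ) (φ : MvPolynomial (Fin n) R →ₐ[R] S), Function.Surjective φ ∧
      FPVia φ.toRingHom N := Iff.rfl

/-- any finitely presented algebra surjecting onto `S` can be used to test relative finite presentation -/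
theorem relFP_of_fpAlgebra {R S : Type u} [CommRing R] [CommRing S] [Algebra R S] (N : Type u) [AddCommGroup N]
    [Module S N] (A : Type*) [CommRing A] [Algebra R A] [Algebra.FinitePresentation R A] (ψ : A →ₐ[R] S)
    (hψ : Function.Surjective ψ) (h : FPVia ψ.toRingHom N) : RelFinitePresentation R S N := by
  obtain ⟨n, f, hf, hker⟩ := Algebra.FinitePresentation.out (R := R) (A := A)
  refine ⟨n, ψ.comp f, hψ.comp hf, ?_⟩
  exact FPVia.comp_of_fg_ker ψ.toRingHom f.toRingHom hf hker h

/-- independence of the polynomial presentation -/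
theorem fpVia_polynomial_indep {R S : Type u} [CommRing R] [CommRing S] [Algebra R S] (N : Type u) [AddCommGroup N]
    [Module S N] {n m : ℕ} (α : MvPolynomial (Fin n) R →ₐ[R] S) (hα : Function.Surjective α)
    (β : MvPolynomial (Fin m) R →ₐ[R] S) (hβ : Function.Surjective β) (h : FPVia α.toRingHom N) :
    FPVia β.toRingHom N := by
  choose f hf using fun j : Fin m => hα (β (MvPolynomial.X j))
  choose e he using fun i : Fin n => hβ (α (MvPolynomial.X i))
  let γ : MvPolynomial (Fin n ⊕ Fin m) R →ₐ[R] S :=
    MvPolynomial.aeval (Sum.elim (fun i => α (MvPolynomial.X i)) (fun j => β (MvPolynomial.X j)))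
  let π₁ : MvPolynomial (Fin n ⊕ Fin m) R →ₐ[R] MvPolynomial (Fin n) R :=
    MvPolynomial.aeval (Sum.elim MvPolynomial.X f)
  let π₂ : MvPolynomial (Fin n ⊕ Fin m) R →ₐ[R] MvPolynomial (Fin m) R :=
    MvPolynomial.aeval (Sum.elim e MvPolynomial.X)
  have h1 : α.comp π₁ = γ := by
    apply MvPolynomial.algHom_ext
    rintro (i | j)
    · simp [π₁, γ]
    · simp [π₁, γ, hf]
  have h2 : β.comp π₂ = γ := by
    apply MvPolynomial.algHom_ext
    rintro (i | j)
    · simp [π₂, γ, he]
    · simp [π₂, γ]
  have hπ₁ : Function.Surjective π₁ := by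
    intro p
    refine ⟨MvPolynomial.rename Sum.inl p, ?_⟩
    simp only [π₁]
    rw [MvPolynomial.aeval_rename]
    have : (Sum.elim MvPolynomial.X f ∘ Sum.inl : Fin n → MvPolynomial (Fin n) R) = MvPolynomial.X := rfl
    rw [this, MvPolynomial.aeval_X_left]
    rfl
  have hπ₂ : Function.Surjective π₂ := by
    intro p
    refine ⟨MvPolynomial.rename Sum.inr p, ?_⟩
    simp only [π₂]
    rw [MvPolynomial.aeval_rename]
    have : (Sum.elim e MvPolynomial.X ∘ Sum.inr : Fin m → MvPolynomial (Fin m) R) = MvPolynomial.X := rfl
    rw [this, MvPolynomial.aeval_X_left]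
    rfl
  have hker : (RingHom.ker π₁.toRingHom).FG := Algebra.FinitePresentation.ker_fG_of_surjective π₁ hπ₁
  have h3 : FPVia (α.toRingHom.comp π₁.toRingHom) N := FPVia.comp_of_fg_ker α.toRingHom π₁.toRingHom hπ₁ hker h
  have h4 : α.toRingHom.comp π₁.toRingHom = β.toRingHom.comp π₂.toRingHom := by
    have : (α.comp π₁).toRingHom = (β.comp π₂).toRingHom := by rw [h1, h2]
    exact this
  rw [h4] at h3
  exact FPVia.of_comp_surjective β.toRingHom π₂.toRingHom hπ₂ h3

/-- a relatively finitely presented module is finitely presented over every finitely presented algebra surjecting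
onto `S` -/
theorem fpVia_of_relFP {R S : Type u} [CommRing R] [CommRing S] [Algebra R S] (N : Type u) [AddCommGroup N]
    [Module S N] (h : RelFinitePresentation R S N) (A : Type*) [CommRing A] [Algebra R A]
    [Algebra.FinitePresentation R A] (ψ : A →ₐ[R] S) (hψ : Function.Surjective ψ) : FPVia ψ.toRingHom N := by
  obtain ⟨n, α, hα, hN⟩ := h
  obtain ⟨m, f, hf, -⟩ := Algebra.FinitePresentation.out (R := R) (A := A)
  have h1 : FPVia (ψ.comp f).toRingHom N := fpVia_polynomial_indep N α hα (ψ.comp f) (hψ.comp hf) hN
  exact FPVia.of_comp_surjective ψ.toRingHom f.toRingHom hf h1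

/-- the semilinear version of a linear map along `α : A →+* S` -/
def compHomLin {A S N N' : Type*} [CommRing A] [CommRing S] (α : A →+* S)
    [AddCommGroup N] [Module S N] [AddCommGroup N'] [Module S N'] (l : N →ₗ[S] N') :
    letI : Module A N := Module.compHom N α
    letI : Module A N' := Module.compHom N' α
    N →ₗ[A] N' :=
  letI : Module A N := Module.compHom N α
  letI : Module A N' := Module.compHom N' α
  { toFun := l, map_add' := l.map_add, map_smul' := fun a x => l.map_smul (α a) x }

/-- transfer of a module localization along a ring map -/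
theorem isLocalizedModule_compHom {A S N N' : Type*} [CommRing A] [CommRing S] (α : A →+* S) (G : A)
    [AddCommGroup N] [Module S N] [AddCommGroup N'] [Module S N'] (l : N →ₗ[S] N')
    [hl : IsLocalizedModule (Submonoid.powers (α G)) l] :
    letI : Module A N := Module.compHom N α
    letI : Module A N' := Module.compHom N' α
    IsLocalizedModule (Submonoid.powers G) (compHomLin α l) := by
  letI : Module A N := Module.compHom N α
  letI : Module A N' := Module.compHom N' α
  have hsm : ∀ (k : ℕ) (y : N'), (G ^ k) • y = ((α G) ^ k) • y := fun k y => by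
    change α (G ^ k) • y = _
    rw [map_pow]
  have hsm' : ∀ (k : ℕ) (y : N), (G ^ k) • y = ((α G) ^ k) • y := fun k y => by
    change α (G ^ k) • y = _
    rw [map_pow]
  refine ⟨?_, ?_, ?_⟩
  · rintro ⟨_, k, rfl⟩
    rw [Module.End.isUnit_iff]
    have h1 := hl.map_units ⟨(α G) ^ k, k, rfl⟩
    rw [Module.End.isUnit_iff] at h1
    have h2 : ⇑((algebraMap A (Module.End A N')) (G ^ k)) = ⇑((algebraMap S (Module.End S N')) ((α G) ^ k)) := by
      funext y
      exact hsm k y
    rw [h2]
    exact h1
  · intro y
    obtain ⟨⟨n, ⟨_, k, rfl⟩⟩, h⟩ := hl.surj y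
    refine ⟨(n, ⟨G ^ k, k, rfl⟩), ?_⟩
    have h' : ((α G) ^ k) • y = l n := h
    change (G ^ k) • y = l n
    rw [hsm k y]
    exact h'
  · intro x₁ x₂ h
    have h' : l x₁ = l x₂ := h
    obtain ⟨⟨_, k, rfl⟩, hc⟩ := hl.exists_of_eq h'
    refine ⟨⟨G ^ k, k, rfl⟩, ?_⟩
    have hc' : ((α G) ^ k) • x₁ = ((α G) ^ k) • x₂ := hc
    change (G ^ k) • x₁ = (G ^ k) • x₂
    rw [hsm' k x₁, hsm' k x₂]
    exact hc'

/-- finite presentation through `α` passes to the localizations -/
theorem fpVia_away {A S S' N N' : Type*} [CommRing A] [CommRing S] [CommRing S'] [Algebra S S']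
    (α : A →+* S) (G : A) [AddCommGroup N] [Module S N] [AddCommGroup N'] [Module S N'] [Module S' N']
    [IsScalarTower S S' N'] (l : N →ₗ[S] N') [IsLocalizedModule (Submonoid.powers (α G)) l]
    (A' : Type*) [CommRing A'] [Algebra A A'] [IsLocalization.Away G A'] (α' : A' →+* S')
    (hα' : α'.comp (algebraMap A A') = (algebraMap S S').comp α) (h : FPVia α N) : FPVia α' N' := by
  letI : Module A N := Module.compHom N α
  letI : Module A N' := Module.compHom N' α
  letI : Module A' N' := Module.compHom N' α'
  haveI : IsScalarTower A A' N' := IsScalarTower.of_algebraMap_smul fun r x => by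
    change α' (algebraMap A A' r) • x = α r • x
    have h1 : α' (algebraMap A A' r) = algebraMap S S' (α r) := congrArg (fun φ : A →+* S' => φ r) hα'
    rw [h1, algebraMap_smul]
  haveI : Module.FinitePresentation A N := h
  haveI := isLocalizedModule_compHom α G l
  have hbc : IsBaseChange A' (compHomLin α l) :=
    IsLocalizedModule.isBaseChange (Submonoid.powers G) A' (compHomLin α l)
  exact FinitePresentation.of_isBaseChange _ hbc

/-- relative finite presentation passes to localizations of `S` -/
theorem relFP_away {R S S' N N' : Type u} [CommRing R] [CommRing S] [CommRing S'] [Algebra R S] [Algebra R S']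
    [Algebra S S'] [IsScalarTower R S S'] (g : S) [IsLocalization.Away g S'] [AddCommGroup N] [Module S N]
    [AddCommGroup N'] [Module S N'] [Module S' N'] [IsScalarTower S S' N'] (l : N →ₗ[S] N')
    [IsLocalizedModule (Submonoid.powers g) l] (h : RelFinitePresentation R S N) :
    RelFinitePresentation R S' N' := by
  obtain ⟨n, α, hα, hN⟩ := h
  obtain ⟨G, rfl⟩ := hα g
  let A' := Localization.Away G
  let f : MvPolynomial (Fin n) R →ₐ[R] S' := (IsScalarTower.toAlgHom R S S').comp α
  have hf : ∀ y : Submonoid.powers G, IsUnit (f y) := by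
    rintro ⟨_, k, rfl⟩
    change IsUnit (algebraMap S S' (α (G ^ k)))
    rw [map_pow, map_pow]
    exact (IsLocalization.Away.algebraMap_isUnit (α G)).pow k
  let α' : A' →ₐ[R] S' := IsLocalization.liftAlgHom (M := Submonoid.powers G) (f := f) hf
  have hα's : Function.Surjective α' := by
    intro s'
    obtain ⟨⟨s, ⟨_, k, rfl⟩⟩, hs⟩ := IsLocalization.surj (Submonoid.powers (α G)) s'
    obtain ⟨p, rfl⟩ := hα s
    let Gk : Submonoid.powers G := ⟨G ^ k, k, rfl⟩
    refine ⟨IsLocalization.mk' A' p Gk, ?_⟩
    change IsLocalization.lift hf (IsLocalization.mk' A' p Gk) = s'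
    rw [IsLocalization.lift_mk'_spec]
    change algebraMap S S' (α p) = algebraMap S S' (α (G ^ k)) * s'
    rw [mul_comm, map_pow]
    exact hs.symm
  haveI : Algebra.FinitePresentation (MvPolynomial (Fin n) R) A' := IsLocalization.Away.finitePresentation G
  haveI : Algebra.FinitePresentation R A' := Algebra.FinitePresentation.trans R (MvPolynomial (Fin n) R) A'
  refine relFP_of_fpAlgebra N' A' α' hα's ?_
  refine fpVia_away α.toRingHom G l A' α'.toRingHom ?_ hN
  exact IsLocalization.lift_comp hf

/-- relative finite presentation over a finitely presented `R`-algebra `R'` implies it over `R` -/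
theorem relFP_of_tower {R R' S N : Type u} [CommRing R] [CommRing R'] [CommRing S] [Algebra R R'] [Algebra R' S]
    [Algebra R S] [IsScalarTower R R' S] [Algebra.FinitePresentation R R'] [AddCommGroup N] [Module S N]
    (h : RelFinitePresentation R' S N) : RelFinitePresentation R S N := by
  obtain ⟨n, α', hα', hN⟩ := h
  haveI : Algebra.FinitePresentation R (MvPolynomial (Fin n) R') :=
    Algebra.FinitePresentation.trans R R' (MvPolynomial (Fin n) R')
  exact relFP_of_fpAlgebra N (MvPolynomial (Fin n) R') (α'.restrictScalars R) hα' hN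

theorem isLocalizedModule_id_of_isUnit {A N : Type*} [CommRing A] [AddCommGroup N] [Module A N] (T : Submonoid A)
    (h : ∀ t : T, IsUnit (algebraMap A (Module.End A N) t)) :
    IsLocalizedModule T (LinearMap.id : N →ₗ[A] N) :=
  ⟨h, fun y => ⟨(y, 1), one_smul _ _⟩, fun {x₁ x₂} hx => ⟨1, by rw [one_smul, one_smul]; exact hx⟩⟩

/-- relative finite presentation passes to a localization `R'` of the base over which `S` lives -/
theorem relFP_of_isLocalization_base {R R' S N : Type u} [CommRing R] [CommRing R'] [CommRing S] [Algebra R R']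
    [Algebra R' S] [Algebra R S] [IsScalarTower R R' S] (M : Submonoid R) [IsLocalization M R'] [AddCommGroup N]
    [Module S N] (h : RelFinitePresentation R S N) : RelFinitePresentation R' S N := by
  obtain ⟨n, α, hα, hN⟩ := h
  let α' : MvPolynomial (Fin n) R' →ₐ[R'] S := MvPolynomial.aeval (fun i => α (MvPolynomial.X i))
  have hcomp : α'.toRingHom.comp (MvPolynomial.map (algebraMap R R')) = α.toRingHom := by
    apply MvPolynomial.ringHom_ext
    · intro r
      change α' (MvPolynomial.map (algebraMap R R') (MvPolynomial.C r)) = α (MvPolynomial.C r)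
      rw [MvPolynomial.map_C]
      simp only [α', MvPolynomial.aeval_C]
      rw [← IsScalarTower.algebraMap_apply]
      exact (α.commutes r).symm
    · intro i
      change α' (MvPolynomial.map (algebraMap R R') (MvPolynomial.X i)) = α (MvPolynomial.X i)
      rw [MvPolynomial.map_X]
      simp only [α', MvPolynomial.aeval_X]
  have hα' : Function.Surjective α' := by
    intro s
    obtain ⟨p, rfl⟩ := hα s
    exact ⟨MvPolynomial.map (algebraMap R R') p, congrArg (fun φ : MvPolynomial (Fin n) R →+* S => φ p) hcomp⟩
  refine ⟨n, α', hα', ?_⟩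
  letI := MvPolynomial.algebraMvPolynomial (σ := Fin n) (R := R) (S := R')
  haveI := MvPolynomial.isLocalization (σ := Fin n) M R'
  letI : Module (MvPolynomial (Fin n) R) N := Module.compHom N α.toRingHom
  letI : Module (MvPolynomial (Fin n) R') N := Module.compHom N α'.toRingHom
  haveI : IsScalarTower (MvPolynomial (Fin n) R) (MvPolynomial (Fin n) R') N :=
    IsScalarTower.of_algebraMap_smul fun r x => by
      change α' (MvPolynomial.map (algebraMap R R') r) • x = α r • x
      have h1 : α' (MvPolynomial.map (algebraMap R R') r) = α r :=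
        congrArg (fun φ : MvPolynomial (Fin n) R →+* S => φ r) hcomp
      rw [h1]
  haveI : Module.FinitePresentation (MvPolynomial (Fin n) R) N := hN
  haveI : IsLocalizedModule (M.map (MvPolynomial.C (σ := Fin n))) (LinearMap.id : N →ₗ[MvPolynomial (Fin n) R] N) := by
    apply isLocalizedModule_id_of_isUnit
    rintro ⟨_, m, hm, rfl⟩
    rw [Module.End.isUnit_iff]
    have hu : IsUnit (algebraMap R S m) := by
      rw [IsScalarTower.algebraMap_apply R R' S]
      exact (IsLocalization.map_units R' ⟨m, hm⟩).map _
    have hact : ∀ x : N, (MvPolynomial.C m : MvPolynomial (Fin n) R) • x = (algebraMap R S m) • x := fun x => by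
      change α (MvPolynomial.C m) • x = _
      have : α (MvPolynomial.C m) = algebraMap R S m := α.commutes m
      rw [this]
    obtain ⟨u, hu'⟩ := hu
    refine ⟨fun x y hxy => ?_, fun y => ⟨(↑u⁻¹ : S) • y, ?_⟩⟩
    · have h1 : (algebraMap R S m) • x = (algebraMap R S m) • y := by
        rw [← hact x, ← hact y]; exact hxy
      rw [← hu'] at h1
      have h2 := congrArg (fun z => (↑u⁻¹ : S) • z) h1
      simpa [smul_smul] using h2
    · change (MvPolynomial.C m : MvPolynomial (Fin n) R) • ((↑u⁻¹ : S) • y) = y
      rw [hact, ← hu', smul_smul, Units.mul_inv, one_smul]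
  have hbc : IsBaseChange (MvPolynomial (Fin n) R') (LinearMap.id : N →ₗ[MvPolynomial (Fin n) R] N) :=
    IsLocalizedModule.isBaseChange (M.map (MvPolynomial.C (σ := Fin n))) (MvPolynomial (Fin n) R') _
  exact FinitePresentation.of_isBaseChange _ hbc

/-- the lift of a presentation of `S` to the localization `S'` of `S` away from `α G` -/
theorem exists_awayLift {R S S' : Type u} [CommRing R] [CommRing S] [CommRing S'] [Algebra R S] [Algebra R S']
    [Algebra S S'] [IsScalarTower R S S'] {n : ℕ} (α : MvPolynomial (Fin n) R →ₐ[R] S)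
    (hα : Function.Surjective α) (G : MvPolynomial (Fin n) R) [IsLocalization.Away (α G) S'] :
    ∃ α' : Localization.Away G →ₐ[R] S', Function.Surjective α' ∧
      α'.toRingHom.comp (algebraMap (MvPolynomial (Fin n) R) (Localization.Away G)) =
        (algebraMap S S').comp α.toRingHom := by
  let A' := Localization.Away G
  let f : MvPolynomial (Fin n) R →ₐ[R] S' := (IsScalarTower.toAlgHom R S S').comp α
  have hf : ∀ y : Submonoid.powers G, IsUnit (f y) := by
    rintro ⟨_, k, rfl⟩
    change IsUnit (algebraMap S S' (α (G ^ k)))
    rw [map_pow, map_pow]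
    exact (IsLocalization.Away.algebraMap_isUnit (α G)).pow k
  let α' : A' →ₐ[R] S' := IsLocalization.liftAlgHom (M := Submonoid.powers G) (f := f) hf
  refine ⟨α', ?_, IsLocalization.lift_comp hf⟩
  intro s'
  obtain ⟨⟨s, ⟨_, k, rfl⟩⟩, hs⟩ := IsLocalization.surj (Submonoid.powers (α G)) s'
  obtain ⟨p, rfl⟩ := hα s
  let Gk : Submonoid.powers G := ⟨G ^ k, k, rfl⟩
  refine ⟨IsLocalization.mk' A' p Gk, ?_⟩
  change IsLocalization.lift hf (IsLocalization.mk' A' p Gk) = s'
  rw [IsLocalization.lift_mk'_spec]
  change algebraMap S S' (α p) = algebraMap S S' (α (G ^ k)) * s'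
  rw [mul_comm, map_pow]
  exact hs.symm

/-- if the localization `N'` of `N` away from `α G` is relatively finitely presented, then the localization of `N`
(as a module over the polynomial ring) away from `G` is finitely presented -/
theorem fp_localizedModule_of_relFP {R S S' N N' : Type u} [CommRing R] [CommRing S] [CommRing S'] [Algebra R S]
    [Algebra R S'] [Algebra S S'] [IsScalarTower R S S'] {n : ℕ} (α : MvPolynomial (Fin n) R →ₐ[R] S)
    (hα : Function.Surjective α) (G : MvPolynomial (Fin n) R) [IsLocalization.Away (α G) S']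
    [AddCommGroup N] [Module S N] [AddCommGroup N'] [Module S N'] [Module S' N'] [IsScalarTower S S' N']
    (l : N →ₗ[S] N') [IsLocalizedModule (Submonoid.powers (α G)) l] (h : RelFinitePresentation R S' N') :
    letI : Module (MvPolynomial (Fin n) R) N := Module.compHom N α.toRingHom
    Module.FinitePresentation (Localization.Away G) (LocalizedModule.Away G N) := by
  obtain ⟨α', hα's, hcomp⟩ := exists_awayLift α hα G (S' := S')
  haveI : Algebra.FinitePresentation (MvPolynomial (Fin n) R) (Localization.Away G) :=
    IsLocalization.Away.finitePresentation G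
  haveI : Algebra.FinitePresentation R (Localization.Away G) :=
    Algebra.FinitePresentation.trans R (MvPolynomial (Fin n) R) (Localization.Away G)
  have h1 : FPVia α'.toRingHom N' := fpVia_of_relFP N' h (Localization.Away G) α' hα's
  letI : Module (MvPolynomial (Fin n) R) N := Module.compHom N α.toRingHom
  letI : Module (MvPolynomial (Fin n) R) N' := Module.compHom N' α.toRingHom
  letI : Module (Localization.Away G) N' := Module.compHom N' α'.toRingHom
  haveI : IsScalarTower (MvPolynomial (Fin n) R) (Localization.Away G) N' :=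
    IsScalarTower.of_algebraMap_smul fun r x => by
      change α' (algebraMap _ (Localization.Away G) r) • x = α r • x
      have h2 : α' (algebraMap _ (Localization.Away G) r) = algebraMap S S' (α r) :=
        congrArg (fun φ : MvPolynomial (Fin n) R →+* S' => φ r) hcomp
      rw [h2, algebraMap_smul]
  haveI : Module.FinitePresentation (Localization.Away G) N' := h1
  haveI := isLocalizedModule_compHom α.toRingHom G l
  let e : N' ≃ₗ[MvPolynomial (Fin n) R] LocalizedModule.Away G N :=
    IsLocalizedModule.linearEquiv (Submonoid.powers G) (compHomLin α.toRingHom l)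
      (LocalizedModule.mkLinearMap (Submonoid.powers G) N)
  exact Module.FinitePresentation.of_equiv
    (e.extendScalarsOfIsLocalization (Submonoid.powers G) (Localization.Away G))

/-- gluing: finite presentation over the polynomial ring can be checked on the localizations away from lifts of
elements generating the unit ideal of `S` -/
theorem fpVia_of_span {R S N : Type u} [CommRing R] [CommRing S] [Algebra R S] [AddCommGroup N] [Module S N]
    {n : ℕ} (α : MvPolynomial (Fin n) R →ₐ[R] S) (hα : Function.Surjective α)
    (t : Set (MvPolynomial (Fin n) R)) (ht : Ideal.span (α '' t) = ⊤)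
    (H : letI : Module (MvPolynomial (Fin n) R) N := Module.compHom N α.toRingHom
      ∀ G ∈ t, Module.FinitePresentation (Localization.Away G) (LocalizedModule.Away G N)) :
    FPVia α.toRingHom N := by
  letI : Module (MvPolynomial (Fin n) R) N := Module.compHom N α.toRingHom
  have hI : Ideal.span t ⊔ RingHom.ker α.toRingHom = ⊤ := by
    have h1 : Ideal.map α.toRingHom (Ideal.span t) = ⊤ := by
      rw [Ideal.map_span]; exact ht
    have h2 := Ideal.comap_map_of_surjective α.toRingHom hα (Ideal.span t)
    rw [h1, Ideal.comap_top] at h2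
    rw [h2]
    rfl
  have h1 : (1 : MvPolynomial (Fin n) R) ∈ Ideal.span t ⊔ RingHom.ker α.toRingHom := by rw [hI]; trivial
  obtain ⟨p, hp, a, ha, hpa⟩ := Submodule.mem_sup.1 h1
  have hs : Ideal.span (insert a t) = ⊤ := by
    rw [Ideal.eq_top_iff_one, ← hpa]
    refine Ideal.add_mem _ ?_ ?_
    · exact Ideal.span_mono (Set.subset_insert a t) hp
    · exact Ideal.subset_span (Set.mem_insert a t)
  have ha0 : ∀ x : N, a • x = 0 := fun x => by
    change α a • x = 0
    have : α a = 0 := ha
    rw [this, zero_smul]
  change Module.FinitePresentation (MvPolynomial (Fin n) R) N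
  refine Module.FinitePresentation.of_localizationSpan (insert a t) hs ?_
  rintro ⟨r, hr⟩
  rcases hr with rfl | hr
  · haveI : Subsingleton (LocalizedModule.Away r N) := by
      refine ⟨fun x y => ?_⟩
      induction x, y using LocalizedModule.induction_on₂ with
      | h m m' s s' =>
        refine LocalizedModule.mk_eq.mpr ⟨⟨r, Submonoid.mem_powers r⟩, ?_⟩
        have e1 : (⟨r, Submonoid.mem_powers r⟩ : Submonoid.powers r) • (s' • m) = 0 := by
          change r • (s' • m) = 0
          exact ha0 _
        have e2 : (⟨r, Submonoid.mem_powers r⟩ : Submonoid.powers r) • (s • m') = 0 := by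
          change r • (s • m') = 0
          exact ha0 _
        rw [e1, e2]
    infer_instance
  · exact H r hr

end Groth.Agent.Lib.Helper29.RelFP
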