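import Groth.Agent.Lib.Helper29.RelFP

/-!
# Relative finite presentation under base change (ring level)

If `N` is a `C`-module finitely presented relative to `R` and `C' = C ⊗[R] R'`, then `C' ⊗[C] N` is finitely
presented relative to `R'`.
-/

set_option autoImplicit false
universe u

namespace Groth.Agent.Lib.Helper29.RelFPBaseChange

open FlatCA Groth.Agent.Lib.Helper29.RelFP TensorProduct

attribute [local instance] MvPolynomial.algebraMvPolynomial in
theorem relFP_baseChange {R C R' C' : Type u} [CommRing R] [CommRing C] [CommRing R'] [CommRing C']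
    [Algebra R C] [Algebra R R'] [Algebra C C'] [Algebra R' C'] [Algebra R C'] [IsScalarTower R C C']
    [IsScalarTower R R' C'] [Algebra.IsPushout R C R' C'] (N : Type u) [AddCommGroup N] [Module C N]
    (h : RelFinitePresentation R C N) : RelFinitePresentation R' C' (C' ⊗[C] N) := by
  obtain ⟨n, α, hα, hN⟩ := h
  letI : Algebra (MvPolynomial (Fin n) R) C := α.toRingHom.toAlgebra
  haveI : IsScalarTower R (MvPolynomial (Fin n) R) C := IsScalarTower.of_algebraMap_eq' α.comp_algebraMap.symm
  letI : Module (MvPolynomial (Fin n) R) N := Module.compHom N α.toRingHom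
  haveI : IsScalarTower (MvPolynomial (Fin n) R) C N := IsScalarTower.of_algebraMap_smul fun r x => rfl
  haveI : Module.FinitePresentation (MvPolynomial (Fin n) R) N := hN
  let ψ' : MvPolynomial (Fin n) R' →ₐ[R'] C' :=
    MvPolynomial.aeval (fun i => algebraMap C C' (α (MvPolynomial.X i)))
  letI : Algebra (MvPolynomial (Fin n) R') C' := ψ'.toRingHom.toAlgebra
  haveI : IsScalarTower R' (MvPolynomial (Fin n) R') C' :=
    IsScalarTower.of_algebraMap_eq' ψ'.comp_algebraMap.symm
  letI : Algebra (MvPolynomial (Fin n) R) C' :=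
    ((algebraMap C C').comp (algebraMap (MvPolynomial (Fin n) R) C)).toAlgebra
  haveI : IsScalarTower (MvPolynomial (Fin n) R) C C' := IsScalarTower.of_algebraMap_eq' rfl
  haveI : IsScalarTower (MvPolynomial (Fin n) R) (MvPolynomial (Fin n) R') C' := by
    refine IsScalarTower.of_algebraMap_eq' ?_
    apply MvPolynomial.ringHom_ext
    · intro r
      change algebraMap C C' (α (MvPolynomial.C r)) = ψ' (MvPolynomial.map (algebraMap R R') (MvPolynomial.C r))
      rw [MvPolynomial.map_C]
      have h1 : α (MvPolynomial.C r) = algebraMap R C r := α.commutes r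
      have h2 : ψ' (MvPolynomial.C (algebraMap R R' r)) = algebraMap R' C' (algebraMap R R' r) :=
        ψ'.commutes _
      rw [h1, h2, ← IsScalarTower.algebraMap_apply, ← IsScalarTower.algebraMap_apply]
    · intro i
      change algebraMap C C' (α (MvPolynomial.X i)) = ψ' (MvPolynomial.map (algebraMap R R') (MvPolynomial.X i))
      rw [MvPolynomial.map_X]
      exact (MvPolynomial.aeval_X (R := R') (fun i => algebraMap C C' (α (MvPolynomial.X i))) i).symm
  haveI : IsScalarTower R (MvPolynomial (Fin n) R') C' := by
    refine IsScalarTower.of_algebraMap_eq fun r => ?_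
    change algebraMap R C' r = ψ' (algebraMap R (MvPolynomial (Fin n) R') r)
    rw [IsScalarTower.algebraMap_apply R R' (MvPolynomial (Fin n) R')]
    have h2 : ψ' (algebraMap R' (MvPolynomial (Fin n) R') (algebraMap R R' r)) =
        algebraMap R' C' (algebraMap R R' r) := ψ'.commutes _
    rw [h2, ← IsScalarTower.algebraMap_apply]
  haveI hpo : Algebra.IsPushout (MvPolynomial (Fin n) R) C (MvPolynomial (Fin n) R') C' :=
    (Algebra.IsPushout.comp_iff R (MvPolynomial (Fin n) R) R' (MvPolynomial (Fin n) R')).1 inferInstance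
  haveI hpo' : Algebra.IsPushout (MvPolynomial (Fin n) R) (MvPolynomial (Fin n) R') C C' := hpo.symm
  have e1 : C' ⊗[C] N ≃ₗ[MvPolynomial (Fin n) R'] MvPolynomial (Fin n) R' ⊗[MvPolynomial (Fin n) R] N :=
    Algebra.IsPushout.cancelBaseChange (MvPolynomial (Fin n) R) (MvPolynomial (Fin n) R') C C' N
  have key : Module.FinitePresentation (MvPolynomial (Fin n) R') (C' ⊗[C] N) :=
    Module.FinitePresentation.of_equiv (R := MvPolynomial (Fin n) R')
      (M := MvPolynomial (Fin n) R' ⊗[MvPolynomial (Fin n) R] N) (N := C' ⊗[C] N) e1.symm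
  -- surjectivity of `ψ'`
  have hψ' : Function.Surjective ψ' := by
    haveI hpo2 : Algebra.IsPushout R R' C C' := Algebra.IsPushout.symm inferInstance
    intro x
    refine hpo2.out.inductionOn x (fun y => y ∈ ψ'.range) (zero_mem _) ?_ ?_ (fun _ _ => add_mem)
    · intro c
      obtain ⟨p, rfl⟩ := hα c
      refine ⟨algebraMap (MvPolynomial (Fin n) R) (MvPolynomial (Fin n) R') p, ?_⟩
      have h3 := IsScalarTower.algebraMap_apply (MvPolynomial (Fin n) R) (MvPolynomial (Fin n) R') C' p
      have h4 := IsScalarTower.algebraMap_apply (MvPolynomial (Fin n) R) C C' p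
      exact h3.symm.trans h4
    · intro s y hy
      exact Subalgebra.smul_mem _ hy s
  refine ⟨n, ψ', hψ', ?_⟩
  refine (fpVia_iff ψ'.toRingHom (fun a x => ?_)).2 key
  exact (algebraMap_smul C' a x).symm

end Groth.Agent.Lib.Helper29.RelFPBaseChange
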