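import Groth.Agent.Lib.Helper29.RelFPGeom
import Groth.Agent.Lib.Helper17.AffineSurj
import Groth.Agent.Lib.Helper28.FinType

/-!
# Relative finite presentation and short exact sequences
-/

set_option autoImplicit false
universe u
open CategoryTheory CategoryTheory.Limits AlgebraicGeometry Opposite TopologicalSpace

namespace Groth.Agent.Lib.Helper29.RelFPExact

open Groth.Agent.Lib.Helper29.RelFP Groth.Agent.Lib.Helper29.RelFPGeom FlatCA

/-- an extension of finitely presented modules is finitely presented -/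
theorem fp_of_exact {A M₁ M₂ M₃ : Type*} [CommRing A] [AddCommGroup M₁] [AddCommGroup M₂] [AddCommGroup M₃]
    [Module A M₁] [Module A M₂] [Module A M₃] (i : M₁ →ₗ[A] M₂) (p : M₂ →ₗ[A] M₃)
    (hi : Function.Injective i) (hp : Function.Surjective p) (hex : ∀ m, p m = 0 → ∃ m₁, i m₁ = m)
    (hcomp : ∀ m₁, p (i m₁) = 0) [Module.FinitePresentation A M₁] [Module.FinitePresentation A M₃] :
    Module.FinitePresentation A M₂ := by
  let i' : M₁ →ₗ[A] LinearMap.ker p := i.codRestrict (LinearMap.ker p) hcomp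
  have hbij : Function.Bijective i' := by
    constructor
    · intro x y hxy
      apply hi
      exact congrArg Subtype.val hxy
    · rintro ⟨m, hm⟩
      obtain ⟨m₁, rfl⟩ := hex m hm
      exact ⟨m₁, rfl⟩
  haveI : Module.FinitePresentation A (LinearMap.ker p) :=
    Module.FinitePresentation.of_equiv (LinearEquiv.ofBijective i' hbij)
  exact Module.finitePresentation_of_ker p hp

/-- sections of a morphism of modules as a semilinear map through `φ` -/
def valLin {X : Scheme.{u}} {F G : X.Modules} (i : F ⟶ G) (U : X.Opens) {A : Type*} [CommRing A]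
    (φ : A →+* Γ(X, U)) :
    letI : Module A (F.val.obj (op U)) := Module.compHom _ φ
    letI : Module A (G.val.obj (op U)) := Module.compHom _ φ
    (F.val.obj (op U)) →ₗ[A] (G.val.obj (op U)) :=
  letI : Module A (F.val.obj (op U)) := Module.compHom _ φ
  letI : Module A (G.val.obj (op U)) := Module.compHom _ φ
  { toFun := fun x => (i.val.app (op U)).hom x
    map_add' := fun x y => map_add _ x y
    map_smul' := fun r x => (i.val.app (op U)).hom.map_smul (φ r) x }

theorem relFPOn_of_shortExact {X S : Scheme.{u}} (f : X ⟶ S) (E : ShortComplex X.Modules) (hE : E.ShortExact)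
    [E.X₁.IsQuasicoherent] (U : X.affineOpens) (V : S.affineOpens) (h : (U : X.Opens) ≤ f ⁻¹ᵁ (V : S.Opens))
    (h₁ : Flatn.RelFPOn f E.X₁ U V h) (h₃ : Flatn.RelFPOn f E.X₃ U V h) : Flatn.RelFPOn f E.X₂ U V h := by
  letI := (f.appLE (V : S.Opens) (U : X.Opens) h).hom.toAlgebra
  obtain ⟨n, α, hα, hN₁⟩ := h₁
  have hN₃ : FPVia α.toRingHom (E.X₃.val.obj (op (U : X.Opens))) :=
    fpVia_of_relFP _ h₃ (MvPolynomial (Fin n) Γ(S, (V : S.Opens))) α hα
  refine ⟨n, α, hα, ?_⟩
  letI : Module (MvPolynomial (Fin n) Γ(S, (V : S.Opens))) (E.X₁.val.obj (op (U : X.Opens))) :=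
    Module.compHom _ α.toRingHom
  letI : Module (MvPolynomial (Fin n) Γ(S, (V : S.Opens))) (E.X₂.val.obj (op (U : X.Opens))) :=
    Module.compHom _ α.toRingHom
  letI : Module (MvPolynomial (Fin n) Γ(S, (V : S.Opens))) (E.X₃.val.obj (op (U : X.Opens))) :=
    Module.compHom _ α.toRingHom
  haveI : Module.FinitePresentation (MvPolynomial (Fin n) Γ(S, (V : S.Opens))) (E.X₁.val.obj (op (U : X.Opens))) := hN₁
  haveI : Module.FinitePresentation (MvPolynomial (Fin n) Γ(S, (V : S.Opens))) (E.X₃.val.obj (op (U : X.Opens))) := hN₃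
  refine fp_of_exact (valLin E.f (U : X.Opens) α.toRingHom) (valLin E.g (U : X.Opens) α.toRingHom) ?_ ?_ ?_ ?_
  · exact Groth.Agent.Lib.Helper29.QCohStalk.injective_app_of_mono E.f hE.mono_f (U : X.Opens)
  · exact Groth.Agent.Lib.Helper17.AffineSurj.surjective_app_of_shortExact_aux E hE inferInstance U.2
  · intro m hm
    exact Groth.Agent.Lib.Helper29.QCohStalk.exists_eq_of_shortExact_aux E hE (U : X.Opens) m hm
  · intro m₁
    have := congrArg (fun ψ : (E.X₁ ⟶ E.X₃) => (ψ.val.app (op (U : X.Opens))).hom m₁) E.zero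
    exact this

theorem finite_compHom_of_surjective {A S N : Type*} [CommRing A] [CommRing S] (φ : A →+* S)
    (hφ : Function.Surjective φ) [AddCommGroup N] [Module S N] [hfin : Module.Finite S N] :
    letI : Module A N := Module.compHom N φ
    Module.Finite A N := by
  letI : Module A N := Module.compHom N φ
  obtain ⟨s, hs⟩ := hfin.fg_top
  refine ⟨⟨s, ?_⟩⟩
  rw [eq_top_iff]
  intro m _
  have hm : m ∈ Submodule.span S (s : Set N) := by rw [hs]; trivial
  refine Submodule.span_induction (p := fun m _ => m ∈ Submodule.span A (s : Set N)) ?_ ?_ ?_ ?_ hm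
  · intro x hx
    exact Submodule.subset_span hx
  · exact Submodule.zero_mem _
  · intro x y _ _ hx hy
    exact Submodule.add_mem _ hx hy
  · intro a x _ hx
    obtain ⟨a', rfl⟩ := hφ a
    exact Submodule.smul_mem _ a' hx

/-- the quotient of a relatively finitely presented module by a quasi-coherent submodule of finite type -/
theorem relFPOn_quotient {X S : Scheme.{u}} (f : X ⟶ S) (E : ShortComplex X.Modules) (hE : E.ShortExact)
    [E.X₁.IsQuasicoherent] [SheafOfModules.IsFiniteType.{u} (R := X.ringCatSheaf) E.X₁]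
    (U : X.affineOpens) (V : S.affineOpens) (h : (U : X.Opens) ≤ f ⁻¹ᵁ (V : S.Opens))
    (h₂ : Flatn.RelFPOn f E.X₂ U V h) : Flatn.RelFPOn f E.X₃ U V h := by
  letI := (f.appLE (V : S.Opens) (U : X.Opens) h).hom.toAlgebra
  obtain ⟨n, α, hα, hN₂⟩ := h₂
  refine ⟨n, α, hα, ?_⟩
  letI : Module (MvPolynomial (Fin n) Γ(S, (V : S.Opens))) (E.X₁.val.obj (op (U : X.Opens))) :=
    Module.compHom _ α.toRingHom
  letI : Module (MvPolynomial (Fin n) Γ(S, (V : S.Opens))) (E.X₂.val.obj (op (U : X.Opens))) :=
    Module.compHom _ α.toRingHom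
  letI : Module (MvPolynomial (Fin n) Γ(S, (V : S.Opens))) (E.X₃.val.obj (op (U : X.Opens))) :=
    Module.compHom _ α.toRingHom
  haveI : Module.FinitePresentation (MvPolynomial (Fin n) Γ(S, (V : S.Opens))) (E.X₂.val.obj (op (U : X.Opens))) := hN₂
  have hsurj : Function.Surjective (valLin E.g (U : X.Opens) α.toRingHom) :=
    Groth.Agent.Lib.Helper17.AffineSurj.surjective_app_of_shortExact_aux E hE inferInstance U.2
  refine Module.finitePresentation_of_surjective (valLin E.g (U : X.Opens) α.toRingHom) hsurj ?_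
  have hker : LinearMap.ker (valLin E.g (U : X.Opens) α.toRingHom) =
      LinearMap.range (valLin E.f (U : X.Opens) α.toRingHom) := by
    ext m
    constructor
    · intro hm
      obtain ⟨m₁, hm₁⟩ := Groth.Agent.Lib.Helper29.QCohStalk.exists_eq_of_shortExact_aux E hE (U : X.Opens) m hm
      exact ⟨m₁, hm₁⟩
    · rintro ⟨m₁, rfl⟩
      have := congrArg (fun ψ : (E.X₁ ⟶ E.X₃) => (ψ.val.app (op (U : X.Opens))).hom m₁) E.zero
      exact this
  rw [hker]
  -- `E.X₁(U)` is finite over `Γ(X, U)`, hence over the polynomial ring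
  haveI hfin : Module.Finite Γ(X, (U : X.Opens)) Γ(E.X₁, (U : X.Opens)) :=
    Groth.Agent.Lib.Helper28.FinType.finite_of_isAffineOpen E.X₁ U.2
  haveI : Module.Finite (MvPolynomial (Fin n) Γ(S, (V : S.Opens))) (E.X₁.val.obj (op (U : X.Opens))) :=
    @finite_compHom_of_surjective _ _ _ _ _ α.toRingHom hα _ _ hfin
  exact Submodule.fg_range _

end Groth.Agent.Lib.Helper29.RelFPExact
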