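import Groth.Agent.Lib.Helper29.RelFP
import Groth.Agent.Lib.Helper29.FPAlg

/-!
# Relative finite presentation along finite ring maps (ring level)

If `A` is a finitely presented `R`-algebra and `θ : A → C` is a finite `R`-algebra map, then a `C`-module `N` is
finitely presented relative to `R` iff it is finitely presented over `A`.
-/

set_option autoImplicit false
universe u

namespace Groth.Agent.Lib.Helper29.RelFPFinite

open FlatCA Groth.Agent.Lib.Helper29.RelFP

/-- transitivity: `N` f.p. over `A'` through `ψ`, `A'` f.p. as a module over `A` through `χ` -/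
theorem FPVia.comp_of_fp {A A' S N : Type*} [CommRing A] [CommRing A'] [CommRing S] (ψ : A' →+* S)
    [AddCommGroup N] [Module S N] (χ : A →+* A')
    (hχ : letI : Algebra A A' := χ.toAlgebra; Module.FinitePresentation A A')
    (h : FPVia ψ N) : FPVia (ψ.comp χ) N := by
  letI : Algebra A A' := χ.toAlgebra
  letI : Module A' N := Module.compHom N ψ
  letI : Module A N := Module.compHom N (ψ.comp χ)
  haveI : IsScalarTower A A' N := IsScalarTower.of_algebraMap_smul fun r x => rfl
  haveI : Module.FinitePresentation A' N := h
  haveI : Module.FinitePresentation A A' := hχ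
  exact Module.FinitePresentation.trans A N A'

/-- descent along a finite ring map -/
theorem FPVia.of_comp_finite {A A' S N : Type*} [CommRing A] [CommRing A'] [CommRing S] (ψ : A' →+* S)
    [AddCommGroup N] [Module S N] (χ : A →+* A') (hχ : χ.Finite)
    (h : FPVia (ψ.comp χ) N) : FPVia ψ N := by
  letI : Algebra A A' := χ.toAlgebra
  letI : Module A' N := Module.compHom N ψ
  letI : Module A N := Module.compHom N (ψ.comp χ)
  haveI : IsScalarTower A A' N := IsScalarTower.of_algebraMap_smul fun r x => rfl
  haveI : Module.FinitePresentation A N := h
  haveI : Module.Finite A A' := hχ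
  exact Groth.Agent.Lib.Helper29.FPAlg.fp_of_restrictScalars A A' N

/-- relative finite presentation can be tested over a finitely presented `R`-algebra over which `C` is finite -/
theorem relFP_iff_fpVia_of_finite {R C : Type u} [CommRing R] [CommRing C] [Algebra R C] (N : Type u)
    [AddCommGroup N] [Module C N] (A : Type u) [CommRing A] [Algebra R A] [Algebra.FinitePresentation R A]
    (θ : A →ₐ[R] C) (hfin : θ.toRingHom.Finite) :
    RelFinitePresentation R C N ↔ FPVia θ.toRingHom N := by
  letI : Algebra A C := θ.toRingHom.toAlgebra
  haveI : IsScalarTower R A C := IsScalarTower.of_algebraMap_eq' θ.comp_algebraMap.symm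
  haveI : Module.Finite A C := hfin
  obtain ⟨A', _, _, _, _, _, f, hf⟩ := Module.Finite.exists_free_surjective A C
  letI : Algebra R A' := ((algebraMap A A').comp (algebraMap R A)).toAlgebra
  haveI : IsScalarTower R A A' := IsScalarTower.of_algebraMap_eq' rfl
  haveI : Algebra.FinitePresentation R A' := Algebra.FinitePresentation.trans R A A'
  let f' : A' →ₐ[R] C := f.restrictScalars R
  have hf' : Function.Surjective f' := hf
  have hcomp : f'.toRingHom.comp (algebraMap A A') = θ.toRingHom := by
    ext a
    exact f.commutes a
  constructor
  · intro h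
    have h1 : FPVia f'.toRingHom N := fpVia_of_relFP N h A' f' hf'
    have h2 : FPVia (f'.toRingHom.comp (algebraMap A A')) N := by
      refine FPVia.comp_of_fp f'.toRingHom (algebraMap A A') ?_ h1
      have e : (algebraMap A A').toAlgebra = (inferInstance : Algebra A A') := Algebra.algebra_ext _ _ fun _ => rfl
      rw [e]
      exact Module.finitePresentation_of_projective A A'
    rwa [hcomp] at h2
  · intro h
    rw [← hcomp] at h
    have h1 : FPVia f'.toRingHom N := by
      refine FPVia.of_comp_finite f'.toRingHom (algebraMap A A') ?_ h
      show (algebraMap A A').Finite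
      have e : (algebraMap A A').toAlgebra = (inferInstance : Algebra A A') := Algebra.algebra_ext _ _ fun _ => rfl
      unfold RingHom.Finite
      rw [e]
      infer_instance
    exact relFP_of_fpAlgebra N A' f' hf' h1

/-- relative finite presentation is insensitive to finite extensions of a finite type algebra: if `B` is of finite
type over `R` and `C` is finite over `B`, a `C`-module is finitely presented relative to `R` as a `C`-module iff it
is as a `B`-module -/
theorem relFP_finite_iff {R B C : Type u} [CommRing R] [CommRing B] [CommRing C] [Algebra R B] [Algebra R C]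
    [Algebra B C] [IsScalarTower R B C] [Algebra.FiniteType R B] [Module.Finite B C]
    (N N' : Type u) [AddCommGroup N] [Module C N] [AddCommGroup N'] [Module B N']
    (e : N ≃+ N') (he : ∀ (b : B) (x : N), e (algebraMap B C b • x) = b • e x) :
    RelFinitePresentation R C N ↔ RelFinitePresentation R B N' := by
  obtain ⟨n, β, hβ⟩ := Algebra.FiniteType.iff_quotient_mvPolynomial''.1
    (inferInstance : Algebra.FiniteType R B)
  let θ : MvPolynomial (Fin n) R →ₐ[R] C := (IsScalarTower.toAlgHom R B C).comp β
  have hθ : θ.toRingHom.Finite := by
    have h1 : (algebraMap B C).Finite := by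
      have e' : (algebraMap B C).toAlgebra = (inferInstance : Algebra B C) :=
        Algebra.algebra_ext _ _ fun _ => rfl
      unfold RingHom.Finite
      rw [e']
      infer_instance
    exact RingHom.Finite.comp h1 (RingHom.Finite.of_surjective β.toRingHom hβ)
  rw [relFP_iff_fpVia_of_finite N (MvPolynomial (Fin n) R) θ hθ]
  have h2 : RelFinitePresentation R B N' ↔ FPVia β.toRingHom N' :=
    ⟨fun h => fpVia_of_relFP N' h _ β hβ, fun h => ⟨n, β, hβ, h⟩⟩
  rw [h2]
  unfold FPVia
  letI : Module (MvPolynomial (Fin n) R) N := Module.compHom N θ.toRingHom
  letI : Module (MvPolynomial (Fin n) R) N' := Module.compHom N' β.toRingHom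
  let E : N ≃ₗ[MvPolynomial (Fin n) R] N' := { e with map_smul' := fun p x => he (β p) x }
  exact ⟨fun h => Module.FinitePresentation.of_equiv E, fun h => Module.FinitePresentation.of_equiv E.symm⟩

end Groth.Agent.Lib.Helper29.RelFPFinite
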