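import Groth.Prelude.Def_Flatn
import Groth.Agent.Lib.Helper29.RelFP
import Groth.Agent.Lib.Helper29.FPDict

set_option autoImplicit false
universe u
open CategoryTheory CategoryTheory.Limits AlgebraicGeometry Opposite TopologicalSpace

namespace Groth.Agent.Lib.Helper29.RelFPGeom

open Groth.Agent.Lib.Helper29.RelFP Groth.Agent.Lib.Helper29.FPDict Groth.Agent.Lib.Helper28.QCohLoc FlatCA

variable {X S : Scheme.{u}}

/-- unfolding with `Γ(F, U)` as the module -/
theorem relFPOn_iff' (f : X ⟶ S) (F : X.Modules) (U : X.affineOpens) (V : S.affineOpens)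
    (h : (U : X.Opens) ≤ f ⁻¹ᵁ (V : S.Opens)) :
    Flatn.RelFPOn f F U V h ↔
      (letI := (f.appLE (V : S.Opens) (U : X.Opens) h).hom.toAlgebra
       RelFinitePresentation Γ(S, (V : S.Opens)) Γ(X, (U : X.Opens)) Γ(F, (U : X.Opens))) :=
  Iff.rfl

/-- relative finite presentation passes to basic opens of the source -/
theorem relFPOn_basicOpen (f : X ⟶ S) (F : X.Modules) [F.IsQuasicoherent] (U : X.affineOpens) (V : S.affineOpens)
    (h : (U : X.Opens) ≤ f ⁻¹ᵁ (V : S.Opens)) (g : Γ(X, (U : X.Opens))) (hP : Flatn.RelFPOn f F U V h)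
    (h' : ((X.affineBasicOpen g : X.affineOpens) : X.Opens) ≤ f ⁻¹ᵁ (V : S.Opens)) :
    Flatn.RelFPOn f F (X.affineBasicOpen g) V h' := by
  rw [relFPOn_iff'] at hP
  refine (relFPOn_iff' f F (X.affineBasicOpen g) V h').2 ?_
  have hU : IsAffineOpen (U : X.Opens) := U.2
  letI := (f.appLE (V : S.Opens) (U : X.Opens) h).hom.toAlgebra
  letI := (f.appLE (V : S.Opens) (X.basicOpen g) h').hom.toAlgebra
  haveI : IsScalarTower Γ(S, (V : S.Opens)) Γ(X, (U : X.Opens)) Γ(X, X.basicOpen g) :=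
    IsScalarTower.of_algebraMap_eq' (by
      change (f.appLE (V : S.Opens) (X.basicOpen g) _).hom =
        (X.presheaf.map (homOfLE (X.basicOpen_le g)).op).hom.comp (f.appLE (V : S.Opens) (U : X.Opens) h).hom
      rw [← CommRingCat.hom_comp, Scheme.Hom.appLE_map])
  letI := modBasicOpen F g
  haveI := isScalarTower_basicOpen F g
  haveI := isLocalizedModule_resLin (isLocOn_of_isQuasicoherent F hU) g
  haveI : IsLocalization.Away g Γ(X, X.basicOpen g) := hU.isLocalization_basicOpen g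
  have key : RelFinitePresentation Γ(S, (V : S.Opens)) Γ(X, X.basicOpen g) Γ(F, X.basicOpen g) :=
    relFP_away g (resLin F g) hP
  exact key

theorem isScalarTower_base (f : X ⟶ S) (U : X.affineOpens) (V : S.affineOpens)
    (h : (U : X.Opens) ≤ f ⁻¹ᵁ (V : S.Opens)) (b : Γ(S, (V : S.Opens)))
    (h' : (U : X.Opens) ≤ f ⁻¹ᵁ (S.basicOpen b)) :
    letI := (f.appLE (V : S.Opens) (U : X.Opens) h).hom.toAlgebra
    letI := (f.appLE (S.basicOpen b) (U : X.Opens) h').hom.toAlgebra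
    IsScalarTower Γ(S, (V : S.Opens)) Γ(S, S.basicOpen b) Γ(X, (U : X.Opens)) := by
  letI := (f.appLE (V : S.Opens) (U : X.Opens) h).hom.toAlgebra
  letI := (f.appLE (S.basicOpen b) (U : X.Opens) h').hom.toAlgebra
  refine IsScalarTower.of_algebraMap_eq' ?_
  change (f.appLE (V : S.Opens) (U : X.Opens) h).hom =
    (f.appLE (S.basicOpen b) (U : X.Opens) h').hom.comp (S.presheaf.map (homOfLE (S.basicOpen_le b)).op).hom
  rw [← CommRingCat.hom_comp, Scheme.Hom.map_appLE]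

/-- relative finite presentation passes to a basic open of the base containing the image -/
theorem relFPOn_base_down (f : X ⟶ S) (F : X.Modules) (U : X.affineOpens) (V : S.affineOpens)
    (h : (U : X.Opens) ≤ f ⁻¹ᵁ (V : S.Opens)) (b : Γ(S, (V : S.Opens)))
    (h' : (U : X.Opens) ≤ f ⁻¹ᵁ ((S.affineBasicOpen b : S.affineOpens) : S.Opens))
    (hP : Flatn.RelFPOn f F U V h) : Flatn.RelFPOn f F U (S.affineBasicOpen b) h' := by
  rw [relFPOn_iff'] at hP
  refine (relFPOn_iff' f F U (S.affineBasicOpen b) h').2 ?_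
  have hV : IsAffineOpen (V : S.Opens) := V.2
  letI := (f.appLE (V : S.Opens) (U : X.Opens) h).hom.toAlgebra
  letI := (f.appLE (S.basicOpen b) (U : X.Opens) h').hom.toAlgebra
  haveI := isScalarTower_base f U V h b h'
  haveI : IsLocalization.Away b Γ(S, S.basicOpen b) := hV.isLocalization_basicOpen b
  have key : RelFinitePresentation Γ(S, S.basicOpen b) Γ(X, (U : X.Opens)) Γ(F, (U : X.Opens)) :=
    relFP_of_isLocalization_base (Submonoid.powers b) hP
  exact key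

/-- relative finite presentation over a basic open of the base implies it over the larger affine open -/
theorem relFPOn_base_up (f : X ⟶ S) (F : X.Modules) (U : X.affineOpens) (V : S.affineOpens)
    (h : (U : X.Opens) ≤ f ⁻¹ᵁ (V : S.Opens)) (b : Γ(S, (V : S.Opens)))
    (h' : (U : X.Opens) ≤ f ⁻¹ᵁ ((S.affineBasicOpen b : S.affineOpens) : S.Opens))
    (hP : Flatn.RelFPOn f F U (S.affineBasicOpen b) h') : Flatn.RelFPOn f F U V h := by
  refine (relFPOn_iff' f F U V h).2 ?_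
  have hP' : (letI := (f.appLE (S.basicOpen b) (U : X.Opens) h').hom.toAlgebra
      RelFinitePresentation Γ(S, S.basicOpen b) Γ(X, (U : X.Opens)) Γ(F, (U : X.Opens))) := hP
  have hV : IsAffineOpen (V : S.Opens) := V.2
  letI := (f.appLE (V : S.Opens) (U : X.Opens) h).hom.toAlgebra
  letI := (f.appLE (S.basicOpen b) (U : X.Opens) h').hom.toAlgebra
  haveI := isScalarTower_base f U V h b h'
  haveI : IsLocalization.Away b Γ(S, S.basicOpen b) := hV.isLocalization_basicOpen b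
  haveI : Algebra.FinitePresentation Γ(S, (V : S.Opens)) Γ(S, S.basicOpen b) :=
    IsLocalization.Away.finitePresentation b
  exact relFP_of_tower hP'

theorem relFPOn_congr (f : X ⟶ S) (F : X.Modules) {U U' : X.affineOpens} {V V' : S.affineOpens} (eU : U = U')
    (eV : V = V') (h : (U : X.Opens) ≤ f ⁻¹ᵁ (V : S.Opens)) (h' : (U' : X.Opens) ≤ f ⁻¹ᵁ (V' : S.Opens))
    (hP : Flatn.RelFPOn f F U V h) : Flatn.RelFPOn f F U' V' h' := by
  subst eU; subst eV; exact hP

/-- **local form**: if `F` is relatively finitely presented then every point `x` has arbitrarily small affine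
neighbourhoods `W` such that `F(W)` is finitely presented relative to any given affine open `V ∋ f x` of the base -/
theorem exists_relFPOn_nhd (f : X ⟶ S) (F : X.Modules) [F.IsQuasicoherent] (hF : Flatn.IsRelFP f F)
    (x : X) (V : S.affineOpens) (O : X.Opens) (hxO : x ∈ O) (hO : O ≤ f ⁻¹ᵁ (V : S.Opens)) :
    ∃ (W : X.affineOpens) (hW : (W : X.Opens) ≤ f ⁻¹ᵁ (V : S.Opens)), x ∈ (W : X.Opens) ∧ (W : X.Opens) ≤ O ∧
      Flatn.RelFPOn f F W V hW := by
  obtain ⟨𝒱, hcov, h𝒱⟩ := hF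
  have hxV : f x ∈ (V : S.Opens) := hO hxO
  have h1 : f x ∈ (⨆ V₀ ∈ 𝒱, (V₀ : S.Opens)) := by rw [hcov]; trivial
  simp only [Opens.mem_iSup] at h1
  obtain ⟨V₀, hV₀, hxV₀⟩ := h1
  obtain ⟨𝒰, h𝒰, hP⟩ := h𝒱 V₀ hV₀
  have h2 : x ∈ (⨆ U₀ ∈ 𝒰, (U₀ : X.Opens)) := by rw [h𝒰]; exact hxV₀
  simp only [Opens.mem_iSup] at h2
  obtain ⟨U₀, hU₀, hxU₀⟩ := h2
  have hle₀ : (U₀ : X.Opens) ≤ f ⁻¹ᵁ (V₀ : S.Opens) := by
    rw [← h𝒰]; exact le_iSup₂ (f := fun (U₀ : X.affineOpens) (_ : U₀ ∈ 𝒰) => (U₀ : X.Opens)) U₀ hU₀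
  have hP₀ := hP U₀ hU₀ hle₀
  obtain ⟨b, b₀, hbb, hxb⟩ := exists_basicOpen_le_affine_inter V.2 V₀.2 (f x) ⟨hxV, hxV₀⟩
  -- the basic open of `U₀` lying over `D(b₀)`
  let g₁ : Γ(X, (U₀ : X.Opens)) := f.appLE (V₀ : S.Opens) (U₀ : X.Opens) hle₀ b₀
  have hg₁ : X.basicOpen g₁ = (U₀ : X.Opens) ⊓ f ⁻¹ᵁ (S.basicOpen b₀) := Scheme.basicOpen_appLE f _ _ hle₀ b₀
  have hx₁ : x ∈ X.basicOpen g₁ := by
    rw [hg₁]; exact ⟨hxU₀, by rw [← hbb]; exact hxb⟩
  have hle₁ : ((X.affineBasicOpen g₁ : X.affineOpens) : X.Opens) ≤ f ⁻¹ᵁ (V₀ : S.Opens) :=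
    (X.basicOpen_le g₁).trans hle₀
  have hP₁ := relFPOn_basicOpen f F U₀ V₀ hle₀ g₁ hP₀ hle₁
  have hle₂ : ((X.affineBasicOpen g₁ : X.affineOpens) : X.Opens) ≤
      f ⁻¹ᵁ ((S.affineBasicOpen b₀ : S.affineOpens) : S.Opens) := by
    change X.basicOpen g₁ ≤ f ⁻¹ᵁ (S.basicOpen b₀)
    rw [hg₁]; exact inf_le_right
  have hP₂ := relFPOn_base_down f F (X.affineBasicOpen g₁) V₀ hle₁ b₀ hle₂ hP₁
  have eV : S.affineBasicOpen b₀ = S.affineBasicOpen b := Subtype.ext hbb.symm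
  have hle₃ : ((X.affineBasicOpen g₁ : X.affineOpens) : X.Opens) ≤
      f ⁻¹ᵁ ((S.affineBasicOpen b : S.affineOpens) : S.Opens) := by
    rw [← eV]; exact hle₂
  have hP₃ := relFPOn_congr f F rfl eV hle₂ hle₃ hP₂
  have hle₄ : ((X.affineBasicOpen g₁ : X.affineOpens) : X.Opens) ≤ f ⁻¹ᵁ (V : S.Opens) :=
    hle₃.trans (f.preimage_mono (S.basicOpen_le b))
  have hP₄ := relFPOn_base_up f F (X.affineBasicOpen g₁) V hle₄ b hle₃ hP₃
  -- shrink into `O`
  have hU₁ : IsAffineOpen (X.basicOpen g₁) := (X.affineBasicOpen g₁).2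
  obtain ⟨g₂, hg₂O, hxg₂⟩ := hU₁.exists_basicOpen_le (V := O) ⟨x, hxO⟩ hx₁
  have hle₅ : ((X.affineBasicOpen (U := X.affineBasicOpen g₁) g₂ : X.affineOpens) : X.Opens) ≤
      f ⁻¹ᵁ (V : S.Opens) := (X.basicOpen_le g₂).trans hle₄
  exact ⟨X.affineBasicOpen (U := X.affineBasicOpen g₁) g₂, hle₅, hxg₂, hg₂O,
    relFPOn_basicOpen f F (X.affineBasicOpen g₁) V hle₄ g₂ hP₄ hle₅⟩

/-- a local criterion for relative finite presentation -/
theorem isRelFP_of_local {X S : Scheme.{u}} (f : X ⟶ S) (F : X.Modules)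
    (H : ∀ (W : S.affineOpens) (x : X), f x ∈ (W : S.Opens) →
      ∃ (U : X.affineOpens) (hU : (U : X.Opens) ≤ f ⁻¹ᵁ (W : S.Opens)), x ∈ (U : X.Opens) ∧
        Flatn.RelFPOn f F U W hU) : Flatn.IsRelFP f F := by
  refine ⟨Set.univ, ?_, fun V _ => ?_⟩
  · rw [eq_top_iff]
    intro y _
    obtain ⟨W, hW, hyW, -⟩ := (TopologicalSpace.Opens.isBasis_iff_nbhd.1 S.isBasis_affineOpens)
      (show y ∈ (⊤ : S.Opens) from trivial)
    simp only [Opens.mem_iSup]
    exact ⟨⟨W, hW⟩, trivial, hyW⟩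
  · refine ⟨{U | ∃ hU : (U : X.Opens) ≤ f ⁻¹ᵁ (V : S.Opens), Flatn.RelFPOn f F U V hU}, ?_, ?_⟩
    · apply le_antisymm
      · refine iSup₂_le fun U hU => ?_
        exact hU.1
      · intro x hx
        obtain ⟨U, hU, hxU, hP⟩ := H V x hx
        simp only [Opens.mem_iSup]
        exact ⟨U, ⟨hU, hP⟩, hxU⟩
    · rintro U ⟨hU, hP⟩ h
      exact hP

/-- gluing on the source: relative finite presentation over `(U, V)` can be checked on basic opens of `U`
generating the unit ideal -/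
theorem relFPOn_of_span (f : X ⟶ S) [LocallyOfFiniteType f] (F : X.Modules) [F.IsQuasicoherent]
    (U : X.affineOpens) (V : S.affineOpens) (h : (U : X.Opens) ≤ f ⁻¹ᵁ (V : S.Opens))
    (t : Set Γ(X, (U : X.Opens))) (ht : Ideal.span t = ⊤)
    (H : ∀ g ∈ t, ∀ h' : ((X.affineBasicOpen g : X.affineOpens) : X.Opens) ≤ f ⁻¹ᵁ (V : S.Opens),
      Flatn.RelFPOn f F (X.affineBasicOpen g) V h') : Flatn.RelFPOn f F U V h := by
  refine (relFPOn_iff' f F U V h).2 ?_
  have hU : IsAffineOpen (U : X.Opens) := U.2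
  letI := (f.appLE (V : S.Opens) (U : X.Opens) h).hom.toAlgebra
  haveI : Algebra.FiniteType Γ(S, (V : S.Opens)) Γ(X, (U : X.Opens)) :=
    LocallyOfFiniteType.finiteType_appLE f V.2 U.2 h
  obtain ⟨n, α, hα⟩ := Algebra.FiniteType.iff_quotient_mvPolynomial''.1
    (inferInstance : Algebra.FiniteType Γ(S, (V : S.Opens)) Γ(X, (U : X.Opens)))
  refine ⟨n, α, hα, ?_⟩
  refine fpVia_of_span α hα (α ⁻¹' t) (by rw [Set.image_preimage_eq t hα]; exact ht) ?_
  intro G hG
  have hle : ((X.affineBasicOpen (α G) : X.affineOpens) : X.Opens) ≤ f ⁻¹ᵁ (V : S.Opens) :=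
    (X.basicOpen_le (α G)).trans h
  have hP := (relFPOn_iff' f F (X.affineBasicOpen (α G)) V hle).1 (H (α G) hG hle)
  letI := (f.appLE (V : S.Opens) (X.basicOpen (α G)) hle).hom.toAlgebra
  haveI : IsScalarTower Γ(S, (V : S.Opens)) Γ(X, (U : X.Opens)) Γ(X, X.basicOpen (α G)) :=
    IsScalarTower.of_algebraMap_eq' (by
      change (f.appLE (V : S.Opens) (X.basicOpen (α G)) _).hom =
        (X.presheaf.map (homOfLE (X.basicOpen_le (α G))).op).hom.comp
          (f.appLE (V : S.Opens) (U : X.Opens) h).hom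
      rw [← CommRingCat.hom_comp, Scheme.Hom.appLE_map])
  letI := modBasicOpen F (α G)
  haveI := isScalarTower_basicOpen F (α G)
  haveI := isLocalizedModule_resLin (isLocOn_of_isQuasicoherent F hU) (α G)
  haveI : IsLocalization.Away (α G) Γ(X, X.basicOpen (α G)) := hU.isLocalization_basicOpen (α G)
  have hP' : RelFinitePresentation Γ(S, (V : S.Opens)) Γ(X, X.basicOpen (α G)) Γ(F, X.basicOpen (α G)) := hP
  exact fp_localizedModule_of_relFP α hα G (resLin F (α G)) hP'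

/-- a relatively finitely presented quasi-coherent module satisfies the condition on every pair of affine opens -/
theorem relFPOn_of_isRelFP {X S : Scheme.{u}} (f : X ⟶ S) [LocallyOfFiniteType f] (F : X.Modules)
    [F.IsQuasicoherent] (hF : Flatn.IsRelFP f F) (U : X.affineOpens) (V : S.affineOpens)
    (h : (U : X.Opens) ≤ f ⁻¹ᵁ (V : S.Opens)) : Flatn.RelFPOn f F U V h := by
  have hU : IsAffineOpen (U : X.Opens) := U.2
  let t : Set Γ(X, (U : X.Opens)) := {g | ∀ h' : ((X.affineBasicOpen g : X.affineOpens) : X.Opens) ≤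
    f ⁻¹ᵁ (V : S.Opens), Flatn.RelFPOn f F (X.affineBasicOpen g) V h'}
  refine relFPOn_of_span f F U V h t ?_ (fun g hg h' => hg h')
  rw [← hU.self_le_iSup_basicOpen_iff]
  intro x hx
  obtain ⟨W, hW, hxW, hWU, hP⟩ := exists_relFPOn_nhd f F hF x V (U : X.Opens) hx h
  obtain ⟨g, hgW, hxg⟩ := hU.exists_basicOpen_le (V := (W : X.Opens)) ⟨x, hxW⟩ hx
  refine Opens.mem_iSup.2 ⟨⟨g, ?_⟩, hxg⟩
  intro h'
  -- `D(g)` is the basic open of `W` defined by the restriction of `g`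
  let g' : Γ(X, (W : X.Opens)) := X.presheaf.map (homOfLE hWU).op g
  have hg' : X.basicOpen g' = X.basicOpen g := by
    have := Scheme.basicOpen_res X g (homOfLE hWU).op
    rw [this]
    exact inf_eq_right.2 hgW
  have e : X.affineBasicOpen g' = X.affineBasicOpen g := Subtype.ext hg'
  have h'' : ((X.affineBasicOpen g' : X.affineOpens) : X.Opens) ≤ f ⁻¹ᵁ (V : S.Opens) := by
    rw [e]; exact h'
  exact relFPOn_congr f F e rfl h'' h' (relFPOn_basicOpen f F W V hW g' hP h'')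

end Groth.Agent.Lib.Helper29.RelFPGeom
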