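import Groth.Agent.Lib.Helper29.RelFP

/-!
# Relative finite presentation under finitely presented extension of the algebra (ring level)

If `N` is a `B`-module finitely presented relative to `R` and `C` is a finitely presented `B`-algebra, then
`C ⊗[B] N` is finitely presented relative to `R` as a `C`-module.
-/

set_option autoImplicit false
universe u

namespace Groth.Agent.Lib.Helper29.RelFPPull

open FlatCA Groth.Agent.Lib.Helper29.RelFP TensorProduct

/-- invariance of relative finite presentation under linear equivalences -/
theorem relFP_of_linearEquiv {R S : Type u} [CommRing R] [CommRing S] [Algebra R S] {N N' : Type u}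
    [AddCommGroup N] [Module S N] [AddCommGroup N'] [Module S N'] (e : N ≃ₗ[S] N')
    (h : RelFinitePresentation R S N) : RelFinitePresentation R S N' := by
  obtain ⟨n, φ, hφ, hN⟩ := h
  refine ⟨n, φ, hφ, ?_⟩
  letI : Module (MvPolynomial (Fin n) R) N := Module.compHom N φ.toRingHom
  letI : Module (MvPolynomial (Fin n) R) N' := Module.compHom N' φ.toRingHom
  let E : N ≃ₗ[MvPolynomial (Fin n) R] N' :=
    { e.toAddEquiv with map_smul' := fun p x => e.map_smul (φ p) x }
  haveI : Module.FinitePresentation (MvPolynomial (Fin n) R) N := hN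
  exact Module.FinitePresentation.of_equiv E

/-- the kernel of `B' ⊗[B] N → C ⊗[B] N` for a surjection `B' → C` with kernel `J` is `J • ⊤` -/
theorem ker_rTensor_eq_smul_top {B B' C : Type*} [CommRing B] [CommRing B'] [CommRing C] [Algebra B B']
    [Algebra B C] [Algebra B' C] [IsScalarTower B B' C] (hγ : Function.Surjective (algebraMap B' C))
    (N : Type*) [AddCommGroup N] [Module B N] :
    LinearMap.ker (AlgebraTensorModule.rTensor B N (Algebra.linearMap B' C)) =
      (RingHom.ker (algebraMap B' C)) • (⊤ : Submodule B' (B' ⊗[B] N)) := by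
  apply le_antisymm
  · intro x hx
    have hx' : (LinearMap.rTensor N ((Algebra.linearMap B' C).restrictScalars B)) x = 0 := hx
    have hex : Function.Exact
        ((Submodule.subtype (RingHom.ker (algebraMap B' C))).restrictScalars B)
        ((Algebra.linearMap B' C).restrictScalars B) := by
      intro b
      constructor
      · intro hb
        exact ⟨⟨b, hb⟩, rfl⟩
      · rintro ⟨j, rfl⟩
        exact j.2
    have hsurj : Function.Surjective ((Algebra.linearMap B' C).restrictScalars B) := hγ
    have hall : ∀ y, (LinearMap.rTensor N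
        ((Submodule.subtype (RingHom.ker (algebraMap B' C))).restrictScalars B)) y ∈
        (RingHom.ker (algebraMap B' C)) • (⊤ : Submodule B' (B' ⊗[B] N)) := by
      intro y
      induction y with
      | zero => simp
      | add y z hy hz =>
        rw [map_add]
        exact Submodule.add_mem _ hy hz
      | tmul j n =>
        have : (LinearMap.rTensor N ((Submodule.subtype (RingHom.ker (algebraMap B' C))).restrictScalars B))
            (j ⊗ₜ[B] n) = (j : B') • ((1 : B') ⊗ₜ[B] n) := by
          rw [LinearMap.rTensor_tmul, TensorProduct.smul_tmul']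
          simp
        rw [this]
        exact Submodule.smul_mem_smul j.2 trivial
    obtain ⟨y, rfl⟩ := (rTensor_exact N hex hsurj x).1 hx'
    exact hall y
  · refine Submodule.smul_le.2 fun j hj m _ => ?_
    rw [LinearMap.mem_ker, map_smul]
    have : j • (AlgebraTensorModule.rTensor B N (Algebra.linearMap B' C)) m =
        (algebraMap B' C j) • (AlgebraTensorModule.rTensor B N (Algebra.linearMap B' C)) m :=
      (algebraMap_smul C j _).symm
    rw [this, (RingHom.mem_ker).1 hj, zero_smul]

/-- if `M` is finitely presented over `A'`, `A' → B'` is surjective, `M` is a `B'`-module compatibly, and `B' → C`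
is surjective with finitely generated kernel, then `C ⊗ N` is finitely presented over `A'`, where `M = B' ⊗[B] N` -/
theorem fp_tensor_quotient {A' B B' C : Type*} [CommRing A'] [CommRing B] [CommRing B'] [CommRing C]
    [Algebra A' B'] [Algebra B B'] [Algebra B C] [Algebra B' C] [IsScalarTower B B' C] [Algebra A' C]
    [IsScalarTower A' B' C]
    (hχ : Function.Surjective (algebraMap A' B')) (hγ : Function.Surjective (algebraMap B' C))
    (hJ : (RingHom.ker (algebraMap B' C)).FG)
    (N : Type*) [AddCommGroup N] [Module B N] [Module.Finite B N]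
    [Module.FinitePresentation A' (B' ⊗[B] N)] : Module.FinitePresentation A' (C ⊗[B] N) := by
  let l : B' ⊗[B] N →ₗ[B'] C ⊗[B] N := AlgebraTensorModule.rTensor B N (Algebra.linearMap B' C)
  have hl : Function.Surjective l := by
    have : Function.Surjective (LinearMap.rTensor N ((Algebra.linearMap B' C).restrictScalars B)) :=
      LinearMap.rTensor_surjective N hγ
    exact this
  have hker : (LinearMap.ker l).FG := by
    rw [ker_rTensor_eq_smul_top hγ N]
    exact Submodule.FG.smul hJ (Module.Finite.fg_top)
  refine Module.finitePresentation_of_surjective (l.restrictScalars A') hl ?_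
  rw [LinearMap.ker_restrictScalars]
  exact Submodule.FG.restrictScalars_of_surjective hker hχ

attribute [local instance] MvPolynomial.algebraMvPolynomial in
/-- **Pullback along a finitely presented algebra**: if `N` is finitely presented relative to `R` as a `B`-module
and `C` is a finitely presented `B`-algebra, then `C ⊗[B] N` is finitely presented relative to `R` -/
theorem relFP_tensor_of_fp {R B C : Type u} [CommRing R] [CommRing B] [CommRing C] [Algebra R B] [Algebra R C]
    [Algebra B C] [IsScalarTower R B C] [Algebra.FinitePresentation B C] (N : Type u) [AddCommGroup N]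
    [Module B N] (h : RelFinitePresentation R B N) : RelFinitePresentation R C (C ⊗[B] N) := by
  obtain ⟨n, β, hβ, hN⟩ := h
  obtain ⟨m, γ, hγ, hJ⟩ := Algebra.FinitePresentation.out (R := B) (A := C)
  letI : Algebra (MvPolynomial (Fin n) R) B := β.toRingHom.toAlgebra
  haveI : IsScalarTower R (MvPolynomial (Fin n) R) B := IsScalarTower.of_algebraMap_eq' β.comp_algebraMap.symm
  letI : Module (MvPolynomial (Fin n) R) N := Module.compHom N β.toRingHom
  haveI : IsScalarTower (MvPolynomial (Fin n) R) B N := IsScalarTower.of_algebraMap_smul fun r x => rfl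
  haveI : Module.FinitePresentation (MvPolynomial (Fin n) R) N := hN
  haveI : Module.Finite B N := Module.Finite.of_restrictScalars_finite (MvPolynomial (Fin n) R) B N
  -- `M = B' ⊗[B] N` is finitely presented over `A'`
  have e1 : MvPolynomial (Fin m) B ⊗[B] N ≃ₗ[MvPolynomial (Fin m) (MvPolynomial (Fin n) R)]
      MvPolynomial (Fin m) (MvPolynomial (Fin n) R) ⊗[MvPolynomial (Fin n) R] N :=
    Algebra.IsPushout.cancelBaseChange (MvPolynomial (Fin n) R) (MvPolynomial (Fin m) (MvPolynomial (Fin n) R))
      B (MvPolynomial (Fin m) B) N
  haveI : Module.FinitePresentation (MvPolynomial (Fin m) (MvPolynomial (Fin n) R))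
      (MvPolynomial (Fin m) B ⊗[B] N) :=
    Module.FinitePresentation.of_equiv (R := MvPolynomial (Fin m) (MvPolynomial (Fin n) R))
      (M := MvPolynomial (Fin m) (MvPolynomial (Fin n) R) ⊗[MvPolynomial (Fin n) R] N)
      (N := MvPolynomial (Fin m) B ⊗[B] N) e1.symm
  letI : Algebra (MvPolynomial (Fin m) B) C := γ.toRingHom.toAlgebra
  haveI : IsScalarTower B (MvPolynomial (Fin m) B) C := IsScalarTower.of_algebraMap_eq' γ.comp_algebraMap.symm
  letI : Algebra (MvPolynomial (Fin m) (MvPolynomial (Fin n) R)) C :=
    ((algebraMap (MvPolynomial (Fin m) B) C).comp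
      (algebraMap (MvPolynomial (Fin m) (MvPolynomial (Fin n) R)) (MvPolynomial (Fin m) B))).toAlgebra
  haveI : IsScalarTower (MvPolynomial (Fin m) (MvPolynomial (Fin n) R)) (MvPolynomial (Fin m) B) C :=
    IsScalarTower.of_algebraMap_eq' rfl
  have hχ : Function.Surjective
      (algebraMap (MvPolynomial (Fin m) (MvPolynomial (Fin n) R)) (MvPolynomial (Fin m) B)) :=
    MvPolynomial.map_surjective β.toRingHom hβ
  have key : Module.FinitePresentation (MvPolynomial (Fin m) (MvPolynomial (Fin n) R)) (C ⊗[B] N) :=
    fp_tensor_quotient hχ hγ hJ N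
  -- the `R`-algebra map `A' → C`
  haveI : IsScalarTower R (MvPolynomial (Fin m) (MvPolynomial (Fin n) R)) C := by
    refine IsScalarTower.of_algebraMap_eq fun r => ?_
    change algebraMap R C r = γ (MvPolynomial.map β.toRingHom (algebraMap R _ r))
    rw [MvPolynomial.algebraMap_apply, MvPolynomial.map_C]
    have h1 : β.toRingHom (algebraMap R (MvPolynomial (Fin n) R) r) = algebraMap R B r := β.commutes r
    rw [h1]
    have h2 : γ (MvPolynomial.C (algebraMap R B r)) = algebraMap B C (algebraMap R B r) := γ.commutes _
    rw [h2, ← IsScalarTower.algebraMap_apply]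
  let ψ : MvPolynomial (Fin m) (MvPolynomial (Fin n) R) →ₐ[R] C :=
    IsScalarTower.toAlgHom R (MvPolynomial (Fin m) (MvPolynomial (Fin n) R)) C
  have hψ : Function.Surjective ψ := hγ.comp hχ
  refine relFP_of_fpAlgebra (C ⊗[B] N) (MvPolynomial (Fin m) (MvPolynomial (Fin n) R)) ψ hψ ?_
  refine (fpVia_iff ψ.toRingHom (fun a x => ?_)).2 key
  exact (algebraMap_smul C a x).symm

end Groth.Agent.Lib.Helper29.RelFPPull
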