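import Groth.Prelude.Def_CAlg
import Groth.Agent.Lib.Helper29.MeroReg3

set_option autoImplicit false
universe u
open CategoryTheory AlgebraicGeometry TopologicalSpace

namespace Groth.Agent.Lib.Helper29.SchDenseS1

open Groth.Agent.Lib.Helper29.MeroReg

/-- depth zero when the maximal ideal is an associated prime -/
theorem depth_eq_zero_of_ass {R : Type u} [CommRing R] [IsLocalRing R]
    (h : IsAssociatedPrime (IsLocalRing.maximalIdeal R) R) : LocCoh.depth R R = 0 := by
  obtain ⟨hp, c, hc⟩ := h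
  have hc0 : c ≠ 0 := by
    rintro rfl
    apply hp.ne_top
    rw [hc, Ideal.radical_eq_top, Ideal.eq_top_iff_one, Submodule.mem_colon_singleton]
    simp
  have hkill : ∀ r ∈ IsLocalRing.maximalIdeal R, ∃ n : ℕ, r ^ n * c = 0 := by
    intro r hr
    rw [hc] at hr
    obtain ⟨n, hn⟩ := hr
    rw [Submodule.mem_colon_singleton, Submodule.mem_bot] at hn
    exact ⟨n, hn⟩
  unfold LocCoh.depth LocCoh.idealDepth
  have hne : IsLocalRing.maximalIdeal R • (⊤ : Submodule R R) ≠ ⊤ := by
    rw [smul_eq_mul, Ideal.mul_top]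
    exact hp.ne_top
  rw [if_neg hne]
  apply le_antisymm
  · refine iSup_le fun rs => iSup_le fun hrs => ?_
    obtain ⟨hreg, hmem⟩ := hrs
    cases rs with
    | nil => simp
    | cons r rs =>
      exfalso
      rw [RingTheory.Sequence.isWeaklyRegular_cons_iff] at hreg
      obtain ⟨n, hn⟩ := hkill r (hmem r (List.mem_cons_self))
      have h1 : r ^ n • c = r ^ n • (0 : R) := by
        rw [smul_zero, smul_eq_mul]
        exact hn
      exact hc0 ((hreg.1.pow n) h1)
  · exact zero_le

/-- a point without proper generizations lies in every dense open of a locally Noetherian scheme -/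
theorem mem_of_dense {X : Scheme.{u}} [IsLocallyNoetherian X] (U : X.Opens)
    (hU : Dense (U : Set X)) (z : X) (hz : ∀ y : X, y ⤳ z → y = z) : z ∈ U := by
  obtain ⟨η, hη, hηz⟩ := exists_generic_specializes z
  have hzη : η = z := hz η hηz
  subst hzη
  obtain ⟨W, hzW, hfin⟩ := locallyFinite_components_of_isLocallyNoetherian (X := X) η
  set Z₀ : Set X := closure ({η} : Set X) with hZ₀
  let S : Set (Set X) := {Z | (Z ∈ irreducibleComponents ↥X ∧ (Z ∩ (W : Set ↥X)).Nonempty) ∧ Z ≠ Z₀}
  have hSfin : S.Finite := hfin.subset fun Z hZ => hZ.1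
  have hCclosed : IsClosed (⋃₀ S) := by
    rw [Set.sUnion_eq_biUnion]
    exact hSfin.isClosed_biUnion fun Z hZ => isClosed_of_mem_irreducibleComponents Z hZ.1.1
  have hηC : η ∉ ⋃₀ S := by
    rintro ⟨Z, hZ, hηZ⟩
    apply hZ.2
    have hle : Z₀ ⊆ Z :=
      (isClosed_of_mem_irreducibleComponents Z hZ.1.1).closure_subset_iff.2
        (Set.singleton_subset_iff.2 hηZ)
    exact (hη.2 hZ.1.1.1 hle |>.antisymm hle).symm ▸ rfl
  let V : Set X := (W : Set X) ∩ (⋃₀ S)ᶜ
  have hVopen : IsOpen V := W.2.inter hCclosed.isOpen_compl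
  have hVne : V.Nonempty := ⟨η, hzW, hηC⟩
  obtain ⟨y, hyV, hyU⟩ := hU.inter_open_nonempty V hVopen hVne
  have hyZ₀ : y ∈ Z₀ := by
    by_contra hy
    apply hyV.2
    refine ⟨irreducibleComponent y, ⟨⟨irreducibleComponent_mem_irreducibleComponents y,
      ⟨y, mem_irreducibleComponent, hyV.1⟩⟩, ?_⟩, mem_irreducibleComponent⟩
    intro h
    apply hy
    rw [← h]
    exact mem_irreducibleComponent
  have hspec : η ⤳ y := specializes_iff_mem_closure.2 hyZ₀
  exact hspec.mem_open U.2 hyU

end Groth.Agent.Lib.Helper29.SchDenseS1
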