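import Groth.Agent.Lib.Helper17.CohKer
import Groth.Agent.Lib.Helper17.AffineSurj
import Groth.Agent.Lib.Helper7.FPKerScheme
import Groth.Agent.Lib.Helper23.Fitting13
import Groth.Prelude.Def_BlowUp2
import Groth.Prelude.Def_FlatCA

/-!
# Quotient of a quasi-coherent module by its `𝓔`-power torsion (strict transforms of modules)

For an effective Cartier ideal `𝓔` and `π : P ⟶ G` an epimorphism killing exactly the sections
that are killed by a power of `𝓔` on affine opens, with `P` quasi-coherent: the kernel of `π` and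
`G` are quasi-coherent, `π` is surjective on sections over affine opens, and over an affine open
where `𝓔 = (t)` the sections of `G` are `P(V) / (t-power torsion)`.
-/

set_option autoImplicit false
universe u
open CategoryTheory CategoryTheory.Limits AlgebraicGeometry Opposite TopologicalSpace

namespace Groth.Agent.Lib.Helper29.StrictTransMod

open Groth.Agent.Lib.Helper28.QCohLoc Groth.Agent.Lib.Helper17.CohKer

variable {X : Scheme.{u}} (𝓔 : X.IdealSheafData) {P G : X.Modules} (π : P ⟶ G)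

theorem killed_iff_of_span {V : X.affineOpens} (t : Γ(X, V.1)) (ht : 𝓔.ideal V = Ideal.span {t})
    (m : Γ(P, V.1)) :
    BlowUp.KilledByPowerNear 𝓔 P V m ↔ ∃ l : ℕ, t ^ l • m = 0 := by
  constructor
  · rintro ⟨l, hl⟩
    refine ⟨l, hl _ ?_⟩
    rw [Scheme.IdealSheafData.ideal_pow, Pi.pow_apply, ht, Ideal.span_singleton_pow]
    exact Ideal.subset_span rfl
  · rintro ⟨l, hl⟩
    refine ⟨l, fun a ha => ?_⟩
    rw [Scheme.IdealSheafData.ideal_pow, Pi.pow_apply, ht, Ideal.span_singleton_pow,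
      Ideal.mem_span_singleton'] at ha
    obtain ⟨c, rfl⟩ := ha
    rw [mul_smul, hl, smul_zero]

/-- the hypothesis on `π` (second half of `BlowUp.IsStrictTransform`) -/
def KillsTorsion : Prop :=
  ∀ (V : X.affineOpens) (m : Γ(P, V.1)), π.app V.1 m = 0 ↔ BlowUp.KilledByPowerNear 𝓔 P V m

variable {𝓔 π}

theorem isLocOn_kernel_of_span (hπ : KillsTorsion 𝓔 π) {V : X.affineOpens} (t : Γ(X, V.1))
    (ht : 𝓔.ideal V = Ideal.span {t}) (hP : IsLocOn P V.1) : IsLocOn (kernel π) V.1 := by
  refine ⟨fun r y => ?_, fun r x hx => ?_⟩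
  · -- surjectivity
    let V' : X.affineOpens := ⟨X.basicOpen r, V.2.basicOpen r⟩
    have ht' : 𝓔.ideal V' = Ideal.span {resO (X.basicOpen_le r) t} := by
      have := 𝓔.map_ideal_basicOpen V r
      change 𝓔.ideal (X.affineBasicOpen r) = _
      rw [← this, ht, Ideal.map_span, Set.image_singleton]
    have hy0 : π.app (X.basicOpen r) ((kernel.ι π).app _ y) = 0 := app_kernel_ι_app π _ y
    obtain ⟨l, hl⟩ := (killed_iff_of_span 𝓔 _ ht' _).1 ((hπ V' _).1 hy0)
    obtain ⟨n, x, hx⟩ := hP.surj r ((kernel.ι π).app _ y)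
    have h1 : res P (X.basicOpen_le r) (t ^ l • x) = 0 := by
      rw [res_smul, ← hx, resO_pow, smul_comm]
      exact (congrArg (fun z => resO (X.basicOpen_le r) r ^ n • z) hl).trans (smul_zero _)
    obtain ⟨k, hk⟩ := hP.inj r _ h1
    have h2 : π.app V.1 (r ^ k • x) = 0 := by
      rw [hπ V, killed_iff_of_span 𝓔 t ht]
      exact ⟨l, by rw [smul_comm, hk]⟩
    obtain ⟨κ, hκ⟩ := exists_kernel_app_eq π V.1 _ h2
    refine ⟨k + n, κ, ?_⟩
    apply kernel_ι_app_injective π
    rw [app_res, hκ, res_smul, ← hx, Scheme.Modules.Hom.app_smul, resO_pow, pow_add, mul_smul]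
  · have h1 : res P (X.basicOpen_le r) ((kernel.ι π).app V.1 x) = 0 := by
      rw [← app_res, hx, map_zero]
    obtain ⟨n, hn⟩ := hP.inj r _ h1
    refine ⟨n, ?_⟩
    apply kernel_ι_app_injective π
    rw [Scheme.Modules.Hom.app_smul, hn, map_zero]

/-- the kernel of `π` is quasi-coherent -/
theorem isQuasicoherent_kernel (hE : BlowUp.IsEffCartierIdeal 𝓔) [P.IsQuasicoherent]
    (hπ : KillsTorsion 𝓔 π) : (kernel π).IsQuasicoherent := by
  choose V hxV t ht0 ht using hE
  refine isQuasicoherent_of_isLocOn (kernel π) (fun x : X => (V x).1) ?_ (fun x => (V x).2)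
    fun x => isLocOn_kernel_of_span hπ (t x) (ht x) (isLocOn_of_isQuasicoherent P (V x).2)
  exact eq_top_iff.2 fun x _ => Opens.mem_iSup.2 ⟨x, hxV x⟩

/-- the short exact sequence `0 → ker π → P → G → 0` -/
theorem shortExact [Epi π] :
    (ShortComplex.mk (kernel.ι π) π (kernel.condition π)).ShortExact :=
  { exact := ShortComplex.exact_of_f_is_kernel _ (kernelIsKernel _)
    mono_f := inferInstanceAs (Mono (kernel.ι π))
    epi_g := inferInstanceAs (Epi π) }

/-- `G` is quasi-coherent -/
theorem isQuasicoherent_target (hE : BlowUp.IsEffCartierIdeal 𝓔) [P.IsQuasicoherent] [Epi π]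
    (hπ : KillsTorsion 𝓔 π) : G.IsQuasicoherent := by
  haveI := isQuasicoherent_kernel hE hπ
  haveI : (cokernel (kernel.ι π)).IsQuasicoherent := isQuasicoherent_cokernel (kernel.ι π)
  let e : cokernel (kernel.ι π) ≅ G :=
    (colimit.isColimit _).coconePointUniqueUpToIso (Abelian.epiIsCokernelOfKernel _ (kernelIsKernel π))
  exact (SheafOfModules.isQuasicoherent X.ringCatSheaf).prop_of_iso e inferInstance

/-- `π` is surjective on sections over affine opens -/
theorem surjective_app (hE : BlowUp.IsEffCartierIdeal 𝓔) [P.IsQuasicoherent] [Epi π]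
    (hπ : KillsTorsion 𝓔 π) {U : X.Opens} (hU : IsAffineOpen U) :
    Function.Surjective (π.app U) := by
  haveI : (ShortComplex.mk (kernel.ι π) π (kernel.condition π)).X₁.IsQuasicoherent :=
    isQuasicoherent_kernel hE hπ
  exact Groth.Agent.Lib.Helper17.AffineSurj.surjective_app_of_shortExact _ (shortExact) hU

open Groth.Agent.Lib.Helper7.FPKer in
/-- sections of `G` over an affine open where `𝓔 = (t)` -/
theorem nonempty_sections_equiv (hE : BlowUp.IsEffCartierIdeal 𝓔) [P.IsQuasicoherent] [Epi π]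
    (hπ : KillsTorsion 𝓔 π) {V : X.affineOpens} (t : Γ(X, V.1)) (ht : 𝓔.ideal V = Ideal.span {t}) :
    Nonempty ((Γ(P, V.1) ⧸ FlatCA.powTorsion Γ(X, V.1) t Γ(P, V.1)) ≃ₗ[Γ(X, V.1)] Γ(G, V.1)) := by
  have hker : LinearMap.ker (appLinear π V.1) = FlatCA.powTorsion Γ(X, V.1) t Γ(P, V.1) := by
    ext m
    rw [LinearMap.mem_ker, appLinear_apply, hπ V, killed_iff_of_span 𝓔 t ht,
      Helper23.Fit.mem_powTorsion_iff]
  exact ⟨(Submodule.quotEquivOfEq _ _ hker.symm).trans
    ((appLinear π V.1).quotKerEquivOfSurjective (surjective_app hE hπ V.2))⟩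

end Groth.Agent.Lib.Helper29.StrictTransMod
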