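import Groth.Agent.S19895

/-!
# Verlinde combinatorics: evaluation of symmetric Fourier sums
-/

set_option autoImplicit false
open Complex

namespace Groth.Agent.Lib.Helper29.Verl

open Groth.Agent.S19895

lemma amono_sum {r' N : ℕ} (hN : 0 < N) (F : (Fin (r' + 1) → ℕ) → ℂ)
    (hsym : ∀ n (σ : Equiv.Perm (Fin (r' + 1))), F (n ∘ σ) = F n)
    (hvan : ∀ n, ¬ Function.Injective n → F n = 0) :
    ∑ u ∈ Fintype.piFinset (fun _ : Fin r' => Finset.range N), F (Fin.cons 0 u) =
      (r'.factorial : ℂ) * ∑ n ∈ Amono r' N, F n := by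
  classical
  have h1 := sum_sym (N := N) (fun u : Fin r' → ℕ => F (Fin.cons 0 u))
    (fun u σ => by
      show F (Fin.cons 0 (u ∘ σ)) = F (Fin.cons 0 u)
      rw [← cons_comp_perm, hsym])
    (fun u hu => by
      apply hvan
      intro hinj
      apply hu
      have : u = (Fin.cons 0 u : Fin (r' + 1) → ℕ) ∘ Fin.succ := by
        funext j; simp
      rw [this]
      exact hinj.comp (Fin.succ_injective _))
  rw [h1]
  congr 1
  apply Finset.sum_bij_ne_zero (fun v _ _ => (Fin.cons 0 v : Fin (r' + 1) → ℕ))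
  · intro v hv hne
    simp only [Finset.mem_filter, Fintype.mem_piFinset, Finset.mem_range] at hv
    rw [mem_Amono]
    have hinj : Function.Injective (Fin.cons 0 v : Fin (r' + 1) → ℕ) := by
      by_contra h
      exact hne (hvan _ h)
    have hpos : ∀ j, 0 < v j := by
      intro j
      rcases Nat.eq_zero_or_pos (v j) with h | h
      · exfalso
        have : (Fin.cons 0 v : Fin (r' + 1) → ℕ) 0 = (Fin.cons 0 v : Fin (r' + 1) → ℕ) j.succ := by
          simp [h]
        exact (Fin.succ_ne_zero j) (hinj this).symm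
      · exact h
    refine ⟨?_, strictMono_cons v hv.2 hpos, by simp⟩
    intro j
    refine Fin.cases ?_ (fun j => ?_) j
    · simpa using hN
    · simpa using hv.1 j
  · intro v _ _ v' _ _ h
    have := congrArg Fin.tail h
    simpa using this
  · intro n hn _
    rw [mem_Amono] at hn
    refine ⟨Fin.tail n, ?_, ?_, ?_⟩
    · simp only [Finset.mem_filter, Fintype.mem_piFinset, Finset.mem_range]
      refine ⟨fun j => hn.1 _, ?_⟩
      intro a b hab
      exact hn.2.1 (Fin.succ_lt_succ_iff.2 hab)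
    · have : (Fin.cons 0 (Fin.tail n) : Fin (r' + 1) → ℕ) = n := by
        rw [← hn.2.2]
        exact Fin.cons_self_tail n
      rwa [this]
    · rw [← hn.2.2]
      exact Fin.cons_self_tail n
  · intro v _ _
    rfl

lemma geom_full {N M : ℕ} {ζ : ℂ} (hζ : IsPrimitiveRoot ζ N) :
    ∑ t ∈ Finset.range N, (ζ ^ M) ^ t = if N ∣ M then (N : ℂ) else 0 := by
  split_ifs with h
  · have : ζ ^ M = 1 := (hζ.pow_eq_one_iff_dvd M).2 h
    simp [this]
  · exact geom_zero hζ h

lemma fourier_eval {r' N c : ℕ} {ζ : ℂ} (hζ : IsPrimitiveRoot ζ N) (l l' : Fin (r' + 1) → ℕ) :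
    ∑ u ∈ Fintype.piFinset (fun _ : Fin r' => Finset.range N),
      (ζ ^ ((N - 1) * c * ∑ j, (Fin.cons 0 u : Fin (r' + 1) → ℕ) j) *
        D ζ l (Fin.cons 0 u) * D ζ l' (Fin.cons 0 u)) =
    ∑ w : Equiv.Perm (Fin (r' + 1)), ∑ w' : Equiv.Perm (Fin (r' + 1)),
        (((Equiv.Perm.sign w : ℤ) : ℂ) * ((Equiv.Perm.sign w' : ℤ) : ℂ)) *
          ∏ j : Fin r', (if N ∣ ((N - 1) * c + l (w j.succ) + l' (w' j.succ)) then (N : ℂ) else 0) := by
  classical
  have key : ∀ u : Fin r' → ℕ,
      (ζ ^ ((N - 1) * c * ∑ j, (Fin.cons 0 u : Fin (r' + 1) → ℕ) j) *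
        D ζ l (Fin.cons 0 u) * D ζ l' (Fin.cons 0 u)) =
      ∑ w : Equiv.Perm (Fin (r' + 1)), ∑ w' : Equiv.Perm (Fin (r' + 1)),
        (((Equiv.Perm.sign w : ℤ) : ℂ) * ((Equiv.Perm.sign w' : ℤ) : ℂ)) *
          ∏ j : Fin r', (ζ ^ ((N - 1) * c + l (w j.succ) + l' (w' j.succ))) ^ (u j) := by
    intro u
    rw [D_expand, D_expand, Fin.sum_univ_succ]
    simp only [Fin.cons_zero, Fin.cons_succ, zero_add, Fin.prod_univ_succ, mul_zero, pow_zero,
      one_mul]
    rw [mul_assoc, Finset.sum_mul_sum, Finset.mul_sum]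
    apply Finset.sum_congr rfl
    intro w _
    rw [Finset.mul_sum]
    apply Finset.sum_congr rfl
    intro w' _
    have : ζ ^ ((N - 1) * c * ∑ j, u j) = ∏ j : Fin r', ζ ^ ((N - 1) * c * u j) := by
      rw [Finset.prod_pow_eq_pow_sum, Finset.mul_sum]
    rw [this]
    have : ∀ j : Fin r', (ζ ^ ((N - 1) * c + l (w j.succ) + l' (w' j.succ))) ^ (u j) =
        ζ ^ ((N - 1) * c * u j) * ζ ^ (l (w j.succ) * u j) * ζ ^ (l' (w' j.succ) * u j) := by
      intro j
      rw [← pow_mul, ← pow_add, ← pow_add]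
      congr 1
      ring
    simp_rw [this, Finset.prod_mul_distrib]
    ring
  simp_rw [key]
  rw [Finset.sum_comm]
  apply Finset.sum_congr rfl
  intro w _
  rw [Finset.sum_comm]
  apply Finset.sum_congr rfl
  intro w' _
  rw [← Finset.mul_sum]
  congr 1
  have := Finset.prod_univ_sum (fun _ : Fin r' => Finset.range N)
    (fun (j : Fin r') (t : ℕ) => (ζ ^ ((N - 1) * c + l (w j.succ) + l' (w' j.succ))) ^ t)
  rw [← this]
  apply Finset.prod_congr rfl
  intro j _
  exact geom_full hζ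

end Groth.Agent.Lib.Helper29.Verl
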