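import Groth.Agent.Lib.Helper29.VerlA

/-!
# Verlinde combinatorics: the norm of the trivial character
-/

set_option autoImplicit false
open Complex

namespace Groth.Agent.Lib.Helper29.Verl

open Groth.Agent.S19895

lemma sign_rev (r : ℕ) : (((Equiv.Perm.sign (Fin.revPerm : Equiv.Perm (Fin r)) : ℤˣ) : ℤ) : ℂ) =
    (-1) ^ ((Finset.univ : Finset (Fin r × Fin r)).filter (fun p => p.1 < p.2)).card := by
  rw [Equiv.Perm.sign_eq_prod_prod_Ioi]
  have h1 : ∀ i : Fin r, ∀ j ∈ Finset.Ioi i,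
      (if (Fin.revPerm : Equiv.Perm (Fin r)) i < (Fin.revPerm : Equiv.Perm (Fin r)) j then (1 : ℤˣ) else -1) = -1 := by
    intro i j hj
    rw [Finset.mem_Ioi] at hj
    rw [if_neg]
    simp only [Fin.revPerm_apply, Fin.rev_lt_rev, not_lt]
    exact hj.le
  rw [Finset.prod_congr rfl (fun i _ => Finset.prod_congr rfl (h1 i))]
  rw [← Finset.prod_const]
  rw [Finset.prod_finset_product' _ Finset.univ (fun i => Finset.Ioi i)
    (f := fun _ _ => (-1 : ℂ))]
  · push_cast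
    rfl
  · intro p
    simp

lemma perm_ext_succ {n : ℕ} (σ τ : Equiv.Perm (Fin (n + 1)))
    (h : ∀ j : Fin n, σ j.succ = τ j.succ) : σ = τ := by
  have h0 : σ 0 = τ 0 := by
    have h1 : ∑ j, ((σ j : Fin (n + 1)) : ℕ) = ∑ j, ((τ j : Fin (n + 1)) : ℕ) := by
      rw [Equiv.sum_comp σ (fun j => (j : ℕ)), Equiv.sum_comp τ (fun j => (j : ℕ))]
    rw [Fin.sum_univ_succ, Fin.sum_univ_succ] at h1
    have h2 : ∑ j : Fin n, ((σ j.succ : Fin (n + 1)) : ℕ) = ∑ j : Fin n, ((τ j.succ : Fin (n + 1)) : ℕ) :=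
      Finset.sum_congr rfl (fun j _ => by rw [h j])
    apply Fin.ext
    omega
  ext j
  refine Fin.cases ?_ (fun j => ?_) j
  · rw [h0]
  · rw [h j]

lemma dvd_iff_sum {r' N : ℕ} (hN : r' < N) (a b : ℕ) (ha : a ≤ r') (hb : b ≤ r') :
    N ∣ (N - 1) * r' + a + b ↔ a + b = r' := by
  obtain ⟨M, rfl⟩ : ∃ M, N = M + 1 := ⟨N - 1, by omega⟩
  have hM : M + 1 - 1 = M := by omega
  have e : ((((M + 1 - 1) * r' + a + b : ℕ) : ℤ)) = ((M + 1 : ℕ) : ℤ) * r' + ((a : ℤ) + b - r') := by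
    rw [hM]
    push_cast
    ring
  constructor
  · intro h
    have h' : ((M + 1 : ℕ) : ℤ) ∣ (((M + 1 - 1) * r' + a + b : ℕ) : ℤ) := by exact_mod_cast h
    rw [e] at h'
    have h'' : ((M + 1 : ℕ) : ℤ) ∣ ((a : ℤ) + b - r') := by
      have := dvd_sub h' (Dvd.intro _ rfl : ((M + 1 : ℕ) : ℤ) ∣ ((M + 1 : ℕ) : ℤ) * r')
      simpa using this
    have := Int.eq_zero_of_abs_lt_dvd h'' (by rw [abs_lt]; push_cast; constructor <;> omega)
    omega
  · intro h
    have : (M + 1 - 1) * r' + a + b = (M + 1) * r' := by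
      rw [hM, add_assoc, h]; ring
    rw [this]
    exact Dvd.intro _ rfl

/-- the staircase `ρ_i = r' - i`, in the shape used by `term_core` -/
def rho (r' : ℕ) : Fin (r' + 1) → ℕ := fun i => 0 + (r' + 1 - 1 - (i : ℕ))

lemma rho_le (r' : ℕ) (i : Fin (r' + 1)) : rho r' i ≤ r' := by
  unfold rho; omega

lemma rho_add_iff (r' : ℕ) (i j : Fin (r' + 1)) : rho r' i + rho r' j = r' ↔ j = Fin.rev i := by
  unfold rho
  have hi := i.is_lt
  have hj := j.is_lt
  constructor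
  · intro h
    apply Fin.ext
    rw [Fin.val_rev]
    omega
  · intro h
    rw [h, Fin.val_rev]
    omega

theorem norm_sum {r' N : ℕ} {ζ η : ℂ} (hζ : IsPrimitiveRoot ζ N) (hN : r' < N)
    (hηζ : η ^ (r' + 1) * ζ = 1) :
    ∑ n ∈ Amono r' N, Fv ζ η (∑ i, rho r' i + ∑ i, rho r' i) (rho r') (rho r') n =
      (((Equiv.Perm.sign (Fin.revPerm : Equiv.Perm (Fin (r' + 1))) : ℤˣ) : ℤ) : ℂ) *
        ((r' : ℂ) + 1) * (N : ℂ) ^ r' := by
  classical
  have hN0 : 0 < N := by omega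
  have hζ0 : ζ ≠ 0 := hζ.ne_zero hN0.ne'
  set a' := ∑ i, rho r' i + ∑ i, rho r' i with ha'
  have hc : a' = (r' + 1) * r' := by
    have := sum_rho (r' + 1)
    rw [ha']
    unfold rho
    simp only [zero_add]
    rw [this]
    simp
  have hη : η ^ (r' + 1) = ζ ^ (N - 1) := by
    have h1 : ζ ^ (N - 1) * ζ = 1 := by
      rw [← pow_succ, Nat.sub_add_cancel hN0, hζ.pow_eq_one]
    exact mul_right_cancel₀ hζ0 (hηζ.trans h1.symm)
  have hA := amono_sum hN0 (Fv ζ η a' (rho r') (rho r')) (Fv_sym ζ η a' (rho r') (rho r'))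
    (Fv_van ζ η a' (rho r') (rho r'))
  have hrew : ∀ u : Fin r' → ℕ, Fv ζ η a' (rho r') (rho r') (Fin.cons 0 u) =
      ζ ^ ((N - 1) * r' * ∑ j, (Fin.cons 0 u : Fin (r' + 1) → ℕ) j) *
        D ζ (rho r') (Fin.cons 0 u) * D ζ (rho r') (Fin.cons 0 u) := by
    intro u
    unfold Fv
    rw [hc, mul_assoc (r' + 1), pow_mul, hη, ← pow_mul, mul_assoc (N - 1)]
  simp_rw [hrew] at hA
  rw [fourier_eval hζ] at hA
  have hinner : ∀ w : Equiv.Perm (Fin (r' + 1)),
      ∑ w' : Equiv.Perm (Fin (r' + 1)),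
        (((Equiv.Perm.sign w : ℤ) : ℂ) * ((Equiv.Perm.sign w' : ℤ) : ℂ)) *
          ∏ j : Fin r', (if N ∣ ((N - 1) * r' + rho r' (w j.succ) + rho r' (w' j.succ))
            then (N : ℂ) else 0) =
      (((Equiv.Perm.sign (Fin.revPerm : Equiv.Perm (Fin (r' + 1))) : ℤˣ) : ℤ) : ℂ) * (N : ℂ) ^ r' := by
    intro w
    have hterm : ∀ w' : Equiv.Perm (Fin (r' + 1)),
        (((Equiv.Perm.sign w : ℤ) : ℂ) * ((Equiv.Perm.sign w' : ℤ) : ℂ)) *
          ∏ j : Fin r', (if N ∣ ((N - 1) * r' + rho r' (w j.succ) + rho r' (w' j.succ))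
            then (N : ℂ) else 0) =
        if w' = w.trans Fin.revPerm then
          (((Equiv.Perm.sign w : ℤ) : ℂ) * ((Equiv.Perm.sign (w.trans Fin.revPerm) : ℤ) : ℂ)) * (N : ℂ) ^ r'
        else 0 := by
      intro w'
      split_ifs with h
      · subst h
        congr 1
        have : ∀ j : Fin r', (if N ∣ ((N - 1) * r' + rho r' (w j.succ) +
            rho r' ((w.trans Fin.revPerm) j.succ)) then (N : ℂ) else 0) = N := by
          intro j
          rw [if_pos]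
          rw [dvd_iff_sum hN _ _ (rho_le _ _) (rho_le _ _), rho_add_iff]
          rfl
        rw [Finset.prod_congr rfl (fun j _ => this j), Finset.prod_const, Finset.card_univ,
          Fintype.card_fin]
      · have : ∃ j : Fin r', w' j.succ ≠ Fin.rev (w j.succ) := by
          by_contra hcon
          push Not at hcon
          apply h
          apply perm_ext_succ
          intro j
          rw [hcon j]
          rfl
        obtain ⟨j, hj⟩ := this
        rw [Finset.prod_eq_zero (Finset.mem_univ j), mul_zero]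
        rw [if_neg]
        rw [dvd_iff_sum hN _ _ (rho_le _ _) (rho_le _ _), rho_add_iff]
        exact hj
    rw [Finset.sum_congr rfl (fun w' _ => hterm w'), Finset.sum_ite_eq' Finset.univ]
    simp only [Finset.mem_univ, if_true]
    rw [Equiv.Perm.sign_trans]
    have h2 : (((Equiv.Perm.sign w : ℤ)) : ℂ) * ((Equiv.Perm.sign w : ℤ) : ℂ) = 1 := by
      rw [← Int.cast_mul, Int.units_coe_mul_self, Int.cast_one]
    push_cast
    calc ((Equiv.Perm.sign w : ℤ) : ℂ) *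
          (((Equiv.Perm.sign (Fin.revPerm : Equiv.Perm (Fin (r' + 1))) : ℤ) : ℂ) * ((Equiv.Perm.sign w : ℤ) : ℂ)) *
          (N : ℂ) ^ r'
        = (((Equiv.Perm.sign w : ℤ) : ℂ) * ((Equiv.Perm.sign w : ℤ) : ℂ)) *
          (((Equiv.Perm.sign (Fin.revPerm : Equiv.Perm (Fin (r' + 1))) : ℤ) : ℂ) * (N : ℂ) ^ r') := by ring
      _ = _ := by rw [h2, one_mul]
  rw [Finset.sum_congr rfl (fun w _ => hinner w), Finset.sum_const, Finset.card_univ,
    Fintype.card_perm, Fintype.card_fin, nsmul_eq_mul] at hA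
  have hfac : ((r'.factorial : ℕ) : ℂ) ≠ 0 := by exact_mod_cast Nat.factorial_ne_zero r'
  apply mul_left_cancel₀ hfac
  rw [← hA, Nat.factorial_succ]
  push_cast
  ring

end Groth.Agent.Lib.Helper29.Verl
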