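import Groth.Agent.Lib.Helper29.VerlB
import Mathlib.LinearAlgebra.Matrix.SchurComplement

/-!
# Verlinde combinatorics: the sum over a dual pair of partitions
-/

set_option autoImplicit false
open Complex

namespace Groth.Agent.Lib.Helper29.Verl

open Groth.Agent.S19895

lemma D_transpose {r : ℕ} (ζ : ℂ) (l n : Fin r → ℕ) : D ζ l n = D ζ n l := by
  unfold D
  rw [← Matrix.det_transpose]
  congr 1
  ext i j
  simp only [Matrix.transpose_apply, Matrix.of_apply, mul_comm]

lemma sum_perm_perm_det {r : ℕ} (B : Matrix (Fin r) (Fin r) ℂ) :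
    ∑ w : Equiv.Perm (Fin r), ∑ w' : Equiv.Perm (Fin r),
      (((Equiv.Perm.sign w : ℤ) : ℂ) * ((Equiv.Perm.sign w' : ℤ) : ℂ)) * ∏ j, B (w j) (w' j) =
    (r.factorial : ℂ) * B.det := by
  have hinner : ∀ w : Equiv.Perm (Fin r), ∑ w' : Equiv.Perm (Fin r),
      (((Equiv.Perm.sign w : ℤ) : ℂ) * ((Equiv.Perm.sign w' : ℤ) : ℂ)) * ∏ j, B (w j) (w' j) = B.det := by
    intro w
    rw [← Equiv.sum_comp (Equiv.mulRight w)]
    have h2 : (((Equiv.Perm.sign w : ℤ)) : ℂ) * ((Equiv.Perm.sign w : ℤ) : ℂ) = 1 := by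
      rw [← Int.cast_mul, Int.units_coe_mul_self, Int.cast_one]
    have hterm : ∀ τ : Equiv.Perm (Fin r),
        (((Equiv.Perm.sign w : ℤ) : ℂ) * ((Equiv.Perm.sign ((Equiv.mulRight w) τ) : ℤ) : ℂ)) *
          ∏ j, B (w j) (((Equiv.mulRight w) τ) j) =
        ((Equiv.Perm.sign τ : ℤ) : ℂ) * ∏ i, B.transpose (τ i) i := by
      intro τ
      have e1 : (Equiv.mulRight w) τ = τ * w := rfl
      rw [e1, Equiv.Perm.sign_mul]
      have e2 : ∏ j, B (w j) ((τ * w) j) = ∏ i, B.transpose (τ i) i := by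
        rw [← Equiv.prod_comp w (fun i => B.transpose (τ i) i)]
        rfl
      rw [e2]
      push_cast
      calc ((Equiv.Perm.sign w : ℤ) : ℂ) * (((Equiv.Perm.sign τ : ℤ) : ℂ) * ((Equiv.Perm.sign w : ℤ) : ℂ)) *
            ∏ i, B.transpose (τ i) i
          = (((Equiv.Perm.sign w : ℤ) : ℂ) * ((Equiv.Perm.sign w : ℤ) : ℂ)) *
            (((Equiv.Perm.sign τ : ℤ) : ℂ) * ∏ i, B.transpose (τ i) i) := by ring
        _ = _ := by rw [h2, one_mul]
    rw [Finset.sum_congr rfl (fun τ _ => hterm τ), ← Matrix.det_transpose, Matrix.det_apply']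
  rw [Finset.sum_congr rfl (fun w _ => hinner w), Finset.sum_const, Finset.card_univ,
    Fintype.card_perm, Fintype.card_fin, nsmul_eq_mul]

lemma det_N_sub_rank_one {r : ℕ} (x : Fin r → ℂ) (hx : ∀ i, x i ≠ 0) (N : ℂ) (hN : N ≠ 0) :
    (Matrix.of fun a b : Fin r => (if a = b then N else 0) - x b * (x a)⁻¹).det =
      N ^ r * (1 - (r : ℂ) / N) := by
  have h1 : (Matrix.of fun a b : Fin r => (if a = b then N else 0) - x b * (x a)⁻¹) =
      N • (1 + Matrix.replicateCol Unit (fun a => -(x a)⁻¹ / N) * Matrix.replicateRow Unit x) := by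
    ext a b
    simp only [Matrix.of_apply, Matrix.smul_apply, Matrix.add_apply, Matrix.one_apply,
      Matrix.mul_apply, Matrix.replicateCol_apply, Matrix.replicateRow_apply, Finset.univ_unique,
      Finset.sum_singleton, smul_eq_mul]
    split_ifs <;> field_simp <;> ring
  rw [h1, Matrix.det_smul, Matrix.det_one_add_replicateCol_mul_replicateRow, Fintype.card_fin]
  congr 1
  simp only [dotProduct]
  have : ∀ i : Fin r, x i * (-(x i)⁻¹ / N) = -(1 / N) := by
    intro i
    have := hx i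
    field_simp
  rw [Finset.sum_congr rfl (fun i _ => this i), Finset.sum_const, Finset.card_univ,
    Fintype.card_fin, nsmul_eq_mul]
  ring

lemma geom_short {N : ℕ} (hN : 0 < N) {y : ℂ} (hy : y ^ N = 1) :
    ∑ t ∈ Finset.range (N - 1), y ^ t = if y = 1 then (N : ℂ) - 1 else -y⁻¹ := by
  have hy0 : y ≠ 0 := by
    intro h
    rw [h, zero_pow hN.ne'] at hy
    exact zero_ne_one hy
  split_ifs with h
  · subst h
    simp only [one_pow, Finset.sum_const, Finset.card_range, nsmul_eq_mul, mul_one]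
    rw [Nat.cast_sub hN]
    simp
  · have h1 := geom_sum_mul y (N - 1)
    have h2 : y ^ (N - 1) = y⁻¹ := by
      have : y ^ (N - 1) * y = 1 := by rw [← pow_succ, Nat.sub_add_cancel hN, hy]
      exact eq_inv_of_mul_eq_one_left this
    rw [h2] at h1
    have h3 : y - 1 ≠ 0 := sub_ne_zero.2 h
    apply mul_right_cancel₀ h3
    rw [h1]
    field_simp
    ring

end Groth.Agent.Lib.Helper29.Verl
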