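import Groth.Agent.Lib.Helper29.VerlC

/-!
# Verlinde combinatorics: the box sum `Σ_n D(v,n) D̄(v,n)` over `n ∈ [0,N-1)^r`
-/

set_option autoImplicit false
open Complex

namespace Groth.Agent.Lib.Helper29.Verl

open Groth.Agent.S19895

theorem dual_sum_box {r N : ℕ} {ζ : ℂ} (hζ : IsPrimitiveRoot ζ N) (hN : 0 < N)
    (v : Fin r → ℕ) (hvinj : Function.Injective v) (hvN : ∀ i, v i < N) :
    ∑ n ∈ Fintype.piFinset (fun _ : Fin r => Finset.range (N - 1)),
      D ζ v n * D (ζ ^ (N - 1)) v n =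
      (r.factorial : ℂ) * ((N : ℂ) ^ r * (1 - (r : ℂ) / N)) := by
  classical
  have hζ0 : ζ ≠ 0 := hζ.ne_zero hN.ne'
  set ξ := ζ ^ (N - 1) with hξ
  set x : Fin r → ℂ := fun i => ζ ^ v i with hx
  have hx0 : ∀ i, x i ≠ 0 := fun i => pow_ne_zero _ hζ0
  have hξx : ∀ i, ξ ^ v i = (x i)⁻¹ := by
    intro i
    have : ξ ^ v i * x i = 1 := by
      rw [hξ, hx]
      simp only
      rw [← pow_mul, ← pow_add]
      have : (N - 1) * v i + v i = N * v i := by
        obtain ⟨M, rfl⟩ : ∃ M, N = M + 1 := ⟨N - 1, by omega⟩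
        simp only [Nat.add_sub_cancel]; ring
      rw [this, pow_mul, hζ.pow_eq_one, one_pow]
    exact eq_inv_of_mul_eq_one_left this
  have hxinj : Function.Injective x := by
    intro i j hij
    exact hvinj (hζ.pow_inj (hvN i) (hvN j) hij)
  have key : ∀ n : Fin r → ℕ, D ζ v n * D ξ v n =
      ∑ w : Equiv.Perm (Fin r), ∑ w' : Equiv.Perm (Fin r),
        (((Equiv.Perm.sign w : ℤ) : ℂ) * ((Equiv.Perm.sign w' : ℤ) : ℂ)) *
          ∏ j : Fin r, (x (w j) * (x (w' j))⁻¹) ^ (n j) := by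
    intro n
    rw [D_expand, D_expand, Finset.sum_mul_sum]
    apply Finset.sum_congr rfl
    intro w _
    apply Finset.sum_congr rfl
    intro w' _
    have : ∀ j : Fin r, (x (w j) * (x (w' j))⁻¹) ^ (n j) =
        ζ ^ (v (w j) * n j) * ξ ^ (v (w' j) * n j) := by
      intro j
      rw [mul_pow, ← hξx, hx]
      simp only
      rw [← pow_mul, ← pow_mul]
    simp_rw [this, Finset.prod_mul_distrib]
    ring
  simp_rw [key]
  rw [Finset.sum_comm]
  have hB : ∀ w w' : Equiv.Perm (Fin r),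
      ∑ n ∈ Fintype.piFinset (fun _ : Fin r => Finset.range (N - 1)),
        (((Equiv.Perm.sign w : ℤ) : ℂ) * ((Equiv.Perm.sign w' : ℤ) : ℂ)) *
          ∏ j : Fin r, (x (w j) * (x (w' j))⁻¹) ^ (n j) =
      (((Equiv.Perm.sign w : ℤ) : ℂ) * ((Equiv.Perm.sign w' : ℤ) : ℂ)) *
        ∏ j : Fin r, (Matrix.of fun a b : Fin r =>
          (if a = b then (N : ℂ) else 0) - x b * (x a)⁻¹) (w j) (w' j) := by
    intro w w'
    rw [← Finset.mul_sum]
    congr 1
    have := Finset.prod_univ_sum (fun _ : Fin r => Finset.range (N - 1))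
      (fun (j : Fin r) (t : ℕ) => (x (w j) * (x (w' j))⁻¹) ^ t)
    rw [← this]
    apply Finset.prod_congr rfl
    intro j _
    have hy : (x (w j) * (x (w' j))⁻¹) ^ N = 1 := by
      rw [mul_pow, inv_pow, hx]
      simp only
      rw [← pow_mul, ← pow_mul, mul_comm (v (w j)), mul_comm (v (w' j)), pow_mul, pow_mul,
        hζ.pow_eq_one, one_pow, one_pow, inv_one, mul_one]
    rw [geom_short hN hy]
    simp only [Matrix.of_apply]
    by_cases hab : w j = w' j
    · rw [hab, if_pos (mul_inv_cancel₀ (hx0 _)), if_pos rfl, mul_inv_cancel₀ (hx0 _)]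
    · rw [if_neg, if_neg hab]
      · rw [mul_inv, inv_inv]; ring
      · intro h
        apply hab
        apply hxinj
        have := hx0 (w' j)
        field_simp at h
        exact h
  have hstep : ∀ w : Equiv.Perm (Fin r),
      ∑ n ∈ Fintype.piFinset (fun _ : Fin r => Finset.range (N - 1)), ∑ w' : Equiv.Perm (Fin r),
        (((Equiv.Perm.sign w : ℤ) : ℂ) * ((Equiv.Perm.sign w' : ℤ) : ℂ)) *
          ∏ j : Fin r, (x (w j) * (x (w' j))⁻¹) ^ (n j) =
      ∑ w' : Equiv.Perm (Fin r), (((Equiv.Perm.sign w : ℤ) : ℂ) * ((Equiv.Perm.sign w' : ℤ) : ℂ)) *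
        ∏ j : Fin r, (Matrix.of fun a b : Fin r =>
          (if a = b then (N : ℂ) else 0) - x b * (x a)⁻¹) (w j) (w' j) := by
    intro w
    rw [Finset.sum_comm]
    exact Finset.sum_congr rfl (fun w' _ => hB w w')
  rw [Finset.sum_congr rfl (fun w _ => hstep w)]
  rw [sum_perm_perm_det, det_N_sub_rank_one x hx0 (N : ℂ) (by exact_mod_cast hN.ne')]

end Groth.Agent.Lib.Helper29.Verl
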