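import Groth.Agent.Lib.Helper29.VerlD

/-!
# Verlinde combinatorics: the sum over dual pairs of partitions
-/

set_option autoImplicit false
open Complex

namespace Groth.Agent.Lib.Helper29.Verl

open Groth.Agent.S19895

lemma D_compl {r N : ℕ} {ζ : ℂ} (hζN : ζ ^ N = 1) (hN : 0 < N) (v n : Fin r → ℕ) (hn : ∀ j, n j ≤ N - 1) :
    D ζ v (fun j => N - 1 - n j) = (ζ ^ (N - 1)) ^ (∑ i, v i) * D (ζ ^ (N - 1)) v n := by
  unfold D
  have : (Matrix.of fun i j : Fin r => ζ ^ (v i * (N - 1 - n j))) =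
      Matrix.of fun i j => (ζ ^ (N - 1)) ^ (v i) *
        (Matrix.of fun i j : Fin r => (ζ ^ (N - 1)) ^ (v i * n j)) i j := by
    ext i j
    simp only [Matrix.of_apply]
    have hR : (ζ ^ (N - 1)) ^ (v i) * (ζ ^ (N - 1)) ^ (v i * n j) =
        ζ ^ ((N - 1) * v i + (N - 1) * (v i * n j)) := by
      rw [← pow_mul, ← pow_mul, ← pow_add]
    have h1 : ζ ^ (v i * (N - 1 - n j)) * ζ ^ (N * (v i * n j)) =
        ζ ^ ((N - 1) * v i + (N - 1) * (v i * n j)) := by
      rw [← pow_add]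
      congr 1
      have := hn j
      obtain ⟨M, rfl⟩ : ∃ M, N = M + 1 := ⟨N - 1, by omega⟩
      simp only [Nat.add_sub_cancel] at this ⊢
      obtain ⟨d, rfl⟩ : ∃ d, M = n j + d := ⟨M - n j, by omega⟩
      simp only [Nat.add_sub_cancel_left]
      ring
    rw [hR, ← h1, pow_mul ζ N, hζN, one_pow, mul_one]
  rw [this, Matrix.det_mul_column, Finset.prod_pow_eq_pow_sum]

lemma strictMono_gap {r : ℕ} (n : Fin r → ℕ) (hn : StrictMono n) :
    ∀ (d : ℕ) (i j : Fin r), (j : ℕ) = (i : ℕ) + d → n i + d ≤ n j := by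
  intro d
  induction d with
  | zero =>
    intro i j h
    have : i = j := Fin.ext (by omega)
    rw [this]; omega
  | succ d ih =>
    intro i j h
    have hj' : (i : ℕ) + d < r := by have := j.is_lt; omega
    have h1 := ih i ⟨(i : ℕ) + d, hj'⟩ rfl
    have h2 : n ⟨(i : ℕ) + d, hj'⟩ < n j := hn (by
      apply Fin.mk_lt_of_lt_val
      omega)
    omega

theorem dual_sum {r k : ℕ} {ζ : ℂ} (hr : 1 ≤ r) (hk : 1 ≤ k) (hζ : IsPrimitiveRoot ζ (r + k))
    (v : Fin r → ℕ) (hv : StrictAnti v) (hvN : ∀ i, v i < r + k) :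
    ∑ μ ∈ (Finset.univ : Finset (Fin r → Fin k)).filter (fun μ : Fin r → Fin k => Antitone μ),
      D ζ (fun i => (μ i : ℕ) + (r - 1 - (i : ℕ))) v *
        D ζ (fun i => (k - (μ (Fin.rev i) : ℕ)) + (r - 1 - (i : ℕ))) v =
    (((Equiv.Perm.sign (Fin.revPerm : Equiv.Perm (Fin r)) : ℤˣ) : ℤ) : ℂ) *
      ζ ^ ((r + k - 1) * ∑ i, v i) * ((k : ℂ) * ((r : ℂ) + k) ^ (r - 1)) := by
  classical
  set N := r + k with hNdef
  have hN : 0 < N := by omega
  set ξ := ζ ^ (N - 1) with hξ
  set G : (Fin r → ℕ) → ℂ := fun n => D ζ v n * D ξ v n with hG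
  have h2s : ∀ σ : Equiv.Perm (Fin r), (((Equiv.Perm.sign σ : ℤ)) : ℂ) * ((Equiv.Perm.sign σ : ℤ) : ℂ) = 1 := by
    intro σ
    rw [← Int.cast_mul, Int.units_coe_mul_self, Int.cast_one]
  have hGsym : ∀ u (σ : Equiv.Perm (Fin r)), G (u ∘ σ) = G u := by
    intro u σ
    simp only [hG]
    rw [D_perm, D_perm]
    calc ((Equiv.Perm.sign σ : ℤ) : ℂ) * D ζ v u * (((Equiv.Perm.sign σ : ℤ) : ℂ) * D ξ v u)
        = (((Equiv.Perm.sign σ : ℤ) : ℂ) * ((Equiv.Perm.sign σ : ℤ) : ℂ)) * (D ζ v u * D ξ v u) := by ring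
      _ = _ := by rw [h2s, one_mul]
  have hGvan : ∀ u, ¬ Function.Injective u → G u = 0 := by
    intro u hu
    simp only [Function.Injective, not_forall] at hu
    obtain ⟨i, j, hij, hne⟩ := hu
    simp only [hG]
    rw [D_eq_zero ζ v u hne (by rw [hij]), zero_mul]
  -- per-term rewriting
  have hterm : ∀ μ ∈ (Finset.univ : Finset (Fin r → Fin k)).filter (fun μ : Fin r → Fin k => Antitone μ),
      D ζ (fun i => (μ i : ℕ) + (r - 1 - (i : ℕ))) v *
        D ζ (fun i => (k - (μ (Fin.rev i) : ℕ)) + (r - 1 - (i : ℕ))) v =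
      ((((Equiv.Perm.sign (Fin.revPerm : Equiv.Perm (Fin r)) : ℤˣ) : ℤ) : ℂ) * ξ ^ (∑ i, v i)) *
        G (fun j => (μ (Fin.rev j) : ℕ) + (j : ℕ)) := by
    intro μ _
    set n : Fin r → ℕ := fun j => (μ (Fin.rev j) : ℕ) + (j : ℕ) with hn
    have e1 : (fun i : Fin r => (μ i : ℕ) + (r - 1 - (i : ℕ))) = n ∘ (Fin.revPerm : Equiv.Perm (Fin r)) := by
      funext i
      simp only [hn, Function.comp_apply, Fin.revPerm_apply, Fin.rev_rev, Fin.val_rev]
      congr 1
      have := i.is_lt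
      omega
    have e2 : (fun i : Fin r => (k - (μ (Fin.rev i) : ℕ)) + (r - 1 - (i : ℕ))) = fun j => N - 1 - n j := by
      funext i
      simp only [hn, hNdef]
      have := i.is_lt
      have := (μ (Fin.rev i)).is_lt
      omega
    have hnle : ∀ j, n j ≤ N - 1 := by
      intro j
      simp only [hn, hNdef]
      have := j.is_lt
      have := (μ (Fin.rev j)).is_lt
      omega
    rw [D_transpose, D_transpose ζ _ v, e1, e2, D_perm, D_compl hζ.pow_eq_one hN v n hnle]
    simp only [hG]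
    ring
  rw [Finset.sum_congr rfl hterm, ← Finset.mul_sum]
  -- bijection with strictly monotone maps into [0, N-1)
  have hbij : ∑ μ ∈ (Finset.univ : Finset (Fin r → Fin k)).filter (fun μ : Fin r → Fin k => Antitone μ),
      G (fun j => (μ (Fin.rev j) : ℕ) + (j : ℕ)) =
      ∑ n ∈ (Fintype.piFinset (fun _ : Fin r => Finset.range (N - 1))).filter StrictMono, G n := by
    apply Finset.sum_nbij (fun (μ : Fin r → Fin k) (j : Fin r) => (μ (Fin.rev j) : ℕ) + (j : ℕ))
    · intro μ hμ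
      rw [Finset.mem_filter] at hμ
      simp only [Finset.mem_filter, Fintype.mem_piFinset, Finset.mem_range]
      refine ⟨fun j => ?_, ?_⟩
      · have := j.is_lt
        have := (μ (Fin.rev j)).is_lt
        omega
      · intro a b hab
        have h1 : μ (Fin.rev a) ≤ μ (Fin.rev b) := hμ.2 (Fin.rev_le_rev.2 hab.le)
        have h2 : (a : ℕ) < b := hab
        have h3 : ((μ (Fin.rev a) : Fin k) : ℕ) ≤ (μ (Fin.rev b) : ℕ) := h1
        show (μ (Fin.rev a) : ℕ) + (a : ℕ) < (μ (Fin.rev b) : ℕ) + (b : ℕ)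
        omega
    · intro μ _ μ' _ h
      funext i
      have := congrFun h (Fin.rev i)
      simp only [Fin.rev_rev] at this
      apply Fin.ext
      omega
    · intro n hn
      simp only [Finset.coe_filter, Set.mem_ofPred_eq, Fintype.mem_piFinset, Finset.mem_range] at hn
      obtain ⟨hn1, hn2⟩ := hn
      have hr0 : 0 < r := by omega
      have hge : ∀ j : Fin r, (j : ℕ) ≤ n j := by
        intro j
        have := strictMono_gap n hn2 (j : ℕ) ⟨0, hr0⟩ j (by simp)
        omega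
      have hr' : (r - 1) < r := by omega
      have hlt : ∀ j : Fin r, n j - (j : ℕ) < k := by
        intro j
        have hj := j.is_lt
        have := strictMono_gap n hn2 (r - 1 - (j : ℕ)) j ⟨r - 1, hr'⟩ (by simp only; omega)
        have h2 := hn1 ⟨r - 1, hr'⟩
        have := hge j
        omega
      refine ⟨fun i => ⟨n (Fin.rev i) - (Fin.rev i : ℕ), hlt _⟩, ?_, ?_⟩
      · simp only [Finset.coe_filter, Finset.mem_univ, true_and, Set.mem_ofPred_eq]
        intro a b hab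
        apply Fin.mk_le_mk.2
        have h1 : Fin.rev b ≤ Fin.rev a := Fin.rev_le_rev.2 hab
        have := hn2.monotone h1
        have h3 : ((Fin.rev b : Fin r) : ℕ) ≤ (Fin.rev a : ℕ) := h1
        have := hge (Fin.rev b)
        have h5 : n (Fin.rev b) + (((Fin.rev a : Fin r) : ℕ) - ((Fin.rev b : Fin r) : ℕ)) ≤ n (Fin.rev a) :=
          strictMono_gap n hn2 _ (Fin.rev b) (Fin.rev a) (by omega)
        have h6 := hge (Fin.rev b)
        show n (Fin.rev b) - ((Fin.rev b : Fin r) : ℕ) ≤ n (Fin.rev a) - ((Fin.rev a : Fin r) : ℕ)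
        omega
      · funext j
        simp only [Fin.rev_rev]
        have := hge j
        omega
    · intro μ _
      rfl
  rw [hbij]
  have hsym := sum_sym (N := N - 1) G hGsym hGvan
  have hbox := dual_sum_box hζ hN v hv.injective hvN
  rw [hsym] at hbox
  have hfac : ((r.factorial : ℕ) : ℂ) ≠ 0 := by exact_mod_cast Nat.factorial_ne_zero r
  have hval := mul_left_cancel₀ hfac hbox
  rw [hval]
  have hNC : (N : ℂ) ≠ 0 := by exact_mod_cast hN.ne'
  have hNrk : (N : ℂ) = (r : ℂ) + k := by simp [hNdef]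
  have hpow : (N : ℂ) ^ r = (N : ℂ) ^ (r - 1) * N := by
    rw [← pow_succ, Nat.sub_add_cancel hr]
  rw [hξ, ← pow_mul, hpow, ← hNrk]
  field_simp
  rw [hNrk]
  ring

end Groth.Agent.Lib.Helper29.Verl
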