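import Mathlib

/-!
A weighted homogeneous polynomial whose monomials are all divisible by one of finitely many
monomials `g j` of the same weight is a combination of the `g j` with weight-zero coefficients.
-/

set_option autoImplicit false

namespace Groth.Agent.Lib.Helper29

open MvPolynomial

theorem weight_gen_decomp {k σ M ι : Type*} [CommRing k] [AddCommGroup M] [Fintype ι]
    (w : σ → M) (ν : M) (g : ι → (σ →₀ ℕ)) (hg : ∀ j, Finsupp.weight w (g j) = ν)
    (hcover : ∀ d : σ →₀ ℕ, Finsupp.weight w d = ν → ∃ j, g j ≤ d)
    (f : MvPolynomial σ k) (hf : f ∈ weightedHomogeneousSubmodule k w ν) :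
    ∃ a : ι → MvPolynomial σ k, (∀ j, a j ∈ weightedHomogeneousSubmodule k w 0) ∧
      f = ∑ j, a j * monomial (g j) 1 := by
  classical
  have hf' : ∀ d ∈ f.support, Finsupp.weight w d = ν := by
    intro d hd
    exact hf (mem_support_iff.mp hd)
  -- choice of index
  let P : (σ →₀ ℕ) → ι → Prop := fun d j =>
    ∃ h : Finsupp.weight w d = ν, Classical.choose (hcover d h) = j
  let a : ι → MvPolynomial σ k := fun j =>
    ∑ d ∈ f.support, if P d j then monomial (d - g j) (coeff d f) else 0
  refine ⟨a, ?_, ?_⟩
  · intro j
    apply Submodule.sum_mem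
    intro d hd
    split_ifs with h
    · obtain ⟨h1, h2⟩ := h
      have hle : g j ≤ d := h2 ▸ Classical.choose_spec (hcover d h1)
      apply isWeightedHomogeneous_monomial
      have : Finsupp.weight w (d - g j) + Finsupp.weight w (g j) = Finsupp.weight w d := by
        rw [← map_add, tsub_add_cancel_of_le hle]
      rw [hg j, h1] at this
      exact add_eq_right.mp this
    · exact Submodule.zero_mem _
  · have h1 : ∀ j, a j * monomial (g j) 1 =
        ∑ d ∈ f.support, if P d j then monomial d (coeff d f) else 0 := by
      intro j
      rw [Finset.sum_mul]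
      apply Finset.sum_congr rfl
      intro d hd
      split_ifs with h
      · obtain ⟨h1, h2⟩ := h
        have hle : g j ≤ d := h2 ▸ Classical.choose_spec (hcover d h1)
        rw [monomial_mul, mul_one, tsub_add_cancel_of_le hle]
      · rw [zero_mul]
    simp_rw [h1]
    rw [Finset.sum_comm]
    conv_lhs => rw [← support_sum_monomial_coeff f]
    apply Finset.sum_congr rfl
    intro d hd
    have hw := hf' d hd
    have : ∀ j, (if P d j then monomial d (coeff d f) else 0) =
        if Classical.choose (hcover d hw) = j then monomial d (coeff d f) else 0 := by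
      intro j
      have : P d j ↔ Classical.choose (hcover d hw) = j := ⟨fun ⟨_, h⟩ => h, fun h => ⟨hw, h⟩⟩
      simp only [this]
    simp_rw [this]
    rw [Finset.sum_ite_eq]
    simp

/-- Variant with generators of arbitrary weights `μ j`: the coefficient `a j` has weight `ν - μ j`. -/
theorem weight_gen_decomp' {k σ M ι : Type*} [CommRing k] [AddCommGroup M] [Fintype ι]
    (w : σ → M) (ν : M) (g : ι → (σ →₀ ℕ)) (μ : ι → M) (hg : ∀ j, Finsupp.weight w (g j) = μ j)
    (hcover : ∀ d : σ →₀ ℕ, Finsupp.weight w d = ν → ∃ j, g j ≤ d)
    (f : MvPolynomial σ k) (hf : f ∈ weightedHomogeneousSubmodule k w ν) :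
    ∃ a : ι → MvPolynomial σ k, (∀ j, a j ∈ weightedHomogeneousSubmodule k w (ν - μ j)) ∧
      f = ∑ j, a j * monomial (g j) 1 := by
  classical
  have hf' : ∀ d ∈ f.support, Finsupp.weight w d = ν := by
    intro d hd
    exact hf (mem_support_iff.mp hd)
  let P : (σ →₀ ℕ) → ι → Prop := fun d j =>
    ∃ h : Finsupp.weight w d = ν, Classical.choose (hcover d h) = j
  let a : ι → MvPolynomial σ k := fun j =>
    ∑ d ∈ f.support, if P d j then monomial (d - g j) (coeff d f) else 0
  refine ⟨a, ?_, ?_⟩
  · intro j
    apply Submodule.sum_mem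
    intro d hd
    split_ifs with h
    · obtain ⟨h1, h2⟩ := h
      have hle : g j ≤ d := h2 ▸ Classical.choose_spec (hcover d h1)
      apply isWeightedHomogeneous_monomial
      have : Finsupp.weight w (d - g j) + Finsupp.weight w (g j) = Finsupp.weight w d := by
        rw [← map_add, tsub_add_cancel_of_le hle]
      rw [hg j, h1] at this
      exact eq_sub_of_add_eq this
    · exact Submodule.zero_mem _
  · have h1 : ∀ j, a j * monomial (g j) 1 =
        ∑ d ∈ f.support, if P d j then monomial d (coeff d f) else 0 := by
      intro j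
      rw [Finset.sum_mul]
      apply Finset.sum_congr rfl
      intro d hd
      split_ifs with h
      · obtain ⟨h1, h2⟩ := h
        have hle : g j ≤ d := h2 ▸ Classical.choose_spec (hcover d h1)
        rw [monomial_mul, mul_one, tsub_add_cancel_of_le hle]
      · rw [zero_mul]
    simp_rw [h1]
    rw [Finset.sum_comm]
    conv_lhs => rw [← support_sum_monomial_coeff f]
    apply Finset.sum_congr rfl
    intro d hd
    have hw := hf' d hd
    have : ∀ j, (if P d j then monomial d (coeff d f) else 0) =
        if Classical.choose (hcover d hw) = j then monomial d (coeff d f) else 0 := by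
      intro j
      have : P d j ↔ Classical.choose (hcover d hw) = j := ⟨fun ⟨_, h⟩ => h, fun h => ⟨hw, h⟩⟩
      simp only [this]
    simp_rw [this]
    rw [Finset.sum_ite_eq]
    simp

end Groth.Agent.Lib.Helper29
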