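import Mathlib
import Groth.Prelude.Def_W4c2invhilbsl2

/-!
Rank bound for the image of a weight piece in a quotient of a polynomial ring: it suffices that
the images of any two monomials of the given weight are linearly dependent.
-/

set_option autoImplicit false

namespace Groth.Agent.Lib.Helper29.WtPiece

open MvPolynomial

lemma exists_span_of_pairwise_dep {k V : Type*} [Field k] [AddCommGroup V] [Module k V] (S : Set V)
    (h : ∀ v ∈ S, ∀ w ∈ S, ∃ a b : k, (a ≠ 0 ∨ b ≠ 0) ∧ a • v + b • w = 0) :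
    ∃ v₀ : V, Submodule.span k S ≤ Submodule.span k {v₀} := by
  by_cases h0 : ∀ v ∈ S, v = 0
  · refine ⟨0, Submodule.span_le.2 fun v hv => ?_⟩
    rw [h0 v hv]; exact Submodule.zero_mem _
  · push Not at h0
    obtain ⟨v, hvS, hv0⟩ := h0
    refine ⟨v, Submodule.span_le.2 fun w hw => ?_⟩
    obtain ⟨a, b, hab, hrel⟩ := h v hvS w hw
    have hb : b ≠ 0 := by
      rintro rfl
      rw [zero_smul, add_zero] at hrel
      rcases hab with ha | hb
      · exact hv0 ((smul_eq_zero.1 hrel).resolve_left ha)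
      · exact hb rfl
    rw [SetLike.mem_coe, Submodule.mem_span_singleton]
    refine ⟨-(b⁻¹ * a), ?_⟩
    have hbw : b • w = -(a • v) := by
      rw [eq_neg_iff_add_eq_zero, add_comm]; exact hrel
    calc (-(b⁻¹ * a)) • v = b⁻¹ • (-(a • v)) := by rw [neg_smul, mul_smul, smul_neg]
      _ = b⁻¹ • (b • w) := by rw [hbw]
      _ = w := by rw [smul_smul, inv_mul_cancel₀ hb, one_smul]

theorem piece_rank_le_one {σ k M : Type*} [Field k] [AddCommMonoid M] (w : σ → M)
    (I : Ideal (MvPolynomial σ k)) (ν : M)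
    (h : ∀ d d' : σ →₀ ℕ, Finsupp.weight w d = ν → Finsupp.weight w d' = ν →
      ∃ a b : k, (a ≠ 0 ∨ b ≠ 0) ∧
        a • Ideal.Quotient.mk I (monomial d 1) + b • Ideal.Quotient.mk I (monomial d' 1) = 0) :
    Module.rank k (W4c2invhilbsl2.piece k w I ν) ≤ 1 := by
  classical
  rw [rank_submodule_le_one_iff']
  set S : Set (MvPolynomial σ k ⧸ I) :=
    (fun d : σ →₀ ℕ => Ideal.Quotient.mk I (monomial d 1)) '' {d | Finsupp.weight w d = ν} with hS
  obtain ⟨v₀, hv₀⟩ := exists_span_of_pairwise_dep (k := k) S (by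
    rintro _ ⟨d, hd, rfl⟩ _ ⟨d', hd', rfl⟩
    exact h d d' hd hd')
  refine ⟨v₀, le_trans ?_ hv₀⟩
  unfold W4c2invhilbsl2.piece
  rw [Submodule.map_le_iff_le_comap]
  intro f hf
  rw [Submodule.mem_comap]
  have hf' : ∀ d ∈ f.support, Finsupp.weight w d = ν := by
    intro d hd
    exact hf (mem_support_iff.mp hd)
  rw [← support_sum_monomial_coeff f, map_sum]
  apply Submodule.sum_mem
  intro d hd
  have e : monomial d (coeff d f) = coeff d f • monomial d (1 : k) := by
    rw [smul_monomial, smul_eq_mul, mul_one]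
  rw [e, map_smul]
  apply Submodule.smul_mem
  apply Submodule.subset_span
  exact ⟨d, hf' d hd, rfl⟩

end Groth.Agent.Lib.Helper29.WtPiece
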