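import Groth.Prelude.Def_ZClos
import Groth.Agent.Lib.Helper29.FilColimSec
import Groth.Agent.Lib.Helper28.QCohGen

/-!
# Sections of the `Z`-closure `H⁰_{X/Z}(F)` over Noetherian opens
-/

set_option autoImplicit false
universe u
open CategoryTheory CategoryTheory.Limits AlgebraicGeometry TopologicalSpace Opposite

namespace Groth.Agent.Lib.Helper29.ZClosLib

open ZClos Groth.Agent.Lib.Helper28.QCohLoc Groth.Agent.Lib.Helper29.FilColimSec

variable {X : Scheme.{u}}

theorem mono_of_injective {F G : X.Modules} (φ : F ⟶ G) (h : ∀ U : X.Opens, Function.Injective (φ.app U)) :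
    Mono φ := by
  apply Preadditive.mono_of_cancel_zero
  intro C g hg
  apply Scheme.Modules.hom_ext
  intro U
  ext x
  apply h U
  have : (g ≫ φ).app U x = 0 := by rw [hg]; rfl
  exact this.trans (map_zero _).symm

/-- restriction along equal proofs -/
theorem res_congr (F : X.Modules) {U V : X.Opens} (f g : V ⟶ U) (s : Γ(F, U)) :
    F.presheaf.map f.op s = F.presheaf.map g.op s := by
  rw [Subsingleton.elim f g]

theorem map_eq_res (F : X.Modules) {U V : X.Opens} (f : V ⟶ U) (s : Γ(F, U)) :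
    F.presheaf.map f.op s = res F f.le s := res_congr F _ _ s

variable (Z : Set X) (F : X.Modules)

/-- the open `T.U ∩ V` in the form used by the direct images -/
abbrev Op (T : Cl Z) (V : X.Opens) : X.Opens := T.U.ι ''ᵁ T.U.ι ⁻¹ᵁ V

variable {Z}

theorem Op_eq (T : Cl Z) (V : X.Opens) : Op Z T V = T.U ⊓ V := ι_image_preimage T.U V

theorem Op_le (T : Cl Z) (V : X.Opens) : Op Z T V ≤ V := T.U.ι.image_preimage_le V

theorem Op_le_U (T : Cl Z) (V : X.Opens) : Op Z T V ≤ T.U := by rw [Op_eq]; exact inf_le_left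

theorem Op_mono (T : Cl Z) {V V' : X.Opens} (h : V' ≤ V) : Op Z T V' ≤ Op Z T V := by
  rw [Op_eq, Op_eq]; exact inf_le_inf_left _ h

theorem Op_anti {T T' : Cl Z} (h : T ≤ T') (V : X.Opens) : Op Z T' V ≤ Op Z T V :=
  resPush_le (Cl.U_anti h) V

theorem Op_anti_mono {T T' : Cl Z} (h : T ≤ T') {V V' : X.Opens} (hV : V' ≤ V) : Op Z T' V' ≤ Op Z T V :=
  (Op_anti h V').trans (Op_mono T hV)

theorem mem_Op_iff (T : Cl Z) (V : X.Opens) (x : X) : x ∈ Op Z T V ↔ x ∉ (T.1 : Set X) ∧ x ∈ V := by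
  rw [Op_eq]; exact Iff.rfl

variable (Z)

/-- the colimit injection `F(T.U ∩ V) → H⁰_{X/Z}(F)(V)` -/
noncomputable def cinj (T : Cl Z) (V : X.Opens) (s : Γ(F, Op Z T V)) : Γ((H0 Z).obj F, V) :=
  (colimit.ι ((diagram Z).obj F) T).app V s

theorem cinj_zero (T : Cl Z) (V : X.Opens) : cinj Z F T V 0 = 0 :=
  map_zero (ConcreteCategory.hom ((colimit.ι ((diagram Z).obj F) T).app V))

theorem cinj_sub (T : Cl Z) (V : X.Opens) (s s' : Γ(F, Op Z T V)) :
    cinj Z F T V (s - s') = cinj Z F T V s - cinj Z F T V s' :=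
  map_sub (ConcreteCategory.hom ((colimit.ι ((diagram Z).obj F) T).app V)) s s'

theorem cinj_add (T : Cl Z) (V : X.Opens) (s s' : Γ(F, Op Z T V)) :
    cinj Z F T V (s + s') = cinj Z F T V s + cinj Z F T V s' :=
  map_add (ConcreteCategory.hom ((colimit.ι ((diagram Z).obj F) T).app V)) s s'

/-- compatibility with restriction in `V` -/
theorem cinj_res (T : Cl Z) {V V' : X.Opens} (h : V' ≤ V) (s : Γ(F, Op Z T V)) :
    res ((H0 Z).obj F) h (cinj Z F T V s) = cinj Z F T V' (res F (Op_mono T h) s) := by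
  have h1 := app_res (colimit.ι ((diagram Z).obj F) T) h (show Γ(((diagram Z).obj F).obj T, V) from s)
  exact h1.symm

/-- compatibility with the transition maps -/
theorem cinj_trans {T T' : Cl Z} (h : T ≤ T') (V : X.Opens) (s : Γ(F, Op Z T V)) :
    cinj Z F T V s = cinj Z F T' V (res F (Op_anti h V) s) := by
  unfold cinj
  have hw := colimit.w ((diagram Z).obj F) (homOfLE h)
  have h1 : (colimit.ι ((diagram Z).obj F) T).app V s =
      (((diagram Z).obj F).map (homOfLE h) ≫ colimit.ι ((diagram Z).obj F) T').app V s := by rw [hw]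
  rw [h1]
  change (colimit.ι ((diagram Z).obj F) T').app V ((resPushMapApp (Cl.U_anti h) F).app V s) = _
  rw [resPushMapApp_app]
  rfl

/-- `ρ` on sections -/
theorem rho_app_eq (T : Cl Z) (V : X.Opens) (s : Γ(F, V)) :
    (rhoApp Z F).app V s = cinj Z F T V (res F (Op_le T V) s) := by
  rw [rhoApp_eq Z F T]
  rfl

/-- the unit on sections is restriction -/
theorem toDiagram_app (T : Cl Z) (V : X.Opens) (s : Γ(F, V)) :
    (toDiagram Z F T).app V s = res F (Op_le T V) s := rfl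

/-- restricting `[T, s]` to `T.U ∩ V` gives `ρ(s)` -/
theorem res_cinj_eq_rho (T : Cl Z) (V : X.Opens) (s : Γ(F, Op Z T V)) :
    res ((H0 Z).obj F) (Op_le T V) (cinj Z F T V s) = (rhoApp Z F).app (Op Z T V) s := by
  rw [cinj_res, rho_app_eq Z F T]

theorem rho_res {V V' : X.Opens} (h : V' ≤ V) (s : Γ(F, V)) :
    (rhoApp Z F).app V' (res F h s) = res ((H0 Z).obj F) h ((rhoApp Z F).app V s) :=
  app_res (rhoApp Z F) h s

variable {Z} in
/-- a section vanishing locally vanishes -/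
theorem eq_zero_of_locally (G : X.Modules) (W : X.Opens) (s : Γ(G, W))
    (h : ∀ x ∈ W, ∃ (V : X.Opens) (hV : V ≤ W), x ∈ V ∧ res G hV s = 0) : s = 0 := by
  choose V hV hx hs using h
  refine eq_of_locally_eq G (fun x : W => V x.1 x.2) W (fun x => hV x.1 x.2) ?_ s 0 ?_
  · intro q hq
    exact Opens.mem_iSup.mpr ⟨⟨q, hq⟩, hx q hq⟩
  · intro x
    rw [hs, res_zero]

variable {Z} in
theorem exists_compact_nhd {W : X.Opens} {x : X} (hx : x ∈ W) :
    ∃ V : X.Opens, V ≤ W ∧ x ∈ V ∧ IsCompact (V : Set X) := by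
  obtain ⟨V, hV, hxV, hVW⟩ := (TopologicalSpace.Opens.isBasis_iff_nbhd.1 X.isBasis_affineOpens) hx
  exact ⟨V, hVW, hxV, IsAffineOpen.isCompact hV⟩

section Noeth

variable [IsLocallyNoetherian X]

/-- over a quasi-compact open every section of `H⁰_{X/Z}(F)` comes from some `F(T.U ∩ V)` -/
theorem cinj_surj (V : X.Opens) (hV : IsCompact (V : Set X)) (t : Γ((H0 Z).obj F, V)) :
    ∃ (T : Cl Z) (s : Γ(F, Op Z T V)), cinj Z F T V s = t :=
  sec_surj (colimit.isColimit ((diagram Z).obj F)) V (fun _ hW => isCompact_of_le hV hW) t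

/-- over a quasi-compact open a section of `F(T.U ∩ V)` dying in `H⁰_{X/Z}(F)(V)` dies on some `T'.U ∩ V` -/
theorem cinj_eq_zero (V : X.Opens) (hV : IsCompact (V : Set X)) (T : Cl Z) (s : Γ(F, Op Z T V))
    (h : cinj Z F T V s = 0) : ∃ (T' : Cl Z) (hT : T ≤ T'), res F (Op_anti hT V) s = 0 := by
  obtain ⟨T', u, hu⟩ := sec_inj (colimit.isColimit ((diagram Z).obj F)) V hV T s h
  refine ⟨T', u.le, ?_⟩
  have h1 : (((diagram Z).obj F).map u).app V s = (resPushMapApp (Cl.U_anti u.le) F).app V s := rfl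
  rw [h1, resPushMapApp_app] at hu
  exact hu

/-- two representatives of the same section agree on some smaller `T''.U ∩ V` -/
theorem cinj_eq (V : X.Opens) (hV : IsCompact (V : Set X)) (T T' : Cl Z) (s : Γ(F, Op Z T V))
    (s' : Γ(F, Op Z T' V)) (h : cinj Z F T V s = cinj Z F T' V s') :
    ∃ (T'' : Cl Z) (h1 : T ≤ T'') (h2 : T' ≤ T''), res F (Op_anti h1 V) s = res F (Op_anti h2 V) s' := by
  have e1 := cinj_trans Z F (le_sup_left : T ≤ T ⊔ T') V s
  have e2 := cinj_trans Z F (le_sup_right : T' ≤ T ⊔ T') V s'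
  rw [e1, e2, ← sub_eq_zero, ← cinj_sub] at h
  obtain ⟨T'', hT, h0⟩ := cinj_eq_zero Z F V hV _ _ h
  refine ⟨T'', le_sup_left.trans hT, le_sup_right.trans hT, ?_⟩
  rw [res_sub, sub_eq_zero, res_res, res_res] at h0
  exact h0

end Noeth

end Groth.Agent.Lib.Helper29.ZClosLib
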