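import Groth.Agent.Lib.Helper29.ZClosLib3

/-!
# Locality of the section criteria for `Z`-purity and `Z`-closedness on an open cover
-/

set_option autoImplicit false
universe u
open CategoryTheory CategoryTheory.Limits AlgebraicGeometry TopologicalSpace Opposite

namespace Groth.Agent.Lib.Helper29.ZClosLib

open ZClos

variable {X : Scheme.{u}} {Z : Set X}

/-- the trace on an open subscheme of a closed subset contained in `Z` -/
def clRestrict (U : X.Opens) (T : Cl Z) : Cl (U.ι.base ⁻¹' Z) :=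
  ⟨⟨U.ι.base ⁻¹' (T.1 : Set X), T.1.isClosed.preimage U.ι.base.hom.continuous⟩, fun _ hx => T.2 hx⟩

theorem clRestrict_U (U : X.Opens) (T : Cl Z) : (clRestrict U T).U = U.ι ⁻¹ᵁ T.U := rfl

theorem image_inf_clRestrict (U : X.Opens) (T : Cl Z) (W : U.toScheme.Opens) :
    U.ι ''ᵁ (W ⊓ (clRestrict U T).U) = (U.ι ''ᵁ W) ⊓ T.U := by
  ext x
  constructor
  · rintro ⟨y, ⟨hyW, hyT⟩, rfl⟩
    exact ⟨⟨y, hyW, rfl⟩, hyT⟩
  · rintro ⟨⟨y, hyW, rfl⟩, hyT⟩
    exact ⟨y, ⟨hyW, hyT⟩, rfl⟩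

/-- a closed subset of an open subscheme contained in the trace of `Z`, cut down to a quasi-compact open, extends to
a closed subset of `X` contained in `Z` -/
theorem exists_cl_of_restrict [IsLocallyNoetherian X] (hZ : StableUnderSpecialization Z) (U : X.Opens)
    (Ti : Cl (U.ι.base ⁻¹' Z)) (W : U.toScheme.Opens) (hW : IsCompact (W : Set U.toScheme)) :
    ∃ T : Cl Z, (U.ι ''ᵁ W) ⊓ T.U = U.ι ''ᵁ (W ⊓ Ti.U) := by
  have hinj : Function.Injective U.ι.base := U.ι.isOpenEmbedding.injective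
  set ιW : X.Opens := U.ι ''ᵁ W with hιW
  have hcomp : IsCompact (ιW : Set X) := by
    have : (ιW : Set X) = U.ι.base '' (W : Set U.toScheme) := rfl
    rw [this]
    exact hW.image U.ι.base.hom.continuous
  set S : Set X := U.ι.base '' ((Ti.1 : Set U.toScheme) ∩ W) with hS
  have hSW : S ⊆ ιW := by
    rintro _ ⟨y, ⟨-, hyW⟩, rfl⟩
    exact ⟨y, hyW, rfl⟩
  have hSZ : S ⊆ Z := by
    rintro _ ⟨y, ⟨hyT, -⟩, rfl⟩
    exact Ti.2 hyT
  -- inside `ιW`, the complement of `S` is the image of `W ∖ Ti`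
  have hcompl : ∀ x ∈ ιW, x ∉ S ↔ x ∈ U.ι ''ᵁ (W ⊓ Ti.U) := by
    rintro _ ⟨y, hyW, rfl⟩
    constructor
    · intro hx
      refine ⟨y, ⟨hyW, fun hyT => hx ⟨y, ⟨hyT, hyW⟩, rfl⟩⟩, rfl⟩
    · rintro ⟨y', ⟨-, hy'T⟩, hyy'⟩ ⟨y'', ⟨hy''T, -⟩, hyy''⟩
      have h1 : y' = y := hinj hyy'
      have h2 : y'' = y := hinj hyy''
      subst h1
      subst h2
      exact hy'T hy''T
  have hScl : IsClosed ((Subtype.val : ιW → X) ⁻¹' S) := by
    rw [← isOpen_compl_iff]
    have : ((Subtype.val : ιW → X) ⁻¹' S)ᶜ = (Subtype.val : ιW → X) ⁻¹' (U.ι ''ᵁ (W ⊓ Ti.U) : X.Opens) := by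
      ext ⟨x, hx⟩
      exact hcompl x hx
    rw [this]
    exact (U.ι ''ᵁ (W ⊓ Ti.U)).isOpen.preimage continuous_subtype_val
  haveI : NoetherianSpace ↥ιW := noetherianSpace_of_isCompact hcomp
  obtain ⟨T₀, hT₀c, hT₀Z, hST₀⟩ := exists_closed_of_relClosed ιW S hSW hScl Z hZ hSZ
  have hclZ : closure S ⊆ Z := (closure_minimal hST₀ hT₀c).trans hT₀Z
  refine ⟨⟨⟨closure S, isClosed_closure⟩, hclZ⟩, ?_⟩
  -- `closure S ∩ ιW = S`
  have hrel : ∀ x ∈ ιW, x ∈ closure S → x ∈ S := by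
    intro x hx hxc
    obtain ⟨C, hC, hCS⟩ := isClosed_induced_iff.1 hScl
    have hSC : S ⊆ C := by
      intro z hz
      have : (⟨z, hSW hz⟩ : ιW) ∈ (Subtype.val : ιW → X) ⁻¹' C := by rw [hCS]; exact hz
      exact this
    have hxC : x ∈ C := closure_minimal hSC hC hxc
    have : (⟨x, hx⟩ : ιW) ∈ (Subtype.val : ιW → X) ⁻¹' S := by rw [← hCS]; exact hxC
    exact this
  ext x
  constructor
  · rintro ⟨hxW, hxT⟩
    exact (hcompl x hxW).1 fun hxS => hxT (subset_closure hxS)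
  · intro hx
    have hxW : x ∈ ιW := by
      obtain ⟨y, ⟨hyW, -⟩, rfl⟩ := hx
      exact ⟨y, hyW, rfl⟩
    exact ⟨hxW, fun hxc => (hcompl x hxW).2 hx (hrel x hxW hxc)⟩

end Groth.Agent.Lib.Helper29.ZClosLib

namespace Groth.Agent.Lib.Helper29.ZClosLib

open ZClos Groth.Agent.Lib.Helper28.QCohLoc

variable {X : Scheme.{u}} {Z : Set X}

/-- sections of the restriction of `F` to an open subscheme -/
theorem restrict_res (F : X.Modules) (U : X.Opens) {W W' : U.toScheme.Opens} (h : W' ≤ W)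
    (s : Γ((Scheme.Modules.restrictFunctor U.ι).obj F, W)) :
    res ((Scheme.Modules.restrictFunctor U.ι).obj F) h s =
      res F (show U.ι ''ᵁ W' ≤ U.ι ''ᵁ W from (Scheme.Hom.opensFunctor U.ι).monotone h) (show Γ(F, U.ι ''ᵁ W) from s) := rfl

theorem res_eq_zero_congr (F : X.Modules) {O O₁ O₂ : X.Opens} (e : O₁ = O₂) (h₁ : O₁ ≤ O) (h₂ : O₂ ≤ O) (s : Γ(F, O)) :
    res F h₁ s = 0 ↔ res F h₂ s = 0 := by
  subst e
  rfl

theorem isCompact_preimage_ι [IsLocallyNoetherian X] (U V : X.Opens) (hV : IsCompact (V : Set X)) :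
    IsCompact ((U.ι ⁻¹ᵁ V : U.toScheme.Opens) : Set U.toScheme) := by
  rw [U.ι.isOpenEmbedding.isEmbedding.isCompact_iff]
  have : U.ι.base '' ((U.ι ⁻¹ᵁ V : U.toScheme.Opens) : Set U.toScheme) = ((U ⊓ V : X.Opens) : Set X) := by
    ext x
    constructor
    · rintro ⟨y, hy, rfl⟩
      exact ⟨y.2, hy⟩
    · rintro ⟨hxU, hxV⟩
      exact ⟨⟨x, hxU⟩, hxV, rfl⟩
  rw [this]
  exact Groth.Agent.Lib.Helper29.FilColimSec.isCompact_of_le hV inf_le_right

theorem image_preimage_ι (U V : X.Opens) : U.ι ''ᵁ (U.ι ⁻¹ᵁ V) = U ⊓ V := by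
  ext x
  constructor
  · rintro ⟨y, hy, rfl⟩
    exact ⟨y.2, hy⟩
  · rintro ⟨hxU, hxV⟩
    exact ⟨⟨x, hxU⟩, hxV, rfl⟩

end Groth.Agent.Lib.Helper29.ZClosLib

namespace Groth.Agent.Lib.Helper29.ZClosLib

open ZClos Groth.Agent.Lib.Helper28.QCohLoc

variable {X : Scheme.{u}}

/-- criterion b') of purity, on sections -/
def InjCrit (Z : Set X) (F : X.Modules) : Prop :=
  ∀ (T : Cl Z) (V : X.Opens), IsCompact (V : Set X) →
    ∀ s : Γ(F, V), res F (inf_le_left : V ⊓ T.U ≤ V) s = 0 → s = 0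

/-- the surjectivity part of criterion b') of closedness, on sections -/
def SurjCrit (Z : Set X) (F : X.Modules) : Prop :=
  ∀ (T : Cl Z) (V : X.Opens), IsCompact (V : Set X) → ∀ (O : X.Opens) (hO : O = V ⊓ T.U) (t : Γ(F, O)),
    ∃ s : Γ(F, V), res F (hO.le.trans inf_le_left) s = t

variable {Z : Set X} (F : X.Modules)

theorem InjCrit.restrict [IsLocallyNoetherian X] (hZ : StableUnderSpecialization Z) (h : InjCrit Z F)
    (U : X.Opens) : InjCrit (U.ι.base ⁻¹' Z) ((Scheme.Modules.restrictFunctor U.ι).obj F) := by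
  intro Ti W hW s hs
  obtain ⟨T, hT⟩ := exists_cl_of_restrict hZ U Ti W hW
  have hcomp : IsCompact ((U.ι ''ᵁ W : X.Opens) : Set X) := hW.image U.ι.base.hom.continuous
  refine h T (U.ι ''ᵁ W) hcomp s ?_
  rw [res_eq_zero_congr F hT inf_le_left ((Scheme.Hom.opensFunctor U.ι).monotone inf_le_left)]
  exact hs

theorem SurjCrit.restrict [IsLocallyNoetherian X] (hZ : StableUnderSpecialization Z) (h : SurjCrit Z F)
    (U : X.Opens) : SurjCrit (U.ι.base ⁻¹' Z) ((Scheme.Modules.restrictFunctor U.ι).obj F) := by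
  intro Ti W hW O hO t
  obtain ⟨T, hT⟩ := exists_cl_of_restrict hZ U Ti W hW
  have hcomp : IsCompact ((U.ι ''ᵁ W : X.Opens) : Set X) := hW.image U.ι.base.hom.continuous
  have hO' : U.ι ''ᵁ O = (U.ι ''ᵁ W) ⊓ T.U := by rw [hO, hT]
  obtain ⟨s, hs⟩ := h T (U.ι ''ᵁ W) hcomp (U.ι ''ᵁ O) hO' t
  exact ⟨s, hs⟩

end Groth.Agent.Lib.Helper29.ZClosLib

namespace Groth.Agent.Lib.Helper29.ZClosLib

open ZClos Groth.Agent.Lib.Helper28.QCohLoc

variable {X : Scheme.{u}} {Z : Set X} (F : X.Modules)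

theorem InjCrit.of_cover [IsLocallyNoetherian X] {ι : Type*} (V : ι → X.Opens) (hV : iSup V = ⊤)
    (h : ∀ i, InjCrit ((V i).ι.base ⁻¹' Z) ((Scheme.Modules.restrictFunctor (V i).ι).obj F)) :
    InjCrit Z F := by
  intro T O hOc s hs
  refine eq_zero_of_locally F O s fun x hx => ?_
  have hx' : x ∈ iSup V := by rw [hV]; trivial
  obtain ⟨i, hi⟩ := Opens.mem_iSup.1 hx'
  refine ⟨V i ⊓ O, inf_le_right, ⟨hi, hx⟩, ?_⟩
  set W : (V i).toScheme.Opens := (V i).ι ⁻¹ᵁ O with hW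
  have hWc := isCompact_preimage_ι (V i) O hOc
  have e1 : (V i).ι ''ᵁ W = V i ⊓ O := image_preimage_ι (V i) O
  have hle : (V i).ι ''ᵁ W ≤ O := e1.le.trans inf_le_right
  have key := h i (clRestrict (V i) T) W hWc (res F hle s) ?_
  · rw [res_eq_zero_congr F e1.symm inf_le_right hle]
    exact key
  · rw [restrict_res]
    change res F _ (res F hle s) = 0
    rw [res_res]
    have e2 := image_inf_clRestrict (V i) T W
    have hle2 : (V i).ι ''ᵁ (W ⊓ (clRestrict (V i) T).U) ≤ O ⊓ T.U := by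
      rw [e2]
      exact inf_le_inf_right _ hle
    have : res F (hle2.trans inf_le_left) s = res F hle2 (res F inf_le_left s) := (res_res F _ _ s).symm
    rw [hs, res_zero] at this
    exact this

theorem SurjCrit.of_cover [IsLocallyNoetherian X] {ι : Type*} (V : ι → X.Opens) (hV : iSup V = ⊤)
    (hinj : InjCrit Z F)
    (h : ∀ i, SurjCrit ((V i).ι.base ⁻¹' Z) ((Scheme.Modules.restrictFunctor (V i).ι).obj F)) :
    SurjCrit Z F := by
  intro T O hOc O' hO' t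
  subst hO'
  -- the cover of `O` and of `O ⊓ T.U`
  set W : ∀ i, (V i).toScheme.Opens := fun i => (V i).ι ⁻¹ᵁ O with hW
  set Oi : ι → X.Opens := fun i => (V i).ι ''ᵁ W i with hOi
  set Pi : ι → X.Opens := fun i => (V i).ι ''ᵁ (W i ⊓ (clRestrict (V i) T).U) with hPi
  have e1 : ∀ i, Oi i = V i ⊓ O := fun i => image_preimage_ι (V i) O
  have e2 : ∀ i, Pi i = Oi i ⊓ T.U := fun i => image_inf_clRestrict (V i) T (W i)
  have hOiO : ∀ i, Oi i ≤ O := fun i => (e1 i).le.trans inf_le_right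
  have hPiOi : ∀ i, Pi i ≤ Oi i := fun i => (e2 i).le.trans inf_le_left
  have hPiOT : ∀ i, Pi i ≤ O ⊓ T.U := fun i => by
    rw [e2 i]
    exact inf_le_inf_right _ (hOiO i)
  have hWc : ∀ i, IsCompact ((W i : (V i).toScheme.Opens) : Set (V i).toScheme) :=
    fun i => isCompact_preimage_ι (V i) O hOc
  have hcov : ∀ x ∈ O, ∃ i, x ∈ Oi i := by
    intro x hx
    have hx' : x ∈ iSup V := by rw [hV]; trivial
    obtain ⟨i, hi⟩ := Opens.mem_iSup.1 hx'
    exact ⟨i, by rw [e1 i]; exact ⟨hi, hx⟩⟩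
  -- local solutions
  have hloc : ∀ i, ∃ s : Γ(F, Oi i), res F (hPiOi i) s = res F (hPiOT i) t := by
    intro i
    obtain ⟨s, hs⟩ := h i (clRestrict (V i) T) (W i) (hWc i) _ rfl (res F (hPiOT i) t)
    exact ⟨s, hs⟩
  choose sf hsf using hloc
  -- compatibility
  have hcompat : ∀ i j, res F (inf_le_left : Oi i ⊓ Oi j ≤ Oi i) (sf i) =
      res F (inf_le_right : Oi i ⊓ Oi j ≤ Oi j) (sf j) := by
    intro i j
    rw [← sub_eq_zero]
    have hc : IsCompact ((Oi i ⊓ Oi j : X.Opens) : Set X) :=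
      Groth.Agent.Lib.Helper29.FilColimSec.isCompact_of_le hOc (inf_le_left.trans (hOiO i))
    refine hinj T (Oi i ⊓ Oi j) hc _ ?_
    have hi' : (Oi i ⊓ Oi j) ⊓ T.U ≤ Pi i := by
      rw [e2 i]
      exact inf_le_inf_right _ inf_le_left
    have hj' : (Oi i ⊓ Oi j) ⊓ T.U ≤ Pi j := by
      rw [e2 j]
      exact inf_le_inf_right _ inf_le_right
    have h1 : res F (inf_le_left : (Oi i ⊓ Oi j) ⊓ T.U ≤ Oi i ⊓ Oi j) (res F inf_le_left (sf i)) =
        res F (hi'.trans (hPiOT i)) t := by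
      rw [res_res]
      have : res F (hi'.trans (hPiOi i)) (sf i) = res F hi' (res F (hPiOi i) (sf i)) := (res_res F _ _ _).symm
      rw [this, hsf i, res_res]
    have h2 : res F (inf_le_left : (Oi i ⊓ Oi j) ⊓ T.U ≤ Oi i ⊓ Oi j) (res F inf_le_right (sf j)) =
        res F (hj'.trans (hPiOT j)) t := by
      rw [res_res]
      have : res F (hj'.trans (hPiOi j)) (sf j) = res F hj' (res F (hPiOi j) (sf j)) := (res_res F _ _ _).symm
      rw [this, hsf j, res_res]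
    have h3 : res F (inf_le_left : (Oi i ⊓ Oi j) ⊓ T.U ≤ Oi i ⊓ Oi j)
        (res F inf_le_left (sf i) - res F inf_le_right (sf j)) =
        res F inf_le_left (res F inf_le_left (sf i)) - res F inf_le_left (res F inf_le_right (sf j)) :=
      map_sub _ _ _
    rw [h3, h1, h2, sub_self]
  obtain ⟨x, hx⟩ := exists_gluing F Oi O hOiO
    (fun y hy => by obtain ⟨i, hi⟩ := hcov y hy; exact Opens.mem_iSup.2 ⟨i, hi⟩) sf hcompat
  refine ⟨x, ?_⟩
  refine eq_of_locally_eq F Pi (O ⊓ T.U) hPiOT ?_ _ _ ?_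
  · rintro y ⟨hyO, hyT⟩
    obtain ⟨i, hi⟩ := hcov y hyO
    refine Opens.mem_iSup.2 ⟨i, ?_⟩
    rw [e2 i]
    exact ⟨hi, hyT⟩
  · intro i
    rw [res_res]
    have : res F ((hPiOi i).trans (hOiO i)) x = res F (hPiOi i) (res F (hOiO i) x) := (res_res F _ _ _).symm
    rw [this, hx i, hsf i]

end Groth.Agent.Lib.Helper29.ZClosLib
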