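import Groth.Agent.Lib.Helper29.ZeroSch
import Groth.Agent.Lib.Helper29.MeroGen2

set_option autoImplicit false
set_option linter.unusedVariables false
set_option linter.style.haveILetI false
universe u

namespace Groth.Agent.Lib.Helper29.ZeroSch

open AlgebraicGeometry TopologicalSpace CategoryTheory Opposite Mero
open Groth.Agent.Lib.Helper28.QCohLoc Groth.Agent.Lib.Helper29.FreeIso
  Groth.Agent.Lib.Helper29.QCohStalk Groth.Agent.Lib.Helper29.MeroDiv
  Groth.Agent.Lib.Helper29.MeroGen Groth.Agent.Lib.Helper29.MeroDenom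

variable {X : Scheme.{u}} {L : X.Modules} {s : Coh.structureModule X ⟶ L}

/-- a morphism `O_X ⟶ L` whose global section vanishes is zero -/
theorem eq_zero_of_σ_top_eq_zero (h : σ L s ⊤ = 0) : s = 0 := by
  apply hom_ext_unit
  have h1 : s.app ⊤ (1 : Γ(X, ⊤)) = σ L s ⊤ := rfl
  rw [h1, h]
  rfl

section integral

variable [IsIntegral X]

theorem resO_injective {U V : X.Opens} (h : V ≤ U) (hV : (V : Set X).Nonempty) :
    Function.Injective (resO h : Γ(X, U) → Γ(X, V)) := by
  haveI : Nonempty V := hV.to_subtype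
  exact map_injective_of_isIntegral X (homOfLE h)

/-- on an integral scheme, a section of an invertible module vanishing on a nonempty open vanishes -/
theorem σ_top_eq_zero_of_σ_eq_zero (hL : PicF.IsInvertible L) {V : X.Opens}
    (hV : (V : Set X).Nonempty) (h : σ L s V = 0) : σ L s ⊤ = 0 := by
  apply eq_zero_of_forall_gm_eq_zero
  intro z _
  obtain ⟨W, hzW, e', he'⟩ := exists_isGen hL z
  obtain ⟨c', hc'⟩ := IsGen.exists_coeff he' (le_refl W) (σ L s W)
  rw [res_self] at hc'
  have hne : ((W ⊓ V : X.Opens) : Set X).Nonempty :=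
    nonempty_preirreducible_inter W.2 V.2 ⟨z, hzW⟩ hV
  have h1 : (resO (inf_le_left : W ⊓ V ≤ W) c' • res L (inf_le_left : W ⊓ V ≤ W) e' :
      Γ(L, W ⊓ V)) = 0 := by
    rw [← res_smul, ← hc', res_σ, ← res_σ L s (inf_le_right : W ⊓ V ≤ V), h, res_zero]
  have h2 := he'.indep inf_le_left _ h1
  have h3 : c' = 0 := resO_injective inf_le_left hne (h2.trans (map_zero _).symm)
  rw [← gm_σ L s W z hzW, hc', h3, zero_smul, gm_zero]

/-- on an integral scheme, the coefficient of a nonzero section w.r.t. a local generator has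
nonzero germs -/
theorem germ_coeff_ne_zero (hL : PicF.IsInvertible L) (hs : s ≠ 0) {V : X.Opens} {e : Γ(L, V)}
    (he : IsGen L V e) {c : Γ(X, V)} (hc : σ L s V = c • e) (y : X) (hy : y ∈ V) :
    X.presheaf.germ V y hy c ≠ 0 := by
  intro h0
  have h0' : X.presheaf.germ V y hy c = X.presheaf.germ V y hy 0 := by rw [h0, map_zero]
  obtain ⟨V', hyV', i₁, i₂, hres⟩ := TopCat.Presheaf.germ_eq X.presheaf y hy hy _ _ h0'
  have h1 : resO i₁.le c = 0 := by
    have : X.presheaf.map i₂.op (0 : Γ(X, V)) = 0 := map_zero _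
    rw [this] at hres
    exact hres
  have h2 : c = 0 := resO_injective i₁.le ⟨y, hyV'⟩ (h1.trans (map_zero _).symm)
  apply hs
  apply eq_zero_of_σ_top_eq_zero
  apply σ_top_eq_zero_of_σ_eq_zero hL ⟨y, hy⟩
  rw [hc, h2, zero_smul]

theorem coeff_mem_regSub (hL : PicF.IsInvertible L) (hs : s ≠ 0) {V : X.Opens} {e : Γ(L, V)}
    (he : IsGen L V e) {c : Γ(X, V)} (hc : σ L s V = c • e) : c ∈ regSub X V := by
  intro y
  exact mem_nonZeroDivisors_of_ne_zero (germ_coeff_ne_zero hL hs he hc y.1 y.2)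

end integral

variable (L s) in
/-- the meromorphic section of `L` defined by `s` -/
noncomputable def merSec : Γ(merMod L, ⊤) := toMerFun L ⊤ (σ L s ⊤)

theorem merSec_apply (x : X) :
    (merSec L s).1 ⟨x, trivial⟩ = LocalizedModule.mk (gm L ⊤ x trivial (σ L s ⊤)) 1 := rfl

theorem merSec_eq (hL : PicF.IsInvertible L) {V : X.Opens} {e : Γ(L, V)}
    (he : IsGen L V e) {c : Γ(X, V)} (hc : σ L s V = c • e) (y : X) (hy : y ∈ V) :
    (merSec L s).1 ⟨y, trivial⟩ =
      LocalizedModule.mk (gm L V y hy (c • e)) (1 : regStalk X y) := by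
  rw [merSec_apply, ← gm_σ L s V y hy, hc]

section integral2

variable [IsIntegral X]

instance (x : X) : IsDomain (KStalk X x) :=
  IsLocalization.isDomain_localization (regStalk_le_nonZeroDivisors x)

theorem isRegularMero_merSec (hL : PicF.IsInvertible L) (hs : s ≠ 0) :
    IsRegularMero L (merSec L s) := by
  intro x q hq
  obtain ⟨V, hxV, e, he⟩ := exists_isGen hL x
  obtain ⟨c, hc⟩ := IsGen.exists_coeff he (le_refl V) (σ L s V)
  rw [res_self] at hc
  rw [merSec_eq hL he hc x hxV, gm_smul, ← algebraMap_smul_mk, ← mul_smul] at hq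
  have h1 := he.mstalk_indep x hxV _ hq
  rcases mul_eq_zero.1 h1 with h2 | h2
  · exact h2
  · exfalso
    rw [← map_zero (algebraMap (X.presheaf.stalk x) (KStalk X x))] at h2
    exact germ_coeff_ne_zero hL hs he hc x hxV (algebraMap_KStalk_injective x h2)

/-- local data for the meromorphic section defined by `s` -/
noncomputable def locDataOf (hL : PicF.IsInvertible L) (hs : s ≠ 0) {V : X.Opens} {e : Γ(L, V)}
    (he : IsGen L V e) {c : Γ(X, V)} (hc : σ L s V = c • e) (x : X) (hx : x ∈ V) :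
    LocData L (merSec L s) x where
  V := V
  hxV := hx
  e := e
  c := ⟨c, coeff_mem_regSub hL hs he hc⟩
  b := 1
  he := he
  hform y := by
    rw [merSec_eq hL he hc y.1 y.2]
    refine mk_congr rfl ?_
    change (1 : X.presheaf.stalk y.1) = X.presheaf.germ V y.1 y.2 (1 : Γ(X, V))
    rw [map_one]

theorem locDataOf_f_apply (hL : PicF.IsInvertible L) (hs : s ≠ 0) {V : X.Opens} {e : Γ(L, V)}
    (he : IsGen L V e) {c : Γ(X, V)} (hc : σ L s V = c • e) (x : X) (hx : x ∈ V)
    (y : (locDataOf hL hs he hc x hx).V) :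
    ((locDataOf hL hs he hc x hx).f : Γ(kmod X, (locDataOf hL hs he hc x hx).V)).1 y =
      algebraMap (X.presheaf.stalk y.1) (KStalk X y.1) (X.presheaf.germ V y.1 y.2 c) := by
  rw [LocData.f_apply]
  have h1 : regGerm y (locDataOf hL hs he hc x hx).b = 1 := by
    apply Subtype.ext
    change X.presheaf.germ V y.1 y.2 (1 : Γ(X, V)) = 1
    rw [map_one]
  rw [h1, mk_eq_mk', IsLocalization.mk'_one]
  rfl

/-- the divisor of zeros of a nonzero section of an invertible module on an integral scheme -/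
noncomputable def zeroDiv (hL : PicF.IsInvertible L) (hs : s ≠ 0) : Divisor X :=
  divOf hL (isRegularMero_merSec hL hs)

theorem zeroDiv_apply (hL : PicF.IsInvertible L) (hs : s ≠ 0) {V : X.Opens} {e : Γ(L, V)}
    (he : IsGen L V e) {c : Γ(X, V)} (hc : σ L s V = c • e) {U : X.Opens} (hUV : U ≤ V) (y : U) :
    (zeroDiv hL hs).1 y.1 = QuotientGroup.mk (IsLocalization.map_units (KStalk X y.1)
      (regGerm y ⟨resO hUV c, regSub_res (homOfLE hUV) (coeff_mem_regSub hL hs he hc)⟩)).unit := by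
  have h1 := divOf_apply hL (isRegularMero_merSec hL hs)
    (locDataOf hL hs he hc y.1 (hUV y.2)) ⟨y.1, hUV y.2⟩
  refine h1.trans ?_
  unfold germOf
  congr 1
  apply Units.ext
  change ((locDataOf hL hs he hc y.1 (hUV y.2)).f :
    Γ(kmod X, (locDataOf hL hs he hc y.1 (hUV y.2)).V)).1 ⟨y.1, hUV y.2⟩ = _
  rw [locDataOf_f_apply]
  change _ = algebraMap (X.presheaf.stalk y.1) (KStalk X y.1)
    (X.presheaf.germ U y.1 y.2 (resO hUV c))
  rw [germ_resO]

/-- the divisor of zeros is the divisor of the zero scheme -/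
theorem isDivOfIdeal_zeroDiv (hL : PicF.IsInvertible L) (hs : s ≠ 0) :
    IsDivOfIdeal (zeroDiv hL hs) (PicF2.zeroScheme L s) := by
  intro x
  obtain ⟨V, hxV, e, he⟩ := exists_isGen hL x
  obtain ⟨c, hc⟩ := IsGen.exists_coeff he (le_refl V) (σ L s V)
  rw [res_self] at hc
  obtain ⟨_, ⟨U, hU, rfl⟩, hxU, hUV⟩ := X.isBasis_affineOpens.exists_subset_of_mem_open hxV V.2
  have hUV' : U ≤ V := hUV
  have hcU : σ L s U = resO hUV' c • res L hUV' e := by
    rw [← res_σ L s hUV', hc, res_smul]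
  refine ⟨⟨U, hU⟩, hxU, resO hUV' c,
    regSub_res (homOfLE hUV') (coeff_mem_regSub hL hs he hc), ?_, fun y => ?_⟩
  · exact zeroScheme_ideal_eq_span hL ⟨U, hU⟩ (he.mono hUV') hcU
  · exact zeroDiv_apply hL hs he hc hUV' y

/-- the isomorphism `L ≅ O_X(D)`, `t ↦ t / s` -/
noncomputable def zeroDivIso (hL : PicF.IsInvertible L) (hs : s ≠ 0) :
    L ≅ divMod (zeroDiv hL hs) :=
  @asIso _ _ _ _ (psi hL (isRegularMero_merSec hL hs)) (isIso_psi hL (isRegularMero_merSec hL hs))

theorem zeroDivIso_hom_σ (hL : PicF.IsInvertible L) (hs : s ≠ 0) :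
    (divModι (zeroDiv hL hs)).app ⊤ ((zeroDivIso hL hs).hom.app ⊤ (σ L s ⊤)) = 1 := by
  refine Subtype.ext (funext fun x => ?_)
  change phi hL (isRegularMero_merSec hL hs) x.1 (gm L ⊤ x.1 x.2 (σ L s ⊤)) = 1
  apply q_unique (isRegularMero_merSec hL hs) x.1
  rw [phi_spec, one_smul]
  rfl

end integral2

end Groth.Agent.Lib.Helper29.ZeroSch
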