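import Groth.Agent.Lib.Helper29.ZeroDiv
import Groth.Agent.Lib.Helper29.MeroMul

set_option autoImplicit false
set_option linter.unusedVariables false
set_option linter.style.haveILetI false
universe u

namespace Groth.Agent.Lib.Helper29.ZeroSch

open AlgebraicGeometry TopologicalSpace CategoryTheory Opposite Mero
open Groth.Agent.Lib.Helper28.QCohLoc Groth.Agent.Lib.Helper29.FreeIso
  Groth.Agent.Lib.Helper29.QCohStalk Groth.Agent.Lib.Helper29.MeroDiv
  Groth.Agent.Lib.Helper29.MeroGen Groth.Agent.Lib.Helper29.MeroDenom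
  Groth.Agent.Lib.Helper29.MeroMul

variable {X : Scheme.{u}}

theorem iso_hom_inv_app {M N : X.Modules} (i : M ≅ N) (U : X.Opens) (t : Γ(N, U)) :
    i.hom.app U (i.inv.app U t) = t := by
  change (i.inv ≫ i.hom).app U t = t
  rw [Iso.inv_hom_id]
  rfl

theorem iso_inv_hom_app {M N : X.Modules} (i : M ≅ N) (U : X.Opens) (t : Γ(M, U)) :
    i.inv.app U (i.hom.app U t) = t := by
  change (i.hom ≫ i.inv).app U t = t
  rw [Iso.hom_inv_id]
  rfl

/-- an isomorphism transports generators -/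
theorem IsGen.map_iso {M N : X.Modules} (i : M ≅ N) {U : X.Opens} {τ : Γ(M, U)}
    (h : IsGen M U τ) : IsGen N U (i.hom.app U τ) := by
  refine isGen_of_indep_gen (fun T hT c hc => ?_) (fun T hT t pt hpt => ?_)
  · rw [← app_res, ← Scheme.Modules.Hom.app_smul] at hc
    have h1 := congrArg (i.inv.app T) hc
    rw [iso_inv_hom_app, map_zero] at h1
    exact h.indep hT c h1
  · obtain ⟨T₁, h1, hpt₁, c, hc⟩ := h.gen hT (i.inv.app T t) pt hpt
    refine ⟨T₁, h1, hpt₁, c, ?_⟩
    have h2 := congrArg (i.hom.app T₁) hc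
    rw [← app_res, iso_hom_inv_app, Scheme.Modules.Hom.app_smul, app_res] at h2
    exact h2

/-- the section `1` of `O_X(D)` for an effective divisor `D` -/
noncomputable def oneSecD (D : Divisor X) (hD : IsEffective D) : Γ(divMod D, ⊤) :=
  ⟨(1 : Γ(kmod X, ⊤)).1, ⟨(1 : Γ(kmod X, ⊤)).2, fun x g hg => by
    obtain ⟨a, ha⟩ := hD x.1
    rw [ha, QuotientGroup.eq] at hg
    obtain ⟨w, hw⟩ := hg
    have h1 : g = (IsLocalization.map_units (KStalk X x.1) a).unit *
        Units.map (algebraMap (X.presheaf.stalk x.1) (KStalk X x.1)).toMonoidHom w := by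
      rw [hw, mul_inv_cancel_left]
    have h2 := congrArg (fun v : (KStalk X x.1)ˣ => (v : KStalk X x.1)) h1
    have h3 : (g : KStalk X x.1) = algebraMap (X.presheaf.stalk x.1) (KStalk X x.1)
        ((a : X.presheaf.stalk x.1) * w) := by
      rw [map_mul]
      exact h2
    change (1 : KStalk X x.1) * (g : KStalk X x.1) ∈ _
    rw [one_mul, h3]
    exact ⟨_, rfl⟩⟩⟩

theorem oneSecD_apply (D : Divisor X) (hD : IsEffective D) (x : (⊤ : X.Opens)) :
    (oneSecD D hD).1 x = 1 := rfl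

/-- an effective divisor is locally the class of a regular function -/
theorem exists_regular_of_isEffective (D : Divisor X) (hD : IsEffective D) (x : X) :
    ∃ (U : X.Opens) (hU : IsAffineOpen U) (hxU : x ∈ U) (q : Γ(X, U)) (hq : q ∈ regSub X U),
      ∀ y : U, D.1 y.1 = QuotientGroup.mk
        (IsLocalization.map_units (KStalk X y.1) (regGerm y ⟨q, hq⟩)).unit := by
  obtain ⟨W, hW, hxW, a, b, ha, hb, hab⟩ := exists_presentation D x
  obtain ⟨g, hDg, hg⟩ := hab x hxW
  obtain ⟨α, hα⟩ := hD x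
  rw [hDg, QuotientGroup.eq] at hα
  obtain ⟨w, hw⟩ := hα
  have h1 : (IsLocalization.map_units (KStalk X x) α).unit =
      g * Units.map (algebraMap (X.presheaf.stalk x) (KStalk X x)).toMonoidHom w := by
    rw [hw, mul_inv_cancel_left]
  have h2 := congrArg (fun v : (KStalk X x)ˣ => (v : KStalk X x)) h1
  have h3 : algebraMap (X.presheaf.stalk x) (KStalk X x) (α : X.presheaf.stalk x) =
      (g : KStalk X x) * algebraMap (X.presheaf.stalk x) (KStalk X x) w := h2
  have h4 : algebraMap (X.presheaf.stalk x) (KStalk X x)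
      ((α : X.presheaf.stalk x) * ((w⁻¹ : (X.presheaf.stalk x)ˣ) : X.presheaf.stalk x)) =
      (g : KStalk X x) := by
    rw [map_mul, h3, mul_assoc, ← map_mul, Units.mul_inv, map_one, mul_one]
  rw [hg, algebraMap_eq_mk_iff] at h4
  obtain ⟨W₁, hxW₁, q₁, hq₁⟩ := TopCat.Presheaf.exists_germ_eq X.presheaf
    ((α : X.presheaf.stalk x) * ((w⁻¹ : (X.presheaf.stalk x)ˣ) : X.presheaf.stalk x))
  have h5 : X.presheaf.germ (W ⊓ W₁) x ⟨hxW, hxW₁⟩
      (resO (inf_le_right : W ⊓ W₁ ≤ W₁) q₁ * resO (inf_le_left : W ⊓ W₁ ≤ W) b) =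
      X.presheaf.germ (W ⊓ W₁) x ⟨hxW, hxW₁⟩ (resO (inf_le_left : W ⊓ W₁ ≤ W) a) := by
    rw [map_mul, germ_resO, germ_resO, germ_resO, hq₁]
    exact h4
  obtain ⟨W₂, hxW₂, j₁, j₂, h6⟩ := TopCat.Presheaf.germ_eq X.presheaf x _ _ _ _ h5
  obtain ⟨_, ⟨U, hU, rfl⟩, hxU, hUW₂⟩ :=
    X.isBasis_affineOpens.exists_subset_of_mem_open hxW₂ W₂.2
  have hUW₂' : U ≤ W₂ := hUW₂
  have hUW : U ≤ W := hUW₂'.trans (j₁.le.trans inf_le_left)
  have hUW₁ : U ≤ W₁ := hUW₂'.trans (j₁.le.trans inf_le_right)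
  have hrel : resO hUW₁ q₁ * resO hUW b = resO hUW a := by
    have h7 : resO j₁.le (resO (inf_le_right : W ⊓ W₁ ≤ W₁) q₁ * resO (inf_le_left : W ⊓ W₁ ≤ W) b) =
        resO j₁.le (resO (inf_le_left : W ⊓ W₁ ≤ W) a) := h6
    have h8 := congrArg (resO hUW₂') h7
    rw [resO_resO, resO_mul, resO_resO, resO_resO] at h8
    rw [h8, resO_resO, resO_resO]
  have hgerm : ∀ y : U, X.presheaf.germ U y.1 y.2 (resO hUW₁ q₁) *
      X.presheaf.germ W y.1 (hUW y.2) b = X.presheaf.germ W y.1 (hUW y.2) a := by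
    intro y
    have := congrArg (X.presheaf.germ U y.1 y.2) hrel
    rw [map_mul, germ_resO hUW, germ_resO hUW] at this
    exact this
  have hq : resO hUW₁ q₁ ∈ regSub X U := by
    intro y
    have h9 : X.presheaf.germ U y.1 y.2 (resO hUW₁ q₁) * X.presheaf.germ W y.1 (hUW y.2) b ∈
        nonZeroDivisors (X.presheaf.stalk y.1) := by
      rw [hgerm y]
      exact ha ⟨y.1, hUW y.2⟩
    exact (mul_mem_nonZeroDivisors.1 h9).1
  refine ⟨U, hU, hxU, resO hUW₁ q₁, hq, fun y => ?_⟩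
  obtain ⟨g', hDg', hg'⟩ := hab y.1 (hUW y.2)
  rw [hDg']
  congr 1
  apply Units.ext
  rw [hg']
  change _ = algebraMap (X.presheaf.stalk y.1) (KStalk X y.1)
    (X.presheaf.germ U y.1 y.2 (resO hUW₁ q₁))
  rw [eq_comm, algebraMap_eq_mk_iff]
  exact hgerm y

open Groth.Agent.Lib.Helper28 in
/-- an effective divisor `D` with `L ≅ O_X(D)` is the divisor of zeros of a section of `L` -/
theorem exists_section_isDivOfIdeal [Nonempty X] {L : X.Modules} (hL : PicF.IsInvertible L)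
    (D : Divisor X) (hD : IsEffective D) (i : L ≅ divMod D) :
    ∃ s : Coh.structureModule X ⟶ L, s ≠ 0 ∧ IsDivOfIdeal D (PicF2.zeroScheme L s) := by
  set t : Γ(L, ⊤) := i.inv.app ⊤ (oneSecD D hD) with ht
  have hσ : ∀ U : X.Opens, σ L (TwistGen.ofSection L t) U = res L (le_top : U ≤ ⊤) t :=
    fun U => TwistGen.ofSection_app_one L t U
  refine ⟨TwistGen.ofSection L t, ?_, ?_⟩
  · intro h0
    have h1 : σ L (TwistGen.ofSection L t) ⊤ = 0 := by
      rw [h0]
      rfl
    rw [hσ, res_self] at h1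
    have h2 : oneSecD D hD = 0 := by
      have := congrArg (i.hom.app ⊤) h1
      rw [ht, iso_hom_inv_app, map_zero] at this
      exact this
    obtain ⟨x⟩ := ‹Nonempty X›
    have h3 := congrArg (fun z : Γ(divMod D, ⊤) => z.1 ⟨x, trivial⟩) h2
    have h4 : (1 : KStalk X x) = 0 := h3
    exact one_ne_zero h4
  · intro x
    obtain ⟨U, hU, hxU, q, hq, hDq⟩ := exists_regular_of_isEffective D hD x
    have hf : ∀ y : U, D.1 y.1 = germOf (regUnit ⟨q, hq⟩) y := by
      intro y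
      rw [hDq y]
      unfold germOf
      congr 1
      apply Units.ext
      change algebraMap (X.presheaf.stalk y.1) (KStalk X y.1) (X.presheaf.germ U y.1 y.2 q) =
        (toK X U q).1 y
      rw [toK_val_apply]
    have hgen : IsGen L U (i.inv.app U (invSec D (regUnit ⟨q, hq⟩) hf)) :=
      IsGen.map_iso i.symm (isGen_invSec D (regUnit ⟨q, hq⟩) hf)
    have hone : res (divMod D) (le_top : U ≤ ⊤) (oneSecD D hD) =
        q • invSec D (regUnit ⟨q, hq⟩) hf := by
      refine Subtype.ext (funext fun y => ?_)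
      change (1 : KStalk X y.1) = X.presheaf.germ U y.1 y.2 q •
        (((regUnit ⟨q, hq⟩)⁻¹ : (Γ(kmod X, U))ˣ) : Γ(kmod X, U)).1 y
      rw [Algebra.smul_def, ← toK_val_apply]
      exact (units_mul_inv_apply (regUnit ⟨q, hq⟩) y).symm
    have hc : σ L (TwistGen.ofSection L t) U =
        q • i.inv.app U (invSec D (regUnit ⟨q, hq⟩) hf) := by
      rw [hσ, ht, ← app_res, hone, Scheme.Modules.Hom.app_smul]
    exact ⟨⟨U, hU⟩, hxU, q, hq, zeroScheme_ideal_eq_span hL ⟨U, hU⟩ hgen hc, hDq⟩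

end Groth.Agent.Lib.Helper29.ZeroSch
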