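import Groth.Agent.Lib.Helper29.ZeroDiv

set_option autoImplicit false
set_option linter.unusedVariables false
set_option linter.style.haveILetI false
universe u

namespace Groth.Agent.Lib.Helper29.ZeroSch

open AlgebraicGeometry TopologicalSpace CategoryTheory Opposite Mero
open Groth.Agent.Lib.Helper28.QCohLoc Groth.Agent.Lib.Helper29.FreeIso
  Groth.Agent.Lib.Helper29.QCohStalk Groth.Agent.Lib.Helper29.MeroDiv
  Groth.Agent.Lib.Helper29.MeroGen Groth.Agent.Lib.Helper29.MeroDenom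

variable {X : Scheme.{u}} {L : X.Modules} {s s' : Coh.structureModule X ⟶ L}

/-- unit multiples have the same zero scheme -/
theorem zeroScheme_eq_of_unit_smul (h : Γ(X, ⊤)) (hh : IsUnit h)
    (hσ : σ L s' ⊤ = h • σ L s ⊤) : PicF2.zeroScheme L s' = PicF2.zeroScheme L s := by
  have hσU : ∀ U : X.Opens, σ L s' U = resO (le_top : U ≤ ⊤) h • σ L s U := by
    intro U
    rw [← res_σ L s' (le_top : U ≤ ⊤), hσ, res_smul, res_σ]
  have key : ∀ U : X.Opens, zI L s' U = zI L s U := by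
    intro U
    have hu : IsUnit (resO (le_top : U ≤ ⊤) h) := hh.map _
    obtain ⟨v, hv⟩ := hu
    ext a
    rw [mem_zI_iff, mem_zI_iff]
    constructor
    · intro ha m
      obtain ⟨b, hb⟩ := ha m
      exact ⟨b * resO (le_top : U ≤ ⊤) h, by rw [hb, hσU, smul_smul]⟩
    · intro ha m
      obtain ⟨b, hb⟩ := ha m
      refine ⟨b * (↑v⁻¹ : Γ(X, U)), ?_⟩
      rw [hb, hσU, smul_smul, ← hv, mul_assoc, Units.inv_mul, mul_one]
  unfold PicF2.zeroScheme
  congr 1
  funext U
  exact key U.1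

section integral

variable [IsIntegral X]

/-- a nonzero section of an invertible module on an integral scheme is regular -/
theorem eq_zero_of_smul_σ_eq_zero (hL : PicF.IsInvertible L) (hs : s ≠ 0) {T : X.Opens}
    (b : Γ(X, T)) (h : b • σ L s T = 0) : b = 0 := by
  refine TopCat.Presheaf.section_ext X.sheaf T _ _ (fun y hy => ?_)
  change X.presheaf.germ T y hy b = X.presheaf.germ T y hy 0
  rw [map_zero]
  obtain ⟨V, hyV, e, he⟩ := exists_isGen hL y
  obtain ⟨c, hc⟩ := IsGen.exists_coeff he (le_refl V) (σ L s V)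
  rw [res_self] at hc
  have h1 := congrArg (gm L T y hy) h
  rw [gm_smul, gm_σ, ← gm_σ L s V y hyV, hc, gm_smul, ← mul_smul, gm_zero] at h1
  have h2 := he.stalk_indep y hyV _ h1
  rcases mul_eq_zero.1 h2 with h3 | h3
  · exact h3
  · exact (germ_coeff_ne_zero hL hs he hc y hyV h3).elim

/-- equal zero schemes: the sections differ by a unit -/
theorem exists_unit_smul_of_zeroScheme_eq (hL : PicF.IsInvertible L) (hs : s ≠ 0) (hs' : s' ≠ 0)
    (heq : PicF2.zeroScheme L s' = PicF2.zeroScheme L s) :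
    ∃ h : Γ(X, ⊤), IsUnit h ∧ σ L s' ⊤ = h • σ L s ⊤ := by
  -- local units
  have hloc : ∀ x : X, ∃ (U : X.Opens) (_ : x ∈ U) (w : Γ(X, U)), IsUnit w ∧
      σ L s' U = w • σ L s U := by
    intro x
    obtain ⟨V, hxV, e, he⟩ := exists_isGen hL x
    obtain ⟨c, hc⟩ := IsGen.exists_coeff he (le_refl V) (σ L s V)
    obtain ⟨c', hc'⟩ := IsGen.exists_coeff he (le_refl V) (σ L s' V)
    rw [res_self] at hc hc'
    obtain ⟨_, ⟨U, hU, rfl⟩, hxU, hUV⟩ := X.isBasis_affineOpens.exists_subset_of_mem_open hxV V.2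
    have hUV' : U ≤ V := hUV
    have hcU : σ L s U = resO hUV' c • res L hUV' e := by
      rw [← res_σ L s hUV', hc, res_smul]
    have hcU' : σ L s' U = resO hUV' c' • res L hUV' e := by
      rw [← res_σ L s' hUV', hc', res_smul]
    have h1 : Ideal.span {resO hUV' c'} = Ideal.span {resO hUV' c} := by
      rw [← zeroScheme_ideal_eq_span hL ⟨U, hU⟩ (he.mono hUV') hcU,
        ← zeroScheme_ideal_eq_span hL ⟨U, hU⟩ (he.mono hUV') hcU', heq]
    obtain ⟨w, hw⟩ := Ideal.span_singleton_le_span_singleton.1 h1.le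
    obtain ⟨v, hv⟩ := Ideal.span_singleton_le_span_singleton.1 h1.ge
    -- hw : c' = c * w, hv : c = c' * v
    have h2 : (w * v - 1) • σ L s U = 0 := by
      rw [hcU, smul_smul]
      have : (w * v - 1) * resO hUV' c = 0 := by
        have e1 : resO hUV' c = resO hUV' c * w * v := by rw [← hw, ← hv]
        calc (w * v - 1) * resO hUV' c = resO hUV' c * w * v - resO hUV' c := by ring
          _ = 0 := by rw [← e1, sub_self]
      rw [this, zero_smul]
    have h3 := eq_zero_of_smul_σ_eq_zero hL hs _ h2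
    have hwu : IsUnit w := ⟨⟨w, v, sub_eq_zero.1 h3, by rw [mul_comm]; exact sub_eq_zero.1 h3⟩, rfl⟩
    refine ⟨U, hxU, w, hwu, ?_⟩
    rw [hcU', hcU, hw, smul_smul, mul_comm]
  choose U hxU w hwu hw using hloc
  have hcompat : TopCat.Presheaf.IsCompatible X.presheaf U w := by
    intro x x'
    have h1 : ((resO (inf_le_left : U x ⊓ U x' ≤ U x) (w x) -
        resO (inf_le_right : U x ⊓ U x' ≤ U x') (w x')) • σ L s (U x ⊓ U x') : Γ(L, U x ⊓ U x')) = 0 := by
      have e1 := congrArg (res L (inf_le_left : U x ⊓ U x' ≤ U x)) (hw x)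
      have e2 := congrArg (res L (inf_le_right : U x ⊓ U x' ≤ U x')) (hw x')
      rw [res_σ, res_smul, res_σ] at e1 e2
      rw [sub_smul, ← e1, ← e2, sub_self]
    exact sub_eq_zero.1 (eq_zero_of_smul_σ_eq_zero hL hs _ h1)
  obtain ⟨h₀, hh₀, -⟩ := X.sheaf.existsUnique_gluing' U ⊤ (fun x => homOfLE le_top)
    (fun y _ => Opens.mem_iSup.2 ⟨y, hxU y⟩) w hcompat
  let h : Γ(X, ⊤) := h₀
  have hh : ∀ x, resO (le_top : U x ≤ ⊤) h = w x := hh₀
  refine ⟨h, ?_, ?_⟩
  · apply X.toRingedSpace.isUnit_of_isUnit_germ ⊤ h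
    intro x _
    have h1 : X.presheaf.germ ⊤ x trivial h = X.presheaf.germ (U x) x (hxU x) (w x) := by
      rw [← hh x, germ_resO]
    change IsUnit (X.presheaf.germ ⊤ x trivial h)
    rw [h1]
    exact (hwu x).map _
  · refine TopCat.Presheaf.section_ext (⟨L.presheaf, L.isSheaf⟩ : TopCat.Sheaf Ab X) ⊤ _ _
      (fun x _ => ?_)
    change gm L ⊤ x trivial (σ L s' ⊤) = gm L ⊤ x trivial (h • σ L s ⊤)
    rw [gm_smul, ← gm_σ L s' (U x) x (hxU x), ← gm_σ L s (U x) x (hxU x), hw x, gm_smul, ← hh x,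
      germ_resO]

end integral

end Groth.Agent.Lib.Helper29.ZeroSch
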